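import Mathlib

/-! # Transfer arguments for Schur multipliers -/

set_option autoImplicit false

namespace Cfsg.Agent.H15.SchurTr

universe u v

/-- a central element in the derived group: transfer to `H` -/
theorem transfer_central {E : Type u} [Group E] (H : Subgroup E) [H.FiniteIndex] {z : E}
    (hz : z ∈ Subgroup.center E) (hzc : z ∈ commutator E) :
    ∃ h : z ^ H.index ∈ H, (⟨z ^ H.index, h⟩ : H) ∈ commutator H := by
  have key : ∀ (k : ℕ) (g₀ : E), g₀⁻¹ * z ^ k * g₀ ∈ H → g₀⁻¹ * z ^ k * g₀ = z ^ k := by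
    intro k g₀ _
    have h1 : z ^ k ∈ Subgroup.center E := (Subgroup.center E).pow_mem hz k
    rw [Subgroup.mem_center_iff] at h1
    rw [mul_assoc, ← h1 g₀, inv_mul_cancel_left]
  refine ⟨MonoidHom.transfer_eq_pow_aux z key, ?_⟩
  have h1 := MonoidHom.transfer_eq_pow (Abelianization.of : H →* Abelianization H) z key
  have h2 : MonoidHom.transfer (Abelianization.of : H →* Abelianization H) z = 1 :=
    Abelianization.commutator_subset_ker _ hzc
  rw [h2] at h1
  rw [← Abelianization.ker_of, MonoidHom.mem_ker]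
  exact h1.symm

/-- cyclic Sylow subgroups do not contribute to the multiplier -/
theorem not_dvd_of_cyclic {E : Type u} {G : Type v} [Group E] [Group G] [Finite E] [Finite G]
    (σ : E →* G) (hc : σ.ker ≤ Subgroup.center E) (hd : σ.ker ≤ commutator E) (p : ℕ)
    [hp : Fact p.Prime] (hS : ∀ P : Sylow p G, IsCyclic P) : ¬ p ∣ Nat.card σ.ker := by
  intro hdvd
  obtain ⟨⟨z, hzk⟩, hz⟩ := exists_prime_orderOf_dvd_card' p hdvd
  have hzo : orderOf z = p := by
    rw [← hz]; exact (Subgroup.orderOf_mk z hzk).symm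
  have hzp : IsPGroup p (Subgroup.zpowers z) := by
    apply IsPGroup.of_card (n := 1)
    rw [Nat.card_zpowers, hzo, pow_one]
  obtain ⟨P, hP⟩ := hzp.exists_le_sylow
  let f : P →* G := σ.comp (P : Subgroup E).subtype
  have hf : IsPGroup p f.range := by
    rw [MonoidHom.range_eq_map]
    exact (P.isPGroup'.to_subgroup ⊤).map f
  obtain ⟨Q, hQ⟩ := hf.exists_le_sylow
  have := hS Q
  have hcyc : IsCyclic f.range :=
    isCyclic_of_injective (Subgroup.inclusion hQ) (Subgroup.inclusion_injective hQ)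
  have hker : f.rangeRestrict.ker ≤ Subgroup.center P := by
    intro x hx
    rw [MonoidHom.ker_rangeRestrict] at hx
    have h1 : (x : E) ∈ σ.ker := hx
    have h2 := hc h1
    rw [Subgroup.mem_center_iff] at h2 ⊢
    intro g
    exact Subtype.ext (h2 g)
  have hcomm := commutative_of_cyclic_center_quotient f.rangeRestrict hker
  obtain ⟨h, h1⟩ := transfer_central (P : Subgroup E) (hc hzk) (hd hzk)
  have h2 : commutator P = ⊥ := by
    rw [commutator_def, Subgroup.commutator_eq_bot_iff_le_centralizer]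
    intro x _
    rw [Subgroup.mem_centralizer_iff]
    intro y _
    exact hcomm y x
  rw [h2, Subgroup.mem_bot] at h1
  have h3 : z ^ (P : Subgroup E).index = 1 := congrArg Subtype.val h1
  have h4 := orderOf_dvd_of_pow_eq_one h3
  rw [hzo] at h4
  exact P.not_dvd_index h4

/-- the squaring map on a group above a field -/
theorem quad {E : Type u} [Group E] {F : Type v} [Field F] [Fintype F]
    (hF : 8 ≤ Fintype.card F) (h2 : ∀ a : F, a + a = 0)
    (P K V : Subgroup E) (hKP : K ≤ P) (hVK : V ≤ K) (π : E → F)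
    (hsurj : ∀ a, ∃ x ∈ P, π x = a) (hmul : ∀ x ∈ P, ∀ y ∈ P, π (x * y) = π x + π y)
    (hker : ∀ x ∈ P, π x = 0 ↔ x ∈ K) (hcent : ∀ k ∈ K, ∀ x ∈ P, k * x = x * k)
    (hidx : ∀ k ∈ K, ∀ l ∈ K, k ∉ V → l ∉ V → k * l ∈ V)
    (hinv : ∀ a b : F, a ≠ 0 → b ≠ 0 → ∃ g : E, (∀ x ∈ P, π x = a → g * x * g⁻¹ ∈ P ∧
      π (g * x * g⁻¹) = b) ∧ ∀ k ∈ V, g * k * g⁻¹ ∈ V) :
    ∀ x ∈ P, x * x ∈ V := by
  classical
  have hsqV : ∀ k ∈ K, k * k ∈ V := by
    intro k hk
    by_cases hkV : k ∈ V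
    · exact V.mul_mem hkV hkV
    · exact hidx k hk k hk hkV hkV
  have hsqK : ∀ x ∈ P, x * x ∈ K := by
    intro x hx
    rw [← hker _ (P.mul_mem hx hx), hmul x hx x hx, h2]
  have hinvπ : ∀ x ∈ P, π x⁻¹ = π x := by
    intro x hx
    have h1 : π (x * x⁻¹) = 0 := by
      rw [mul_inv_cancel]
      exact (hker 1 P.one_mem).mpr K.one_mem
    rw [hmul x hx _ (P.inv_mem hx)] at h1
    have h3 := h2 (π x)
    exact add_left_cancel (h1.trans h3.symm)
  -- the square depends only on the image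
  have hdep : ∀ x ∈ P, ∀ y ∈ P, π x = π y → x * x ∈ V → y * y ∈ V := by
    intro x hx y hy hxy hV
    have hk : x⁻¹ * y ∈ K := by
      rw [← hker _ (P.mul_mem (P.inv_mem hx) hy), hmul _ (P.inv_mem hx) _ hy, hinvπ x hx, hxy, h2]
    have h1 : y * y = x * x * ((x⁻¹ * y) * (x⁻¹ * y)) := by
      have h3 := hcent _ hk x hx
      calc y * y = x * (x⁻¹ * y) * (x * (x⁻¹ * y)) := by group
        _ = x * ((x⁻¹ * y) * x) * (x⁻¹ * y) := by group
        _ = x * x * ((x⁻¹ * y) * (x⁻¹ * y)) := by rw [h3]; group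
    rw [h1]
    exact V.mul_mem hV (hsqV _ hk)
  have htr : ∀ x ∈ P, ∀ y ∈ P, π x ≠ 0 → π y ≠ 0 → x * x ∈ V → y * y ∈ V := by
    intro x hx y hy hx0 hy0 hV
    obtain ⟨g, hg1, hg2⟩ := hinv _ _ hx0 hy0
    obtain ⟨h3, h4⟩ := hg1 x hx rfl
    apply hdep _ h3 y hy h4
    have h5 := hg2 _ hV
    rwa [show g * (x * x) * g⁻¹ = g * x * g⁻¹ * (g * x * g⁻¹) by group] at h5
  intro x₀ hx₀
  by_contra hcon
  have hx₀0 : π x₀ ≠ 0 := by
    intro h0
    exact hcon (hsqV _ ((hker x₀ hx₀).mp h0))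
  have hall : ∀ y ∈ P, π y ≠ 0 → y * y ∉ V := by
    intro y hy hy0 hV
    exact hcon (htr y hy x₀ hx₀ hy0 hx₀0 hV)
  -- commutators
  have hcK : ∀ x ∈ P, ∀ y ∈ P, y * x * y⁻¹ * x⁻¹ ∈ K := by
    intro x hx y hy
    have e1 := P.mul_mem hy hx
    have e2 := P.mul_mem e1 (P.inv_mem hy)
    rw [← hker _ (P.mul_mem e2 (P.inv_mem hx)), hmul _ e2 _ (P.inv_mem hx),
      hmul _ e1 _ (P.inv_mem hy), hmul y hy x hx, hinvπ x hx, hinvπ y hy]
    have := h2 (π x)
    have := h2 (π y)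
    linear_combination h2 (π x) + h2 (π y)
  have hsqmul : ∀ x ∈ P, ∀ y ∈ P, x * y * (x * y) = (y * x * y⁻¹ * x⁻¹) * (x * x) * (y * y) := by
    intro x hx y hy
    have h3 := hcent _ (hcK x hx y hy) x hx
    calc x * y * (x * y) = x * (y * x * y⁻¹ * x⁻¹) * (x * y * y) := by group
      _ = (y * x * y⁻¹ * x⁻¹) * x * (x * y * y) := by rw [h3]
      _ = _ := by group
  have hcn : ∀ x ∈ P, ∀ y ∈ P, π x ≠ 0 → π y ≠ 0 → π x + π y ≠ 0 → y * x * y⁻¹ * x⁻¹ ∉ V := by
    intro x hx y hy hx0 hy0 hxy hV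
    apply hall (x * y) (P.mul_mem hx hy) (by rw [hmul x hx y hy]; exact hxy)
    rw [hsqmul x hx y hy, mul_assoc]
    exact V.mul_mem hV (hidx _ (hsqK x hx) _ (hsqK y hy) (hall x hx hx0) (hall y hy hy0))
  obtain ⟨b, hb⟩ : ∃ b : F, b ∉ ({0, 1} : Finset F) := by
    by_contra h
    push Not at h
    have h3 : Fintype.card F ≤ ({0, 1} : Finset F).card := by
      rw [← Finset.card_univ]; exact Finset.card_le_card fun x _ => h x
    have h4 := Finset.card_le_two (a := (0 : F)) (b := 1)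
    omega
  obtain ⟨c, hc⟩ : ∃ c : F, c ∉ ({0, 1, b, b + 1} : Finset F) := by
    by_contra h
    push Not at h
    have h3 : Fintype.card F ≤ ({0, 1, b, b + 1} : Finset F).card := by
      rw [← Finset.card_univ]; exact Finset.card_le_card fun x _ => h x
    have h4 := Finset.card_le_four (a := (0 : F)) (b := 1) (c := b) (d := b + 1)
    omega
  simp only [Finset.mem_insert, Finset.mem_singleton, not_or] at hb hc
  have hadd : ∀ u v : F, u + v = 0 → u = v := by
    intro u v h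
    have h3 := h2 v
    linear_combination h - h3
  obtain ⟨x, hx, hx1⟩ := hsurj 1
  obtain ⟨y, hy, hyb⟩ := hsurj b
  obtain ⟨y', hy', hyc⟩ := hsurj c
  have c1 := hcn x hx y hy (by rw [hx1]; exact one_ne_zero) (by rw [hyb]; exact hb.1)
    (by rw [hx1, hyb]; intro h; exact hb.2 (hadd _ _ h).symm)
  have c2 := hcn x hx y' hy' (by rw [hx1]; exact one_ne_zero) (by rw [hyc]; exact hc.1)
    (by rw [hx1, hyc]; intro h; exact hc.2.1 (hadd _ _ h).symm)
  have c3 := hcn x hx (y * y') (P.mul_mem hy hy') (by rw [hx1]; exact one_ne_zero)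
    (by
      rw [hmul y hy y' hy', hyb, hyc]
      intro h; exact hc.2.2.1 (hadd _ _ h).symm)
    (by
      rw [hmul y hy y' hy', hx1, hyb, hyc]
      intro h
      apply hc.2.2.2
      have h3 := h2 c
      linear_combination -h + h3 + 0 * h)
  apply c3
  have h3 : y * y' * x * (y * y')⁻¹ * x⁻¹ = (y * x * y⁻¹ * x⁻¹) * (y' * x * y'⁻¹ * x⁻¹) := by
    have h4 := hcent _ (hcK x hx y' hy') y hy
    have h5 := hcent _ (hcK x hx y' hy') (y * x * y⁻¹ * x⁻¹)
      (P.mul_mem (P.mul_mem (P.mul_mem hy hx) (P.inv_mem hy)) (P.inv_mem hx))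
    calc y * y' * x * (y * y')⁻¹ * x⁻¹ = (y * (y' * x * y'⁻¹ * x⁻¹)) * x * y⁻¹ * x⁻¹ := by group
      _ = (y' * x * y'⁻¹ * x⁻¹) * y * x * y⁻¹ * x⁻¹ := by rw [← h4]
      _ = (y' * x * y'⁻¹ * x⁻¹) * (y * x * y⁻¹ * x⁻¹) := by group
      _ = _ := h5
  rw [h3]
  exact hidx _ (hcK x hx y hy) _ (hcK x hx y' hy') c1 c2

end Cfsg.Agent.H15.SchurTr
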