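import Mathlib
import Cfsg.Prelude.Def_KGroupFacts

/-!
# Schur multipliers via free presentations

For a surjection `φ : F →* Q` from a free group of finite rank onto a finite group with kernel `R`
we study `CE φ = F / [R, F]`, the projection `pr φ : CE φ →* Q` and
`SM φ = ker (pr φ) ⊓ commutator (CE φ) = (R ∩ F') / [R, F]`.
-/

set_option autoImplicit false
set_option linter.unusedSectionVars false

namespace Cfsg.Agent.H15.Schur

open scoped commutatorElement

universe u v w w'

section General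

variable {F : Type u} [Group F] {Q : Type v} [Group Q] (φ : F →* Q)

/-- `F / [R, F]` -/
abbrev CE : Type u := F ⧸ ⁅φ.ker, (⊤ : Subgroup F)⁆

theorem comm_le_ker : ⁅φ.ker, (⊤ : Subgroup F)⁆ ≤ φ.ker := Subgroup.commutator_le_left _ _

/-- the projection `F / [R, F] → Q` -/
def pr : CE φ →* Q := QuotientGroup.lift _ φ (fun _ hx => comm_le_ker φ hx)

@[simp] theorem pr_mk (x : F) : pr φ (QuotientGroup.mk x : CE φ) = φ x := rfl

theorem pr_surjective (hφ : Function.Surjective φ) : Function.Surjective (pr φ) := by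
  intro q
  obtain ⟨x, rfl⟩ := hφ q
  exact ⟨QuotientGroup.mk x, rfl⟩

theorem ker_pr_le_center : (pr φ).ker ≤ Subgroup.center (CE φ) := by
  intro x hx
  induction x using QuotientGroup.induction_on with
  | H r =>
    rw [Subgroup.mem_center_iff]
    intro g
    induction g using QuotientGroup.induction_on with
    | H g =>
      have hr : r ∈ φ.ker := hx
      have h1 : ⁅r, g⁆ ∈ ⁅φ.ker, (⊤ : Subgroup F)⁆ := Subgroup.commutator_mem_commutator hr (Subgroup.mem_top g)
      have h2 : ((⁅r, g⁆ : F) : CE φ) = 1 := (QuotientGroup.eq_one_iff _).mpr h1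
      rw [commutatorElement_def, QuotientGroup.mk_mul, QuotientGroup.mk_mul, QuotientGroup.mk_mul,
        QuotientGroup.mk_inv, QuotientGroup.mk_inv, mul_inv_eq_one, mul_inv_eq_iff_eq_mul] at h2
      exact h2.symm

/-- maps out of `CE φ` -/
def ceLift {X : Type w} [Group X] (ξ : X →* Q) (hc : ξ.ker ≤ Subgroup.center X)
    (ψ : F →* X) (h : ξ.comp ψ = φ) : CE φ →* X :=
  QuotientGroup.lift _ ψ (by
    intro x hx
    have hle : ⁅φ.ker, (⊤ : Subgroup F)⁆ ≤ ψ.ker := by
      rw [Subgroup.commutator_le]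
      intro r hr g _
      rw [MonoidHom.mem_ker, commutatorElement_def, map_mul, map_mul, map_mul, map_inv, map_inv]
      have h1 : ψ r ∈ Subgroup.center X := by
        apply hc
        rw [MonoidHom.mem_ker]
        have : ξ (ψ r) = φ r := by rw [← h]; rfl
        rw [this]; exact hr
      rw [Subgroup.mem_center_iff] at h1
      rw [← h1 (ψ g)]; group
    exact hle hx)

@[simp] theorem ceLift_mk {X : Type w} [Group X] (ξ : X →* Q) (hc : ξ.ker ≤ Subgroup.center X)
    (ψ : F →* X) (h : ξ.comp ψ = φ) (x : F) :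
    ceLift φ ξ hc ψ h (QuotientGroup.mk x : CE φ) = ψ x := rfl

theorem comp_ceLift {X : Type w} [Group X] (ξ : X →* Q) (hc : ξ.ker ≤ Subgroup.center X)
    (ψ : F →* X) (h : ξ.comp ψ = φ) : ξ.comp (ceLift φ ξ hc ψ h) = pr φ := by
  ext x
  show ξ (ψ x) = φ x
  rw [← h]; rfl

/-- the multiplier `(R ∩ F')/[R,F]` -/
def SM : Subgroup (CE φ) := (pr φ).ker ⊓ commutator (CE φ)

theorem SM_le_center : SM φ ≤ Subgroup.center (CE φ) := inf_le_left.trans (ker_pr_le_center φ)

/-- the multiplier is commutative -/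
instance instCommGroupSM : CommGroup ↥(SM φ) :=
  { (inferInstance : Group ↥(SM φ)) with
    mul_comm := fun a b => Subtype.ext
      (((Subgroup.mem_center_iff.mp (SM_le_center φ a.2)) b.1).symm) }

end General

/-! ### free groups -/

section Free

variable {F : Type u} [Group F] [IsFreeGroup F] {Q : Type v} [Group Q] (φ : F →* Q)

theorem exists_free_lift {X : Type w} [Group X] (ξ : X →* Q) (hξ : Function.Surjective ξ) :
    ∃ ψ : F →* X, ξ.comp ψ = φ := by
  choose s hs using hξ
  refine ⟨IsFreeGroup.lift (fun a => s (φ (IsFreeGroup.of a))), ?_⟩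
  apply IsFreeGroup.ext_hom
  intro a
  rw [MonoidHom.comp_apply, IsFreeGroup.lift_of, hs]

theorem exists_ceLift {X : Type w} [Group X] (ξ : X →* Q) (hξ : Function.Surjective ξ)
    (hc : ξ.ker ≤ Subgroup.center X) : ∃ η : CE φ →* X, ξ.comp η = pr φ := by
  obtain ⟨ψ, hψ⟩ := exists_free_lift φ ξ hξ
  exact ⟨ceLift φ ξ hc ψ hψ, comp_ceLift φ ξ hc ψ hψ⟩

theorem freeGroup_torsion (α : Type w) (f : FreeGroup α) (n : ℕ) (hn : n ≠ 0)
    (h : f ^ n ∈ commutator (FreeGroup α)) : f ∈ commutator (FreeGroup α) := by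
  rw [← Abelianization.ker_of, MonoidHom.mem_ker] at h ⊢
  rw [map_pow] at h
  obtain ⟨y, hy⟩ : ∃ y : FreeAbelianGroup α, y = Additive.ofMul (Abelianization.of f) := ⟨_, rfl⟩
  have h1 : n • y = 0 := by
    rw [hy]
    exact congrArg Additive.ofMul h
  have h2 := congrArg (FreeAbelianGroup.equivFinsupp α) h1
  rw [map_nsmul, map_zero] at h2
  have h3 : FreeAbelianGroup.equivFinsupp α y = 0 := by
    ext a
    have h4 := DFunLike.congr_fun h2 a
    rw [Finsupp.smul_apply, Finsupp.zero_apply] at h4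
    rcases smul_eq_zero.mp h4 with h5 | h5
    · exact absurd h5 hn
    · exact h5
  have h5 : y = 0 := (FreeAbelianGroup.equivFinsupp α).injective (h3.trans (map_zero _).symm)
  rw [hy] at h5
  exact congrArg Additive.toMul h5

theorem free_torsion (f : F) (n : ℕ) (hn : n ≠ 0) (h : f ^ n ∈ commutator F) :
    f ∈ commutator F := by
  have e := IsFreeGroup.toFreeGroup F
  have key : ∀ x, x ∈ commutator F ↔ e x ∈ commutator (FreeGroup (IsFreeGroup.Generators F)) := by
    intro x
    have h1 : (commutator F).map e.toMonoidHom = commutator (FreeGroup (IsFreeGroup.Generators F)) := by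
      rw [commutator_def, Subgroup.map_commutator, commutator_def,
        Subgroup.map_top_of_surjective _ e.surjective]
    rw [← h1]
    constructor
    · intro hx; exact ⟨x, hx, rfl⟩
    · rintro ⟨y, hy, hyx⟩
      have : y = x := e.injective hyx
      rwa [← this]
  rw [key] at h ⊢
  rw [map_pow] at h
  exact freeGroup_torsion _ _ n hn h

theorem mk_mem_commutator_iff (x : F) :
    (QuotientGroup.mk x : CE φ) ∈ commutator (CE φ) ↔ x ∈ commutator F := by
  have h1 : (commutator F).map (QuotientGroup.mk' ⁅φ.ker, (⊤ : Subgroup F)⁆) = commutator (CE φ) := by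
    rw [commutator_def, Subgroup.map_commutator, commutator_def,
      Subgroup.map_top_of_surjective _ (QuotientGroup.mk'_surjective _)]
  rw [← h1]
  constructor
  · rintro ⟨y, hy, hyx⟩
    have h2 : y⁻¹ * x ∈ ⁅φ.ker, (⊤ : Subgroup F)⁆ := QuotientGroup.eq.mp hyx
    have h3 : ⁅φ.ker, (⊤ : Subgroup F)⁆ ≤ commutator F := Subgroup.commutator_mono le_top le_rfl
    have := (commutator F).mul_mem hy (h3 h2)
    rwa [mul_inv_cancel_left] at this
  · intro hx; exact ⟨x, hx, rfl⟩

theorem ce_torsion (x : CE φ) (n : ℕ) (hn : n ≠ 0) (h : x ^ n ∈ commutator (CE φ)) :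
    x ∈ commutator (CE φ) := by
  induction x using QuotientGroup.induction_on with
  | H f =>
    rw [← QuotientGroup.mk_pow] at h
    rw [mk_mem_commutator_iff] at h ⊢
    exact free_torsion f n hn h

end Free

/-! ### finiteness -/

section Finite

theorem finite_commutatorSet_of_center {E : Type u} [Group E]
    [Finite (E ⧸ Subgroup.center E)] : Finite (commutatorSet E) := by
  have h : commutatorSet E ⊆ Set.range (fun p : (E ⧸ Subgroup.center E) × (E ⧸ Subgroup.center E) =>
      ⁅p.1.out, p.2.out⁆) := by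
    rintro _ ⟨a, b, rfl⟩
    refine ⟨⟨a, b⟩, ?_⟩
    have ha : ∃ z ∈ Subgroup.center E, a = (QuotientGroup.mk a : E ⧸ Subgroup.center E).out * z :=
      ⟨(QuotientGroup.mk a : E ⧸ Subgroup.center E).out⁻¹ * a, by
        rw [← QuotientGroup.eq, QuotientGroup.out_eq'], by group⟩
    have hb : ∃ z ∈ Subgroup.center E, b = (QuotientGroup.mk b : E ⧸ Subgroup.center E).out * z :=
      ⟨(QuotientGroup.mk b : E ⧸ Subgroup.center E).out⁻¹ * b, by
        rw [← QuotientGroup.eq, QuotientGroup.out_eq'], by group⟩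
    obtain ⟨z, hz, hz'⟩ := ha
    obtain ⟨y, hy, hy'⟩ := hb
    set a' := (QuotientGroup.mk a : E ⧸ Subgroup.center E).out
    set b' := (QuotientGroup.mk b : E ⧸ Subgroup.center E).out
    show ⁅a', b'⁆ = ⁅a, b⁆
    rw [hz', hy', commutatorElement_def, commutatorElement_def]
    have hzc := fun g => (Subgroup.mem_center_iff.mp hz g).symm
    have hyc := fun g => (Subgroup.mem_center_iff.mp hy g).symm
    rw [mul_inv_rev, mul_inv_rev]
    have e1 : a' * z * (b' * y) * (z⁻¹ * a'⁻¹) * (y⁻¹ * b'⁻¹) =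
      a' * (z * (b' * y)) * z⁻¹ * a'⁻¹ * (y⁻¹ * b'⁻¹) := by group
    rw [e1, hzc]
    have e2 : a' * (b' * y * z) * z⁻¹ * a'⁻¹ * (y⁻¹ * b'⁻¹) =
      a' * b' * (y * (a'⁻¹)) * (y⁻¹ * b'⁻¹) := by group
    rw [e2, hyc]; group
  exact Set.Finite.subset (Set.finite_range _) h

variable {F : Type u} [Group F] {Q : Type v} [Group Q] [Finite Q] (φ : F →* Q)

theorem finite_quot_ker : Finite (CE φ ⧸ (pr φ).ker) :=
  Finite.of_injective _ (QuotientGroup.kerLift_injective (pr φ))

theorem finite_commutator : Finite ↥(commutator (CE φ)) := by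
  have h1 := finite_quot_ker φ
  have h2 : Finite (CE φ ⧸ Subgroup.center (CE φ)) := by
    have : (pr φ).ker ≤ Subgroup.center (CE φ) := ker_pr_le_center φ
    have h4 : (pr φ).ker.FiniteIndex := Subgroup.finiteIndex_of_finite_quotient
    have h5 : (Subgroup.center (CE φ)).FiniteIndex := Subgroup.finiteIndex_of_le this
    infer_instance
  have h3 := finite_commutatorSet_of_center (E := CE φ)
  infer_instance

instance finite_SM : Finite ↥(SM φ) := by
  have := finite_commutator φ
  exact Finite.of_injective (Subgroup.inclusion (inf_le_right : SM φ ≤ commutator (CE φ)))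
    (Subgroup.inclusion_injective _)

theorem fg_ker [Group.FG F] : Group.FG ↥(pr φ).ker := by
  have h1 : Group.FG (CE φ) := inferInstance
  have h2 := finite_quot_ker φ
  have h3 : (pr φ).ker.FiniteIndex := Subgroup.finiteIndex_of_finite_quotient
  infer_instance

end Finite

/-! ### complements -/

section Complement

/-- complements in finitely generated abelian groups -/
theorem exists_complement {A : Type u} [CommGroup A] [Group.FG A] (M S₀ : Subgroup A)
    (hsup : M ⊔ S₀ = ⊤) (htor : ∀ x : A, ∀ n : ℕ, n ≠ 0 → x ^ n ∈ M → x ∈ M) :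
    ∃ S : Subgroup A, S ≤ S₀ ∧ S ⊓ M = ⊥ ∧ S ⊔ M = ⊤ := by
  let B := Additive (A ⧸ M)
  have hfg : Module.Finite ℤ B := by
    rw [Module.Finite.iff_addGroup_fg]
    have : Group.FG (A ⧸ M) := inferInstance
    infer_instance
  have htor' : ∀ (n : ℕ) (b : B), n ≠ 0 → n • b = 0 → b = 0 := by
    intro n b hn hb
    obtain ⟨a, ha⟩ := QuotientGroup.mk_surjective (Additive.toMul b)
    have h1 : (Additive.toMul b) ^ n = 1 := congrArg Additive.toMul hb
    rw [← ha, ← QuotientGroup.mk_pow, QuotientGroup.eq_one_iff] at h1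
    have h2 := htor a n hn h1
    have h3 : Additive.toMul b = 1 := by rw [← ha]; exact (QuotientGroup.eq_one_iff a).mpr h2
    exact congrArg Additive.ofMul h3
  have htf : Module.IsTorsionFree ℤ B := by
    constructor
    intro r hr x y h
    have hr0 : r ≠ 0 := hr.ne_zero
    have h1 : r • (x - y) = 0 := by
      rw [smul_sub, sub_eq_zero]; exact h
    have h2 : r.natAbs • (x - y) = 0 := by
      rcases Int.natAbs_eq r with h3 | h3
      · rw [h3] at h1; simpa using h1
      · rw [h3, neg_smul, neg_eq_zero] at h1; simpa using h1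
    have h3 := htor' r.natAbs (x - y) (Int.natAbs_ne_zero.mpr hr0) h2
    exact sub_eq_zero.mp h3
  have hfree : Module.Free ℤ B := Module.free_of_finite_type_torsion_free'
  let f : Additive S₀ →+ B := MonoidHom.toAdditive ((QuotientGroup.mk' M).comp S₀.subtype)
  have hf : Function.Surjective f := by
    intro b
    obtain ⟨a, ha⟩ := QuotientGroup.mk_surjective (Additive.toMul b)
    have h1 : a ∈ M ⊔ S₀ := by rw [hsup]; trivial
    obtain ⟨m, hm, s, hs, hms⟩ := Subgroup.mem_sup.mp h1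
    refine ⟨Additive.ofMul ⟨s, hs⟩, ?_⟩
    show Additive.ofMul (QuotientGroup.mk s : A ⧸ M) = b
    have h2 : (QuotientGroup.mk s : A ⧸ M) = QuotientGroup.mk a := by
      rw [QuotientGroup.eq, ← hms]
      have : s⁻¹ * (m * s) = m := by rw [mul_comm m s, inv_mul_cancel_left]
      rwa [this]
    rw [h2, ha]; rfl
  obtain ⟨g, hg⟩ := Module.projective_lifting_property f.toIntLinearMap (LinearMap.id (M := B)) hf
  have hg' : ∀ b : B, f (g b) = b := fun b => by
    have := LinearMap.congr_fun hg b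
    exact this
  let s : A ⧸ M →* A := S₀.subtype.comp (AddMonoidHom.toMultiplicative g.toAddMonoidHom)
  have hs : ∀ x : A ⧸ M, (QuotientGroup.mk (s x) : A ⧸ M) = x := fun x => by
    have := hg' (Additive.ofMul x)
    exact congrArg Additive.toMul this
  refine ⟨s.range, ?_, ?_, ?_⟩
  · rintro _ ⟨x, rfl⟩
    exact (AddMonoidHom.toMultiplicative g.toAddMonoidHom x).2
  · rw [eq_bot_iff]
    rintro _ ⟨⟨x, rfl⟩, hx⟩
    have h1 := hs x
    have h2 : (QuotientGroup.mk (s x) : A ⧸ M) = 1 := (QuotientGroup.eq_one_iff _).mpr hx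
    rw [h2] at h1
    rw [Subgroup.mem_bot, ← h1, map_one]
  · rw [eq_top_iff]
    intro a _
    have h1 := hs (QuotientGroup.mk a)
    rw [QuotientGroup.eq] at h1
    rw [Subgroup.mem_sup]
    exact ⟨s (QuotientGroup.mk a), ⟨_, rfl⟩, _, h1, by rw [mul_inv_cancel_left]⟩

end Complement

/-! ### Schur covers -/

section Cover

variable {F : Type u} [Group F] [IsFreeGroup F] [Group.FG F] {Q : Type v} [Group Q] [Finite Q]
  (φ : F →* Q)

theorem exists_complement_ker (S₀ : Subgroup (CE φ)) (hS₀ : S₀ ≤ (pr φ).ker)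
    (hsup : SM φ ⊔ S₀ = (pr φ).ker) :
    ∃ S : Subgroup (CE φ), S ≤ S₀ ∧ S ⊓ SM φ = ⊥ ∧ S ⊔ SM φ = (pr φ).ker := by
  let K := (pr φ).ker
  let _ : CommGroup K :=
    { (inferInstance : Group K) with
      mul_comm := fun a b => Subtype.ext
        (((Subgroup.mem_center_iff.mp (ker_pr_le_center φ a.2)) b.1).symm) }
  have hfg : Group.FG K := fg_ker φ
  have hMK : SM φ ≤ K := inf_le_left
  obtain ⟨S, h1, h2, h3⟩ := exists_complement (A := K) ((SM φ).subgroupOf K) (S₀.subgroupOf K) (by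
      rw [← Subgroup.subgroupOf_sup hMK hS₀, hsup]
      exact Subgroup.subgroupOf_self K)
    (by
      intro x n hn hx
      rw [Subgroup.mem_subgroupOf] at hx ⊢
      refine ⟨x.2, ?_⟩
      apply ce_torsion φ x.1 n hn
      exact hx.2)
  refine ⟨S.map K.subtype, ?_, ?_, ?_⟩
  · rintro _ ⟨x, hx, rfl⟩
    exact h1 hx
  · rw [eq_bot_iff]
    rintro _ ⟨⟨x, hx, rfl⟩, hx2⟩
    have : x ∈ S ⊓ (SM φ).subgroupOf K := ⟨hx, hx2⟩
    rw [h2, Subgroup.mem_bot] at this
    rw [Subgroup.mem_bot, this]; rfl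
  · apply le_antisymm
    · apply sup_le
      · rintro _ ⟨x, _, rfl⟩; exact x.2
      · exact hMK
    · intro x hx
      have h4 : (⟨x, hx⟩ : K) ∈ S ⊔ (SM φ).subgroupOf K := by rw [h3]; trivial
      obtain ⟨y, hy, z, hz, hyz⟩ := Subgroup.mem_sup.mp h4
      have h5 : y.1 * z.1 = x := congrArg Subtype.val hyz
      rw [← h5]
      exact Subgroup.mul_mem _ (Subgroup.mem_sup_left ⟨y, hy, rfl⟩) (Subgroup.mem_sup_right hz)

theorem normal_of_le_ker {S : Subgroup (CE φ)} (hS : S ≤ (pr φ).ker) : S.Normal := by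
  constructor
  intro n hn g
  have h1 := (Subgroup.mem_center_iff.mp (ker_pr_le_center φ (hS hn))) g
  rw [h1, mul_inv_cancel_right]; exact hn

/-- the quotient by a central subgroup `S` as an extension of `Q` -/
def coverHom (S : Subgroup (CE φ)) [S.Normal] (hS : S ≤ (pr φ).ker) : (CE φ ⧸ S) →* Q :=
  QuotientGroup.lift S (pr φ) hS

theorem coverHom_ker (S : Subgroup (CE φ)) [S.Normal] (hS : S ≤ (pr φ).ker) :
    (coverHom φ S hS).ker = (pr φ).ker.map (QuotientGroup.mk' S) := by
  ext x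
  induction x using QuotientGroup.induction_on with
  | H x =>
    constructor
    · intro hx
      exact ⟨x, hx, rfl⟩
    · rintro ⟨y, hy, hyx⟩
      rw [← hyx]; exact hy

theorem coverHom_isStem (hφ : Function.Surjective φ) (S : Subgroup (CE φ)) [S.Normal]
    (hS : S ≤ (pr φ).ker)
    (h2 : S ⊔ SM φ = (pr φ).ker) : Cfsg.IsStemExtension (coverHom φ S hS) := by
  refine ⟨?_, ?_, ?_⟩
  · intro q
    obtain ⟨x, rfl⟩ := pr_surjective φ hφ q
    exact ⟨QuotientGroup.mk x, rfl⟩
  · rw [coverHom_ker]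
    rintro _ ⟨x, hx, rfl⟩
    rw [Subgroup.mem_center_iff]
    intro g
    induction g using QuotientGroup.induction_on with
    | H g =>
      have h1 := (Subgroup.mem_center_iff.mp (ker_pr_le_center φ hx)) g
      show (QuotientGroup.mk g : CE φ ⧸ S) * QuotientGroup.mk x = QuotientGroup.mk x * QuotientGroup.mk g
      rw [← QuotientGroup.mk_mul, ← QuotientGroup.mk_mul, h1]
  · rw [coverHom_ker, ← h2, Subgroup.map_sup]
    apply sup_le
    · rintro _ ⟨x, hx, rfl⟩
      have : (QuotientGroup.mk' S) x = 1 := (QuotientGroup.eq_one_iff _).mpr hx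
      rw [this]; exact Subgroup.one_mem _
    · have h1 : (SM φ).map (QuotientGroup.mk' S) ≤ (commutator (CE φ)).map (QuotientGroup.mk' S) :=
        Subgroup.map_mono inf_le_right
      refine h1.trans ?_
      rw [commutator_def, Subgroup.map_commutator, commutator_def]
      exact Subgroup.commutator_mono le_top le_top

/-- the kernel of the cover is the multiplier -/
noncomputable def coverKerEquiv (S : Subgroup (CE φ)) [S.Normal] (hS : S ≤ (pr φ).ker)
    (h1 : S ⊓ SM φ = ⊥) (h2 : S ⊔ SM φ = (pr φ).ker) :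
    ↥(SM φ) ≃* ↥(coverHom φ S hS).ker :=
  MulEquiv.ofBijective
    (((QuotientGroup.mk' S).comp (SM φ).subtype).codRestrict (coverHom φ S hS).ker (by
      intro x
      have hx : x.1 ∈ (pr φ).ker := x.2.1
      exact hx))
    (by
      constructor
      · rw [injective_iff_map_eq_one]
        intro x hx
        have h3 : (QuotientGroup.mk x.1 : CE φ ⧸ S) = 1 := congrArg Subtype.val hx
        rw [QuotientGroup.eq_one_iff] at h3
        have h4 : x.1 ∈ S ⊓ SM φ := ⟨h3, x.2⟩
        rw [h1, Subgroup.mem_bot] at h4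
        exact Subtype.ext h4
      · rintro ⟨y, hy⟩
        have hy' := hy
        rw [coverHom_ker] at hy'
        obtain ⟨x, hx, rfl⟩ := hy'
        have hx' : x ∈ ((S ⊔ SM φ : Subgroup (CE φ)) : Set (CE φ)) := by rw [h2]; exact hx
        rw [Subgroup.normal_mul] at hx'
        obtain ⟨s, hs, m, hm, hsm⟩ := hx'
        refine ⟨⟨m, hm⟩, Subtype.ext ?_⟩
        show (QuotientGroup.mk m : CE φ ⧸ S) = QuotientGroup.mk x
        rw [QuotientGroup.eq, ← hsm]
        have hc := (Subgroup.mem_center_iff.mp (ker_pr_le_center φ (hS hs))) m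
        have : m⁻¹ * (s * m) = s := by rw [← hc, inv_mul_cancel_left]
        show m⁻¹ * (s * m) ∈ S
        rw [this]; exact hs)

/-- Transporting a finite group to another universe. -/
theorem exists_univ (G : Type u) [Group G] [Finite G] :
    ∃ (G' : Type w) (_ : Group G') (_ : Finite G'), Nonempty (G' ≃* G) := by
  have : Small.{w} G := Countable.toSmall G
  exact ⟨Shrink.{w} G, inferInstance, inferInstance, ⟨Shrink.mulEquiv⟩⟩

theorem isStem_comp_equiv {Γ : Type u} {Γ' : Type w} {G : Type v} [Group Γ] [Group Γ'] [Group G]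
    (σ : Γ →* G) (e : Γ' ≃* Γ) (h : Cfsg.IsStemExtension σ) :
    Cfsg.IsStemExtension (σ.comp e.toMonoidHom) := by
  obtain ⟨h1, h2, h3⟩ := h
  have hmap : (commutator Γ').map e.toMonoidHom = commutator Γ := by
    rw [commutator_def, Subgroup.map_commutator, commutator_def,
      Subgroup.map_top_of_surjective _ e.surjective]
  refine ⟨h1.comp e.surjective, ?_, ?_⟩
  · intro x hx
    have h4 : e x ∈ Subgroup.center Γ := h2 hx
    rw [Subgroup.mem_center_iff] at h4 ⊢
    intro g
    apply e.injective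
    rw [map_mul, map_mul]; exact h4 (e g)
  · intro x hx
    have h4 : e x ∈ commutator Γ := h3 hx
    rw [← hmap] at h4
    obtain ⟨y, hy, hyx⟩ := h4
    have : y = x := e.injective hyx
    rwa [← this]

/-- the kernel after composing with an isomorphism -/
noncomputable def kerCompEquiv {Γ : Type u} {Γ' : Type w} {G : Type v} [Group Γ] [Group Γ'] [Group G]
    (σ : Γ →* G) (e : Γ' ≃* Γ) : ↥(σ.comp e.toMonoidHom).ker ≃* ↥σ.ker where
  toFun x := ⟨e x.1, x.2⟩
  invFun y := ⟨e.symm y.1, by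
    show σ (e (e.symm y.1)) = 1
    rw [e.apply_symm_apply]; exact y.2⟩
  left_inv x := Subtype.ext (e.symm_apply_apply x.1)
  right_inv y := Subtype.ext (e.apply_symm_apply y.1)
  map_mul' x y := Subtype.ext (map_mul e x.1 y.1)

theorem finite_cover (S : Subgroup (CE φ)) [S.Normal] (hS : S ≤ (pr φ).ker)
    (h1 : S ⊓ SM φ = ⊥) (h2 : S ⊔ SM φ = (pr φ).ker) : Finite (CE φ ⧸ S) := by
  have e := coverKerEquiv φ S hS h1 h2
  have hk : Finite ↥(coverHom φ S hS).ker := Finite.of_equiv _ e.toEquiv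
  have hq : Finite ((CE φ ⧸ S) ⧸ (coverHom φ S hS).ker) :=
    Finite.of_injective _ (QuotientGroup.kerLift_injective (coverHom φ S hS))
  exact Finite.of_equiv _ (Subgroup.groupEquivQuotientProdSubgroup (s := (coverHom φ S hS).ker)).symm

/-- Existence of Schur covers. -/
theorem exists_cover (hφ : Function.Surjective φ) :
    ∃ (Γ : Type w) (_ : Group Γ) (_ : Finite Γ) (σ : Γ →* Q), Cfsg.IsStemExtension σ ∧
      Nonempty (σ.ker ≃* ↥(SM φ)) := by
  obtain ⟨S, hS, h1, h2⟩ := exists_complement_ker φ (pr φ).ker le_rfl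
    (sup_eq_right.mpr inf_le_left)
  have := normal_of_le_ker φ hS
  have hfin := finite_cover φ S hS h1 h2
  obtain ⟨Γ, i1, i2, ⟨e⟩⟩ := exists_univ.{u, w} (CE φ ⧸ S)
  exact ⟨Γ, i1, i2, (coverHom φ S hS).comp e.toMonoidHom,
    isStem_comp_equiv _ e (coverHom_isStem φ hφ S hS h2),
    ⟨(kerCompEquiv _ e).trans (coverKerEquiv φ S hS h1 h2).symm⟩⟩

/-- the map from the multiplier to the kernel of a central extension -/
def smMap {X : Type w} [Group X] (ξ : X →* Q) (η : CE φ →* X) (h : ξ.comp η = pr φ) :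
    ↥(SM φ) →* ↥ξ.ker :=
  (η.comp (SM φ).subtype).codRestrict ξ.ker (by
    intro x
    show ξ (η x.1) = 1
    have : ξ (η x.1) = pr φ x.1 := by rw [← h]; rfl
    rw [this]; exact x.2.1)

theorem map_sup_ker_eq_top (hφ : Function.Surjective φ) {X : Type w} [Group X] (ξ : X →* Q)
    (η : CE φ →* X) (h : ξ.comp η = pr φ) : η.range ⊔ ξ.ker = ⊤ := by
  rw [eq_top_iff]
  intro x _
  obtain ⟨y, hy⟩ := pr_surjective φ hφ (ξ x)
  have h1 : (η y)⁻¹ * x ∈ ξ.ker := by
    rw [MonoidHom.mem_ker, map_mul, map_inv]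
    have : ξ (η y) = pr φ y := by rw [← h]; rfl
    rw [this, hy, inv_mul_cancel]
  have h2 : x = η y * ((η y)⁻¹ * x) := by rw [mul_inv_cancel_left]
  rw [h2]
  exact Subgroup.mul_mem _ (Subgroup.mem_sup_left ⟨y, rfl⟩) (Subgroup.mem_sup_right h1)

/-- a map onto a stem extension, over the group, is surjective. -/
theorem surjective_of_isStem {Y : Type u} [Group Y] {X : Type w} [Group X] {Q : Type v} [Group Q]
    (π : Y →* Q) (hπ : Function.Surjective π) (ξ : X →* Q)
    (hst : Cfsg.IsStemExtension ξ) (η : Y →* X) (h : ξ.comp η = π) : Function.Surjective η := by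
  obtain ⟨h1, h2, h3⟩ := hst
  have key : ∀ x : X, ∃ y : Y, ∃ z ∈ ξ.ker, x = η y * z := by
    intro x
    obtain ⟨y, hy⟩ := hπ (ξ x)
    refine ⟨y, (η y)⁻¹ * x, ?_, by rw [mul_inv_cancel_left]⟩
    rw [MonoidHom.mem_ker, map_mul, map_inv]
    have : ξ (η y) = π y := by rw [← h]; rfl
    rw [this, hy, inv_mul_cancel]
  have hcomm : commutator X ≤ η.range := by
    rw [commutator_def, Subgroup.commutator_le]
    intro a _ b _
    obtain ⟨y, z, hz, rfl⟩ := key a
    obtain ⟨y', z', hz', rfl⟩ := key b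
    have hzc := fun g => (Subgroup.mem_center_iff.mp (h2 hz) g).symm
    have hzc' := fun g => (Subgroup.mem_center_iff.mp (h2 hz') g).symm
    have e1 : ⁅η y * z, η y' * z'⁆ = ⁅η y, η y'⁆ := by
      rw [commutatorElement_def, commutatorElement_def, mul_inv_rev, mul_inv_rev]
      have e1 : η y * z * (η y' * z') * (z⁻¹ * (η y)⁻¹) * (z'⁻¹ * (η y')⁻¹) =
        η y * (z * (η y' * z')) * z⁻¹ * (η y)⁻¹ * (z'⁻¹ * (η y')⁻¹) := by group
      rw [e1, hzc]
      have e2 : η y * (η y' * z' * z) * z⁻¹ * (η y)⁻¹ * (z'⁻¹ * (η y')⁻¹) =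
        η y * η y' * (z' * ((η y)⁻¹)) * (z'⁻¹ * (η y')⁻¹) := by group
      rw [e2, hzc']; group
    rw [e1, commutatorElement_def]
    exact ⟨y * y' * y⁻¹ * y'⁻¹, by simp⟩
  intro x
  obtain ⟨y, z, hz, rfl⟩ := key x
  obtain ⟨y', hy'⟩ := hcomm (h3 hz)
  exact ⟨y * y', by rw [map_mul, hy']⟩

theorem smMap_surjective (hφ : Function.Surjective φ) {X : Type w} [Group X] (ξ : X →* Q)
    (hst : Cfsg.IsStemExtension ξ) (η : CE φ →* X) (h : ξ.comp η = pr φ) :
    Function.Surjective (smMap φ ξ η h) := by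
  have hs := surjective_of_isStem (pr φ) (pr_surjective φ hφ) ξ hst η h
  rintro ⟨x, hx⟩
  have h1 : x ∈ commutator X := hst.2.2 hx
  have h2 : (commutator (CE φ)).map η = commutator X := by
    rw [commutator_def, Subgroup.map_commutator, commutator_def,
      Subgroup.map_top_of_surjective _ hs]
  rw [← h2] at h1
  obtain ⟨y, hy, rfl⟩ := h1
  refine ⟨⟨y, ?_, hy⟩, rfl⟩
  show pr φ y = 1
  rw [← h]; exact hx

/-- The multiplier of the definition is `SM φ`. -/
theorem hasSchurMultiplier_SM (hφ : Function.Surjective φ) :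
    Cfsg.HasSchurMultiplier Q ↥(SM φ) := by
  refine ⟨exists_cover φ hφ, ?_⟩
  intro Γ _ _ σ hσ
  obtain ⟨η, hη⟩ := exists_ceLift φ σ hσ.1 hσ.2.1
  exact ⟨smMap φ σ η hη, smMap_surjective φ hφ σ hσ η hη⟩

theorem hasSchurMultiplier_congr {A : Type w} [CommGroup A] {B : Type w'} [CommGroup B]
    (e : A ≃* B) (h : Cfsg.HasSchurMultiplier Q A) : Cfsg.HasSchurMultiplier Q B := by
  obtain ⟨⟨Γ, i1, i2, σ, hσ, ⟨f⟩⟩, h2⟩ := h
  refine ⟨⟨Γ, i1, i2, σ, hσ, ⟨f.trans e⟩⟩, ?_⟩
  intro Δ _ _ τ hτ
  obtain ⟨π, hπ⟩ := h2 Δ τ hτ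
  exact ⟨π.comp e.symm.toMonoidHom, hπ.comp e.symm.surjective⟩

theorem nonempty_equiv_of_surj {A : Type w} [Group A] {B : Type w'} [Group B] [Finite A] [Finite B]
    (f : A →* B) (hf : Function.Surjective f) (g : B →* A) (hg : Function.Surjective g) :
    Nonempty (A ≃* B) := by
  have h1 : Nat.card B ≤ Nat.card A := Nat.card_le_card_of_surjective f hf
  have h2 : Nat.card A ≤ Nat.card B := Nat.card_le_card_of_surjective g hg
  have h3 : Nat.card A = Nat.card B := le_antisymm h2 h1
  have : Function.Bijective f := (Nat.bijective_iff_surjective_and_card f).mpr ⟨hf, h3⟩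
  exact ⟨MulEquiv.ofBijective f this⟩

theorem finite_of_hasSchurMultiplier {Q : Type v} [Group Q] {A : Type w} [CommGroup A]
    (h : Cfsg.HasSchurMultiplier Q A) : Finite A := by
  obtain ⟨⟨Γ, i1, i2, σ, hσ, ⟨f⟩⟩, _⟩ := h
  exact Finite.of_equiv _ f.toEquiv

theorem hasSchurMultiplier_iff (hφ : Function.Surjective φ) {A : Type w} [CommGroup A] :
    Cfsg.HasSchurMultiplier Q A ↔ Nonempty (A ≃* ↥(SM φ)) := by
  constructor
  · intro h
    have := finite_of_hasSchurMultiplier h
    obtain ⟨⟨Γ, i1, i2, σ, hσ, ⟨f⟩⟩, h2⟩ := h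
    obtain ⟨⟨Γ', i1', i2', σ', hσ', ⟨f'⟩⟩, h2'⟩ := hasSchurMultiplier_SM φ hφ
    obtain ⟨π, hπ⟩ := h2 Γ' σ' hσ'
    obtain ⟨π', hπ'⟩ := h2' Γ σ hσ
    exact nonempty_equiv_of_surj (f'.toMonoidHom.comp π) (f'.surjective.comp hπ)
      (f.toMonoidHom.comp π') (f.surjective.comp hπ')
  · rintro ⟨e⟩
    exact hasSchurMultiplier_congr e.symm (hasSchurMultiplier_SM φ hφ)

end Cover

end Cfsg.Agent.H15.Schur
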