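import Mathlib
import Cfsg.Agent.H15.Schur

/-! # Schur multiplier API, part 2: perfect groups, free presentations of subgroups -/

set_option autoImplicit false

universe u v w w'

open scoped commutatorElement

namespace Cfsg.Agent.H15.Schur

section Perfect

theorem mul_comm_of_center {E : Type u} [Group E] {z : E} (hz : z ∈ Subgroup.center E) (g : E) :
    g * z = z * g := Subgroup.mem_center_iff.mp hz g

theorem commutator_eq_of_sup_center {E : Type u} [Group E] (H : Subgroup E)
    (h : H ⊔ Subgroup.center E = ⊤) : commutator E = ⁅H, H⁆ := by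
  apply le_antisymm
  · rw [commutator_def, Subgroup.commutator_le]
    intro a _ b _
    have ha : a ∈ H ⊔ Subgroup.center E := by rw [h]; trivial
    have hb : b ∈ H ⊔ Subgroup.center E := by rw [h]; trivial
    obtain ⟨a1, ha1, z, hz, rfl⟩ := Subgroup.mem_sup_of_normal_right.mp ha
    obtain ⟨b1, hb1, w, hw, rfl⟩ := Subgroup.mem_sup_of_normal_right.mp hb
    have : ⁅a1 * z, b1 * w⁆ = ⁅a1, b1⁆ := by
      have e1 := fun g => mul_comm_of_center hz g
      have e2 := fun g => mul_comm_of_center hw g
      rw [commutatorElement_def, commutatorElement_def]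
      rw [show a1 * z * (b1 * w) * (a1 * z)⁻¹ * (b1 * w)⁻¹ =
        a1 * (z * (b1 * w) * z⁻¹) * a1⁻¹ * w⁻¹ * b1⁻¹ by group]
      rw [← e1 (b1 * w), mul_inv_cancel_right]
      rw [show a1 * (b1 * w) * a1⁻¹ * w⁻¹ * b1⁻¹ = a1 * b1 * (w * a1⁻¹ * w⁻¹) * b1⁻¹ by group]
      rw [← e2 a1⁻¹, mul_inv_cancel_right]
    rw [this]
    exact Subgroup.commutator_mem_commutator ha1 hb1
  · rw [commutator_def]
    exact Subgroup.commutator_mono le_top le_top

theorem commutator_map_of_surjective {E : Type u} [Group E] {Q : Type v} [Group Q] (f : E →* Q)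
    (hf : Function.Surjective f) : (commutator E).map f = commutator Q := by
  rw [commutator_def, Subgroup.map_commutator, commutator_def,
    Subgroup.map_top_of_surjective _ hf]

theorem hom_eq_of_perfect {G : Type u} [Group G] (hG : Group.IsPerfect G) {X : Type w} [Group X]
    {Q : Type v} [Group Q] (ξ : X →* Q) (hc : ξ.ker ≤ Subgroup.center X) (f g : G →* X)
    (h : ξ.comp f = ξ.comp g) : f = g := by
  have hz : ∀ x, (g x)⁻¹ * f x ∈ Subgroup.center X := by
    intro x
    apply hc
    have h1 : ξ (f x) = ξ (g x) := DFunLike.congr_fun h x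
    rw [MonoidHom.mem_ker, map_mul, map_inv, h1, inv_mul_cancel]
  let δ : G →* X :=
    { toFun := fun x => (g x)⁻¹ * f x
      map_one' := by simp
      map_mul' := by
        intro x y
        have h1 := mul_comm_of_center (hz x) (g y)⁻¹
        rw [map_mul, map_mul, mul_inv_rev]
        calc (g y)⁻¹ * (g x)⁻¹ * (f x * f y) = (g y)⁻¹ * ((g x)⁻¹ * f x) * f y := by group
          _ = (g x)⁻¹ * f x * (g y)⁻¹ * f y := by rw [h1]
          _ = _ := by group }
  have hδ : commutator G ≤ δ.ker := by
    rw [commutator_def, Subgroup.commutator_le]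
    intro a _ b _
    rw [MonoidHom.mem_ker, map_commutatorElement]
    exact (commutatorElement_eq_one_iff_mul_comm).mpr (mul_comm_of_center (hz b) _)
  ext x
  have hx : x ∈ commutator G := by rw [hG.commutator_eq_top]; trivial
  have h2 : (g x)⁻¹ * f x = 1 := hδ hx
  exact (inv_mul_eq_one.mp h2).symm

theorem perfect_of_stem {G : Type u} [Group G] (hG : Group.IsPerfect G) {Γ : Type w} [Group Γ]
    (σ : Γ →* G) (hσ : Cfsg.IsStemExtension σ) : Group.IsPerfect Γ := by
  constructor
  rw [eq_top_iff]
  intro x _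
  have h1 : σ x ∈ commutator G := by rw [hG.commutator_eq_top]; trivial
  rw [← commutator_map_of_surjective σ hσ.1] at h1
  obtain ⟨y, hy, hyx⟩ := h1
  have h2 : y⁻¹ * x ∈ σ.ker := by rw [MonoidHom.mem_ker, map_mul, map_inv, hyx, inv_mul_cancel]
  have h3 := hσ.2.2 h2
  have : x = y * (y⁻¹ * x) := by group
  rw [this]
  exact mul_mem hy h3

theorem comp_central {Γ : Type w} [Group Γ] (hΓ : Group.IsPerfect Γ) {G : Type u} [Group G]
    {Q : Type v} [Group Q] (σ : Γ →* G) (_hs : Function.Surjective σ)
    (h1 : σ.ker ≤ Subgroup.center Γ) (π : G →* Q) (h2 : π.ker ≤ Subgroup.center G) :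
    (π.comp σ).ker ≤ Subgroup.center Γ := by
  have h3 : ⁅(π.comp σ).ker, (⊤ : Subgroup Γ)⁆ ≤ Subgroup.center Γ := by
    rw [Subgroup.commutator_le]
    intro x hx g _
    apply h1
    rw [MonoidHom.mem_ker, map_commutatorElement, commutatorElement_eq_one_iff_mul_comm]
    have : σ x ∈ Subgroup.center G := h2 hx
    exact ((Subgroup.mem_center_iff.mp this) _).symm
  rw [← Subgroup.commutator_top_left_eq_bot_iff_le_center, ← hΓ.commutator_eq_top, commutator_def]
  apply Subgroup.commutator_commutator_eq_bot_of_rotate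
  · rw [Subgroup.commutator_comm ⊤ _]
    exact Subgroup.commutator_top_right_eq_bot_iff_le_center.mpr h3
  · exact Subgroup.commutator_top_right_eq_bot_iff_le_center.mpr h3

end Perfect

section PerfectCE

variable {F : Type u} [Group F] {Q : Type v} [Group Q] (φ : F →* Q)

theorem perfect_commutator_CE (hφ : Function.Surjective φ) (hQ : Group.IsPerfect Q) :
    Group.IsPerfect ↥(commutator (CE φ)) := by
  rw [Subgroup.isPerfect_iff]
  symm
  apply commutator_eq_of_sup_center
  rw [eq_top_iff]
  intro x _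
  have h1 : pr φ x ∈ commutator Q := by rw [hQ.commutator_eq_top]; trivial
  rw [← commutator_map_of_surjective (pr φ) (pr_surjective φ hφ)] at h1
  obtain ⟨y, hy, hyx⟩ := h1
  have h2 : y⁻¹ * x ∈ (pr φ).ker := by
    rw [MonoidHom.mem_ker, map_mul, map_inv, hyx, inv_mul_cancel]
  have h3 := ker_pr_le_center φ h2
  have : x = y * (y⁻¹ * x) := by group
  rw [this]
  exact Subgroup.mul_mem_sup hy h3

theorem pr_commutator_surjective (hφ : Function.Surjective φ) (hQ : Group.IsPerfect Q) :
    Function.Surjective ((pr φ).comp (commutator (CE φ)).subtype) := by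
  intro q
  have h1 : q ∈ commutator Q := by rw [hQ.commutator_eq_top]; trivial
  rw [← commutator_map_of_surjective (pr φ) (pr_surjective φ hφ)] at h1
  obtain ⟨y, hy, hyx⟩ := h1
  exact ⟨⟨y, hy⟩, hyx⟩

theorem smMap_injective_of_trivial [IsFreeGroup F] {G : Type w} [Group G] (φG : F →* G)
    (σ : G →* Q) (hφ : σ.comp φG = φ)
    (hsub : Subsingleton ↥(SM φG)) (η : CE φ →* G)
    (hη : ∀ f : F, η (QuotientGroup.mk f) = φG f) (x : CE φ) (hx : x ∈ commutator (CE φ))
    (h1 : η x = 1) : x = 1 := by
  induction x using QuotientGroup.induction_on with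
  | H f =>
    have h2 : φG f = 1 := by rw [← hη]; exact h1
    have h3 : f ∈ commutator F := (mk_mem_commutator_iff φ f).mp hx
    have h4 : (QuotientGroup.mk f : CE φG) ∈ SM φG :=
      ⟨h2, (mk_mem_commutator_iff φG f).mpr h3⟩
    have h5 : (⟨QuotientGroup.mk f, h4⟩ : ↥(SM φG)) = 1 := Subsingleton.elim _ _
    have h6 : (QuotientGroup.mk f : CE φG) = 1 := congrArg Subtype.val h5
    rw [QuotientGroup.eq_one_iff] at h6
    have h7 : f ∈ ⁅φ.ker, (⊤ : Subgroup F)⁆ := by
      refine Subgroup.commutator_mono ?_ le_rfl h6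
      intro y hy
      rw [MonoidHom.mem_ker] at hy ⊢
      rw [← hφ]
      show σ (φG y) = 1
      rw [hy, map_one]
    exact (QuotientGroup.eq_one_iff f).mpr h7

end PerfectCE

/-- the canonical free presentation -/
def canPres (Q : Type u) [Group Q] : FreeGroup Q →* Q := FreeGroup.lift id

theorem canPres_surjective (Q : Type u) [Group Q] : Function.Surjective (canPres Q) :=
  fun q => ⟨FreeGroup.of q, by simp [canPres]⟩

theorem isStem_id (Q : Type u) [Group Q] : Cfsg.IsStemExtension (MonoidHom.id Q) := by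
  refine ⟨Function.surjective_id, ?_, ?_⟩
  · intro x hx
    have : x = 1 := hx
    rw [this]; exact one_mem _
  · intro x hx
    have : x = 1 := hx
    rw [this]; exact one_mem _

theorem hasCyclic_one_iff {Q : Type u} [Group Q] [Finite Q] :
    Cfsg.HasCyclicSchurMultiplier Q 1 ↔
      ∀ (Γ : Type u) [Group Γ] [Finite Γ] (σ : Γ →* Q), Cfsg.IsStemExtension σ → σ.ker = ⊥ := by
  constructor
  · intro h Γ _ _ σ hσ
    obtain ⟨π, hπ⟩ := h.2 Γ σ hσ
    have : Subsingleton σ.ker := hπ.subsingleton
    exact Subgroup.eq_bot_of_subsingleton _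
  · intro h
    refine ⟨⟨Q, inferInstance, inferInstance, MonoidHom.id Q, isStem_id Q, ?_⟩, ?_⟩
    · have h1 : (MonoidHom.id Q).ker = ⊥ := h Q _ (isStem_id Q)
      have : Unique ↥(MonoidHom.id Q).ker := by rw [h1]; infer_instance
      have : Unique (Multiplicative (ZMod 1)) := inferInstance
      exact ⟨MulEquiv.ofUnique⟩
    · intro Γ _ _ σ hσ
      refine ⟨1, ?_⟩
      intro x
      have h1 := h Γ σ hσ
      refine ⟨1, ?_⟩
      have : x.1 ∈ (⊥ : Subgroup Γ) := by rw [← h1]; exact x.2
      apply Subtype.ext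
      simpa using this.symm

end Cfsg.Agent.H15.Schur
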