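import Mathlib
import Cfsg.Agent.H15.Schur2

/-! # Schur multiplier API, part 3: transfer and corestriction -/

set_option autoImplicit false

universe u v w w'

open scoped commutatorElement

namespace Cfsg.Agent.H15.Schur

/-- transfer of an element acting trivially on the cosets -/
theorem transfer_of_normal_core {F : Type u} [Group F] (H : Subgroup F) [H.FiniteIndex]
    {A : Type v} [CommGroup A] (ϕ : H →* A) (r : F) (hr : ∀ x : F, x⁻¹ * r * x ∈ H)
    [Fintype (F ⧸ H)] :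
    ϕ.transfer r = ∏ q : F ⧸ H, ϕ ⟨q.out⁻¹ * r * q.out, hr _⟩ := by
  classical
  have hc : Subgroup.IsComplement (Set.range (Quotient.out : F ⧸ H → F)) (H : Set F) :=
    Subgroup.isComplement_range_left (fun q => QuotientGroup.out_eq' q)
  let T : H.LeftTransversal := ⟨Set.range (Quotient.out : F ⧸ H → F), hc⟩
  have hT : ∀ q : F ⧸ H, ((T.2.leftQuotientEquiv q : T.1) : F) = q.out := by
    intro q
    exact Subgroup.IsComplement.leftQuotientEquiv_apply (fun q => QuotientGroup.out_eq' q) q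
  rw [MonoidHom.transfer_def ϕ T r, Subgroup.leftTransversals.diff]
  have key : ∀ q : F ⧸ H, (((r • T).2.leftQuotientEquiv q : (r • T).1) : F) = r * q.out := by
    intro q
    have h1 : r⁻¹ • q = q := by
      obtain ⟨x, rfl⟩ := QuotientGroup.mk_surjective q
      rw [MulAction.Quotient.smul_mk, QuotientGroup.eq, smul_eq_mul, mul_inv_rev, inv_inv]
      exact hr x
    rw [Subgroup.smul_apply_eq_smul_apply_inv_smul, h1, hT, smul_eq_mul]
  refine Finset.prod_bij' (fun q _ => q) (fun q _ => q) (by simp) (by simp) (by simp) (by simp) ?_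
  intro q _
  congr 1
  apply Subtype.ext
  show ((T.2.leftQuotientEquiv q : T.1) : F)⁻¹ * _ = _
  rw [key, hT]
  simp [mul_assoc]

section Tr

variable {F : Type u} [Group F] {Q : Type v} [Group Q] (φ : F →* Q) (U : Subgroup Q)

/-- preimage of `U` in the free group -/
abbrev FU : Subgroup F := U.comap φ

/-- the induced presentation of `U` -/
def phiU : FU φ U →* U := (φ.comp (FU φ U).subtype).codRestrict U (fun x => x.2)

theorem phiU_coe (x : FU φ U) : ((phiU φ U x : U) : Q) = φ x.1 := rfl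

theorem phiU_surjective (hφ : Function.Surjective φ) : Function.Surjective (phiU φ U) := by
  rintro ⟨q, hq⟩
  obtain ⟨x, rfl⟩ := hφ q
  exact ⟨⟨x, hq⟩, rfl⟩

theorem mem_ker_phiU (x : FU φ U) : x ∈ (phiU φ U).ker ↔ x.1 ∈ φ.ker := by
  rw [MonoidHom.mem_ker, MonoidHom.mem_ker]
  constructor
  · intro h; have := congrArg Subtype.val h; exact this
  · intro h; exact Subtype.ext h

theorem ker_le_FU : φ.ker ≤ FU φ U := by
  intro x hx
  rw [Subgroup.mem_comap, MonoidHom.mem_ker.mp hx]; exact one_mem _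

/-- corestriction on `F_U/[R,F_U]` -/
def corHom : CE (phiU φ U) →* CE φ :=
  QuotientGroup.map _ _ (FU φ U).subtype (by
    rw [← Subgroup.map_le_iff_le_comap, Subgroup.map_commutator]
    apply Subgroup.commutator_mono _ le_top
    rintro _ ⟨x, hx, rfl⟩
    exact (mem_ker_phiU φ U x).mp hx)

@[simp] theorem corHom_mk (x : FU φ U) :
    corHom φ U (QuotientGroup.mk x) = QuotientGroup.mk x.1 := rfl

theorem corHom_mem_ker (x : CE (phiU φ U)) (hx : x ∈ (pr (phiU φ U)).ker) :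
    corHom φ U x ∈ (pr φ).ker := by
  induction x using QuotientGroup.induction_on with
  | H x => exact (mem_ker_phiU φ U x).mp hx

theorem corHom_mem_SM (x : CE (phiU φ U)) (hx : x ∈ SM (phiU φ U)) :
    corHom φ U x ∈ SM φ := by
  refine ⟨corHom_mem_ker φ U x hx.1, ?_⟩
  have h1 : (commutator (CE (phiU φ U))).map (corHom φ U) ≤ commutator (CE φ) := by
    rw [commutator_def, Subgroup.map_commutator]
    exact Subgroup.commutator_mono le_top le_top
  exact h1 ⟨x, hx.2, rfl⟩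

/-- corestriction on multipliers -/
def cor : ↥(SM (phiU φ U)) →* ↥(SM φ) :=
  ((corHom φ U).comp (SM (phiU φ U)).subtype).codRestrict (SM φ)
    (fun x => corHom_mem_SM φ U x.1 x.2)

/-- the kernel is commutative -/
instance instCommGroupKer : CommGroup ↥(pr φ).ker :=
  { (inferInstance : Group ↥(pr φ).ker) with
    mul_comm := fun a b => Subtype.ext
      (((Subgroup.mem_center_iff.mp (ker_pr_le_center φ a.2)) b.1).symm) }

theorem conj_mem_ker (r : F) (hr : r ∈ φ.ker) (x : F) : x⁻¹ * r * x ∈ φ.ker := by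
  rw [MonoidHom.mem_ker] at hr ⊢
  simp [hr]

/-- `r ↦ x⁻¹ r x` from `R` to `R/[R,F_U]` -/
def kap (x : F) : φ.ker →* ↥(pr (phiU φ U)).ker where
  toFun r := ⟨QuotientGroup.mk ⟨x⁻¹ * r.1 * x, ker_le_FU φ U (conj_mem_ker φ r.1 r.2 x)⟩,
    (mem_ker_phiU φ U _).mpr (conj_mem_ker φ r.1 r.2 x)⟩
  map_one' := by
    apply Subtype.ext
    show (QuotientGroup.mk _ : CE (phiU φ U)) = 1
    rw [← QuotientGroup.mk_one]
    congr 1
    apply Subtype.ext
    simp
  map_mul' r s := by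
    apply Subtype.ext
    show (QuotientGroup.mk _ : CE (phiU φ U)) = QuotientGroup.mk _ * QuotientGroup.mk _
    rw [← QuotientGroup.mk_mul]
    congr 1
    apply Subtype.ext
    simp [mul_assoc]

theorem kap_coe (x : F) (r : φ.ker) : ((kap φ U x r : (pr (phiU φ U)).ker) : CE (phiU φ U)) =
    QuotientGroup.mk ⟨x⁻¹ * r.1 * x, ker_le_FU φ U (conj_mem_ker φ r.1 r.2 x)⟩ := rfl

theorem kap_mul_right (x : F) (u : FU φ U) : kap φ U (x * u.1) = kap φ U x := by
  ext r
  have h1 : (kap φ U x r).1 ∈ Subgroup.center (CE (phiU φ U)) :=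
    ker_pr_le_center _ (kap φ U x r).2
  have h2 := mul_comm_of_center h1 (QuotientGroup.mk u)⁻¹
  have h3 : ((kap φ U (x * u.1) r : (pr (phiU φ U)).ker) : CE (phiU φ U)) =
      (QuotientGroup.mk u)⁻¹ * (kap φ U x r).1 * QuotientGroup.mk u := by
    rw [kap_coe, kap_coe, ← QuotientGroup.mk_inv, ← QuotientGroup.mk_mul, ← QuotientGroup.mk_mul]
    congr 1
    apply Subtype.ext
    simp [mul_assoc]
  rw [h3, h2, inv_mul_cancel_right]

/-- the coset version -/
noncomputable def kapc (c : F ⧸ FU φ U) : φ.ker →* ↥(pr (phiU φ U)).ker := kap φ U c.out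

theorem kapc_mk (x : F) : kapc φ U (QuotientGroup.mk x) = kap φ U x := by
  unfold kapc
  have h1 : (x⁻¹ * (QuotientGroup.mk x : F ⧸ FU φ U).out) ∈ FU φ U := by
    rw [← QuotientGroup.eq]; exact (QuotientGroup.out_eq' _).symm
  have h2 := kap_mul_right φ U x ⟨_, h1⟩
  rw [← h2]
  congr 1
  show _ = x * (x⁻¹ * _)
  group

variable [Finite Q]

instance finiteIndex_FU : (FU φ U).FiniteIndex := by
  constructor
  rw [Subgroup.index_comap]
  exact Subgroup.FiniteIndex.index_ne_zero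

open Classical in
/-- the transfer on `R` -/
noncomputable def tr0 : φ.ker →* ↥(pr (phiU φ U)).ker :=
  letI := Fintype.ofFinite (F ⧸ FU φ U)
  ∏ c : F ⧸ FU φ U, kapc φ U c

theorem tr0_apply [Fintype (F ⧸ FU φ U)] (r : φ.ker) :
    tr0 φ U r = ∏ c : F ⧸ FU φ U, kapc φ U c r := by
  unfold tr0
  rw [MonoidHom.finsetProd_apply]
  refine Finset.prod_congr ?_ (fun _ _ => rfl)
  ext; simp

theorem tr0_conj (r : φ.ker) (f : F) (r' : φ.ker) (h : r'.1 = f⁻¹ * r.1 * f) :
    tr0 φ U r' = tr0 φ U r := by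
  classical
  let _ := Fintype.ofFinite (F ⧸ FU φ U)
  rw [tr0_apply, tr0_apply]
  refine Fintype.prod_equiv (MulAction.toPerm f) _ _ ?_
  intro c
  obtain ⟨x, rfl⟩ := QuotientGroup.mk_surjective c
  rw [MulAction.toPerm_apply, MulAction.Quotient.smul_mk, kapc_mk, kapc_mk]
  apply Subtype.ext
  rw [kap_coe, kap_coe]
  congr 1
  apply Subtype.ext
  simp [h, mul_assoc]

/-- `R → R/[R,F]` -/
def rho : φ.ker →* ↥(pr φ).ker :=
  ((QuotientGroup.mk' ⁅φ.ker, (⊤ : Subgroup F)⁆).comp φ.ker.subtype).codRestrict _ (fun x => x.2)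

omit [Finite Q] in
theorem rho_surjective : Function.Surjective (rho φ) := by
  rintro ⟨x, hx⟩
  induction x using QuotientGroup.induction_on with
  | H f => exact ⟨⟨f, hx⟩, rfl⟩

theorem ker_rho_le : (rho φ).ker ≤ (tr0 φ U).ker := by
  rintro ⟨r, hr⟩ h
  have h1 : r ∈ ⁅φ.ker, (⊤ : Subgroup F)⁆ := by
    have := congrArg Subtype.val (MonoidHom.mem_ker.mp h)
    exact (QuotientGroup.eq_one_iff r).mp this
  have h2 : ⁅φ.ker, (⊤ : Subgroup F)⁆ ≤ (tr0 φ U).ker.map φ.ker.subtype := by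
    rw [Subgroup.commutator_le]
    intro a ha b _
    have h3 : ⁅a, b⁆ ∈ φ.ker :=
      comm_le_ker φ (Subgroup.commutator_mem_commutator ha trivial)
    refine ⟨⟨⁅a, b⁆, h3⟩, ?_, rfl⟩
    have h4 : b * a⁻¹ * b⁻¹ ∈ φ.ker := by
      rw [MonoidHom.mem_ker] at ha ⊢; simp [ha]
    have h5 : (⟨⁅a, b⁆, h3⟩ : φ.ker) = ⟨a, ha⟩ * ⟨b * a⁻¹ * b⁻¹, h4⟩ := by
      apply Subtype.ext
      show ⁅a, b⁆ = a * (b * a⁻¹ * b⁻¹)
      rw [commutatorElement_def]; group
    show tr0 φ U ⟨⁅a, b⁆, h3⟩ = 1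
    rw [h5, map_mul, tr0_conj φ U (⟨a, ha⟩⁻¹) b⁻¹ ⟨b * a⁻¹ * b⁻¹, h4⟩ (by simp), map_inv,
      mul_inv_cancel]
  obtain ⟨y, hy, hyr⟩ := h2 h1
  have : y = ⟨r, hr⟩ := Subtype.ext hyr
  rw [← this]; exact hy

/-- transfer `R/[R,F] → R/[R,F_U]` -/
noncomputable def tr1 : ↥(pr φ).ker →* ↥(pr (phiU φ U)).ker :=
  (rho φ).liftOfSurjective (rho_surjective φ) ⟨tr0 φ U, ker_rho_le φ U⟩

theorem tr1_rho (r : φ.ker) : tr1 φ U (rho φ r) = tr0 φ U r :=
  MonoidHom.liftOfRightInverse_comp_apply _ _ _ ⟨tr0 φ U, ker_rho_le φ U⟩ r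

theorem corHom_tr0 (r : φ.ker) :
    corHom φ U (tr0 φ U r).1 = (QuotientGroup.mk r.1 : CE φ) ^ (FU φ U).index := by
  classical
  let _ := Fintype.ofFinite (F ⧸ FU φ U)
  let K := (pr φ).ker
  let corK : ↥(pr (phiU φ U)).ker →* ↥(pr φ).ker :=
    ((corHom φ U).comp (pr (phiU φ U)).ker.subtype).codRestrict _
      (fun x => corHom_mem_ker φ U x.1 x.2)
  have h1 : corK (tr0 φ U r) = (rho φ r) ^ (FU φ U).index := by
    rw [tr0_apply, map_prod]
    have : ∀ c : F ⧸ FU φ U, corK (kapc φ U c r) = rho φ r := by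
      intro c
      apply Subtype.ext
      show (QuotientGroup.mk (c.out⁻¹ * r.1 * c.out) : CE φ) = QuotientGroup.mk r.1
      have hz : (QuotientGroup.mk r.1 : CE φ) ∈ Subgroup.center (CE φ) :=
        ker_pr_le_center φ r.2
      rw [QuotientGroup.mk_mul, QuotientGroup.mk_mul, QuotientGroup.mk_inv,
        mul_comm_of_center hz, inv_mul_cancel_right]
    rw [Finset.prod_congr rfl (fun c _ => this c), Finset.prod_const, Finset.card_univ,
      Subgroup.index_eq_card, Nat.card_eq_fintype_card]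
  have h2 := congrArg Subtype.val h1
  exact h2

theorem tr0_mem_commutator (r : φ.ker) (hr : r.1 ∈ commutator F) :
    (tr0 φ U r).1 ∈ commutator (CE (phiU φ U)) := by
  classical
  let _ := Fintype.ofFinite (F ⧸ FU φ U)
  let ϕ : FU φ U →* Abelianization (CE (phiU φ U)) :=
    Abelianization.of.comp (QuotientGroup.mk' ⁅(phiU φ U).ker, (⊤ : Subgroup (FU φ U))⁆)
  have hr1 : ∀ x : F, x⁻¹ * r.1 * x ∈ FU φ U := fun x =>
    ker_le_FU φ U (conj_mem_ker φ r.1 r.2 x)
  have h1 := transfer_of_normal_core (FU φ U) ϕ r.1 hr1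
  have h2 : ϕ.transfer r.1 = 1 := by
    have h3 : commutator F ≤ ϕ.transfer.ker := Abelianization.commutator_subset_ker _
    exact h3 hr
  rw [← Abelianization.ker_of, MonoidHom.mem_ker]
  let ab : ↥(pr (phiU φ U)).ker →* Abelianization (CE (phiU φ U)) :=
    Abelianization.of.comp (pr (phiU φ U)).ker.subtype
  have h4 : ab (tr0 φ U r) = ϕ.transfer r.1 := by
    rw [tr0_apply, map_prod, h1]
    rfl
  show ab (tr0 φ U r) = 1
  rw [h4, h2]

theorem tr1_mem_SM (x : CE φ) (hx : x ∈ SM φ) :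
    (tr1 φ U ⟨x, hx.1⟩).1 ∈ SM (phiU φ U) := by
  refine ⟨(tr1 φ U ⟨x, hx.1⟩).2, ?_⟩
  induction x using QuotientGroup.induction_on with
  | H f =>
    have h1 : (QuotientGroup.mk f : CE φ) ∈ commutator (CE φ) := hx.2
    have h2 : ∃ g ∈ commutator F, (QuotientGroup.mk g : CE φ) = QuotientGroup.mk f := by
      have h3 := commutator_map_of_surjective (QuotientGroup.mk' ⁅φ.ker, (⊤ : Subgroup F)⁆)
        (QuotientGroup.mk'_surjective _)
      rw [← h3] at h1
      obtain ⟨g, hg, hgf⟩ := h1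
      exact ⟨g, hg, hgf⟩
    obtain ⟨g, hg, hgf⟩ := h2
    have hgk : g ∈ φ.ker := by
      have : (QuotientGroup.mk g : CE φ) ∈ (pr φ).ker := by rw [hgf]; exact hx.1
      exact this
    have h4 : (⟨QuotientGroup.mk f, hx.1⟩ : (pr φ).ker) = rho φ ⟨g, hgk⟩ :=
      Subtype.ext hgf.symm
    rw [h4, tr1_rho]
    exact tr0_mem_commutator φ U ⟨g, hgk⟩ hg

/-- the transfer on multipliers -/
noncomputable def trSM : ↥(SM φ) →* ↥(SM (phiU φ U)) where
  toFun x := ⟨(tr1 φ U ⟨x.1, x.2.1⟩).1, tr1_mem_SM φ U x.1 x.2⟩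
  map_one' := by
    apply Subtype.ext
    show (tr1 φ U 1).1 = 1
    rw [map_one]; rfl
  map_mul' a b := by
    apply Subtype.ext
    show (tr1 φ U (⟨a.1, a.2.1⟩ * ⟨b.1, b.2.1⟩)).1 = _
    rw [map_mul]; rfl

theorem cor_trSM (a : ↥(SM φ)) : cor φ U (trSM φ U a) = a ^ (FU φ U).index := by
  obtain ⟨r, hr⟩ := rho_surjective φ ⟨a.1, a.2.1⟩
  apply Subtype.ext
  show corHom φ U (tr1 φ U ⟨a.1, a.2.1⟩).1 = a.1 ^ _
  rw [← hr, tr1_rho, corHom_tr0]
  have : (QuotientGroup.mk r.1 : CE φ) = a.1 := congrArg Subtype.val hr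
  rw [this]

end Tr

theorem exists_tr_cor {Q : Type u} [Group Q] [Finite Q] (U : Subgroup Q) {A : Type v} {B : Type w}
    [CommGroup A] [CommGroup B] (hA : Cfsg.HasSchurMultiplier Q A)
    (hB : Cfsg.HasSchurMultiplier U B) :
    ∃ (t : A →* B) (c : B →* A), ∀ a, c (t a) = a ^ U.index := by
  let φ := canPres Q
  have hφ : Function.Surjective φ := canPres_surjective Q
  have hi : (FU φ U).FiniteIndex := inferInstance
  have hfg : Group.FG (FU φ U) := inferInstance
  obtain ⟨e⟩ := (hasSchurMultiplier_iff φ hφ).mp hA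
  obtain ⟨e'⟩ := (hasSchurMultiplier_iff (phiU φ U) (phiU_surjective φ U hφ)).mp hB
  refine ⟨(e'.symm.toMonoidHom.comp (trSM φ U)).comp e.toMonoidHom,
    (e.symm.toMonoidHom.comp (cor φ U)).comp e'.toMonoidHom, ?_⟩
  intro a
  show e.symm (cor φ U (e' (e'.symm (trSM φ U (e a))))) = _
  rw [e'.apply_symm_apply, cor_trSM, map_pow, e.symm_apply_apply]
  congr 1
  exact Subgroup.index_comap_of_surjective U hφ

end Cfsg.Agent.H15.Schur
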