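import Mathlib
import Cfsg.Agent.H15.Schur3

/-! # Schur multiplier API, part 4: duality of finite abelian groups, divisibility -/

set_option autoImplicit false

universe u v w w'

open scoped commutatorElement

namespace Cfsg.Agent.H15.Schur

theorem dual_equiv (B : Type u) [CommGroup B] [Finite B] : Nonempty ((B →* ℂˣ) ≃* B) := by
  have : NeZero (Monoid.exponent B) := ⟨Monoid.exponent_ne_zero_of_finite⟩
  exact CommGroup.monoidHom_mulEquiv_of_hasEnoughRootsOfUnity B ℂ

/-- a quotient of a finite abelian group embeds in it -/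
theorem dual_embed {B : Type u} {C : Type v} [CommGroup B] [CommGroup C] [Finite B]
    (f : B →* C) (hf : Function.Surjective f) : ∃ g : C →* B, Function.Injective g := by
  have : Finite C := Finite.of_surjective f hf
  obtain ⟨e1⟩ := dual_equiv B
  obtain ⟨e2⟩ := dual_equiv C
  let d : (C →* ℂˣ) →* (B →* ℂˣ) :=
    { toFun := fun χ => χ.comp f
      map_one' := by ext; simp
      map_mul' := by intros; ext; simp }
  have hd : Function.Injective d := by
    intro χ ψ h
    ext x
    obtain ⟨b, rfl⟩ := hf x
    have := DFunLike.congr_fun h b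
    exact congrArg Units.val this
  refine ⟨(e1 : (B →* ℂˣ) →* B).comp (d.comp (e2.symm : C →* (C →* ℂˣ))), ?_⟩
  exact e1.injective.comp (hd.comp e2.symm.injective)

/-- a subgroup of a finite abelian group is a quotient of it -/
theorem dual_surj {B : Type u} {C : Type v} [CommGroup B] [CommGroup C] [Finite B]
    (g : C →* B) (hg : Function.Injective g) : ∃ f : B →* C, Function.Surjective f := by
  have : Finite C := Finite.of_injective g hg
  have : NeZero (Monoid.exponent B) := ⟨Monoid.exponent_ne_zero_of_finite⟩
  obtain ⟨e1⟩ := dual_equiv B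
  obtain ⟨e2⟩ := dual_equiv C
  let g' : C ≃* g.range := MulEquiv.ofBijective g.rangeRestrict
    ⟨g.rangeRestrict_injective_iff.mpr hg, g.rangeRestrict_surjective⟩
  let d : (B →* ℂˣ) →* (C →* ℂˣ) :=
    { toFun := fun χ => χ.comp g
      map_one' := by ext; simp
      map_mul' := by intros; ext; simp }
  have hd : Function.Surjective d := by
    intro χ
    obtain ⟨ψ, hψ⟩ := MonoidHom.domRestrict_surjective (M := ℂ) g.range
      (χ.comp g'.symm.toMonoidHom)
    refine ⟨ψ, ?_⟩
    ext x
    have h1 := DFunLike.congr_fun hψ (g' x)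
    have h2 : ψ (g x) = χ (g'.symm (g' x)) := h1
    rw [g'.symm_apply_apply] at h2
    exact congrArg Units.val h2
  refine ⟨(e2 : (C →* ℂˣ) →* C).comp (d.comp (e1.symm : B →* (B →* ℂˣ))), ?_⟩
  exact e2.surjective.comp (hd.comp e1.symm.surjective)

end Cfsg.Agent.H15.Schur
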