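import Mathlib
import Cfsg.Agent.H15.SchurTr
import Cfsg.Agent.H15.Schur2
import Cfsg.Agent.H15.Schur4

/-! # Central extensions with kernel of prime order -/

set_option autoImplicit false

namespace Cfsg.Agent.H15.PExtN

open Cfsg Cfsg.Agent.H15.SchurTr

/-- a central extension with kernel of order `p` generated by `z` -/
structure PExt {E G : Type*} [Group E] [Group G] (p : ℕ) (τ : E →* G) (z : E) : Prop where
  surj : Function.Surjective τ
  ord : orderOf z = p
  cent : ∀ x, x * z = z * x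
  ker : ∀ x, τ x = 1 ↔ x ∈ Subgroup.zpowers z

namespace PExt

variable {E G : Type*} [Group E] [Group G] {p : ℕ} {τ : E →* G} {z : E}

theorem tz (h : PExt p τ z) : τ z = 1 := (h.ker z).mpr (Subgroup.mem_zpowers z)

theorem tzn (h : PExt p τ z) (n : ℤ) : τ (z ^ n) = 1 := by rw [map_zpow, h.tz, one_zpow]

theorem centz (h : PExt p τ z) (n : ℤ) (x : E) : x * z ^ n = z ^ n * x := by
  have : Commute x z := h.cent x
  exact this.zpow_right n

theorem zp (h : PExt p τ z) : z ^ p = 1 := by rw [← h.ord]; exact pow_orderOf_eq_one z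

theorem zpow_eq_one_iff (h : PExt p τ z) (n : ℤ) : z ^ n = 1 ↔ (p : ℤ) ∣ n := by
  rw [← h.ord, orderOf_dvd_iff_zpow_eq_one]

theorem ne_one (h : PExt p τ z) (hp : p.Prime) : z ≠ 1 := by
  intro h0
  have := h.ord
  rw [h0, orderOf_one] at this
  exact hp.one_lt.ne this

theorem eq_mul (h : PExt p τ z) {x y : E} (hxy : τ x = τ y) : ∃ n : ℤ, x = y * z ^ n := by
  have h1 : τ (y⁻¹ * x) = 1 := by rw [map_mul, map_inv, hxy, inv_mul_cancel]
  obtain ⟨n, hn⟩ := (h.ker _).mp h1
  exact ⟨n, by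
    have : z ^ n = y⁻¹ * x := hn
    rw [this]; group⟩

theorem eq_zpow (h : PExt p τ z) {x : E} (hx : τ x = 1) : ∃ n : ℤ, x = z ^ n := by
  obtain ⟨n, hn⟩ := (h.ker _).mp hx
  exact ⟨n, hn.symm⟩

/-- commutators of lifts do not depend on the lifts -/
theorem comm_congr (h : PExt p τ z) {x y x' y' : E} (hx : τ x = τ x') (hy : τ y = τ y') :
    x * y * x⁻¹ * y⁻¹ = x' * y' * x'⁻¹ * y'⁻¹ := by
  obtain ⟨m, rfl⟩ := h.eq_mul hx
  obtain ⟨n, rfl⟩ := h.eq_mul hy
  have e1 := h.centz m (y' * z ^ n)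
  have e2 := h.centz n x'⁻¹
  calc x' * z ^ m * (y' * z ^ n) * (x' * z ^ m)⁻¹ * (y' * z ^ n)⁻¹
      = x' * (z ^ m * (y' * z ^ n)) * (z ^ m)⁻¹ * x'⁻¹ * (z ^ n)⁻¹ * y'⁻¹ := by group
    _ = x' * (y' * z ^ n) * x'⁻¹ * (z ^ n)⁻¹ * y'⁻¹ := by rw [← e1]; group
    _ = x' * y' * (z ^ n * x'⁻¹) * (z ^ n)⁻¹ * y'⁻¹ := by group
    _ = _ := by rw [← e2]; group

/-- commuting images: coprime order forces commuting -/
theorem cm_of_coprime (h : PExt p τ z) {x y : E} (hxy : τ x * τ y = τ y * τ x) {n : ℕ}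
    (hn : τ x ^ n = 1) (hc : n.Coprime p) : x * y = y * x := by
  obtain ⟨m, hm⟩ : ∃ m : ℤ, x * y * x⁻¹ * y⁻¹ = z ^ m := by
    apply h.eq_zpow
    rw [map_mul, map_mul, map_mul, map_inv, map_inv, hxy]; group
  have h1 : x * y * x⁻¹ = z ^ m * y := by rw [← hm]; group
  have h2 : ∀ k : ℕ, x ^ k * y * (x ^ k)⁻¹ = z ^ (m * k) * y := by
    intro k
    induction k with
    | zero => simp
    | succ k ih =>
      calc x ^ (k + 1) * y * (x ^ (k + 1))⁻¹ = x * (x ^ k * y * (x ^ k)⁻¹) * x⁻¹ := by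
            rw [pow_succ']; group
        _ = (x * z ^ (m * k)) * y * x⁻¹ := by rw [ih]; group
        _ = z ^ (m * k) * (x * y * x⁻¹) := by rw [h.centz]; group
        _ = z ^ (m * (k + 1 : ℕ)) * y := by
          rw [h1, ← mul_assoc, ← zpow_add]
          push_cast
          rw [mul_add, mul_one]
  obtain ⟨j, hj⟩ := h.eq_zpow (x := x ^ n) (by rw [map_pow, hn])
  have h3 := h2 n
  rw [hj, ← h.centz j y, mul_inv_cancel_right] at h3
  have h4 : z ^ (m * n) = 1 := (mul_eq_right.mp h3.symm)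
  rw [h.zpow_eq_one_iff] at h4
  have h5 : (p : ℤ) ∣ m := by
    have : IsCoprime (p : ℤ) (n : ℤ) := by
      rw [Nat.isCoprime_iff_coprime]; exact hc.symm
    exact this.dvd_of_dvd_mul_right h4
  rw [← h.zpow_eq_one_iff] at h5
  rw [h5] at hm
  rw [mul_inv_eq_one, mul_inv_eq_iff_eq_mul] at hm
  exact hm

/-- real elements of odd prime order -/
theorem pow_eq_one_of_real (h : PExt p τ z) (hp : p.Prime) (hp2 : p ≠ 2) {x g : E} (hx : τ x ^ p = 1)
    (hg : τ g * τ x * (τ g)⁻¹ = (τ x)⁻¹) : x ^ p = 1 := by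
  obtain ⟨j, hj⟩ := h.eq_zpow (x := x ^ p) (by rw [map_pow, hx])
  obtain ⟨m, hm⟩ := h.eq_mul (x := g * x * g⁻¹) (y := x⁻¹) (by
    rw [map_mul, map_mul, map_inv, map_inv, hg])
  have h1 : (g * x * g⁻¹) ^ p = z ^ j := by
    rw [conj_pow, hj, h.centz j g, mul_inv_cancel_right]
  rw [hm] at h1
  have h2 : (x⁻¹ * z ^ m) ^ p = z ^ (-j) := by
    have : Commute x⁻¹ (z ^ m) := h.centz m x⁻¹
    rw [this.mul_pow, inv_pow, hj, ← zpow_natCast, ← zpow_mul, mul_comm m, zpow_mul, zpow_natCast,
      h.zp, one_zpow, mul_one, zpow_neg]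
  rw [h2] at h1
  have h3 : z ^ (2 * j) = 1 := by
    rw [two_mul, zpow_add]
    nth_rewrite 1 [← h1]
    rw [← zpow_add]; simp
  rw [h.zpow_eq_one_iff] at h3
  have h4 : (p : ℤ) ∣ j := by
    have : IsCoprime (p : ℤ) (2 : ℤ) := by
      have h5 : Nat.Coprime p 2 := (Nat.coprime_primes hp Nat.prime_two).mpr hp2
      exact_mod_cast Nat.isCoprime_iff_coprime.mpr h5
    exact this.dvd_of_dvd_mul_left h3
  rw [← h.zpow_eq_one_iff] at h4
  rw [hj, h4]

/-- transfer -/
theorem mem_comm_of_index [Finite E] (h : PExt p τ z) (hp : p.Prime) (hz : z ∈ commutator E)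
    (H : Subgroup E) (hH : H.index.Coprime p) : z ∈ ⁅H, H⁆ := by
  obtain ⟨h1, h2⟩ := transfer_central H (Subgroup.mem_center_iff.mpr fun g => h.cent g) hz
  have h3 : z ^ H.index ∈ ⁅H, H⁆ := by
    have h4 : (commutator H).map H.subtype = ⁅H, H⁆ := by
      rw [commutator_def, Subgroup.map_commutator, ← MonoidHom.range_eq_map, Subgroup.range_subtype]
    rw [← h4]
    exact ⟨_, h2, rfl⟩
  have h5 : z ∈ Subgroup.zpowers (z ^ H.index) := by
    have h6 : (orderOf z).Coprime H.index := by rw [h.ord]; exact hH.symm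
    obtain ⟨m, hm⟩ := exists_pow_eq_self_of_coprime h6.symm
    exact ⟨m, by
      show (z ^ H.index) ^ (m : ℤ) = z
      rw [zpow_natCast]; exact hm⟩
  exact (Subgroup.zpowers_le.mpr h3) h5

/-- a partial complement excludes stem extensions -/
theorem not_mem_of_compl [Finite E] (h : PExt p τ z) (hp : p.Prime) (K : Subgroup E)
    (hK : ∀ k ∈ K, τ k = 1 → k = 1) (hi : (K.map τ).index.Coprime p) : z ∉ commutator E := by
  intro hz
  have h1 := h.mem_comm_of_index hp hz ((K.map τ).comap τ) (by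
    rw [Subgroup.index_comap_of_surjective _ h.surj]; exact hi)
  have h2 : ⁅(K.map τ).comap τ, (K.map τ).comap τ⁆ ≤ K := by
    rw [Subgroup.commutator_le]
    rintro x ⟨k, hk, hkx⟩ y ⟨l, hl, hly⟩
    rw [commutatorElement_def, h.comm_congr hkx.symm hly.symm]
    exact K.mul_mem (K.mul_mem (K.mul_mem hk hl) (K.inv_mem hk)) (K.inv_mem hl)
  exact h.ne_one hp (hK z (h2 h1) h.tz)

/-- an abelian subgroup of the right index excludes stem extensions -/
theorem not_mem_of_comm [Finite E] (h : PExt p τ z) (hp : p.Prime) (S : Set E)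
    (hS : ∀ x ∈ S, ∀ y ∈ S, x * y = y * x) (hi : ((Subgroup.closure S).map τ).index.Coprime p) :
    z ∉ commutator E := by
  intro hz
  have h1 := h.mem_comm_of_index hp hz (((Subgroup.closure S).map τ).comap τ) (by
    rw [Subgroup.index_comap_of_surjective _ h.surj]; exact hi)
  have hcm : ∀ x ∈ Subgroup.closure S, ∀ y ∈ Subgroup.closure S, x * y = y * x := by
    intro x hx y hy
    induction hx using Subgroup.closure_induction with
    | mem x hx =>
      induction hy using Subgroup.closure_induction with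
      | mem y hy => exact hS x hx y hy
      | one => simp
      | mul a b _ _ ha hb => rw [← mul_assoc, ha, mul_assoc, hb, mul_assoc]
      | inv a _ ha =>
        have : Commute x a := ha
        exact this.inv_right
    | one => simp
    | mul a b _ _ ha hb => rw [mul_assoc, hb, ← mul_assoc, ha, mul_assoc]
    | inv a _ ha =>
      have : Commute a y := ha
      exact this.inv_left
  have h2 : ⁅((Subgroup.closure S).map τ).comap τ, ((Subgroup.closure S).map τ).comap τ⁆ ≤ ⊥ := by
    rw [Subgroup.commutator_le]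
    rintro x ⟨k, hk, hkx⟩ y ⟨l, hl, hly⟩
    rw [commutatorElement_def, h.comm_congr hkx.symm hly.symm, hcm k hk l hl, Subgroup.mem_bot]
    group
  exact h.ne_one hp (Subgroup.mem_bot.mp (h2 h1))

/-! ### `p = 2` -/

/-- all lifts of `g` are involutions -/
def LS (τ : E →* G) (g : G) : Prop := ∀ x, τ x = g → x * x = 1

theorem z2 (h : PExt 2 τ z) : z * z = 1 := by
  have := h.zp
  rwa [pow_two] at this

theorem eq_or (h : PExt 2 τ z) {x y : E} (hxy : τ x = τ y) : x = y ∨ x = y * z := by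
  obtain ⟨n, hn⟩ := h.eq_mul hxy
  rcases Int.even_or_odd' n with ⟨k, hk | hk⟩
  · left
    rw [hn, hk, zpow_mul, zpow_two, h.z2, one_zpow, mul_one]
  · right
    rw [hn, hk, zpow_add, zpow_mul, zpow_two, h.z2, one_zpow, one_mul, zpow_one]

theorem one_or (h : PExt 2 τ z) {x : E} (hx : τ x = 1) : x = 1 ∨ x = z := by
  rcases h.eq_or (x := x) (y := 1) (by rw [hx, map_one]) with h1 | h1
  · left; exact h1
  · right; rw [h1, one_mul]

theorem LS_of_one (h : PExt 2 τ z) {x : E} (hx : x * x = 1) : LS τ (τ x) := by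
  intro y hy
  rcases h.eq_or hy with rfl | rfl
  · exact hx
  · rw [show x * z * (x * z) = x * (z * x) * z by group, ← h.cent x,
      show x * (x * z) * z = x * x * (z * z) by group, hx, h.z2, one_mul]

theorem LS_conj (h : PExt 2 τ z) {g k k' : G} (hk : LS τ k) (hg : g * k = k' * g) : LS τ k' := by
  intro y hy
  obtain ⟨x, hx⟩ := h.surj g
  have h1 := hk (x⁻¹ * y * x) (by
    rw [map_mul, map_mul, map_inv, hx, hy, mul_assoc, ← hg]; group)
  calc y * y = x * (x⁻¹ * y * x * (x⁻¹ * y * x)) * x⁻¹ := by group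
    _ = 1 := by rw [h1]; group

/-- commuting involutions with involutory product -/
theorem cm_of_LS (h : PExt 2 τ z) {x y : E} (hx : LS τ (τ x)) (hy : LS τ (τ y))
    (hxy : LS τ (τ x * τ y)) : x * y = y * x := by
  have h1 := hx x rfl
  have h2 := hy y rfl
  have h3 := hxy (x * y) (map_mul _ _ _)
  have e1 : x⁻¹ = x := by rw [inv_eq_iff_mul_eq_one]; exact h1
  have e2 : y⁻¹ = y := by rw [inv_eq_iff_mul_eq_one]; exact h2
  calc x * y = (x * y)⁻¹ := (inv_eq_iff_mul_eq_one.mpr h3).symm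
    _ = y * x := by rw [mul_inv_rev, e1, e2]

/-- a `2`-pure subgroup of order 8 -/
theorem LS_pure (h : PExt 2 τ z) {a b c : G} (hab : a * b = b * a) (hac : a * c = c * a)
    (hbc : b * c = c * b) (ha2 : a * a = 1) (gb gc gab gac gbc gabc : G)
    (h1 : gb * a = b * gb) (h2 : gc * a = c * gc) (h3 : gab * a = a * b * gab)
    (h4 : gac * a = a * c * gac) (h5 : gbc * a = b * c * gbc) (h6 : gabc * a = a * b * c * gabc) :
    LS τ a := by
  by_contra hcon
  have hneg : ∀ g k : G, g * a = k * g → ¬ LS τ k := by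
    intro g k hg hk
    apply hcon
    refine h.LS_conj hk (g := g⁻¹) ?_
    rw [inv_mul_eq_iff_eq_mul, ← mul_assoc, hg, mul_inv_cancel_right]
  have hzz : ∀ k : G, ¬ LS τ k → k * k = 1 → ∀ x, τ x = k → x * x = z := by
    intro k hk hk2 x hx
    rcases h.one_or (x := x * x) (by rw [map_mul, hx, hk2]) with h7 | h7
    · exact absurd (hx ▸ h.LS_of_one h7) hk
    · exact h7
  have b2 : b * b = 1 := by
    have : b = gb * a * gb⁻¹ := by rw [h1]; group
    rw [this, show gb * a * gb⁻¹ * (gb * a * gb⁻¹) = gb * (a * a) * gb⁻¹ by group, ha2]; group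
  have c2 : c * c = 1 := by
    have : c = gc * a * gc⁻¹ := by rw [h2]; group
    rw [this, show gc * a * gc⁻¹ * (gc * a * gc⁻¹) = gc * (a * a) * gc⁻¹ by group, ha2]; group
  have ab2 : a * b * (a * b) = 1 := by
    rw [show a * b * (a * b) = a * (b * a) * b by group, ← hab,
      show a * (a * b) * b = a * a * (b * b) by group, ha2, b2, one_mul]
  have ac2 : a * c * (a * c) = 1 := by
    rw [show a * c * (a * c) = a * (c * a) * c by group, ← hac,
      show a * (a * c) * c = a * a * (c * c) by group, ha2, c2, one_mul]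
  have bc2 : b * c * (b * c) = 1 := by
    rw [show b * c * (b * c) = b * (c * b) * c by group, ← hbc,
      show b * (b * c) * c = b * b * (c * c) by group, b2, c2, one_mul]
  have abc2 : a * b * c * (a * b * c) = 1 := by
    rw [show a * b * c * (a * b * c) = a * b * ((c * a) * (b * c)) by group, ← hac,
      show a * b * (a * c * (b * c)) = a * (b * a) * c * (b * c) by group, ← hab,
      show a * (a * b) * c * (b * c) = (a * a) * (b * c * (b * c)) by group, ha2, bc2, one_mul]
  obtain ⟨x, hx⟩ := h.surj a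
  obtain ⟨y, hy⟩ := h.surj b
  obtain ⟨w, hw⟩ := h.surj c
  have x2 := hzz a hcon ha2 x hx
  have y2 := hzz b (hneg _ _ h1) b2 y hy
  have w2 := hzz c (hneg _ _ h2) c2 w hw
  have xy2 := hzz _ (hneg _ _ h3) ab2 (x * y) (by rw [map_mul, hx, hy])
  have xw2 := hzz _ (hneg _ _ h4) ac2 (x * w) (by rw [map_mul, hx, hw])
  have yw2 := hzz _ (hneg _ _ h5) bc2 (y * w) (by rw [map_mul, hy, hw])
  have xyw2 := hzz _ (hneg _ _ h6) abc2 (x * y * w) (by rw [map_mul, map_mul, hx, hy, hw])
  have anti : ∀ u v : E, u * u = z → v * v = z → u * v * (u * v) = z → u * v = z * (v * u) := by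
    intro u v hu hv huv
    have e1 : u⁻¹ = u * z := by
      rw [inv_eq_iff_mul_eq_one, ← mul_assoc, hu, h.z2]
    have e2 : v⁻¹ = v * z := by
      rw [inv_eq_iff_mul_eq_one, ← mul_assoc, hv, h.z2]
    have e3 : u * v = z * (u * v)⁻¹ := by
      rw [← huv]; group
    rw [e3, mul_inv_rev, e1, e2]
    have e4 : v * z * (u * z) = v * u := by
      rw [show v * z * (u * z) = v * (z * u) * z by group, ← h.cent u,
        show v * (u * z) * z = v * u * (z * z) by group, h.z2, mul_one]
    rw [e4]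
  have r1 := anti x y x2 y2 xy2
  have r2 := anti x w x2 w2 xw2
  have r3 := anti x (y * w) x2 yw2 (by
    rw [show x * (y * w) = x * y * w by group]; exact xyw2)
  have r4 : x * (y * w) = y * w * x := by
    calc x * (y * w) = (x * y) * w := by group
      _ = z * y * (x * w) := by rw [r1]; group
      _ = z * (y * z) * (w * x) := by rw [r2]; group
      _ = z * (z * y) * (w * x) := by rw [h.cent y]
      _ = (z * z) * (y * w * x) := by group
      _ = y * w * x := by rw [h.z2, one_mul]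
  rw [r4] at r3
  have : z = 1 := (mul_eq_right.mp r3.symm)
  exact h.ne_one Nat.prime_two this

end PExt

end Cfsg.Agent.H15.PExtN
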