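import Mathlib
import Cfsg.Agent.H15.PExt

/-! # Reduction of stem extensions to kernels of prime order -/

set_option autoImplicit false

namespace Cfsg.Agent.H15.PExtN

open Cfsg Cfsg.Agent.H15.SchurTr

universe u v

variable {G : Type v} [Group G]

/-- reduction to kernels of prime order -/
theorem exists_pext {Γ : Type*} [Group Γ] [Finite Γ] (σ : Γ →* G)
    (hst : Cfsg.IsStemExtension σ) (p : ℕ) [hp : Fact p.Prime] (h2 : p ∣ Nat.card σ.ker) :
    ∃ (M : Subgroup Γ) (_ : M.Normal) (τ : Γ ⧸ M →* G) (z : Γ ⧸ M), PExt p τ z ∧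
      z ∈ commutator (Γ ⧸ M) := by
  classical
  obtain ⟨hsurj, hc, hcomm⟩ := hst
  let K := σ.ker
  let _ : CommGroup K :=
    { (inferInstance : Group K) with
      mul_comm := fun a b => Subtype.ext (((Subgroup.mem_center_iff.mp (hc a.2)) b.1).symm) }
  obtain ⟨e⟩ := Cfsg.Agent.H15.Schur.dual_equiv K
  have hcard : p ∣ Nat.card (K →* ℂˣ) := by rw [Nat.card_congr e.toEquiv]; exact h2
  have hfin : Finite (K →* ℂˣ) := Finite.of_equiv _ e.symm.toEquiv
  obtain ⟨lam, hlam⟩ := exists_prime_orderOf_dvd_card' p hcard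
  have hlp : ∀ k : K, lam k ^ p = 1 := by
    intro k
    have h1 : lam ^ p = 1 := by rw [← hlam]; exact pow_orderOf_eq_one _
    have h3 := DFunLike.congr_fun h1 k
    exact h3
  obtain ⟨⟨k, hk⟩, hk1⟩ : ∃ k : K, lam k ≠ 1 := by
    by_contra hcon
    push Not at hcon
    have : lam = 1 := MonoidHom.ext hcon
    rw [this, orderOf_one] at hlam
    exact hp.out.one_lt.ne hlam
  let M : Subgroup Γ := lam.ker.map K.subtype
  have hMK : M ≤ K := Subgroup.map_subtype_le _
  have hMn : M.Normal := by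
    constructor
    intro x hx g
    have h1 := (Subgroup.mem_center_iff.mp (hc (hMK hx))) g
    rw [h1, mul_inv_cancel_right]
    exact hx
  have hM : ∀ x (hx : x ∈ K), x ∈ M ↔ lam ⟨x, hx⟩ = 1 := by
    intro x hx
    constructor
    · rintro ⟨y, hy, rfl⟩
      exact hy
    · intro h; exact ⟨⟨x, hx⟩, h, rfl⟩
  have hkM : k ∉ M := fun h => hk1 ((hM k hk).mp h)
  have hprim : IsPrimitiveRoot (lam ⟨k, hk⟩) p := by
    have h3 : orderOf (lam ⟨k, hk⟩) = p := orderOf_eq_prime (hlp _) hk1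
    rw [← h3]; exact IsPrimitiveRoot.orderOf _
  have hne : NeZero p := ⟨hp.out.ne_zero⟩
  refine ⟨M, hMn, QuotientGroup.lift M σ hMK, QuotientGroup.mk k, ⟨?_, ?_, ?_, ?_⟩, ?_⟩
  · intro g
    obtain ⟨x, rfl⟩ := hsurj g
    exact ⟨QuotientGroup.mk x, rfl⟩
  · apply orderOf_eq_prime
    · rw [← QuotientGroup.mk_pow, QuotientGroup.eq_one_iff, hM _ (K.pow_mem hk p)]
      have : (⟨k ^ p, K.pow_mem hk p⟩ : K) = ⟨k, hk⟩ ^ p := rfl
      rw [this, map_pow, hlp]
    · intro h0
      exact hkM ((QuotientGroup.eq_one_iff k).mp h0)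
  · intro x
    induction x using QuotientGroup.induction_on with
    | H x =>
      rw [← QuotientGroup.mk_mul, ← QuotientGroup.mk_mul, (Subgroup.mem_center_iff.mp (hc hk)) x]
  · intro x
    induction x using QuotientGroup.induction_on with
    | H x =>
      show σ x = 1 ↔ _
      constructor
      · intro hx
        obtain ⟨i, -, hi⟩ := hprim.eq_pow_of_mem_rootsOfUnity (ξ := lam ⟨x, hx⟩) (by
          rw [mem_rootsOfUnity]; exact hlp _)
        refine ⟨(i : ℤ), ?_⟩
        show (QuotientGroup.mk k : Γ ⧸ M) ^ (i : ℤ) = _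
        rw [zpow_natCast, ← QuotientGroup.mk_pow, QuotientGroup.eq,
          hM _ (K.mul_mem (K.inv_mem (K.pow_mem hk i)) hx)]
        have : (⟨(k ^ i)⁻¹ * x, K.mul_mem (K.inv_mem (K.pow_mem hk i)) hx⟩ : K) =
          (⟨k, hk⟩ ^ i)⁻¹ * ⟨x, hx⟩ := rfl
        rw [this, map_mul, map_inv, map_pow, hi, inv_mul_cancel]
      · rintro ⟨i, hi⟩
        have hi' : (QuotientGroup.mk k : Γ ⧸ M) ^ i = QuotientGroup.mk x := hi
        rw [← QuotientGroup.mk_zpow, QuotientGroup.eq] at hi'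
        have h4 : (k ^ i)⁻¹ * x ∈ K := hMK hi'
        have h5 := K.mul_mem (K.zpow_mem hk i) h4
        rwa [show k ^ i * ((k ^ i)⁻¹ * x) = x by group] at h5
  · have h1 : (commutator Γ).map (QuotientGroup.mk' M) = commutator (Γ ⧸ M) := by
      rw [commutator_def, Subgroup.map_commutator, commutator_def,
        Subgroup.map_top_of_surjective _ (QuotientGroup.mk'_surjective _)]
    rw [← h1]
    exact ⟨k, hcomm hk, rfl⟩

/-- Sylow subgroups of prime order are cyclic -/
theorem sylow_cyclic [Finite G] (p : ℕ) [hp : Fact p.Prime] (h : ¬ p ^ 2 ∣ Nat.card G)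
    (P : Sylow p G) : IsCyclic P := by
  obtain ⟨n, hn⟩ := IsPGroup.iff_card.mp P.isPGroup'
  have h1 : p ^ n ∣ Nat.card G := by rw [← hn]; exact Subgroup.card_subgroup_dvd_card _
  have h2 : n < 2 := by
    by_contra hcon
    exact h ((pow_dvd_pow p (by omega)).trans h1)
  interval_cases n
  · have : Subsingleton P := (Nat.card_eq_one_iff_unique.mp (by rw [hn, pow_zero])).1
    infer_instance
  · exact isCyclic_of_prime_card (by rw [hn, pow_one])

/-- triviality of the Schur multiplier: prime by prime -/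
theorem hasCyclic_one {G : Type u} [Group G] [Finite G]
    (hbad : ∀ p : ℕ, p.Prime → p ^ 2 ∣ Nat.card G → ∀ (E : Type u) [Group E] [Finite E]
      (τ : E →* G) (z : E), PExt p τ z → z ∉ commutator E) :
    Cfsg.HasCyclicSchurMultiplier G 1 := by
  rw [Cfsg.Agent.H15.Schur.hasCyclic_one_iff]
  intro Γ _ _ σ hst
  by_contra hne
  have h1 : Nat.card σ.ker ≠ 1 := fun h => hne (Subgroup.eq_bot_of_card_eq _ h)
  obtain ⟨p, hp, hpd⟩ := Nat.exists_prime_and_dvd h1
  have : Fact p.Prime := ⟨hp⟩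
  by_cases h2 : p ^ 2 ∣ Nat.card G
  · obtain ⟨M, hM, τ, z, h3, h4⟩ := exists_pext σ hst p hpd
    exact hbad p hp h2 _ τ z h3 h4
  · exact not_dvd_of_cyclic σ hst.2.1 hst.2.2 p (fun P => sylow_cyclic p h2 P) hpd

end Cfsg.Agent.H15.PExtN
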