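import Mathlib
import Cfsg.Prelude.Def_KGroupFacts

/-! # Automorphisms of permutation groups preserving the class of point stabilisers -/

set_option autoImplicit false

namespace Cfsg.Agent.H15.AutPerm

variable {X : Type*}

/-- `G` moves exactly the points of `S`, transitively and with distinct stabilisers -/
structure Act (G : Subgroup (Equiv.Perm X)) (S : Set X) : Prop where
  out : ∀ g ∈ G, ∀ x, x ∉ S → g x = x
  stab : ∀ g ∈ G, ∀ x ∈ S, g x ∈ S
  trans : ∀ x ∈ S, ∀ y ∈ S, ∃ g ∈ G, g x = y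
  inj : ∀ x ∈ S, ∀ y ∈ S, (∀ g ∈ G, g x = x → g y = y) → x = y

theorem exists_perm [Finite X] {G : Subgroup (Equiv.Perm X)} {S : Set X} (hG : Act G S)
    (α : G ≃* G)
    (hα : ∀ x ∈ S, ∃ y ∈ S, ∀ g : G, (g : Equiv.Perm X) x = x ↔ (α g : Equiv.Perm X) y = y) :
    ∃ π : Equiv.Perm X, (∀ x, x ∉ S → π x = x) ∧ (∀ x ∈ S, π x ∈ S) ∧
      ∀ g : G, π * (g : Equiv.Perm X) * π⁻¹ = α g := by
  classical
  choose! f hfS hf using hα
  have hinj : ∀ x ∈ S, ∀ y ∈ S, f x = f y → x = y := by
    intro x hx y hy hxy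
    apply hG.inj x hx y hy
    intro g hg hgx
    have h1 := (hf x hx ⟨g, hg⟩).mp hgx
    rw [hxy] at h1
    exact (hf y hy ⟨g, hg⟩).mpr h1
  let F : X → X := fun x => if x ∈ S then f x else x
  have hFS : ∀ x ∈ S, F x = f x := fun x hx => if_pos hx
  have hFn : ∀ x, x ∉ S → F x = x := fun x hx => if_neg hx
  have hFinj : Function.Injective F := by
    intro x y hxy
    by_cases hx : x ∈ S
    · by_cases hy : y ∈ S
      · rw [hFS x hx, hFS y hy] at hxy
        exact hinj x hx y hy hxy
      · rw [hFS x hx, hFn y hy] at hxy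
        exact absurd (hxy ▸ hfS x hx) hy
    · by_cases hy : y ∈ S
      · rw [hFn x hx, hFS y hy] at hxy
        exact absurd (hxy ▸ hfS y hy) hx
      · rw [hFn x hx, hFn y hy] at hxy
        exact hxy
  let π : Equiv.Perm X := Equiv.ofBijective F (Finite.injective_iff_bijective.mp hFinj)
  have hπ : ∀ x, π x = F x := fun _ => rfl
  refine ⟨π, fun x hx => hFn x hx, fun x hx => by rw [hπ, hFS x hx]; exact hfS x hx, ?_⟩
  intro g
  rw [mul_inv_eq_iff_eq_mul]
  ext x
  rw [Equiv.Perm.mul_apply, Equiv.Perm.mul_apply, hπ, hπ]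
  by_cases hx : x ∈ S
  · have hgx := hG.stab g g.2 x hx
    rw [hFS x hx, hFS _ hgx]
    apply hG.inj _ (hfS _ hgx) _ (hG.stab _ (α g).2 _ (hfS x hx))
    intro k hk hkf
    obtain ⟨h, hh⟩ := α.surjective ⟨k, hk⟩
    have hk' : k = (α h : Equiv.Perm X) := by rw [hh]
    rw [hk'] at hkf
    have h1 := (hf _ hgx h).mpr hkf
    have h2 : ((g⁻¹ * h * g : G) : Equiv.Perm X) x = x := by
      rw [Subgroup.coe_mul, Subgroup.coe_mul, Subgroup.coe_inv, Equiv.Perm.mul_apply,
        Equiv.Perm.mul_apply, h1, Equiv.Perm.inv_eq_iff_eq]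
    have h3 := (hf x hx _).mp h2
    rw [map_mul, map_mul, map_inv, Subgroup.coe_mul, Subgroup.coe_mul, Subgroup.coe_inv,
      Equiv.Perm.mul_apply, Equiv.Perm.mul_apply, Equiv.Perm.inv_eq_iff_eq] at h3
    rw [hk']
    exact h3
  · rw [hFn x hx, hG.out g g.2 x hx, hFn x hx, hG.out _ (α g).2 x hx]

/-- point stabilisers are sent to point stabilisers if subgroups of the same order fix a point -/
theorem stab_cond [Finite X] {G : Subgroup (Equiv.Perm X)} {S : Set X} (hG : Act G S) (n : ℕ)
    (hn : ∀ x ∈ S, Nat.card (MulAction.stabilizer G x) = n)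
    (hH : ∀ H : Subgroup (Equiv.Perm X), H ≤ G → Nat.card H = n → ∃ y ∈ S, ∀ h ∈ H, h y = y)
    (α : G ≃* G) : ∀ x ∈ S, ∃ y ∈ S, ∀ g : G,
      (g : Equiv.Perm X) x = x ↔ (α g : Equiv.Perm X) y = y := by
  intro x hx
  let H : Subgroup (Equiv.Perm X) :=
    ((MulAction.stabilizer G x).map α.toMonoidHom).map G.subtype
  have hHG : H ≤ G := Subgroup.map_subtype_le _
  have hcard : Nat.card H = n := by
    rw [← hn x hx, Subgroup.card_map_of_injective G.subtype_injective,
      Subgroup.card_map_of_injective α.injective]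
  obtain ⟨y, hy, hfix⟩ := hH H hHG hcard
  refine ⟨y, hy, ?_⟩
  have hle : (MulAction.stabilizer G x).map α.toMonoidHom ≤ MulAction.stabilizer G y := by
    intro g hg
    exact hfix g ⟨g, hg, rfl⟩
  have heq : (MulAction.stabilizer G x).map α.toMonoidHom = MulAction.stabilizer G y := by
    apply Subgroup.eq_of_le_of_card_ge hle
    rw [Subgroup.card_map_of_injective α.injective, hn x hx, hn y hy]
  intro g
  have h1 : α g ∈ (MulAction.stabilizer G x).map α.toMonoidHom ↔ g ∈ MulAction.stabilizer G x := by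
    constructor
    · rintro ⟨k, hk, hkg⟩
      have : k = g := α.injective hkg
      rw [← this]; exact hk
    · intro hg; exact ⟨g, hg, rfl⟩
  rw [heq] at h1
  exact h1.symm

/-- fixed points of elements of prime order -/
theorem card_fix_mod [DecidableEq X] {σ : Equiv.Perm X} {p : ℕ} [hp : Fact p.Prime]
    (hσ : σ ^ p = 1) (O : Finset X) (hO : ∀ x ∈ O, σ x ∈ O) :
    O.card ≡ (O.filter fun x => σ x = x).card [MOD p] := by
  classical
  let f : Function.End O := fun x => ⟨σ x, hO x x.2⟩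
  have hf : ∀ n : ℕ, ∀ x : O, ((f ^ n) x : X) = (σ ^ n) x := by
    intro n
    induction n with
    | zero => intro x; rfl
    | succ n ih =>
      intro x
      rw [pow_succ', pow_succ']
      show ((f ((f ^ n) x) : O) : X) = σ ((σ ^ n) x)
      rw [← ih]
  have h1 : f ^ p ^ 1 = 1 := by
    rw [pow_one]
    funext x
    apply Subtype.ext
    rw [hf, hσ]; rfl
  have h2 := Equiv.Perm.card_fixedPoints_modEq (f := f) h1
  rw [Fintype.card_coe] at h2
  refine h2.trans ?_
  have h3 : Fintype.card (Function.fixedPoints f) = (O.filter fun x => σ x = x).card := by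
    rw [← Fintype.card_coe]
    refine Fintype.card_congr
      { toFun := fun x => ⟨x.1.1, Finset.mem_filter.mpr ⟨x.1.2, congrArg Subtype.val x.2⟩⟩
        invFun := fun y => ⟨⟨y.1, (Finset.mem_filter.mp y.2).1⟩,
          Subtype.ext (Finset.mem_filter.mp y.2).2⟩
        left_inv := fun x => rfl
        right_inv := fun y => rfl }
  rw [h3]

end Cfsg.Agent.H15.AutPerm
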