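import Cfsg.Agent.H15.ChevAut2

/-!
# Automorphisms of finite Chevalley groups: standard automorphisms permute the simple root subgroups
-/

set_option autoImplicit false
set_option linter.unusedSectionVars false

namespace Cfsg.Agent.H15.Chev

open Cfsg.Agent.H6 Cfsg.Lie Cfsg.Agent.H22 Cfsg.Agent.H16.BNS
open scoped Matrix

variable {D : ChevalleyDatum} {N : ℕ} {η : ℕ → ℕ → ℤ} {rc : ℕ → ℕ → ℤ} {F : Type*} [Field F]

/-- minimal parabolic subgroups -/
noncomputable def P1 (hG : Good D N η rc) (hE : Ext D rc) (F : Type*) [Field F] (i : Fin D.rank) : Subgroup ↥(D.group F) :=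
  (PP hG hE F).parabolic {((gi hG hE F i : (PP hG hE F).S) : ↥(D.group F))}

variable (hG : Good D N η rc) (hE : Ext D rc)
include hG hE

theorem Um_s (i : Fin D.rank) : hG.Um (hG.s i) ⊆ {D.simple i} := by
  rintro r ⟨hr, h1, h2⟩
  rw [Set.mem_singleton_iff]
  by_contra hne
  have := hG.s_pos (i := i) (r := ⟨r, hr⟩) h1 (fun h => hne (congrArg Fin.val h))
  omega

theorem mem_B_iff {g : ↥(D.group F)} : g ∈ (PP hG hE F).B ↔ (g : GL D.Idx F) ∈ D.borelSubgroup F := by
  exact Subgroup.mem_subgroupOf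

theorem gi_sub (i : Fin D.rank) :
    ({((gi hG hE F i : (PP hG hE F).S) : ↥(D.group F))} : Set ↥(D.group F)) ⊆ (PP hG hE F).S := by
  rintro x hx
  rw [Set.mem_singleton_iff] at hx
  subst hx
  exact (gi hG hE F i).2

/-- elements of minimal parabolic subgroups -/
theorem mem_P1_cases {i : Fin D.rank} {g : ↥(D.group F)} (hg : g ∈ P1 hG hE F i) :
    (g : GL D.Idx F) ∈ D.borelSubgroup F ∨ ∃ b ∈ D.borelSubgroup F, ∃ t : F,
      (g : GL D.Idx F) = b * ng D F i * xg D F (D.simple i) t := by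
  obtain ⟨w, hw⟩ := BN.exists_mem_C (PP hG hE F) g
  have h1 := (BN.mem_parabolic_iff (PP hG hE F) (gi_sub hG hE i) hw).1 hg
  have h2 : w = 1 ∨ w = BN.sm (PP hG hE F) (gi hG hE F i) := by
    unfold BN.WJ at h1
    have e : {x : (PP hG hE F).S | (x : ↥(D.group F)) ∈
        ({((gi hG hE F i : (PP hG hE F).S) : ↥(D.group F))} : Set ↥(D.group F))} = {gi hG hE F i} := by
      ext x
      constructor
      · intro h; exact Subtype.ext h
      · intro h
        rw [Set.mem_singleton_iff] at h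
        subst h; rfl
    rw [e, Set.image_singleton, Subgroup.mem_closure_singleton] at h1
    obtain ⟨n, hn⟩ := h1
    have hsq : BN.sm (PP hG hE F) (gi hG hE F i) * BN.sm (PP hG hE F) (gi hG hE F i) = 1 :=
      (BN.genInv (PP hG hE F)).1 _
    rcases Int.even_or_odd' n with ⟨k, hk | hk⟩
    · left
      rw [← hn, hk, zpow_mul, zpow_two, hsq, one_zpow]
    · right
      rw [← hn, hk, zpow_add, zpow_mul, zpow_two, hsq, one_zpow, one_mul, zpow_one]
  rcases h2 with rfl | rfl
  · left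
    rw [BN.C_one] at hw
    exact (mem_B_iff hG hE).1 hw
  · right
    obtain ⟨b, hb, b', hb', he⟩ := BN.C_rel (PP hG hE F) hw (BN.sm_mem_C (PP hG hE F) (gi hG hE F i))
    obtain ⟨χ, hm⟩ := hG.mon_ng (F := F) hE i
    obtain ⟨c, hc, u, hu, he'⟩ := hG.canon_exists hE ((mem_B_iff hG hE).1 hb) (hG.ng_mem_monomial i.2) hm
      ((mem_B_iff hG hE).1 hb')
    obtain ⟨t, rfl⟩ := (hG.mem_US_single (hG.rdn (F := F) hE) (hG.simple_lt i i.2)).1 (US_mono (Um_s hG hE i) hu)
    refine ⟨c, hc, t, ?_⟩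
    rw [← he', he]
    rfl

theorem simple_neg_lt (i : Fin D.rank) : D.neg (D.simple i) < N := hG.neg_lt_N (hG.simple_lt i i.2) (hG.simple_pos i i.2)

/-- `x_p(t) = n_p(t) x_p(-t) x_{-p}(t⁻¹)` -/
theorem xg_eq_n (r : ℕ) (t : F) : xg D F r t = ngr D F r t * xg D F r (-t) * xg D F (D.neg r) t⁻¹ := by
  change _ = xg D F r t * xg D F (D.neg r) (-t⁻¹) * xg D F r t * xg D F r (-t) * xg D F (D.neg r) t⁻¹
  rw [hG.xg_neg, hG.xg_neg]; group

theorem ngr_mem_mono {i : Fin D.rank} {t : F} (ht : t ≠ 0) :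
    ∃ h ∈ D.diagonalSubgroup F, ngr D F (D.simple i) t = h * (ng D F i)⁻¹ := by
  have h1 := hG.mon_nX (hG.rdn (F := F) hE) i (Units.mk0 t ht)
  obtain ⟨χ, hm⟩ := hG.mon_ng (F := F) hE i
  have h2 := h1.mul hm
  rw [hG.s_sq] at h2
  have hmem : ngr D F (D.simple i) t ∈ D.monomialSubgroup F := by
    have : ngr D F (D.simple i) t = hgr D F (D.simple i) t * ngr D F (D.simple i) 1 := by
      unfold hgr
      rw [hG.ngr_neg_one]; group
    rw [this]
    refine mul_mem ?_ (hG.ngr_mem_monomial (hG.simple_lt i i.2))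
    rw [hG.monomialSubgroup_eq]
    apply Subgroup.mem_sup_left
    rw [hG.diagonalSubgroup_eq]
    exact Subgroup.subset_closure ⟨_, t, hG.simple_lt i i.2, ht, rfl⟩
  refine ⟨ngr D F (D.simple i) t * ng D F i, ?_, by group⟩
  exact hG.mem_diagonal_of_mon hE (mul_mem hmem (hG.ng_mem_monomial i.2)) h2

/-- `V ∩ P_i = X_{-p_i}` -/
theorem neg_inf_P1 {i : Fin D.rank} {g : ↥(D.group F)} (hg : g ∈ P1 hG hE F i) (hn : (g : GL D.Idx F) ∈ D.negUnipotent F) :
    ∃ t : F, g = XX hG (D.neg (D.simple i)) t := by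
  rcases mem_P1_cases hG hE hg with h | ⟨b, hb, t, he⟩
  · refine ⟨0, ?_⟩
    have h1 : (g : GL D.Idx F) ∈ D.borelSubgroup F ⊓ D.negUnipotent F := Subgroup.mem_inf.2 ⟨h, hn⟩
    rw [hG.borel_inf_neg, Subgroup.mem_bot] at h1
    rw [XX_zero]
    exact Subtype.ext h1
  · by_cases ht : t = 0
    · exfalso
      subst ht
      rw [hG.xg_zero, mul_one] at he
      obtain ⟨n₀, hn₀, h0⟩ := hG.exists_n0 (F := F) hE
      rw [← h0] at hn
      obtain ⟨u, hu, hu'⟩ := hn
      have hu'' : n₀ * u * n₀⁻¹ = (g : GL D.Idx F) := hu'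
      have h1 : 1 * n₀ * u = b * (ng D F i * n₀) * 1 := by
        have : n₀ * u = (g : GL D.Idx F) * n₀ := by rw [← hu'']; group
        rw [one_mul, mul_one, this, he]; group
      have h2 := hG.bruhat_unique hE (one_mem _) hn₀ (Subgroup.mem_sup_left hu) hb
        (mul_mem (hG.ng_mem_monomial i.2) hn₀) (one_mem _) h1
      have h3 : ng D F i ∈ D.diagonalSubgroup F := by
        have := hG.diagonal_normal_monomial hE hn₀ h2
        have e : n₀ * (n₀⁻¹ * (ng D F i * n₀)) * n₀⁻¹ = ng D F i := by group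
        rwa [e] at this
      obtain ⟨χ, hm⟩ := hG.mon_ng (F := F) hE i
      have h4 := hG.mon_borel hE hm (Subgroup.mem_sup_right h3)
      have h5 := hG.s_sr i
      rw [h4] at h5
      have h6 := hG.sr_pos i
      have h7 := (hG.ngf_lt_iff (hG.sr i)).2 h6
      rw [← h5] at h7
      have h8 : (((1 : hG.W).1 (hG.sr i) : Fin D.nroots) : ℕ) = (hG.sr i : ℕ) := rfl
      omega
    · refine ⟨t⁻¹, ?_⟩
      obtain ⟨h, hh, hn'⟩ := ngr_mem_mono hG hE (i := i) ht
      have e1 : (g : GL D.Idx F) * (xg D F (D.neg (D.simple i)) t⁻¹)⁻¹ =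
          b * (ng D F i * h * (ng D F i)⁻¹) * xg D F (D.simple i) (-t) := by
        rw [he]
        conv_lhs => rw [xg_eq_n hG hE (D.simple i) t, hn']
        group
      have h1 : (g : GL D.Idx F) * (xg D F (D.neg (D.simple i)) t⁻¹)⁻¹ ∈ D.borelSubgroup F ⊓ D.negUnipotent F := by
        refine Subgroup.mem_inf.2 ⟨?_, ?_⟩
        · rw [e1]
          exact mul_mem (mul_mem hb (Subgroup.mem_sup_right (hG.diagonal_normal_monomial hE (hG.ng_mem_monomial i.2) hh)))
            (Subgroup.mem_sup_left (hG.xg_mem_pos (hG.simple_pos i i.2) (hG.simple_lt i i.2) _))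
        · exact mul_mem hn (inv_mem (hG.xg_mem_neg (simple_neg_lt hG hE i) _))
      rw [hG.borel_inf_neg, Subgroup.mem_bot, mul_inv_eq_one] at h1
      exact Subtype.ext h1

theorem XX_neg_mem_P1 (i : Fin D.rank) (t : F) : XX hG (D.neg (D.simple i)) t ∈ P1 hG hE F i := by
  have hB : ∀ g : ↥(D.group F), (g : GL D.Idx F) ∈ D.borelSubgroup F → g ∈ P1 hG hE F i := fun g hg =>
    BN.B_le_parabolic (PP hG hE F) _ ((mem_B_iff hG hE).2 hg)
  have hx : ∀ t : F, XX hG (D.simple i) t ∈ P1 hG hE F i := fun t =>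
    hB _ (Subgroup.mem_sup_left (hG.xg_mem_pos (hG.simple_pos i i.2) (hG.simple_lt i i.2) _))
  have hn : NN hG (D.simple i) (1 : F) ∈ P1 hG hE F i := by
    have : NN hG (D.simple i) (1 : F) = ((gi hG hE F i : (PP hG hE F).S) : ↥(D.group F)) := Subtype.ext rfl
    rw [this]
    exact BN.subset_parabolic (PP hG hE F) _ (Set.mem_singleton _)
  -- `n x_p(s) n⁻¹`
  have h1 : XX hG (D.neg (D.simple i)) t = NN hG (D.simple i) 1 * XX hG (D.simple i) (-t) * (NN hG (D.simple i) 1)⁻¹ := by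
    apply Subtype.ext
    change _ = ng D F i * xg D F (D.simple i) (-t) * (ng D F i)⁻¹
    rw [hG.ng_conj i.2 (hG.simple_lt i i.2), hG.w_simple, hG.eta_simple i i.2]
    change xg D F _ t = _
    congr 1
    push_cast; ring
  rw [h1]
  exact mul_mem (mul_mem hn (hx _)) (inv_mem hn)

/-- standard automorphisms preserve `B` -/
theorem Std.borel {θ : ↥(D.group F) ≃* ↥(D.group F)} (h : Std θ) (g : ↥(D.group F)) :
    ((θ g : ↥(D.group F)) : GL D.Idx F) ∈ D.borelSubgroup F ↔ (g : GL D.Idx F) ∈ D.borelSubgroup F := by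
  have key : ∀ θ : ↥(D.group F) ≃* ↥(D.group F), Std θ → ∀ g : ↥(D.group F), (g : GL D.Idx F) ∈ D.borelSubgroup F →
      ((θ g : ↥(D.group F)) : GL D.Idx F) ∈ D.borelSubgroup F := by
    intro θ h g hg
    apply normalizer_pos hG hE (θ g).2
    intro u hu
    set υ : ↥(D.group F) := ⟨u, hG.pos_le hu⟩ with hυ
    have h1 : ((θ (g * θ.symm υ * g⁻¹) : ↥(D.group F)) : GL D.Idx F) ∈ D.posUnipotent F := by
      rw [h.pos]
      apply hG.borel_conj_pos hg
      rw [← h.pos, MulEquiv.apply_symm_apply]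
      exact hu
    rw [map_mul, map_mul, map_inv, MulEquiv.apply_symm_apply] at h1
    exact h1
  constructor
  · intro hg
    have := key θ.symm h.symm _ hg
    rwa [MulEquiv.symm_apply_apply] at this
  · exact key θ h g

/-- standard automorphisms preserve `H` -/
theorem Std.diag {θ : ↥(D.group F) ≃* ↥(D.group F)} (h : Std θ) (g : ↥(D.group F)) :
    ((θ g : ↥(D.group F)) : GL D.Idx F) ∈ D.diagonalSubgroup F ↔ (g : GL D.Idx F) ∈ D.diagonalSubgroup F := by
  have key : ∀ θ : ↥(D.group F) ≃* ↥(D.group F), Std θ → ∀ g : ↥(D.group F), (g : GL D.Idx F) ∈ D.diagonalSubgroup F →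
      ((θ g : ↥(D.group F)) : GL D.Idx F) ∈ D.diagonalSubgroup F := by
    intro θ h g hg
    apply mem_diag_of_norm hG hE (θ g).2
    · intro u hu
      set υ : ↥(D.group F) := ⟨u, hG.pos_le hu⟩ with hυ
      have h1 : ((θ (g * θ.symm υ * g⁻¹) : ↥(D.group F)) : GL D.Idx F) ∈ D.posUnipotent F := by
        rw [h.pos]
        apply hG.diagonal_conj_pos hg
        rw [← h.pos, MulEquiv.apply_symm_apply]
        exact hu
      rw [map_mul, map_mul, map_inv, MulEquiv.apply_symm_apply] at h1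
      exact h1
    · intro u hu
      set υ : ↥(D.group F) := ⟨u, hG.neg_le hu⟩ with hυ
      have h1 : ((θ (g * θ.symm υ * g⁻¹) : ↥(D.group F)) : GL D.Idx F) ∈ D.negUnipotent F := by
        rw [h.neg]
        apply hG.diagonal_conj_neg hg
        rw [← h.neg, MulEquiv.apply_symm_apply]
        exact hu
      rw [map_mul, map_mul, map_inv, MulEquiv.apply_symm_apply] at h1
      exact h1
  constructor
  · intro hg
    have := key θ.symm h.symm _ hg
    rwa [MulEquiv.symm_apply_apply] at this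
  · exact key θ h g

/-- standard automorphisms permute the minimal parabolic subgroups -/
theorem Std.mapP1 {θ : ↥(D.group F) ≃* ↥(D.group F)} (h : Std θ) (i : Fin D.rank) :
    ∃ j : Fin D.rank, ∀ g ∈ P1 hG hE F i, θ g ∈ P1 hG hE F j := by
  set P := PP hG hE F with hP
  set K : Subgroup ↥(D.group F) := (P1 hG hE F i).map θ.toMonoidHom with hK
  have hBK : P.B ≤ K := by
    intro g hg
    refine ⟨θ.symm g, ?_, θ.apply_symm_apply g⟩
    apply BN.B_le_parabolic P
    rw [mem_B_iff] at hg ⊢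
    rwa [← h.borel hG hE, MulEquiv.apply_symm_apply]
  have h1 := BN.eq_parabolic P K hBK
  have h2 : ∃ x, x ∈ P.S ∩ (K : Set ↥(D.group F)) := by
    by_contra hcon
    push Not at hcon
    have : P.S ∩ (K : Set ↥(D.group F)) = ∅ := Set.eq_empty_iff_forall_notMem.2 hcon
    rw [this] at h1
    have h3 : P.parabolic ∅ = P.B := by
      unfold Cfsg.BNPair.parabolic
      rw [Subgroup.closure_empty, sup_bot_eq]
    rw [h3] at h1
    -- then `P1 i ≤ B`
    have h4 : ((gi hG hE F i : (PP hG hE F).S) : ↥(D.group F)) ∈ P.B := by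
      have h5 : θ ((gi hG hE F i : (PP hG hE F).S) : ↥(D.group F)) ∈ P.B := by
        rw [← h1]
        exact ⟨_, BN.subset_parabolic P _ (Set.mem_singleton _), rfl⟩
      rw [mem_B_iff] at h5 ⊢
      rwa [h.borel hG hE] at h5
    exact BN.sm_not_mem_B P _ h4
  obtain ⟨x, hx, hxK⟩ := h2
  obtain ⟨j, hj⟩ := gi_surj hG hE (F := F) ⟨x, hx⟩
  refine ⟨j, ?_⟩
  set K' : Subgroup ↥(D.group F) := (P1 hG hE F j).comap θ.toMonoidHom with hK'
  have hjx : ((gi hG hE F j : (PP hG hE F).S) : ↥(D.group F)) = x := congrArg Subtype.val hj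
  have hle : K' ≤ P1 hG hE F i := by
    intro g hg
    have h3 : P1 hG hE F j ≤ K := by
      unfold P1 Cfsg.BNPair.parabolic
      refine sup_le hBK ?_
      rw [Subgroup.closure_le]
      intro y hy
      rw [Set.mem_singleton_iff] at hy
      rw [hy, hjx]
      exact hxK
    obtain ⟨g', hg', he⟩ := h3 hg
    have : g' = g := θ.injective he
    rwa [← this]
  have hBK' : P.B ≤ K' := by
    intro g hg
    apply BN.B_le_parabolic P
    rw [mem_B_iff] at hg ⊢
    exact (h.borel hG hE g).2 hg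
  have h3 := BN.eq_parabolic P K' hBK'
  have h4 : ((gi hG hE F i : (PP hG hE F).S) : ↥(D.group F)) ∈ K' := by
    by_contra hcon
    have h5 : P.S ∩ (K' : Set ↥(D.group F)) = ∅ := by
      rw [Set.eq_empty_iff_forall_notMem]
      rintro y ⟨hy, hyK⟩
      have h6 := BN.mem_of_mem_parabolic P (gi_sub hG hE i) (i := ⟨y, hy⟩) (hle hyK)
      rw [Set.mem_singleton_iff] at h6
      change y = _ at h6
      rw [h6] at hyK
      exact hcon hyK
    rw [h5] at h3
    have h6 : P.parabolic ∅ = P.B := by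
      unfold Cfsg.BNPair.parabolic
      rw [Subgroup.closure_empty, sup_bot_eq]
    rw [h6] at h3
    have h7 : θ.symm x ∈ P.B := by
      rw [← h3]
      change θ (θ.symm x) ∈ P1 hG hE F j
      rw [MulEquiv.apply_symm_apply, ← hjx]
      exact BN.subset_parabolic P _ (Set.mem_singleton _)
    rw [mem_B_iff, ← h.borel hG hE, MulEquiv.apply_symm_apply] at h7
    exact BN.sm_not_mem_B P ⟨x, hx⟩ ((mem_B_iff hG hE).2 h7)
  have h5 : P1 hG hE F i ≤ K' := by
    unfold P1 Cfsg.BNPair.parabolic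
    refine sup_le hBK' ?_
    rw [Subgroup.closure_le]
    intro y hy
    rw [Set.mem_singleton_iff] at hy
    rw [hy]
    exact h4
  intro g hg
  exact h5 hg

theorem Std.negX {θ : ↥(D.group F) ≃* ↥(D.group F)} (h : Std θ) (i : Fin D.rank) :
    ∃ j : Fin D.rank, ∀ t : F, ∃ t' : F, θ (XX hG (D.neg (D.simple i)) t) = XX hG (D.neg (D.simple j)) t' := by
  obtain ⟨j, hj⟩ := h.mapP1 hG hE i
  refine ⟨j, fun t => ?_⟩
  apply neg_inf_P1 hG hE (hj _ (XX_neg_mem_P1 hG hE i t))
  rw [h.neg]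
  exact hG.xg_mem_neg (simple_neg_lt hG hE i) _

end Cfsg.Agent.H15.Chev
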