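import Cfsg.Agent.H15.ChevAut1

/-!
# Graph automorphisms of simply laced Chevalley groups
-/

set_option autoImplicit false
set_option linter.unusedSectionVars false

namespace Cfsg.Agent.H15.Chev

open Cfsg.Agent.H6 Cfsg.Lie Cfsg.Agent.H22
open scoped Matrix

variable {D : ChevalleyDatum} {N : ℕ} {η : ℕ → ℕ → ℤ} {rc : ℕ → ℕ → ℤ} {F : Type*} [Field F]
variable (hG : Good D N η rc) (hE : Ext D rc)

include hG in
theorem cor_eq_rc (hE : Ext D rc) (hsym : ∀ i < D.rank, ∀ j < D.rank, D.cartan i (D.simple j) = D.cartan j (D.simple i)) :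
    ∀ r < D.nroots, ∀ i < D.rank, cor D r i = rc r i := by
  refine hG.root_induction (p := fun r => ∀ i < D.rank, cor D r i = rc r i) ?_ ?_
  · intro i hi j hj
    rw [hE.cor_simple i hi j hj, hG.rc_simple i hi j hj]
  · intro i hi r hr ih j hj
    rw [hG.cor_w i hi j hj r hr, hG.rc_w i hi j hj r hr, ih j hj]
    congr 1
    by_cases h : j = i
    · rw [if_pos h, if_pos h, hG.cartan_rc i hi r hr]
      congr 1
      apply List.map_congr_left
      intro k hk
      rw [List.mem_range] at hk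
      rw [ih k hk, hsym k hk i hi]
    · rw [if_neg h, if_neg h]

include hG in
theorem cartan_perm {π : Equiv.Perm (Fin D.rank)}
    (hπ : ∀ i k : Fin D.rank, D.cartan (π i) (D.simple (π k)) = D.cartan i (D.simple k)) {r s : ℕ} (hr : r < D.nroots)
    (hs : s < D.nroots) (h : ∀ i : Fin D.rank, rc s (π i) = rc r i) (i : Fin D.rank) :
    D.cartan (π i) s = D.cartan i r := by
  rw [hG.cartan_rc' (π i).2 hs, hG.cartan_rc' i.2 hr, Finset.sum_range, Finset.sum_range,
    ← Equiv.sum_comp π (fun k : Fin D.rank => rc s k * D.cartan (π i) (D.simple k))]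
  refine Finset.sum_congr rfl fun k _ => ?_
  rw [h k, hπ i k]

theorem graph_NN {φ : ↥(D.group F) ≃* ↥(D.group F)} {i j : ℕ}
    (h1 : ∀ t : F, φ (XX hG (D.simple i) t) = XX hG (D.simple j) t)
    (h2 : ∀ t : F, φ (XX hG (D.neg (D.simple i)) t) = XX hG (D.neg (D.simple j)) t) (t : F) :
    φ (NN hG (D.simple i) t) = NN hG (D.simple j) t := by
  unfold NN
  rw [map_mul, map_mul, h1, h2]

theorem NN_conj {i r : ℕ} (hi : i < D.rank) (hr : r < D.nroots) (t : F) :
    NN hG (D.simple i) 1 * XX hG r t * (NN hG (D.simple i) 1)⁻¹ = XX hG (D.reflectRoot i r) (((η i r : ℤ) : F) * t) :=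
  Subtype.ext (hG.ng_conj hi hr t)

include hG in
theorem eta_cases {i r : ℕ} (hi : i < D.rank) (hr : r < D.nroots) :
    ((η i r : ℤ) : F) = 1 ∨ ((η i r : ℤ) : F) = -1 := by
  rcases hG.eta i hi r hr with h | h <;> rw [h]
  · left; simp
  · right; push_cast; rfl

include hG in
theorem graph_root (π : Equiv.Perm (Fin D.rank))
    (hπ : ∀ i k : Fin D.rank, D.cartan (π i) (D.simple (π k)) = D.cartan i (D.simple k))
    {φ : ↥(D.group F) ≃* ↥(D.group F)}
    (h1 : ∀ (i : Fin D.rank) (t : F), φ (XX hG (D.simple i) t) = XX hG (D.simple (π i)) t)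
    (h2 : ∀ (i : Fin D.rank) (t : F), φ (XX hG (D.neg (D.simple i)) t) = XX hG (D.neg (D.simple (π i))) t) :
    ∀ r < D.nroots, ∃ s < D.nroots, (∀ i : Fin D.rank, rc s (π i) = rc r i) ∧
      ∃ ε : F, (ε = 1 ∨ ε = -1) ∧ ∀ t : F, φ (XX hG r t) = XX hG s (ε * t) := by
  refine hG.root_induction (p := fun r => ∃ s < D.nroots, (∀ i : Fin D.rank, rc s (π i) = rc r i) ∧
      ∃ ε : F, (ε = 1 ∨ ε = -1) ∧ ∀ t : F, φ (XX hG r t) = XX hG s (ε * t)) ?_ ?_
  · intro i hi
    refine ⟨D.simple (π ⟨i, hi⟩), hG.simple_lt _ (π ⟨i, hi⟩).2, fun j => ?_, 1, Or.inl rfl, fun t => ?_⟩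
    · rw [hG.rc_simple _ (π ⟨i, hi⟩).2 _ (π j).2, hG.rc_simple i hi _ j.2]
      congr 1
      rw [eq_iff_iff]
      constructor
      · intro h
        have := π.injective (Fin.ext h)
        exact congrArg Fin.val this
      · intro h
        have : j = ⟨i, hi⟩ := Fin.ext h
        rw [this]
    · rw [one_mul]; exact h1 ⟨i, hi⟩ t
  · rintro i hi r hr ⟨s, hs, hrc, ε, hε, h⟩
    set j : Fin D.rank := π ⟨i, hi⟩ with hj
    refine ⟨D.reflectRoot j s, hG.w_lt _ j.2 s hs, fun k => ?_, ((η j s : ℤ) : F) * ε * ((η i r : ℤ) : F), ?_, fun t => ?_⟩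
    · rw [hG.rc_w _ j.2 _ (π k).2 s hs, hG.rc_w i hi _ k.2 r hr, hrc k, cartan_perm hG hπ hr hs hrc ⟨i, hi⟩]
      congr 1
      by_cases h : (k : ℕ) = i
      · have : k = ⟨i, hi⟩ := Fin.ext h
        subst this
        rw [if_pos rfl, if_pos rfl]
      · rw [if_neg h, if_neg]
        intro h'
        have := π.injective (Fin.ext h')
        exact h (congrArg Fin.val this)
    · rcases eta_cases hG (F := F) j.2 hs with e1 | e1 <;> rcases hε with e2 | e2 <;>
        rcases eta_cases hG (F := F) hi hr with e3 | e3 <;> rw [e1, e2, e3] <;> simp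
    · have e1 : XX hG (D.reflectRoot i r) t =
          NN hG (D.simple i) 1 * XX hG r (((η i r : ℤ) : F) * t) * (NN hG (D.simple i) 1)⁻¹ := by
        rw [NN_conj hG hi hr, ← mul_assoc, hG.etaF_sq hi hr, one_mul]
      rw [e1, map_mul, map_mul, map_inv, h, graph_NN hG (h1 ⟨i, hi⟩) (h2 ⟨i, hi⟩), NN_conj hG j.2 hs]
      congr 1
      ring

include hG in
theorem permRoot_eq (hcor : ∀ r < D.nroots, ∀ i < D.rank, cor D r i = rc r i) (π : Equiv.Perm (Fin D.rank)) {r s : ℕ}
    (hr : r < D.nroots) (hs : s < D.nroots) (h : ∀ i : Fin D.rank, rc s (π i) = rc r i) : D.permRoot π r = s := by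
  unfold ChevalleyDatum.permRoot
  have hp : ∀ u < D.nroots, (((List.finRange D.rank).all fun i =>
      (D.coroot.getD u #[]).getD (π i).val 0 == (D.coroot.getD r #[]).getD i.val 0) = true ↔ u = s) := by
    intro u hu
    rw [List.all_eq_true]
    constructor
    · intro h'
      apply hG.rc_inj hu hs
      intro j hj
      have h3 := h' (π.symm ⟨j, hj⟩) (List.mem_finRange _)
      rw [Equiv.apply_symm_apply, beq_iff_eq] at h3
      change cor D u j = cor D r _ at h3
      rw [hcor u hu j hj, hcor r hr _ (π.symm ⟨j, hj⟩).2, ← h (π.symm ⟨j, hj⟩), Equiv.apply_symm_apply] at h3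
      exact h3
    · rintro rfl i _
      rw [beq_iff_eq]
      change cor D u (π i) = cor D r i
      rw [hcor u hu _ (π i).2, hcor r hr _ i.2, h i]
  cases hf : (List.range D.nroots).find? (fun s => (List.finRange D.rank).all fun i =>
      (D.coroot.getD s #[]).getD (π i).val 0 == (D.coroot.getD r #[]).getD i.val 0) with
  | none =>
    have := List.find?_eq_none.1 hf s (List.mem_range.2 hs)
    exact absurd ((hp s hs).2 rfl) this
  | some u =>
    have h1 := List.find?_some hf
    have h2 := List.mem_of_find?_eq_some hf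
    rw [List.mem_range] at h2
    exact (hp u h2).1 h1

end Cfsg.Agent.H15.Chev
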