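import Cfsg.Agent.H15.ChevAut3
import Cfsg.Agent.H15.ChevGr

/-!
# Automorphisms of finite Chevalley groups: the action on simple root subgroups
-/

set_option autoImplicit false
set_option linter.unusedSectionVars false

namespace Cfsg.Agent.H15.Chev

open Cfsg.Agent.H6 Cfsg.Lie Cfsg.Agent.H22 Cfsg.Agent.H16.BNS
open scoped Matrix

variable {D : ChevalleyDatum} {N : ℕ} {η : ℕ → ℕ → ℤ} {rc : ℕ → ℕ → ℤ} {F : Type*} [Field F]
variable (hG : Good D N η rc) (hE : Ext D rc)
include hG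

/-- the longest element sends simple roots to negatives of simple roots -/
theorem longest_simple {w : hG.W} (hw : ∀ r : Fin D.nroots, (N ≤ (r : ℕ) ↔ (w.1 r : ℕ) < N)) (i : Fin D.rank) :
    ∃ j : Fin D.rank, w.1 (hG.sr i) = hG.ngf (hG.sr j) := by
  set r : Fin D.nroots := hG.ngf (w.1 (hG.sr i)) with hr
  have hnn : ∀ x : Fin D.nroots, hG.ngf (hG.ngf x) = x := fun x => Fin.ext (hG.neg_neg' x.2)
  have hwi : (w.1 (hG.sr i) : ℕ) < N := (hw _).1 (hG.sr_pos i)
  have hrN : N ≤ (r : ℕ) := hG.N_le_neg (w.1 (hG.sr i)).2 hwi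
  by_cases hs : ∀ j < D.rank, (r : ℕ) ≠ D.simple j
  · exfalso
    obtain ⟨j, hj, u, hu, huN, hur, hch, hrc⟩ := exists_sub hG r.2 hrN hs
    -- apply `w⁻¹` to `r = p_j + u`
    have h1 : ∀ k < D.rank, rc (r : ℕ) k = ((1 : ℕ) : ℤ) * rc ((hG.sr ⟨j, hj⟩ : Fin D.nroots) : ℕ) k +
        ((1 : ℕ) : ℤ) * rc ((⟨u, hu⟩ : Fin D.nroots) : ℕ) k := by
      intro k hk
      rw [hrc k hk]
      change _ = ((1 : ℕ) : ℤ) * rc (D.simple j) k + _
      push_cast; ring
    have h2 := hG.W_lin w⁻¹ h1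
    have hwneg : ∀ x : Fin D.nroots, N ≤ (x : ℕ) → N ≤ ((hG.ngf ((w⁻¹).1 x) : Fin D.nroots) : ℕ) := by
      intro x hx
      by_contra hcon
      push Not at hcon
      rw [hG.ngf_lt_iff] at hcon
      have h3 := (hw ((w⁻¹).1 x)).1 hcon
      have h4 : w.1 ((w⁻¹).1 x) = x := Equiv.apply_symm_apply w.1 x
      rw [h4] at h3
      omega
    have h3 : (w⁻¹).1 r = hG.ngf (hG.sr i) := by
      rw [hr, hG.W_neg]
      congr 1
      exact Equiv.symm_apply_apply w.1 _
    have hp : ∀ x : Fin D.nroots, N ≤ (x : ℕ) → (∀ k < D.rank, rc ((w⁻¹).1 x : ℕ) k ≤ 0) ∧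
        ∃ k < D.rank, rc ((w⁻¹).1 x : ℕ) k ≤ -1 := by
      intro x hx
      have h4 := hwneg x hx
      have h5 : ∀ k < D.rank, rc ((w⁻¹).1 x : ℕ) k ≤ 0 := by
        intro k hk
        have := hG.rc_pos _ (hG.ngf ((w⁻¹).1 x)).2 h4 k hk
        have h6 : rc (hG.ngf ((w⁻¹).1 x) : ℕ) k = - rc ((w⁻¹).1 x : ℕ) k := hG.rc_neg k hk _ ((w⁻¹).1 x).2
        omega
      refine ⟨h5, ?_⟩
      by_contra hcon
      push Not at hcon
      have h6 : ∀ k < D.rank, rc ((w⁻¹).1 x : ℕ) k = 0 := by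
        intro k hk
        have := h5 k hk
        have := hcon k hk
        omega
      have h7 := hG.cartan_rc
      have h8 := kapf_const_zero D.rank (f := rc ((w⁻¹).1 x : ℕ)) h6
      rcases hG.pos_or_neg ((w⁻¹).1 x) with h9 | h9
      · have := hG.kap_pos ((w⁻¹).1 x).2 h9
        change 0 < kapf D.rank (rc ((w⁻¹).1 x : ℕ)) at this
        omega
      · have := hG.kap_neg' ((w⁻¹).1 x).2 h9
        change kapf D.rank (rc ((w⁻¹).1 x : ℕ)) < 0 at this
        omega
    obtain ⟨a1, k1, hk1, a2⟩ := hp (hG.sr ⟨j, hj⟩) (hG.sr_pos _)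
    obtain ⟨b1, k2, hk2, b2⟩ := hp ⟨u, hu⟩ huN
    have hv : ∀ k < D.rank, rc ((w⁻¹).1 r : ℕ) k = if k = (i : ℕ) then -1 else 0 := by
      intro k hk
      rw [h3]
      change rc (D.neg (D.simple i)) k = _
      rw [hG.rc_neg k hk _ (hG.simple_lt i i.2), hG.rc_simple i i.2 k hk]
      split_ifs <;> simp
    have e1 : k1 = i := by
      by_contra hne
      have e2 := hv k1 hk1
      rw [if_neg hne, h2 k1 hk1, Nat.cast_one, one_mul, one_mul] at e2
      have e3 := b1 k1 hk1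
      linarith
    have e2 : k2 = i := by
      by_contra hne
      have e2 := hv k2 hk2
      rw [if_neg hne, h2 k2 hk2, Nat.cast_one, one_mul, one_mul] at e2
      have e3 := a1 k2 hk2
      linarith
    subst e1
    have e3 := hv i i.2
    rw [if_pos rfl, h2 i i.2, Nat.cast_one, one_mul, one_mul] at e3
    rw [e2] at b2
    linarith
  · push Not at hs
    obtain ⟨j, hj, he⟩ := hs
    refine ⟨⟨j, hj⟩, ?_⟩
    have : hG.sr ⟨j, hj⟩ = r := Fin.ext he.symm
    rw [this, hr, hnn]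

include hE

/-- data of the longest element -/
theorem exists_n0' : ∃ n ∈ D.monomialSubgroup F, ∃ (w : hG.W) (χ : Fin D.nroots → Fˣ), Mon hG (xg D F) n w χ ∧
    (∀ r : Fin D.nroots, (N ≤ (r : ℕ) ↔ (w.1 r : ℕ) < N)) ∧
    (∀ g : GL D.Idx F, n * g * n⁻¹ ∈ D.negUnipotent F ↔ g ∈ D.posUnipotent F) ∧
    (∀ g : GL D.Idx F, n * g * n⁻¹ ∈ D.posUnipotent F ↔ g ∈ D.negUnipotent F) := by
  obtain ⟨w, hw⟩ := hG.exists_longest
  obtain ⟨n, hn, χ, hm⟩ := hG.exists_rep (F := F) hE w
  have h1 : (D.posUnipotent F).map (MulAut.conj n).toMonoidHom = D.negUnipotent F := by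
    rw [hG.posUnipotent_eq_US, hG.negUnipotent_eq_US]
    apply hG.mon_map_US hm (fun r hr => hr.2)
    · intro r
      simp only [Set.mem_ofPred_eq]
      constructor
      · rintro ⟨h1, -⟩; exact (hw r).1 h1
      · intro h1; exact ⟨(hw r).2 h1, r.2⟩
    · intro r hr; exact hG.lt_nroots_of_lt_N hr
  have h2 : (D.negUnipotent F).map (MulAut.conj n).toMonoidHom = D.posUnipotent F := by
    rw [hG.posUnipotent_eq_US, hG.negUnipotent_eq_US]
    apply hG.mon_map_US hm (fun r hr => hG.lt_nroots_of_lt_N hr)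
    · intro r
      simp only [Set.mem_ofPred_eq]
      constructor
      · intro h3
        refine ⟨?_, (w.1 r).2⟩
        by_contra hcon
        have h4 := (hw r).2 (not_le.1 hcon)
        exact absurd h3 (not_lt.2 h4)
      · rintro ⟨h3, -⟩
        by_contra hcon
        have h4 := (hw r).1 (not_lt.1 hcon)
        exact absurd h3 (not_le.2 h4)
    · intro r hr; exact hr.2
  have key : ∀ K : Subgroup (GL D.Idx F), ∀ g : GL D.Idx F, n * g * n⁻¹ ∈ K.map (MulAut.conj n).toMonoidHom ↔ g ∈ K := by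
    intro K g
    constructor
    · rintro ⟨y, hy, hy'⟩
      have hy'' : n * y * n⁻¹ = n * g * n⁻¹ := hy'
      have : y = g := mul_left_cancel (mul_right_cancel hy'')
      rw [← this]; exact hy
    · intro h
      exact ⟨_, h, rfl⟩
  refine ⟨n, hn, w, χ, hm, hw, fun g => ?_, fun g => ?_⟩
  · rw [← h1]; exact key _ g
  · rw [← h2]; exact key _ g

/-- standard automorphisms permute the positive simple root subgroups -/
theorem Std.posX {θ : ↥(D.group F) ≃* ↥(D.group F)} (h : Std θ) (i : Fin D.rank) :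
    ∃ j : Fin D.rank, ∀ t : F, ∃ t' : F, θ (XX hG (D.simple i) t) = XX hG (D.simple j) t' := by
  obtain ⟨n, hn, w, χ, hm, hw, h1, h2⟩ := exists_n0' (F := F) hG hE
  set m : ↥(D.group F) := ⟨n, hG.monomial_le hn⟩ with hmdef
  have h1' : ∀ g : ↥(D.group F), ((m * g * m⁻¹ : ↥(D.group F)) : GL D.Idx F) ∈ D.negUnipotent F ↔
      (g : GL D.Idx F) ∈ D.posUnipotent F := fun g => h1 g
  have h2' : ∀ g : ↥(D.group F), ((m * g * m⁻¹ : ↥(D.group F)) : GL D.Idx F) ∈ D.posUnipotent F ↔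
      (g : GL D.Idx F) ∈ D.negUnipotent F := fun g => h2 g
  -- conjugated automorphism
  set c : ↥(D.group F) ≃* ↥(D.group F) := (MulAut.conj m : ↥(D.group F) ≃* ↥(D.group F)) with hc
  set c' : ↥(D.group F) ≃* ↥(D.group F) := (MulAut.conj m⁻¹ : ↥(D.group F) ≃* ↥(D.group F)) with hc'
  have happ : ∀ g : ↥(D.group F), ((c.trans θ).trans c') g = m⁻¹ * θ (m * g * m⁻¹) * m := by
    intro g
    change m⁻¹ * θ (m * g * m⁻¹) * m⁻¹⁻¹ = _
    rw [inv_inv]
  have hstd : Std ((c.trans θ).trans c') := by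
    constructor
    · intro g
      rw [happ, ← h1' g, ← h1' (m⁻¹ * θ (m * g * m⁻¹) * m)]
      have e : m * (m⁻¹ * θ (m * g * m⁻¹) * m) * m⁻¹ = θ (m * g * m⁻¹) := by group
      rw [e, h.neg]
    · intro g
      rw [happ, ← h2' g, ← h2' (m⁻¹ * θ (m * g * m⁻¹) * m)]
      have e : m * (m⁻¹ * θ (m * g * m⁻¹) * m) * m⁻¹ = θ (m * g * m⁻¹) := by group
      rw [e, h.pos]
  -- the opposition map
  have hop : ∀ i : Fin D.rank, ∃ j : Fin D.rank, w.1 (hG.sr i) = hG.ngf (hG.sr j) := longest_simple hG hw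
  choose op hop using hop
  have hnn : ∀ x : Fin D.nroots, hG.ngf (hG.ngf x) = x := fun x => Fin.ext (hG.neg_neg' x.2)
  have hopi : Function.Injective op := by
    intro a b hab
    have : w.1 (hG.sr a) = w.1 (hG.sr b) := by rw [hop a, hop b, hab]
    have h3 := w.1.injective this
    have h4 : D.simple a = D.simple b := congrArg Fin.val h3
    by_contra hne
    have h5 := hG.rc_simple a a.2 a a.2
    rw [if_pos rfl, h4, hG.rc_simple b b.2 a a.2, if_neg (fun h => hne (Fin.ext h))] at h5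
    exact absurd h5 (by norm_num)
  obtain ⟨k, hk⟩ := (Finite.injective_iff_surjective.1 hopi) i
  obtain ⟨j, hj⟩ := hstd.negX hG hE k
  have hconj : ∀ (a : Fin D.rank) (t : F), ∃ s : F, m * XX hG (D.neg (D.simple a)) t * m⁻¹ = XX hG (D.simple (op a)) s := by
    intro a t
    have h3 := hm.act (hG.ngf (hG.sr a)) t
    have h4 : w.1 (hG.ngf (hG.sr a)) = hG.sr (op a) := by rw [hG.W_neg, hop a, hnn]
    rw [h4] at h3
    exact ⟨_, Subtype.ext h3⟩
  have hconj' : ∀ (a : Fin D.rank) (s : F), ∃ t : F, m * XX hG (D.neg (D.simple a)) t * m⁻¹ = XX hG (D.simple (op a)) s := by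
    intro a s
    have h3 := hm.act (hG.ngf (hG.sr a)) ((χ (hG.ngf (hG.sr a)))⁻¹ * s)
    have h4 : w.1 (hG.ngf (hG.sr a)) = hG.sr (op a) := by rw [hG.W_neg, hop a, hnn]
    rw [h4] at h3
    refine ⟨(χ (hG.ngf (hG.sr a)))⁻¹ * s, Subtype.ext ?_⟩
    refine h3.trans ?_
    rw [← mul_assoc]
    simp only [Units.mul_inv, one_mul]
    rfl
  refine ⟨op j, fun t => ?_⟩
  obtain ⟨s, hs⟩ := hconj' k t
  rw [hk] at hs
  obtain ⟨s', hs'⟩ := hj s
  rw [happ, hs] at hs'
  obtain ⟨t', ht'⟩ := hconj j s'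
  refine ⟨t', ?_⟩
  rw [← ht', ← hs']; group

omit hE in
theorem commTerms_nil {i j : Fin D.rank} (hij : i ≠ j) : D.commTerms (D.simple i) (D.neg (D.simple j)) = [] := by
  rw [List.eq_nil_iff_forall_not_mem]
  intro c hc
  obtain ⟨h1, h2, h3, h4⟩ := hG.commTerms_spec (hG.simple_lt i i.2) (hG.neg_lt' (hG.simple_lt j j.2)) c hc
  have hi := h4 i i.2
  have hj := h4 j j.2
  rw [hG.rc_neg _ i.2 _ (hG.simple_lt j j.2), hG.rc_simple i i.2 _ i.2, hG.rc_simple j j.2 _ i.2, if_pos rfl,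
    if_neg (fun h => hij (Fin.ext h))] at hi
  rw [hG.rc_neg _ j.2 _ (hG.simple_lt j j.2), hG.rc_simple i i.2 _ j.2, hG.rc_simple j j.2 _ j.2, if_pos rfl,
    if_neg (fun h => hij (Fin.ext h).symm)] at hj
  by_cases hN : N ≤ c.1
  · have := hG.rc_pos _ h1 hN j j.2
    omega
  · have := hG.rc_neg_root h1 (by omega) i i.2
    omega

/-- opposite simple root subgroups of distinct nodes commute -/
theorem comm_pos_neg {i j : Fin D.rank} (hij : i ≠ j) (t u : F) :
    XX hG (D.simple i) t * XX hG (D.neg (D.simple j)) u = XX hG (D.neg (D.simple j)) u * XX hG (D.simple i) t := by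
  have hne1 : D.neg (D.simple j) ≠ D.simple i := by
    intro h
    have h1 := simple_neg_lt hG hE j
    have h2 := hG.simple_pos i i.2
    omega
  have hne2 : D.neg (D.simple j) ≠ D.neg (D.simple i) := by
    intro h
    have h1 : D.simple j = D.simple i := by
      rw [← hG.neg_neg' (hG.simple_lt j j.2), h, hG.neg_neg' (hG.simple_lt i i.2)]
    have h5 := hG.rc_simple j j.2 j j.2
    rw [if_pos rfl, h1, hG.rc_simple i i.2 j j.2, if_neg (fun h => hij (Fin.ext h).symm)] at h5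
    exact absurd h5 (by norm_num)
  have h1 := (hG.rd (F := F) hE).comm _ (hG.simple_lt i i.2) _ (hG.neg_lt' (hG.simple_lt j j.2)) hne1 hne2 t u
  have h2 : xw (xg D F) (D.commWord F (D.simple i) (D.neg (D.simple j)) t u) = 1 := by
    unfold ChevalleyDatum.commWord
    rw [commTerms_nil hG hij]
    rfl
  rw [h2, mul_one] at h1
  exact Subtype.ext h1.symm

/-- `n_p(1) x_p(t) n_p(1)⁻¹ = x_{-p}(-t)` -/
theorem NN_conj_pos (i : Fin D.rank) (t : F) :
    NN hG (D.simple i) 1 * XX hG (D.simple i) t * (NN hG (D.simple i) 1)⁻¹ = XX hG (D.neg (D.simple i)) (-t) := by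
  rw [NN_conj hG i.2 (hG.simple_lt i i.2), hG.w_simple, hG.eta_simple i i.2]
  congr 1
  push_cast; ring

theorem simple_ne_neg (i j : Fin D.rank) : D.simple i ≠ D.neg (D.simple j) := by
  intro h
  have h1 := simple_neg_lt hG hE j
  have h2 := hG.simple_pos i i.2
  omega

theorem not_comm_pos_neg (i : Fin D.rank) (h : ∀ t u : F,
    XX hG (D.simple i) t * XX hG (D.neg (D.simple i)) u = XX hG (D.neg (D.simple i)) u * XX hG (D.simple i) t) : False := by
  have h1 := NN_conj_pos (F := F) hG hE i 1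
  have h2 : NN hG (D.simple i) (1 : F) * XX hG (D.simple i) 1 * (NN hG (D.simple i) (1 : F))⁻¹ = XX hG (D.simple i) 1 := by
    have : Commute (NN hG (D.simple i) (1 : F)) (XX hG (D.simple i) (1 : F)) := by
      unfold NN
      have c1 : Commute (XX hG (D.simple i) (1 : F)) (XX hG (D.simple i) (1 : F)) := Commute.refl _
      have c2 : Commute (XX hG (D.neg (D.simple i)) (-1⁻¹ : F)) (XX hG (D.simple i) (1 : F)) := (h 1 _).symm
      exact (c1.mul_left c2).mul_left c1
    rw [this.eq, mul_inv_cancel_right]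
  rw [h1] at h2
  exact simple_ne_neg hG hE i i (XX_inj hG (hG.simple_lt i i.2) (hG.neg_lt' (hG.simple_lt i i.2)) hE one_ne_zero h2.symm)

/-- standard automorphisms permute the nodes -/
theorem Std.both {θ : ↥(D.group F) ≃* ↥(D.group F)} (h : Std θ) (i : Fin D.rank) :
    ∃ j : Fin D.rank, (∀ t : F, ∃ t' : F, θ (XX hG (D.simple i) t) = XX hG (D.simple j) t') ∧
      ∀ t : F, ∃ t' : F, θ (XX hG (D.neg (D.simple i)) t) = XX hG (D.neg (D.simple j)) t' := by
  obtain ⟨j, hj⟩ := h.posX hG hE i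
  obtain ⟨k, hk⟩ := h.negX hG hE i
  by_cases hjk : j = k
  · subst hjk
    exact ⟨j, hj, hk⟩
  · exfalso
    apply not_comm_pos_neg (F := F) hG hE i
    intro t u
    apply θ.injective
    obtain ⟨t', ht⟩ := hj t
    obtain ⟨u', hu⟩ := hk u
    rw [map_mul, map_mul, ht, hu]
    exact comm_pos_neg hG hE hjk t' u'

theorem simple_inj {i j : Fin D.rank} (h : D.simple i = D.simple j) : i = j := by
  by_contra hne
  have h5 := hG.rc_simple i i.2 i i.2
  rw [if_pos rfl, h, hG.rc_simple j j.2 i i.2, if_neg (fun h => hne (Fin.ext h))] at h5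
  exact absurd h5 (by norm_num)

/-- the permutation of the nodes and the functions -/
theorem Std.exists_perm {θ : ↥(D.group F) ≃* ↥(D.group F)} (h : Std θ) :
    ∃ (π : Equiv.Perm (Fin D.rank)) (f g : Fin D.rank → F → F),
      (∀ (i : Fin D.rank) (t : F), θ (XX hG (D.simple i) t) = XX hG (D.simple (π i)) (f i t)) ∧
      (∀ (i : Fin D.rank) (t : F), θ (XX hG (D.neg (D.simple i)) t) = XX hG (D.neg (D.simple (π i))) (g i t)) ∧
      (∀ i s t, f i (s + t) = f i s + f i t) ∧ (∀ i, Function.Bijective (f i)) ∧ (∀ i t, g i t = 0 → t = 0) := by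
  choose p hp hn using h.both hG hE
  choose p' hp' hn' using h.symm.both hG hE
  have hpp : ∀ i, p' (p i) = i := by
    intro i
    obtain ⟨t', ht'⟩ := hp i 1
    obtain ⟨s, hs⟩ := hp' (p i) t'
    rw [← ht', MulEquiv.symm_apply_apply] at hs
    exact (simple_inj hG hE (XX_inj hG (hG.simple_lt i i.2) (hG.simple_lt _ (p' (p i)).2) hE one_ne_zero hs)).symm
  have hpi : Function.Injective p := Function.LeftInverse.injective hpp
  set π : Equiv.Perm (Fin D.rank) := Equiv.ofBijective p (Finite.injective_iff_bijective.1 hpi) with hπ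
  choose f hf using hp
  choose g hg using hn
  refine ⟨π, f, g, hf, hg, ?_, ?_, ?_⟩
  · intro i s t
    apply XX_inj' hG (hG.simple_lt _ (p i).2) hE
    rw [← hf, XX_add, map_mul, hf, hf, XX_add]
  · intro i
    constructor
    · intro s t hst
      apply XX_inj' hG (hG.simple_lt i i.2) hE
      apply θ.injective
      rw [hf, hf, hst]
    · intro t
      obtain ⟨s, hs⟩ := hp' (p i) t
      rw [hpp i] at hs
      refine ⟨s, ?_⟩
      apply XX_inj' hG (hG.simple_lt _ (p i).2) hE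
      rw [← hf, ← hs, MulEquiv.apply_symm_apply]
  · intro i t ht
    apply XX_inj' hG (hG.neg_lt' (hG.simple_lt i i.2)) hE
    apply θ.injective
    rw [hg, ht, XX_zero, XX_zero, map_one]

end Cfsg.Agent.H15.Chev
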