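import Cfsg.Agent.H15.ChevReg
import Mathlib.Analysis.Normed.Module.FiniteDimension
import Mathlib.Topology.Order.Lattice

/-!
# Borel–Tits for finite Chevalley groups, part 1: the coweight space
-/

set_option autoImplicit false
set_option linter.unusedSectionVars false

namespace Cfsg.Agent.H15.Chev

open Cfsg.Agent.H6 Cfsg.Lie Cfsg.Agent.H22
open scoped Matrix

variable {D : ChevalleyDatum} {N : ℕ} {η : ℕ → ℕ → ℤ} {rc : ℕ → ℕ → ℤ} {F : Type*} [Field F]
variable (hG : Good D N η rc) (hE : Ext D rc)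

/-- functions on roots which are linear in the root coordinates -/
def Lin (hG : Good D N η rc) (y : Fin D.nroots → ℝ) : Prop :=
  ∀ r, y r = ∑ j : Fin D.rank, (rc r j : ℝ) * y (hG.sr j)

/-- dominant -/
def Dom (hG : Good D N η rc) (y : Fin D.nroots → ℝ) : Prop := Lin hG y ∧ ∀ j, 0 ≤ y (hG.sr j)

/-- squared norm -/
def nsq (y : Fin D.nroots → ℝ) : ℝ := ∑ r, y r ^ 2

/-- level sets -/
def Lv (y : Fin D.nroots → ℝ) (c : ℝ) : Set ℕ := {r | ∃ h : r < D.nroots, c ≤ y ⟨r, h⟩}

include hG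

theorem Lin.comp {y : Fin D.nroots → ℝ} (hy : Lin hG y) (w : hG.W) : Lin hG (fun r => y (w.1 r)) := by
  intro r
  change y (w.1 r) = ∑ j : Fin D.rank, (rc r j : ℝ) * y (w.1 (hG.sr j))
  rw [hy (w.1 r)]
  calc ∑ k : Fin D.rank, (rc (w.1 r) k : ℝ) * y (hG.sr k)
      = ∑ k : Fin D.rank, (∑ j : Fin D.rank, (rc r j : ℝ) * (rc (w.1 (hG.sr j)) k : ℝ)) * y (hG.sr k) := by
        refine Finset.sum_congr rfl fun k _ => ?_
        rw [hG.rc_W w r k k.2]
        push_cast
        rfl
    _ = ∑ j : Fin D.rank, (rc r j : ℝ) * ∑ k : Fin D.rank, (rc (w.1 (hG.sr j)) k : ℝ) * y (hG.sr k) := by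
        simp_rw [Finset.sum_mul, Finset.mul_sum]
        rw [Finset.sum_comm]
        refine Finset.sum_congr rfl fun j _ => Finset.sum_congr rfl fun k _ => ?_
        ring
    _ = _ := by
        refine Finset.sum_congr rfl fun j _ => ?_
        rw [← hy (w.1 (hG.sr j))]

theorem Lin.add {y z : Fin D.nroots → ℝ} (hy : Lin hG y) (hz : Lin hG z) : Lin hG (fun r => y r + z r) := by
  intro r
  change y r + z r = _
  rw [hy r, hz r, ← Finset.sum_add_distrib]
  refine Finset.sum_congr rfl fun j _ => by ring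

theorem Lin.smul {y : Fin D.nroots → ℝ} (hy : Lin hG y) (c : ℝ) : Lin hG (fun r => c * y r) := by
  intro r
  change c * y r = _
  rw [hy r, Finset.mul_sum]
  refine Finset.sum_congr rfl fun j _ => by ring

theorem Lin.neg {y : Fin D.nroots → ℝ} (hy : Lin hG y) (r : Fin D.nroots) : y (hG.ngf r) = - y r := by
  rw [hy (hG.ngf r), hy r, ← Finset.sum_neg_distrib]
  refine Finset.sum_congr rfl fun j _ => ?_
  have : rc (hG.ngf r) j = - rc r j := hG.rc_neg j j.2 r r.2
  rw [this]
  push_cast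
  ring

theorem Lin.root_add {y : Fin D.nroots → ℝ} (hy : Lin hG y) {r s c : Fin D.nroots} {a b : ℕ}
    (h : ∀ j < D.rank, rc c j = (a : ℤ) * rc r j + (b : ℤ) * rc s j) : y c = a * y r + b * y s := by
  rw [hy c, hy r, hy s, Finset.mul_sum, Finset.mul_sum, ← Finset.sum_add_distrib]
  refine Finset.sum_congr rfl fun j _ => ?_
  rw [h j j.2]
  push_cast
  ring

theorem Dom.pos {y : Fin D.nroots → ℝ} (hy : Dom hG y) {r : Fin D.nroots} (hr : N ≤ (r : ℕ)) : 0 ≤ y r := by
  rw [hy.1 r]
  refine Finset.sum_nonneg fun j _ => mul_nonneg ?_ (hy.2 j)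
  exact_mod_cast hG.rc_pos r r.2 hr j j.2

theorem Dom.neg {y : Fin D.nroots → ℝ} (hy : Dom hG y) {r : Fin D.nroots} (hr : (r : ℕ) < N) : y r ≤ 0 := by
  have h1 := Dom.pos hG hy (r := hG.ngf r) (hG.N_le_neg r.2 hr)
  rw [Lin.neg hG hy.1] at h1
  linarith

theorem Dom.Lv_pos {y : Fin D.nroots → ℝ} (hy : Dom hG y) {c : ℝ} (hc : 0 < c) {r : ℕ} (hr : r ∈ Lv y c) :
    r ∈ posS D N := by
  obtain ⟨h, h1⟩ := hr
  refine ⟨?_, h⟩
  by_contra h2
  push Not at h2
  have := Dom.neg hG hy (r := ⟨r, h⟩) h2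
  linarith

theorem Dom.pClo {y : Fin D.nroots → ℝ} (hy : Dom hG y) {c : ℝ} (hc : 0 < c) : PClo D N (Lv y c) := by
  apply hG.pClo_of
  · intro r hr; exact Dom.Lv_pos hG hy hc hr
  · rintro r ⟨h1, h2⟩ s ⟨h3, h4⟩ e a b he hNe ha hb hab
    refine ⟨he, ?_⟩
    have h5 := Lin.root_add hG hy.1 (r := ⟨r, h1⟩) (s := ⟨s, h3⟩) (c := ⟨e, he⟩) (a := a) (b := b) hab
    rw [h5]
    have ha' : (1 : ℝ) ≤ a := by exact_mod_cast ha
    have hb' : (1 : ℝ) ≤ b := by exact_mod_cast hb
    nlinarith

theorem nsq_comp (y : Fin D.nroots → ℝ) (w : hG.W) : nsq (fun r => y (w.1 r)) = nsq y := by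
  unfold nsq
  exact Equiv.sum_comp w.1 fun r => y r ^ 2

/-- every point has a dominant conjugate -/
theorem exists_dom {y : Fin D.nroots → ℝ} (hy : Lin hG y) : ∃ w : hG.W, Dom hG (fun r => y (w.1 r)) := by
  classical
  let φ : hG.W → ℝ := fun w => ∑ r : Fin D.nroots, (if N ≤ (r : ℕ) then y (w.1 r) else 0)
  haveI : Finite hG.W := inferInstance
  obtain ⟨w, hw⟩ := Finite.exists_max φ
  refine ⟨w, Lin.comp hG hy w, fun i => ?_⟩
  change 0 ≤ y (w.1 (hG.sr i))
  have h1 := hw (w * hG.s i)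
  have h2 : φ (w * hG.s i) = φ w - 2 * y (w.1 (hG.sr i)) := by
    have e1 : φ (w * hG.s i) = ∑ r : Fin D.nroots, (if N ≤ ((hG.s i).1 r : ℕ) then y (w.1 r) else 0) := by
      rw [← Equiv.sum_comp (hG.s i).1]
      refine Finset.sum_congr rfl fun r _ => ?_
      have h3 : (hG.s i).1 ((hG.s i).1 r) = r := by
        have := congrArg (fun v : hG.W => v.1 r) (hG.s_sq i)
        exact this
      rw [h3]
      rfl
    have hne : hG.sr i ≠ hG.ngf (hG.sr i) := by
      intro h
      have h4 := hG.sr_pos i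
      have h5 := (hG.ngf_lt_iff (hG.sr i)).2 h4
      rw [← h] at h5
      omega
    have e2 : ∀ r : Fin D.nroots, (if N ≤ ((hG.s i).1 r : ℕ) then y (w.1 r) else 0) =
        (if N ≤ (r : ℕ) then y (w.1 r) else 0) - (if r = hG.sr i then y (w.1 r) else 0) +
          (if r = hG.ngf (hG.sr i) then y (w.1 r) else 0) := by
      intro r
      have hsq : (hG.s i).1 ((hG.s i).1 r) = r := congrArg (fun v : hG.W => v.1 r) (hG.s_sq i)
      by_cases hr1 : r = hG.sr i
      · subst hr1
        rw [hG.s_sr, if_neg (not_le.2 ((hG.ngf_lt_iff (hG.sr i)).2 (hG.sr_pos i))), if_pos (hG.sr_pos i), if_pos rfl,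
          if_neg hne]
        ring
      · by_cases hr2 : r = hG.ngf (hG.sr i)
        · subst hr2
          have h3 : (hG.s i).1 (hG.ngf (hG.sr i)) = hG.sr i := by
            rw [← hG.s_sr]
            exact congrArg (fun v : hG.W => v.1 (hG.sr i)) (hG.s_sq i)
          rw [h3, if_pos (hG.sr_pos i), if_neg (not_le.2 ((hG.ngf_lt_iff (hG.sr i)).2 (hG.sr_pos i))), if_neg hne.symm,
            if_pos rfl]
          ring
        · rw [if_neg hr1, if_neg hr2]
          by_cases hN : N ≤ (r : ℕ)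
          · rw [if_pos (hG.s_pos hN hr1), if_pos hN]; ring
          · have h5 : ¬ N ≤ ((hG.s i).1 r : ℕ) := by
              intro h6
              have h7 : (hG.s i).1 r ≠ hG.sr i := by
                intro h8
                rw [h8] at hsq
                exact hr2 (by rw [← hsq, hG.s_sr])
              have := hG.s_pos h6 h7
              rw [hsq] at this
              exact hN this
            rw [if_neg h5, if_neg hN]; ring
    rw [e1, Finset.sum_congr rfl fun r _ => e2 r, Finset.sum_add_distrib, Finset.sum_sub_distrib,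
      Finset.sum_ite_eq' Finset.univ, Finset.sum_ite_eq' Finset.univ, if_pos (Finset.mem_univ _),
      if_pos (Finset.mem_univ _), hG.W_neg, Lin.neg hG hy]
    ring
  rw [h2] at h1
  linarith

/-- the stabiliser of a dominant point -/
theorem dom_stab {y : Fin D.nroots → ℝ} (hy : Dom hG y) : ∀ (n : ℕ) (w : hG.W), len hG.s w = n →
    (∀ r, y (w.1 r) = y r) → w ∈ Subgroup.closure {x | ∃ i : Fin D.rank, i ∈ {i : Fin D.rank | y (hG.sr i) = 0} ∧ x = hG.s i} := by
  intro n
  induction n using Nat.strong_induction_on with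
  | _ n ih =>
    intro w hw hwr
    by_cases hall : ∀ i, N ≤ (w.1 (hG.sr i) : ℕ)
    · rw [hG.eq_one_of_pos hall]; exact one_mem _
    · push Not at hall
      obtain ⟨i, hi⟩ := hall
      have h1 := hwr (hG.sr i)
      have h2 := Dom.neg hG hy hi
      have h3 : y (hG.sr i) = 0 := le_antisymm (by rw [← h1]; exact h2) (hy.2 i)
      have h5 : ∀ r, y ((hG.s i).1 r) = y r := by
        intro r
        rw [hy.1 ((hG.s i).1 r), hy.1 r]
        refine Finset.sum_congr rfl fun j _ => ?_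
        have h6 : rc ((hG.s i).1 r) j = rc r j - (if (j : ℕ) = i then D.cartan i r else 0) :=
          hG.rc_w i i.2 j j.2 r r.2
        rw [h6]
        by_cases hji : (j : ℕ) = i
        · have : j = i := Fin.ext hji
          rw [this, h3, mul_zero, mul_zero]
        · rw [if_neg hji, sub_zero]
      have h6 := hG.lt_iff_len.1 hi
      have h7 := ih _ (by rw [← hw]; exact h6) (w * hG.s i) rfl (by
        intro r
        change y (w.1 ((hG.s i).1 r)) = y r
        rw [hwr, h5])
      have h8 : w = w * hG.s i * hG.s i := by rw [mul_assoc, hG.s_sq, mul_one]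
      rw [h8]
      exact mul_mem h7 (Subgroup.subset_closure ⟨i, h3, rfl⟩)

end Cfsg.Agent.H15.Chev
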