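import Cfsg.Agent.H15.ChevBT1
import Cfsg.Agent.H15.ChevCent
import Cfsg.Agent.H15.ChevAut2

/-!
# Borel–Tits for finite Chevalley groups, part 2
-/

set_option autoImplicit false
set_option linter.unusedSectionVars false

namespace Cfsg.Agent.H15.Chev

open Cfsg.Agent.H6 Cfsg.Lie Cfsg.Agent.H22
open scoped Matrix

variable {D : ChevalleyDatum} {N : ℕ} {η : ℕ → ℕ → ℤ} {rc : ℕ → ℕ → ℤ} {F : Type*} [Field F]
variable (hG : Good D N η rc) (hE : Ext D rc)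

/-- the subgroup `V` conjugated by `g` sits at level `c` of `y` -/
def Fit (V : Subgroup (GL D.Idx F)) (g : GL D.Idx F) (y : Fin D.nroots → ℝ) (c : ℝ) : Prop :=
  ∀ v ∈ V, g⁻¹ * v * g ∈ US (xg D F) (Lv y c)

include hG

theorem op_mem_US (τ : ℕ → F) {S : Set ℕ} : ∀ (k m : ℕ), m + k = D.nroots →
    (∀ r, m ≤ r → r < D.nroots → τ r ≠ 0 → r ∈ S) → op (xg D F) τ m k ∈ US (xg D F) S := by
  intro k
  induction k with
  | zero => intro m _ _; rw [op_zero]; exact one_mem _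
  | succ k ih =>
    intro m hm h
    rw [op_succ]
    refine mul_mem ?_ (ih (m + 1) (by omega) fun r h1 h2 h3 => h r (by omega) h2 h3)
    by_cases h0 : τ m = 0
    · rw [h0, hG.xg_zero]; exact one_mem _
    · exact mem_US (h m le_rfl (by omega) h0) _

include hE

theorem borel_norm_Lv {y : Fin D.nroots → ℝ} (hy : Dom hG y) {c : ℝ} (hc : 0 < c) :
    D.borelSubgroup F ≤ Subgroup.normalizer (US (xg D F) (Lv y c) : Set (GL D.Idx F)) := by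
  have hlt : ∀ s ∈ Lv y c, s < D.nroots := fun s hs => hs.1
  refine sup_le ?_ (diag_norm_US hG hE hlt)
  rw [hG.posUnipotent_eq_US, US_le]
  rintro r ⟨hr1, hr2⟩ t
  apply xg_norm_US hG hE hlt hr2
  by_cases hrS : r ∈ Lv y c
  · left; exact hrS
  · right
    intro s hs
    have hsp := Dom.Lv_pos hG hy hc hs
    refine ⟨fun h => hrS (h ▸ hs), hG.ne_neg_of_pos hr2 hr1 hsp.1, ?_⟩
    intro e he
    obtain ⟨h1, h2, h3, h4⟩ := hG.commTerms_spec hr2 hs.1 e he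
    refine ⟨h1, ?_⟩
    have h5 := Lin.root_add hG hy.1 (r := ⟨r, hr2⟩) (s := ⟨s, hs.1⟩) (c := ⟨e.1, h1⟩) (a := e.2.2.1) (b := e.2.2.2) h4
    rw [h5]
    have ha' : (1 : ℝ) ≤ e.2.2.1 := by exact_mod_cast h2
    have hb' : (1 : ℝ) ≤ e.2.2.2 := by exact_mod_cast h3
    have h6 : 0 ≤ y ⟨r, hr2⟩ := Dom.pos hG hy hr1
    obtain ⟨h7, h8⟩ := hs
    nlinarith

theorem Fit.borel {V : Subgroup (GL D.Idx F)} {g : GL D.Idx F} {y : Fin D.nroots → ℝ} (hy : Dom hG y) {c : ℝ}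
    (hc : 0 < c) (h : Fit V g y c) {b : GL D.Idx F} (hb : b ∈ D.borelSubgroup F) : Fit V (g * b) y c := by
  intro v hv
  have h1 := (Subgroup.mem_normalizer_iff.1 (borel_norm_Lv hG hE hy hc (inv_mem hb)) (g⁻¹ * v * g)).1 (h v hv)
  have e : b⁻¹ * (g⁻¹ * v * g) * b⁻¹⁻¹ = (g * b)⁻¹ * v * (g * b) := by group
  rwa [e] at h1

omit hE in
theorem conj_Lv {n : GL D.Idx F} {w : hG.W} {χ : Fin D.nroots → Fˣ} (hm : Mon hG (xg D F) n w χ)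
    {y : Fin D.nroots → ℝ} {c : ℝ} {v : GL D.Idx F} (hv : v ∈ US (xg D F) (Lv y c)) :
    n * v * n⁻¹ ∈ US (xg D F) (Lv (fun r => y ((w⁻¹).1 r)) c) := by
  apply hm.mem_US (S := Lv y c) (fun r hr => hr.1) ?_ hv
  rintro r ⟨h1, h2⟩
  refine ⟨(w.1 r).2, ?_⟩
  have : (w⁻¹).1 (w.1 r) = r := Equiv.symm_apply_apply w.1 r
  change c ≤ y ((w⁻¹).1 (w.1 r))
  rw [this]
  exact h2

/-- the intersection lemma -/
theorem inter_Lv {y y' : Fin D.nroots → ℝ} (hy : Dom hG y) (hy' : Dom hG y') {c c' : ℝ} (hc : 0 < c) (hc' : 0 < c')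
    {n : GL D.Idx F} {w : hG.W} {χ : Fin D.nroots → Fˣ} (hm : Mon hG (xg D F) n w χ) {v' : GL D.Idx F}
    (h' : v' ∈ US (xg D F) (Lv y' c')) (h : n * v' * n⁻¹ ∈ US (xg D F) (Lv y c)) :
    n * v' * n⁻¹ ∈ US (xg D F) (Lv (fun r => y r + y' ((w⁻¹).1 r)) (c + c')) := by
  have hNn := hG.nroots_eq
  have hp : n * v' * n⁻¹ ∈ D.posUnipotent F := by
    rw [hG.posUnipotent_eq_US]
    exact US_mono (fun r hr => Dom.Lv_pos hG hy hc hr) h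
  obtain ⟨τ', h1, h2⟩ := hG.exists_op' (hG.rd hE) (Dom.pClo hG hy' hc') h'
  have h3 : v' ∈ US (xg D F) (Lv y' c' ∩ hG.Upl w) := by
    rw [h2]
    apply op_mem_US hG τ' N N (by omega)
    intro r hr1 hr2 hr3
    refine ⟨?_, hr2, hr1, ?_⟩
    · by_contra hcon; exact hr3 (h1 r hcon)
    · rw [h2] at hp
      exact support_of_conj hG hE hm hp ⟨r, hr2⟩ hr1 hr3
  set T : Set ℕ := {r | ∃ h : r < D.nroots, N ≤ r ∧ N ≤ ((w⁻¹).1 ⟨r, h⟩ : ℕ) ∧ c' ≤ y' ((w⁻¹).1 ⟨r, h⟩)} with hT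
  have h4 : n * v' * n⁻¹ ∈ US (xg D F) T := by
    apply hm.mem_US (S := Lv y' c' ∩ hG.Upl w) (fun r hr => hr.1.1) ?_ h3
    rintro r ⟨⟨h5, h6⟩, h7, h8, h9⟩
    have e : (w⁻¹).1 (w.1 r) = r := Equiv.symm_apply_apply w.1 r
    refine ⟨(w.1 r).2, h9, ?_, ?_⟩
    · change N ≤ ((w⁻¹).1 (w.1 r) : ℕ)
      rw [e]; exact h8
    · change c' ≤ y' ((w⁻¹).1 (w.1 r))
      rw [e]; exact h6
  have hTc : PClo D N T := by
    apply hG.pClo_of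
    · rintro r ⟨h5, h6, -⟩; exact ⟨h6, h5⟩
    · rintro r ⟨hr1, hr2, hr3, hr4⟩ s ⟨hs1, hs2, hs3, hs4⟩ e a b he hNe ha hb hab
      have h5 : ∀ j < D.rank, rc ((w⁻¹).1 ⟨e, he⟩) j = (a : ℤ) * rc ((w⁻¹).1 ⟨r, hr1⟩) j +
          (b : ℤ) * rc ((w⁻¹).1 ⟨s, hs1⟩) j := hG.W_lin w⁻¹ hab
      refine ⟨he, hNe, ?_, ?_⟩
      · obtain ⟨i, hi, h6⟩ : ∃ i < D.rank, 0 < rc ((w⁻¹).1 ⟨r, hr1⟩) i := by
          obtain ⟨i, hi, h6⟩ := hG.cor_ne _ ((w⁻¹).1 ⟨r, hr1⟩).2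
          have h7 := hG.rc_pos _ ((w⁻¹).1 ⟨r, hr1⟩).2 hr3 i hi
          have h8 : rc ((w⁻¹).1 ⟨r, hr1⟩) i ≠ 0 := fun h => h6 ((hE.cor_zero _ ((w⁻¹).1 ⟨r, hr1⟩).2 i hi).2 h)
          exact ⟨i, hi, lt_of_le_of_ne h7 (Ne.symm h8)⟩
        apply pos_of_coef hG ((w⁻¹).1 ⟨e, he⟩).2 hi
        rw [h5 i hi]
        have h9 := hG.rc_pos _ ((w⁻¹).1 ⟨s, hs1⟩).2 hs3 i hi
        have ha' : (0 : ℤ) < a := by exact_mod_cast ha
        have hb' : (0 : ℤ) ≤ b := by positivity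
        have := mul_pos ha' h6
        have := mul_nonneg hb' h9
        omega
      · have h6 := Lin.root_add hG hy'.1 (a := a) (b := b) h5
        change c' ≤ y' ((w⁻¹).1 ⟨e, he⟩)
        rw [h6]
        have ha' : (1 : ℝ) ≤ a := by exact_mod_cast ha
        have hb' : (1 : ℝ) ≤ b := by exact_mod_cast hb
        nlinarith
  obtain ⟨τ₁, h5, h6⟩ := hG.exists_op' (hG.rd hE) hTc h4
  obtain ⟨τ₂, h7, h8⟩ := hG.exists_op' (hG.rd hE) (Dom.pClo hG hy hc) h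
  have h9 := hG.op_inj hE τ₁ τ₂ N N (by omega) le_rfl (h6.symm.trans h8)
  rw [h6]
  apply op_mem_US hG τ₁ N N (by omega)
  intro r hr1 hr2 hr3
  have h10 : r ∈ T := by
    by_contra hcon; exact hr3 (h5 r hcon)
  have h11 : r ∈ Lv y c := by
    by_contra hcon; exact hr3 ((h9 r hr1 hr2).trans (h7 r hcon))
  obtain ⟨h12, h13, h14, h15⟩ := h10
  obtain ⟨h16, h17⟩ := h11
  exact ⟨hr2, add_le_add h17 h15⟩

/-- combining two positions -/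
theorem combine {V : Subgroup (GL D.Idx F)} {y y' : Fin D.nroots → ℝ} (hy : Dom hG y) (hy' : Dom hG y') {c c' : ℝ}
    (hc : 0 < c) (hc' : 0 < c') {g g' : GL D.Idx F} (hg : g ∈ D.group F) (hg' : g' ∈ D.group F)
    (h : Fit V g y c) (h' : Fit V g' y' c') : ∃ b ∈ D.borelSubgroup F, ∃ n ∈ D.monomialSubgroup F,
      ∃ w χ, Mon hG (xg D F) n w χ ∧ ∃ u ∈ D.borelSubgroup F, g⁻¹ * g' = b * n * u ∧
      ∃ g₃ ∈ D.group F, ∃ w₂ : hG.W, Dom hG (fun r => y (w₂.1 r) + y' ((w⁻¹).1 (w₂.1 r))) ∧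
        Fit V g₃ (fun r => y (w₂.1 r) + y' ((w⁻¹).1 (w₂.1 r))) (c + c') := by
  obtain ⟨b, hb, n, hn, w, χ, hm, u, hu, he⟩ := hG.canon hE (mul_mem (inv_mem hg) hg')
  have huB : u ∈ D.borelSubgroup F := by
    refine Subgroup.mem_sup_left ?_
    rw [hG.posUnipotent_eq_US]; exact US_mono (hG.Um_sub w) hu
  obtain ⟨w₂, hw₂⟩ := exists_dom hG (Lin.add hG hy.1 (Lin.comp hG hy'.1 w⁻¹))
  obtain ⟨n₂, hn₂, χ₂, hm₂⟩ := hG.exists_rep (F := F) hE w₂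
  refine ⟨b, hb, n, hn, w, χ, hm, u, huB, he, g * b * n₂,
    mul_mem (mul_mem hg (hG.borel_le hb)) (hG.monomial_le hn₂), w₂, hw₂, ?_⟩
  intro v hv
  have h1 := Fit.borel hG hE hy hc h hb v hv
  have h2 := Fit.borel hG hE hy' hc' h' (inv_mem huB) v hv
  have e1 : g' * u⁻¹ = g * b * n := by
    have : g' = g * (b * n * u) := by rw [← he]; group
    rw [this]; group
  rw [e1] at h2
  have e2 : (g * b)⁻¹ * v * (g * b) = n * ((g * b * n)⁻¹ * v * (g * b * n)) * n⁻¹ := by group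
  rw [e2] at h1
  have h3 := inter_Lv hG hE hy hy' hc hc' hm h2 h1
  rw [← e2] at h3
  have h4 := conj_Lv hG hm₂.inv h3
  rw [inv_inv, inv_inv] at h4
  have e3 : n₂⁻¹ * ((g * b)⁻¹ * v * (g * b)) * n₂ = (g * b * n₂)⁻¹ * v * (g * b * n₂) := by group
  rw [e3] at h4
  exact h4

end Cfsg.Agent.H15.Chev
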