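import Cfsg.Agent.H15.ChevInv9

/-!
# Centralizers of unipotent elements in Chevalley groups: general tools
-/

set_option autoImplicit false
set_option linter.unusedSectionVars false

namespace Cfsg.Agent.H15.Chev

open Cfsg.Agent.H6 Cfsg.Lie Cfsg.Agent.H22
open scoped Matrix

variable {D : ChevalleyDatum} {N : ℕ} {η : ℕ → ℕ → ℤ} {rc : ℕ → ℕ → ℤ} {F : Type*} [Field F]

/-- a set of positive roots such that no positive combination of two members is a root -/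
structure NoSum (D : ChevalleyDatum) (N : ℕ) (rc : ℕ → ℕ → ℤ) (S : Set ℕ) : Prop where
  pos : ∀ r ∈ S, N ≤ r ∧ r < D.nroots
  no : ∀ r ∈ S, ∀ s ∈ S, ∀ c < D.nroots, ∀ a b : ℕ, 1 ≤ a → 1 ≤ b →
    (∀ j < D.rank, rc c j = (a : ℤ) * rc r j + (b : ℤ) * rc s j) → False

theorem NoSum.mono {S T : Set ℕ} (h : NoSum D N rc S) (hT : T ⊆ S) : NoSum D N rc T :=
  ⟨fun r hr => h.pos r (hT hr), fun r hr s hs => h.no r (hT hr) s (hT hs)⟩

theorem noSum_of_level {S : Set ℕ} (hpos : ∀ r ∈ S, N ≤ r ∧ r < D.nroots) {k : ℕ} (hk : k < D.rank) {B : ℤ}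
    (hB : 0 ≤ B) (h1 : ∀ r ∈ S, B ≤ rc r k) (h2 : ∀ c < D.nroots, rc c k < 2 * B) : NoSum D N rc S := by
  refine ⟨hpos, ?_⟩
  intro r hr s hs c hc a b ha hb h
  have h3 := h k hk
  have h4 := h2 c hc
  have h5 := h1 r hr
  have h6 := h1 s hs
  have ha' : (1 : ℤ) ≤ a := by exact_mod_cast ha
  have hb' : (1 : ℤ) ≤ b := by exact_mod_cast hb
  nlinarith [mul_nonneg (show (0 : ℤ) ≤ (a : ℤ) - 1 by omega) (show (0 : ℤ) ≤ rc r k by omega),
    mul_nonneg (show (0 : ℤ) ≤ (b : ℤ) - 1 by omega) (show (0 : ℤ) ≤ rc s k by omega)]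

variable (hG : Good D N η rc) (hE : Ext D rc)

include hG

theorem NoSum.pClo {S : Set ℕ} (h : NoSum D N rc S) : PClo D N S := by
  apply hG.pClo_of h.pos
  intro r hr s hs c a b hc _ ha hb hrc
  exact absurd hrc (fun h' => h.no r hr s hs c hc a b ha hb h')

theorem NoSum.image {S : Set ℕ} (h : NoSum D N rc S) (w : hG.W) :
    NoSum D N rc {r | ∃ s : Fin D.nroots, (s : ℕ) ∈ S ∧ N ≤ (w.1 s : ℕ) ∧ r = w.1 s} := by
  refine ⟨?_, ?_⟩
  · rintro r ⟨s, _, h1, rfl⟩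
    exact ⟨h1, (w.1 s).2⟩
  · rintro _ ⟨r, hr, _, rfl⟩ _ ⟨s, hs, _, rfl⟩ c hc a b ha hb hrc
    have h1 := hG.W_lin w⁻¹ (r := w.1 r) (s := w.1 s) (c := ⟨c, hc⟩) hrc
    have e1 : (w⁻¹).1 (w.1 r) = r := Equiv.symm_apply_apply w.1 r
    have e2 : (w⁻¹).1 (w.1 s) = s := Equiv.symm_apply_apply w.1 s
    rw [e1, e2] at h1
    exact h.no r hr s hs ((w⁻¹).1 ⟨c, hc⟩) ((w⁻¹).1 ⟨c, hc⟩).2 a b ha hb h1

include hE

theorem US_inter {S T : Set ℕ} (hS : PClo D N S) (hT : PClo D N T) {g : GL D.Idx F} (h1 : g ∈ US (xg D F) S)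
    (h2 : g ∈ US (xg D F) T) : g ∈ US (xg D F) (S ∩ T) := by
  have hNn := hG.nroots_eq
  obtain ⟨τ, t1, t2⟩ := hG.exists_op' (hG.rd hE) hS h1
  obtain ⟨τ', t3, t4⟩ := hG.exists_op' (hG.rd hE) hT h2
  have h5 := hG.op_inj hE τ τ' N N (by omega) le_rfl (t2.symm.trans t4)
  rw [t2]
  unfold op
  apply Subgroup.list_prod_mem
  intro x hx
  rw [List.mem_map] at hx
  obtain ⟨r, hr, rfl⟩ := hx
  rw [List.mem_range'_1] at hr
  by_cases hrS : r ∈ S
  · by_cases hrT : r ∈ T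
    · exact mem_US (S := S ∩ T) ⟨hrS, hrT⟩ _
    · rw [h5 r hr.1 (by omega), t3 r hrT, hG.xg_zero]; exact one_mem _
  · rw [t1 r hrS, hG.xg_zero]; exact one_mem _

/-- the Weyl step -/
theorem weyl_mem {S : Set ℕ} (hS : NoSum D N rc S) {s0 : Fin D.nroots}
    {n : GL D.Idx F} {w : hG.W} {χ : Fin D.nroots → Fˣ} (hm : Mon hG (xg D F) n w χ) {Y Y' : GL D.Idx F}
    (hY : Y ∈ US (xg D F) S) (hY' : Y' ∈ US (xg D F) S)
    (hY0 : Y' ∉ US (xg D F) (S \ {(s0 : ℕ)})) (he : n * Y * n⁻¹ = Y') : ((w⁻¹).1 s0 : ℕ) ∈ S := by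
  by_contra hcon
  have hSc := hS.pClo hG
  have hSp : S ⊆ posS D N := fun r hr => hSc.pos r hr
  have hun : S = (S ∩ hG.Upl w) ∪ (S ∩ hG.Um w) := by
    rw [← Set.inter_union_distrib_left, ← hG.posS_eq_union, Set.inter_eq_left.2 hSp]
  obtain ⟨z1, h1, z2, h2, he2⟩ := hG.US_union_mul (hG.rd hE) hSc hun hY
  have h3 : n * z2 * n⁻¹ ∈ D.negUnipotent F := hG.Um_conj hE hm (US_mono Set.inter_subset_right h2)
  have h4 : n * z1 * n⁻¹ ∈ US (xg D F) {r | ∃ s : Fin D.nroots, (s : ℕ) ∈ S ∧ N ≤ (w.1 s : ℕ) ∧ r = w.1 s} := by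
    refine hm.mem_US (fun r hr => (hSc.pos r hr.1).2) ?_ h1
    intro r hr
    exact ⟨r, hr.1, hr.2.2.2, rfl⟩
  have hT := (hS.image hG w).pClo hG
  have h4' : n * z1 * n⁻¹ ∈ D.posUnipotent F := by
    rw [hG.posUnipotent_eq_US]
    exact US_mono (fun r hr => hT.pos r hr) h4
  have hY'p : Y' ∈ D.posUnipotent F := by
    rw [hG.posUnipotent_eq_US]; exact US_mono hSp hY'
  have h5 : n * z2 * n⁻¹ = (n * z1 * n⁻¹)⁻¹ * Y' := by
    rw [← he, he2]; group
  have h6 : n * z2 * n⁻¹ ∈ D.posUnipotent F ⊓ D.negUnipotent F :=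
    Subgroup.mem_inf.2 ⟨by rw [h5]; exact mul_mem (inv_mem h4') hY'p, h3⟩
  rw [hG.pos_inf_neg hE, Subgroup.mem_bot] at h6
  rw [h6] at h5
  have h7 : Y' = n * z1 * n⁻¹ := by
    have : n * z1 * n⁻¹ * 1 = Y' := by rw [h5]; group
    rw [← this, mul_one]
  have h8 := US_inter hG hE hT hSc (by rw [h7]; exact h4) hY'
  apply hY0
  refine US_mono ?_ h8
  rintro r ⟨⟨s, hs, hs2, rfl⟩, hr⟩
  refine ⟨hr, ?_⟩
  rw [Set.mem_singleton_iff]
  intro h9
  apply hcon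
  have h10 : w.1 s = s0 := Fin.ext h9
  rw [← h10]
  have e1 : (w⁻¹).1 (w.1 s) = s := Equiv.symm_apply_apply w.1 s
  rw [e1]; exact hs

omit hE in
/-- the pointwise stabiliser of two roots, a positive combination of which is dominant -/
theorem stab_gen2 {a b : Fin D.nroots} {J : Set ℕ} {α β : ℤ}
    (hdom : ∀ i < D.rank, 0 ≤ α * D.cartan i a + β * D.cartan i b)
    (hJ : ∀ i < D.rank, α * D.cartan i a + β * D.cartan i b = 0 → i ∈ J ∧ D.cartan i a = 0 ∧ D.cartan i b = 0) :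
    ∀ (n : ℕ) (w : hG.W), len hG.s w = n → w.1 a = a → w.1 b = b →
      w ∈ Subgroup.closure {x | ∃ i : Fin D.rank, i ∈ {i : Fin D.rank | (i : ℕ) ∈ J} ∧ x = hG.s i} := by
  intro n
  induction n using Nat.strong_induction_on with
  | _ n ih =>
    intro w hw hwa hwb
    by_cases hall : ∀ i, N ≤ (w.1 (hG.sr i) : ℕ)
    · rw [hG.eq_one_of_pos hall]; exact one_mem _
    · push Not at hall
      obtain ⟨i, hi⟩ := hall
      have h1 := hG.pairing_W w (hG.sr i) a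
      have h1' := hG.pairing_W w (hG.sr i) b
      rw [hwa] at h1
      rw [hwb] at h1'
      have h2 : D.pairing (hG.sr i) a = D.cartan i a := hG.pairing_simple i.2 a.2
      have h2' : D.pairing (hG.sr i) b = D.cartan i b := hG.pairing_simple i.2 b.2
      have h3 : α * D.pairing (w.1 (hG.sr i)) a + β * D.pairing (w.1 (hG.sr i)) b ≤ 0 := by
        rw [hG.pairing_eq, hG.pairing_eq, Finset.mul_sum, Finset.mul_sum, ← Finset.sum_add_distrib]
        refine Finset.sum_nonpos fun k hk => ?_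
        have hk' := Finset.mem_range.1 hk
        have h4 := mul_nonpos_of_nonpos_of_nonneg (cor_neg_le hG (w.1 (hG.sr i)).2 hi hk') (hdom k hk')
        linarith
      have h4 : α * D.cartan i a + β * D.cartan i b = 0 := by
        have := hdom i i.2
        rw [h1, h1', h2, h2'] at h3
        omega
      obtain ⟨hiJ, h5, h5'⟩ := hJ i i.2 h4
      have h6a : (hG.s i).1 a = a := Fin.ext (hG.w_eq_self i.2 a.2 h5)
      have h6b : (hG.s i).1 b = b := Fin.ext (hG.w_eq_self i.2 b.2 h5')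
      have h6 := hG.lt_iff_len.1 hi
      have h7 := ih _ (by rw [← hw]; exact h6) (w * hG.s i) rfl (by
        change w.1 ((hG.s i).1 a) = a
        rw [h6a, hwa]) (by
        change w.1 ((hG.s i).1 b) = b
        rw [h6b, hwb])
      have h8 : w = w * hG.s i * hG.s i := by rw [mul_assoc, hG.s_sq, mul_one]
      rw [h8]
      exact mul_mem h7 (Subgroup.subset_closure ⟨i, hiJ, rfl⟩)

/-- conjugating a root element by another one, even coefficients vanish -/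
theorem even_conj (h2 : (2 : F) = 0) {R : Set ℕ} {s r : ℕ} (hs : s < D.nroots) (hs' : N ≤ s) (hr : r < D.nroots)
    (hr' : N ≤ r) (hc : ∀ c ∈ D.commTerms s r, c.2.1 % 2 = 0 ∨ c.1 ∈ R) (t u : F) :
    ∃ z ∈ US (xg D F) R, xg D F s t * xg D F r u * (xg D F s t)⁻¹ = xg D F r u * z := by
  by_cases he : r = s
  · subst he
    refine ⟨1, one_mem _, ?_⟩
    rw [← hG.xg_add, add_comm, hG.xg_add]; group
  · have h1 := (hG.rd (F := F) hE).comm s hs r hr he (hG.ne_neg_of_pos hs hs' hr') (-t) u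
    refine ⟨xw (xg D F) (D.commWord F s r (-t) u), ?_, ?_⟩
    · apply xw_mem
      intro x hx
      unfold ChevalleyDatum.commWord at hx
      rw [List.mem_map] at hx
      obtain ⟨c, hc', rfl⟩ := hx
      rcases hc c hc' with h | h
      · have : ((c.2.1 : ℤ) : F) = 0 := by
          obtain ⟨k, hk⟩ := Int.dvd_of_emod_eq_zero h
          rw [hk]; push_cast; rw [h2, zero_mul]
        change xg D F c.1 (((c.2.1 : ℤ) : F) * (- -t) ^ c.2.2.1 * u ^ c.2.2.2) ∈ _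
        rw [this, zero_mul, zero_mul, hG.xg_zero]; exact one_mem _
      · exact mem_US h _
    · rw [hG.xg_neg] at h1
      rw [mul_assoc, h1]; group

/-- `U` normalises `US R` -/
theorem even_norm (h2 : (2 : F) = 0) {R : Set ℕ} (hR : ∀ r ∈ R, N ≤ r ∧ r < D.nroots)
    (hc : ∀ s, N ≤ s → s < D.nroots → ∀ r ∈ R, ∀ c ∈ D.commTerms s r, c.2.1 % 2 = 0 ∨ c.1 ∈ R) {u : GL D.Idx F}
    (hu : u ∈ D.posUnipotent F) : ∀ x ∈ US (xg D F) R, u * x * u⁻¹ ∈ US (xg D F) R := by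
  have key : D.posUnipotent F ≤ Subgroup.normalizer (US (xg D F) R : Set (GL D.Idx F)) := by
    rw [hG.posUnipotent_eq_US, US_le]
    rintro s ⟨hs1, hs2⟩ t
    have h1 : ∀ t : F, ∀ x ∈ US (xg D F) R, xg D F s t * x * (xg D F s t)⁻¹ ∈ US (xg D F) R := by
      intro t x hx
      have h3 : US (xg D F) R ≤ (US (xg D F) R).comap (MulAut.conj (xg D F s t)).toMonoidHom := by
        rw [US_le]
        intro r hr u
        rw [Subgroup.mem_comap]
        obtain ⟨z, hz, he⟩ := even_conj hG hE h2 (R := R) hs2 hs1 (hR r hr).2 (hR r hr).1 (hc s hs1 hs2 r hr) t u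
        change xg D F s t * xg D F r u * (xg D F s t)⁻¹ ∈ _
        rw [he]
        exact mul_mem (mem_US hr u) hz
      exact h3 hx
    rw [Subgroup.mem_normalizer_iff]
    intro x
    refine ⟨h1 t x, fun h => ?_⟩
    have h4 := h1 (-t) _ h
    rw [hG.xg_neg, inv_inv] at h4
    have e : (xg D F s t)⁻¹ * (xg D F s t * x * (xg D F s t)⁻¹) * xg D F s t = x := by group
    rwa [e] at h4
  intro x hx
  exact (Subgroup.mem_normalizer_iff.1 (key hu) x).1 hx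

/-- conjugates of `v` under `U` -/
theorem even_coset (h2 : (2 : F) = 0) {R L : Set ℕ} (hR : ∀ r ∈ R, N ≤ r ∧ r < D.nroots)
    (hc : ∀ s, N ≤ s → s < D.nroots → ∀ r ∈ R, ∀ c ∈ D.commTerms s r, c.2.1 % 2 = 0 ∨ c.1 ∈ R)
    (hL : ∀ r ∈ L, N ≤ r ∧ r < D.nroots)
    (hcL : ∀ s, N ≤ s → s < D.nroots → ∀ r ∈ L, ∀ c ∈ D.commTerms s r, c.2.1 % 2 = 0 ∨ c.1 ∈ R) {v : GL D.Idx F}
    (hv : v ∈ US (xg D F) L) {u : GL D.Idx F}
    (hu : u ∈ D.posUnipotent F) : ∃ z ∈ US (xg D F) R, u * v * u⁻¹ = v * z := by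
  have hLU : US (xg D F) L ≤ D.posUnipotent F := by
    rw [hG.posUnipotent_eq_US]; exact US_mono hL
  -- reduce to generators of `US L`
  have k1 : ∀ s, N ≤ s → s < D.nroots → ∀ t : F, ∀ v ∈ US (xg D F) L,
      ∃ z ∈ US (xg D F) R, xg D F s t * v * (xg D F s t)⁻¹ = v * z := by
    intro s hs1 hs2 t v hv
    unfold US at hv
    induction hv using Subgroup.closure_induction with
    | mem x hx =>
      obtain ⟨r, hr, c, rfl⟩ := hx
      exact even_conj hG hE h2 hs2 hs1 (hL r hr).2 (hL r hr).1 (hcL s hs1 hs2 r hr) t c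
    | one => exact ⟨1, one_mem _, by group⟩
    | mul a b ha hb ha' hb' =>
      obtain ⟨z, hz, h3⟩ := ha'
      obtain ⟨z', hz', h4⟩ := hb'
      refine ⟨(b⁻¹ * z * b) * z', mul_mem ?_ hz', ?_⟩
      · have := even_norm hG hE h2 hR hc (inv_mem (hLU hb)) z hz
        rwa [inv_inv] at this
      · have e : xg D F s t * (a * b) * (xg D F s t)⁻¹ =
            (xg D F s t * a * (xg D F s t)⁻¹) * (xg D F s t * b * (xg D F s t)⁻¹) := by group
        rw [e, h3, h4]; group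
    | inv a ha ha' =>
      obtain ⟨z, hz, h3⟩ := ha'
      refine ⟨a * z⁻¹ * a⁻¹, even_norm hG hE h2 hR hc (hLU ha) _ (inv_mem hz), ?_⟩
      have e : xg D F s t * a⁻¹ * (xg D F s t)⁻¹ = (xg D F s t * a * (xg D F s t)⁻¹)⁻¹ := by group
      rw [e, h3]; group
  rw [hG.posUnipotent_eq_US] at hu
  have hun : ∀ u ∈ US (xg D F) {r | N ≤ r ∧ r < D.nroots}, ∀ z ∈ US (xg D F) R, u * z * u⁻¹ ∈ US (xg D F) R := by
    intro u hu
    rw [← hG.posUnipotent_eq_US] at hu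
    exact even_norm hG hE h2 hR hc hu
  revert v
  unfold US at hu
  induction hu using Subgroup.closure_induction with
  | mem x hx =>
    obtain ⟨s, hs, t, rfl⟩ := hx
    intro v hv
    exact k1 s hs.1 hs.2 t v hv
  | one => intro v hv; exact ⟨1, one_mem _, by group⟩
  | mul a b ha hb ha' hb' =>
    intro v hv
    obtain ⟨z, hz, h3⟩ := ha' hv
    obtain ⟨z', hz', h4⟩ := hb' hv
    refine ⟨z * (a * z' * a⁻¹), mul_mem hz (hun a ha z' hz'), ?_⟩
    have e : a * b * v * (a * b)⁻¹ = a * (b * v * b⁻¹) * a⁻¹ := by group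
    rw [e, h4]
    have e' : a * (v * z') * a⁻¹ = (a * v * a⁻¹) * (a * z' * a⁻¹) := by group
    rw [e', h3]; group
  | inv a ha ha' =>
    intro v hv
    obtain ⟨z, hz, h3⟩ := ha' hv
    refine ⟨a⁻¹ * z⁻¹ * a, ?_, ?_⟩
    · have := hun a⁻¹ (inv_mem ha) _ (inv_mem hz)
      rwa [inv_inv] at this
    · have e : v = a * v * a⁻¹ * z⁻¹ := by rw [h3]; group
      have e2 : a⁻¹ * v * a⁻¹⁻¹ = a⁻¹ * (a * v * a⁻¹ * z⁻¹) * a⁻¹⁻¹ := by rw [← e]
      rw [e2]; group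

/-- the centraliser from the Weyl step and the parabolic step -/
theorem cent_gen {J : Set ℕ} {v : GL D.Idx F} {M : Subgroup (GL D.Idx F)}
    (hM : M ≤ D.group F ⊓ Subgroup.centralizer {v}) (hJM : ML D rc F J ≤ M)
    (hW : ∀ n ∈ D.monomialSubgroup F, ∀ (w : hG.W) χ, Mon hG (xg D F) n w χ → ∀ u ∈ D.posUnipotent F,
      ∀ u' ∈ D.posUnipotent F, n * (u * v * u⁻¹) * n⁻¹ = u' * v * u'⁻¹ →
      w ∈ Subgroup.closure {x | ∃ i : Fin D.rank, i ∈ {i : Fin D.rank | (i : ℕ) ∈ J} ∧ x = hG.s i})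
    (hfin : ∀ q ∈ D.unipotentRadical F J, ∀ h ∈ D.diagonalSubgroup F, q * h * v = v * (q * h) → q * h ∈ M) :
    D.group F ⊓ Subgroup.centralizer {v} = M := by
  apply le_antisymm _ hM
  intro g hg0
  obtain ⟨hg, hgc⟩ := Subgroup.mem_inf.1 hg0
  rw [Subgroup.mem_centralizer_singleton_iff] at hgc
  obtain ⟨b, hb, n, hn, w, χ, hm, u, hu, rfl⟩ := hG.canon hE hg
  have huU : u ∈ D.posUnipotent F := by
    rw [hG.posUnipotent_eq_US]; exact US_mono (hG.Um_sub w) hu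
  obtain ⟨v₁, hv₁, h, hh, rfl⟩ := hG.mem_borel_iff.1 hb
  -- absorb the torus part into the monomial element
  have hhN : h ∈ D.monomialSubgroup F := by
    rw [hG.monomial_eq hE]; exact Subgroup.mem_sup_right hh
  obtain ⟨χh, hχh⟩ := hG.HA_mon (hG.rdn hE) (show h ∈ HA D (xg D F) by rw [hG.HA_eq]; exact hh)
  obtain ⟨χn, hhn⟩ : ∃ χn, Mon hG (xg D F) (h * n) w χn := by
    have := hχh.mul hm
    rw [one_mul] at this
    exact ⟨_, this⟩
  have hkey : (h * n) * (u * v * u⁻¹) * (h * n)⁻¹ = v₁⁻¹ * v * v₁⁻¹⁻¹ := by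
    have e1 : (h * n) * (u * v * u⁻¹) * (h * n)⁻¹ = v₁⁻¹ * (v₁ * h * n * u * v) * (v₁ * h * n * u)⁻¹ * v₁ := by group
    rw [e1, hgc]; group
  have hw := hW _ (mul_mem hhN hn) w χn hhn u huU v₁⁻¹ (inv_mem hv₁) hkey
  obtain ⟨m, hmM, hmN, ⟨χ', hm'⟩, h', hh', hn'⟩ := mono_of_WJ hG hE (mul_mem hhN hn) hhn hw
  obtain ⟨q₁, hq₁, y, hy, he1⟩ := pos_decomp hG hE J hv₁
  obtain ⟨q₂, hq₂, z, hz, he2⟩ := pos_decomp hG hE J huU
  -- g = q₁ y m h' q₂ z
  set l := y * m * h' with hl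
  have hlL : l ∈ D.leviSubgroup F J :=
    mul_mem (mul_mem (ML_le_levi hG hE J (UL_le_ML hG J hy)) (ML_le_levi hG hE J hmM)) (diag_le_levi hG hE J hh')
  have hg' : v₁ * h * n * u = (q₁ * (l * q₂ * l⁻¹)) * h' * ((h'⁻¹ * (y * m) * h') * z) := by
    have : v₁ * h * n * u = v₁ * (h * n) * u := by group
    rw [this, hn', he1, he2, hl]; group
  have hq : q₁ * (l * q₂ * l⁻¹) ∈ D.unipotentRadical F J :=
    mul_mem hq₁ (par_norm_rad hG hE J (levi_le_par hG hE J hlL) hq₂)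
  have hmz : (h'⁻¹ * (y * m) * h') * z ∈ ML D rc F J := by
    refine mul_mem ?_ (UL_le_ML hG J hz)
    have := diag_norm_ML hG hE J (inv_mem hh') (mul_mem (UL_le_ML hG J hy) hmM)
    rwa [inv_inv] at this
  have hmzM := hJM hmz
  have hmzC := (Subgroup.mem_inf.1 (hM hmzM)).2
  rw [Subgroup.mem_centralizer_singleton_iff] at hmzC
  rw [hg'] at hgc ⊢
  refine mul_mem (hfin _ hq _ hh' ?_) hmzM
  have c1 : Commute ((q₁ * (l * q₂ * l⁻¹)) * h' * ((h'⁻¹ * (y * m) * h') * z)) v := hgc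
  have c2 : Commute ((h'⁻¹ * (y * m) * h') * z) v := hmzC
  have c3 := c1.mul_left c2.inv_left
  rw [mul_inv_cancel_right] at c3
  exact c3

end Cfsg.Agent.H15.Chev
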