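import Cfsg.Agent.H15.ChevCent3

/-!
# Centralizers of unipotent elements in Chevalley groups, characteristic two
-/

set_option autoImplicit false
set_option linter.unusedSectionVars false

namespace Cfsg.Agent.H15.Chev

open Cfsg.Agent.H6 Cfsg.Lie Cfsg.Agent.H22
open scoped Matrix

variable {D : ChevalleyDatum} {N : ℕ} {η : ℕ → ℕ → ℤ} {rc : ℕ → ℕ → ℤ} {F : Type*} [Field F]
variable (hG : Good D N η rc) (hE : Ext D rc)

include hG

theorem W_stable_iff {L : Set ℕ} (hL : ∀ i < D.rank, ∀ r < D.nroots, r ∈ L → D.reflectRoot i r ∈ L) (w : hG.W) (r : Fin D.nroots) :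
    (w.1 r : ℕ) ∈ L ↔ (r : ℕ) ∈ L := by
  constructor
  · intro h
    have := W_stable hG hL w⁻¹ (w.1 r) h
    have e1 : (w⁻¹).1 (w.1 r) = r := Equiv.symm_apply_apply w.1 r
    rwa [e1] at this
  · exact W_stable hG hL w r

include hE

/-- `ML J` is generated by the root subgroups of the simple roots of `J` and their negatives -/
theorem ML_le_of_simple {J : Set ℕ} {M : Subgroup (GL D.Idx F)}
    (h1 : ∀ j ∈ J, j < D.rank → ∀ t : F, xg D F (D.simple j) t ∈ M)
    (h2 : ∀ j ∈ J, j < D.rank → ∀ t : F, xg D F (D.neg (D.simple j)) t ∈ M) : ML D rc F J ≤ M := by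
  have hng : ∀ j ∈ J, j < D.rank → ng D F j ∈ M := by
    intro j hj hjr
    change ngr D F (D.simple j) 1 ∈ M
    unfold ngr
    exact mul_mem (mul_mem (h1 j hj hjr _) (h2 j hj hjr _)) (h1 j hj hjr _)
  have hcl : Subgroup.closure {g : GL D.Idx F | ∃ i ∈ {i : Fin D.rank | (i : ℕ) ∈ J}, g = ng D F i} ≤ M := by
    rw [Subgroup.closure_le]
    rintro _ ⟨i, hi, rfl⟩
    exact hng i hi i.2
  have hpos : ∀ r : Fin D.nroots, N ≤ (r : ℕ) → (r : ℕ) ∈ Phi D rc J →
      (∀ t : F, xg D F r t ∈ M) ∧ (∀ t : F, xg D F (D.neg r) t ∈ M) := by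
    intro r hN hr
    obtain ⟨w, hw, j, hj, he⟩ := to_simple hG hE r hN hr
    obtain ⟨m, hmC, χ, hm⟩ := exists_mono_of_closure (F := F) hG hE hw
    have hmM := hcl hmC
    constructor
    · intro t
      have h3 := hm.act r t
      rw [he] at h3
      have h4 : m * xg D F r t * m⁻¹ ∈ M := by rw [h3]; exact h1 j hj j.2 _
      have e : xg D F r t = m⁻¹ * (m * xg D F r t * m⁻¹) * m := by group
      rw [e]
      exact mul_mem (mul_mem (inv_mem hmM) h4) hmM
    · intro t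
      have h3 := hm.act (hG.ngf r) t
      rw [hG.W_neg, he] at h3
      have h4 : m * xg D F (D.neg r) t * m⁻¹ ∈ M := by
        have h5 : m * xg D F (hG.ngf r) t * m⁻¹ ∈ M := by rw [h3]; exact h2 j hj j.2 _
        exact h5
      have e : xg D F (D.neg r) t = m⁻¹ * (m * xg D F (D.neg r) t * m⁻¹) * m := by group
      rw [e]
      exact mul_mem (mul_mem (inv_mem hmM) h4) hmM
  rw [US_le]
  intro r hr t
  have hrn := hr.1
  rcases Nat.lt_or_ge r N with h | h
  · have h3 : N ≤ D.neg r := hG.N_le_neg hrn h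
    have h4 := (hpos ⟨D.neg r, hG.neg_lt' hrn⟩ h3 (phi_neg hG hr)).2 t
    change xg D F (D.neg (D.neg r)) t ∈ M at h4
    rwa [hG.neg_neg' hrn] at h4
  · exact (hpos ⟨r, hrn⟩ h hr).1 t

/-- negative simple root elements commuting with a root element -/
theorem neg_simple_comm (h2 : (2 : F) = 0) {k r : ℕ} (hk : k < D.rank) (hr : r < D.nroots) (h0 : D.cartan k r = 0)
    (hc : ∀ c : F, xg D F (D.simple k) c * xg D F r 1 = xg D F r 1 * xg D F (D.simple k) c) (c : F) :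
    xg D F (D.neg (D.simple k)) c * xg D F r 1 = xg D F r 1 * xg D F (D.neg (D.simple k)) c := by
  have hneg1 : (-1 : F) = 1 := by linear_combination -h2
  have hη : ∀ k < D.rank, ∀ s < D.nroots, ((η k s : ℤ) : F) = 1 := by
    intro k hk s hs
    rcases hG.eta k hk s hs with h | h <;> rw [h]
    · simp
    · push_cast; exact hneg1
  have hng : ng D F k * xg D F r 1 * (ng D F k)⁻¹ = xg D F r 1 := by
    have h := hG.ng_conj (F := F) hk hr (1 : F)
    rw [h, hη k hk r hr, mul_one, hG.w_eq_self hk hr h0]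
  have e1 := hG.ng_conj (F := F) hk (hG.neg_lt' (hG.simple_lt k hk)) c
  rw [hη k hk _ (hG.neg_lt' (hG.simple_lt k hk)), one_mul, hG.w_neg k hk _ (hG.simple_lt k hk), hG.w_simple,
    hG.neg_neg' (hG.simple_lt k hk)] at e1
  have e3 := hc c
  rw [← e1, ← hng] at e3
  have e4 : ng D F k * (xg D F (D.neg (D.simple k)) c * xg D F r 1) * (ng D F k)⁻¹ =
      ng D F k * (xg D F r 1 * xg D F (D.neg (D.simple k)) c) * (ng D F k)⁻¹ := by
    calc _ = (ng D F k * xg D F (D.neg (D.simple k)) c * (ng D F k)⁻¹) *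
          (ng D F k * xg D F r 1 * (ng D F k)⁻¹) := by group
      _ = _ := e3
      _ = _ := by group
  exact mul_left_cancel (mul_right_cancel e4)

/-- commuting positive root elements in characteristic two -/
theorem even_comm (h2 : (2 : F) = 0) {s r : ℕ} (hs : s < D.nroots) (hs' : N ≤ s) (hr : r < D.nroots)
    (hr' : N ≤ r) (hc : ∀ c ∈ D.commTerms s r, c.2.1 % 2 = 0) (t u : F) :
    xg D F s t * xg D F r u = xg D F r u * xg D F s t := by
  obtain ⟨z, hz, he⟩ := even_conj hG hE h2 (R := ∅) hs hs' hr hr' (fun c h => Or.inl (hc c h)) t u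
  rw [US_empty, Subgroup.mem_bot] at hz
  rw [hz, mul_one, mul_inv_eq_iff_eq_mul] at he
  exact he

/-- the Weyl step for `v ∈ US L` -/
theorem weyl_step (h2 : (2 : F) = 0) {S R L : Set ℕ} (hS : NoSum D N rc S) (hRS : R ⊆ S) (hLS : L ⊆ S)
    (hc : ∀ s, N ≤ s → s < D.nroots → ∀ r ∈ R, ∀ c ∈ D.commTerms s r, c.2.1 % 2 = 0 ∨ c.1 ∈ R)
    (hcL : ∀ s, N ≤ s → s < D.nroots → ∀ r ∈ L, ∀ c ∈ D.commTerms s r, c.2.1 % 2 = 0 ∨ c.1 ∈ R) {v : GL D.Idx F}
    (hv : v ∈ US (xg D F) L) {a : Fin D.nroots} (haR : (a : ℕ) ∉ R)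
    (hva : v ∉ US (xg D F) (S \ {(a : ℕ)}))
    {n : GL D.Idx F} {w : hG.W} {χ : Fin D.nroots → Fˣ} (hm : Mon hG (xg D F) n w χ) {u u' : GL D.Idx F}
    (hu : u ∈ D.posUnipotent F) (hu' : u' ∈ D.posUnipotent F) (he : n * (u * v * u⁻¹) * n⁻¹ = u' * v * u'⁻¹) :
    ((w⁻¹).1 a : ℕ) ∈ S := by
  have hR : ∀ r ∈ R, N ≤ r ∧ r < D.nroots := fun r hr => hS.pos r (hRS hr)
  have hL : ∀ r ∈ L, N ≤ r ∧ r < D.nroots := fun r hr => hS.pos r (hLS hr)
  obtain ⟨z, hz, h3⟩ := even_coset hG hE h2 hR hc hL hcL hv hu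
  obtain ⟨z', hz', h4⟩ := even_coset hG hE h2 hR hc hL hcL hv hu'
  refine weyl_mem hG hE hS hm (Y := u * v * u⁻¹) (Y' := u' * v * u'⁻¹) ?_ ?_ ?_ he
  · rw [h3]; exact mul_mem (US_mono hLS hv) (US_mono hRS hz)
  · rw [h4]; exact mul_mem (US_mono hLS hv) (US_mono hRS hz')
  · rw [h4]
    intro h5
    apply hva
    have h6 : z' ∈ US (xg D F) (S \ {(a : ℕ)}) := US_mono (S := R) (T := S \ {(a : ℕ)}) (fun r hr => ⟨hRS hr, fun h => haR (by
      rw [Set.mem_singleton_iff] at h; rw [← h]; exact hr)⟩) hz'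
    have e : v = v * z' * z'⁻¹ := by group
    rw [e]
    exact mul_mem h5 (inv_mem h6)

/-- a torus element with trivial parameters outside `J` is in `ML J` -/
theorem tor_mem {J : Set ℕ} {c : ℕ → Fˣ} (hc : ∀ i < D.rank, i ∉ J → c i = 1) :
    tor D F (fun s => ∏ k ∈ Finset.range D.rank, c k ^ D.cartan k s) ∈ ML D rc F J := by
  rw [hG.tor_eq_prod_hgr]
  apply Subgroup.list_prod_mem
  intro x hx
  rw [List.mem_map] at hx
  obtain ⟨i, hi, rfl⟩ := hx
  rw [List.mem_range] at hi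
  by_cases hik : i ∈ J
  · have hp : ∀ t : F, xg D F (D.simple i) t ∈ ML D rc F J := fun t => mem_US (phi_simple hG hik hi) t
    have hn : ∀ t : F, xg D F (D.neg (D.simple i)) t ∈ ML D rc F J := fun t => mem_US (phi_neg hG (phi_simple hG hik hi)) t
    have hngr : ∀ t : F, ngr D F (D.simple i) t ∈ ML D rc F J := by
      intro t
      unfold ngr
      exact mul_mem (mul_mem (hp _) (hn _)) (hp _)
    unfold hgr
    exact mul_mem (hngr _) (hngr _)
  · rw [hc i hi hik, Units.val_one]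
    have : hgr D F (D.simple i) (1 : F) = 1 := by
      unfold hgr
      rw [hG.ngr_neg_one, mul_inv_cancel]
    rw [this]; exact one_mem _

/-- splitting off a root from an element of `US T` -/
theorem split_root {T : Set ℕ} (hT : PClo D N T) {r : ℕ} (hr : r ∈ T) {g : GL D.Idx F} (hg : g ∈ US (xg D F) T) :
    ∃ c : F, ∃ g' ∈ US (xg D F) (T \ {r}), g = xg D F r c * g' := by
  obtain ⟨a, ha, b, hb, he⟩ := hG.US_union_mul (hG.rd hE) (S₁ := {r}) (S₂ := T \ {r}) hT (by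
    rw [Set.union_sdiff_cancel (Set.singleton_subset_iff.2 hr)]) hg
  obtain ⟨c, rfl⟩ := (hG.mem_US_single (hG.rdn hE) (hT.pos r hr).2).1 ha
  exact ⟨c, b, hb, he⟩

end Cfsg.Agent.H15.Chev
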