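import Cfsg.Agent.H15.ChevBT2
import Cfsg.Agent.H15.ChevAut1
import Cfsg.Agent.H6.ChevSimple

/-!
# Centralisers of unipotent radicals of parabolic subgroups
-/

set_option autoImplicit false
set_option linter.unusedSectionVars false

namespace Cfsg.Agent.H15.Chev

open Cfsg.Agent.H6 Cfsg.Lie Cfsg.Agent.H22
open scoped Matrix

/-- connected diagram -/
def Conn (D : ChevalleyDatum) : Prop := ∀ I : Set (Fin D.rank), I.Nonempty → Iᶜ.Nonempty →
  ∃ i ∈ I, ∃ j ∉ I, D.cartan i (D.simple j) ≠ 0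

theorem conn_of {D : ChevalleyDatum} (par : Fin D.rank → Fin D.rank) (root : Fin D.rank) (k : ℕ)
    (hk : ∀ i, par^[k] i = root) (h : ∀ i, i = par i ∨ (D.cartan i (D.simple (par i)) ≠ 0 ∧ D.cartan (par i) (D.simple i) ≠ 0)) :
    Conn D := by
  intro I h1 h2
  rcases conn_of_par par root k hk I h1 h2 with ⟨i, hi, hp⟩ | ⟨i, hi, hp⟩
  · refine ⟨i, hi, par i, hp, ?_⟩
    rcases h i with h3 | h3
    · rw [← h3] at hp; exact absurd hi hp
    · exact h3.1
  · refine ⟨par i, hp, i, hi, ?_⟩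
    rcases h i with h3 | h3
    · rw [← h3] at hp; exact absurd hp hi
    · exact h3.2

variable {D : ChevalleyDatum} {N : ℕ} {η : ℕ → ℕ → ℤ} {rc : ℕ → ℕ → ℤ} {F : Type*} [Field F]
variable (hG : Good D N η rc) (hE : Ext D rc)

include hG

theorem sub_simple {r : ℕ} (hr : r < D.nroots) (hN : N ≤ r) {i : ℕ} (hi : i < D.rank) (hne : r ≠ D.simple i)
    (hc : 0 < D.cartan i r) :
    ∃ u < D.nroots, D.chainRoot (D.neg (D.simple i)) r 1 = some u ∧ ∀ j < D.rank, rc u j = rc r j - rc (D.simple i) j := by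
  have h1 := hG.w_lt_self hi hr hc
  have h2 : D.reflectRoot i r = (D.chainRoot (D.neg (D.simple i)) r (D.cartan i r).toNat).getD r := by
    unfold ChevalleyDatum.reflectRoot
    simp only
    rw [if_neg hne, if_neg, if_pos hc]
    intro h
    have := hG.neg_lt_N (hG.simple_lt i hi) (hG.simple_pos i hi)
    omega
  have h3 : ∃ v, D.chainRoot (D.neg (D.simple i)) r (D.cartan i r).toNat = some v := by
    by_contra hcon
    push Not at hcon
    have : D.chainRoot (D.neg (D.simple i)) r (D.cartan i r).toNat = none := Option.eq_none_iff_forall_ne_some.2 hcon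
    rw [this] at h2
    simp only [Option.getD_none] at h2
    omega
  obtain ⟨v, hv⟩ := h3
  have h4 : ∃ u, D.chainRoot (D.neg (D.simple i)) r 1 = some u := by
    unfold ChevalleyDatum.chainRoot at hv ⊢
    rw [Option.map_eq_some_iff] at hv
    obtain ⟨e, he, -⟩ := hv
    obtain ⟨hk, -⟩ := List.getElem?_eq_some_iff.1 he
    refine ⟨((D.chainEntry (D.neg (D.simple i)) r)[0]'(by omega)).1, ?_⟩
    rw [Option.map_eq_some_iff]
    refine ⟨(D.chainEntry (D.neg (D.simple i)) r)[0]'(by omega), ?_, rfl⟩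
    exact List.getElem?_eq_some_iff.2 ⟨by omega, rfl⟩
  obtain ⟨u, hu⟩ := h4
  obtain ⟨h5, h6⟩ := hG.chainRoot_spec (hG.neg_lt' (hG.simple_lt i hi)) hr le_rfl hu
  refine ⟨u, h5, hu, fun j hj => ?_⟩
  rw [h6 j hj, hG.rc_neg j hj _ (hG.simple_lt i hi)]
  ring

theorem rad_w {J : Set ℕ} {j : ℕ} (hj : j ∈ J) (hjr : j < D.rank) {r : ℕ} (hr : r ∈ posS D N \ Phi D rc J) :
    D.reflectRoot j r ∈ posS D N \ Phi D rc J := by
  have hne : r ≠ D.simple j := fun h => hr.2 (h ▸ phi_simple hG hj hjr)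
  refine ⟨⟨hG.w_pos j hjr r hr.1.2 hr.1.1 hne, hG.w_lt j hjr r hr.1.2⟩, fun h => ?_⟩
  have := phi_w hG hj hjr h
  rw [hG.w_w j hjr r hr.1.2] at this
  exact hr.2 this

theorem rad_pClo (J : Set ℕ) : PClo D N (posS D N \ Phi D rc J) := by
  apply hG.pClo_of
  · intro r hr; exact hr.1
  · intro r hr s hs c a b hc _ _ hb h
    exact rad_add hG (Or.inr hr.1) hs hc hb h

/-- nodes all of whose reflections fix `R` pointwise do not exist -/
theorem exists_cartan_ne (hC : Conn D) {J : Set ℕ} (hJ : ∃ i, i < D.rank ∧ i ∉ J) (j : Fin D.rank) :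
    ∃ r : Fin D.nroots, (r : ℕ) ∈ posS D N \ Phi D rc J ∧ D.cartan j r ≠ 0 := by
  by_contra hcon
  push Not at hcon
  obtain ⟨i₀, hi₀, hi₀J⟩ := hJ
  have hsimp : ∀ i : Fin D.rank, (i : ℕ) ∉ J → (hG.sr i : ℕ) ∈ posS D N \ Phi D rc J := fun i hi =>
    ⟨⟨hG.sr_pos i, (hG.sr i).2⟩, fun h => hi ((simple_mem_phi_iff hG i.2).1 h)⟩
  obtain ⟨i, hi, k, hk, hik⟩ := hC {i | ∀ r : Fin D.nroots, (r : ℕ) ∈ posS D N \ Phi D rc J → D.cartan i r = 0} ⟨j, hcon⟩
    ⟨⟨i₀, hi₀⟩, fun h => by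
      have := h (hG.sr ⟨i₀, hi₀⟩) (hsimp ⟨i₀, hi₀⟩ hi₀J)
      have h2 : D.cartan i₀ (D.simple i₀) = 2 := hG.cartan_diag i₀ hi₀
      change D.cartan i₀ (D.simple i₀) = 0 at this
      omega⟩
  simp only [Set.mem_ofPred_eq] at hi hk
  push Not at hk
  obtain ⟨r, hr, hkr⟩ := hk
  by_cases hkJ : (k : ℕ) ∈ J
  · have h1 := hi ((hG.s k).1 r) (rad_w hG hkJ k.2 hr)
    have h2 : D.cartan i ((hG.s k).1 r) = D.cartan i r - D.cartan i (D.simple k) * D.cartan k r :=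
      hG.cartan_w k k.2 i i.2 r r.2
    rw [h2, hi r hr] at h1
    have h3 : D.cartan i (D.simple k) * D.cartan k r = 0 := by omega
    rcases mul_eq_zero.1 h3 with h | h
    · exact hik h
    · exact hkr h
  · exact hik (hi (hG.sr k) (hsimp k hkJ))

/-- a Weyl element fixing `R` pointwise is trivial -/
theorem eq_one_of_fix (hC : Conn D) {J : Set ℕ} (hJ : ∃ i, i < D.rank ∧ i ∉ J) {w : hG.W}
    (hw : ∀ r : Fin D.nroots, (r : ℕ) ∈ posS D N \ Phi D rc J → w.1 r = r) : w = 1 := by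
  apply hG.eq_one_of_pos
  intro j
  have h0 : w.1 (hG.sr j) = hG.sr j := by
    by_cases hjJ : (j : ℕ) ∈ J
    · obtain ⟨r, hr, hjr⟩ := exists_cartan_ne hG hC hJ j
      have h1 := hw r hr
      have h2 := hw ((hG.s j).1 r) (rad_w hG hjJ j.2 hr)
      have h3 : ∀ k < D.rank, rc ((hG.s j).1 r) k = rc r k - (if k = j then D.cartan j r else 0) := fun k hk =>
        hG.rc_w j j.2 k hk r r.2
      apply Fin.ext
      apply hG.rc_inj (w.1 (hG.sr j)).2 (hG.sr j).2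
      intro k hk
      have h4 := hG.rc_W w ((hG.s j).1 r) k hk
      have h5 := hG.rc_W w r k hk
      rw [h2] at h4
      rw [h1] at h5
      have h6 : rc r k - rc ((hG.s j).1 r) k = D.cartan j r * rc (w.1 (hG.sr j)) k := by
        rw [h4, h5, ← Finset.sum_sub_distrib, Finset.sum_eq_single j]
        · rw [h3 j j.2, if_pos rfl]; ring
        · intro b _ hb
          rw [h3 b b.2, if_neg (fun h => hb (Fin.ext h))]; ring
        · intro h; exact absurd (Finset.mem_univ j) h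
      rw [h3 k hk] at h6
      have h7 : rc (hG.sr j) k = if k = j then 1 else 0 := hG.rc_simple j j.2 k hk
      rw [h7]
      by_cases hkj : k = j
      · rw [if_pos hkj] at h6 ⊢
        have : D.cartan j r * rc (w.1 (hG.sr j)) k = D.cartan j r * 1 := by rw [← h6]; ring
        exact mul_left_cancel₀ hjr this
      · rw [if_neg hkj] at h6 ⊢
        have : D.cartan j r * rc (w.1 (hG.sr j)) k = D.cartan j r * 0 := by rw [← h6]; ring
        exact mul_left_cancel₀ hjr this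
    · exact hw _ ⟨⟨hG.sr_pos j, (hG.sr j).2⟩, fun h => hjJ ((simple_mem_phi_iff hG j.2).1 h)⟩
  rw [h0]
  exact hG.sr_pos j

include hE

/-- root elements in `US S` -/
theorem mem_of_xg_mem {S : Set ℕ} (hS : PClo D N S) {r : ℕ} (hr : r < D.nroots) {c : F} (hc : c ≠ 0)
    (h : xg D F r c ∈ US (xg D F) S) : r ∈ S := by
  have hNn := hG.nroots_eq
  have hpos : xg D F r c ∈ D.posUnipotent F := by
    rw [hG.posUnipotent_eq_US]
    exact US_mono (fun r hr => hS.pos r hr) h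
  have hN : N ≤ r := by
    by_contra hcon
    have : xg D F r c ∈ D.posUnipotent F ⊓ D.negUnipotent F :=
      Subgroup.mem_inf.2 ⟨hpos, hG.xg_mem_neg (by omega) _⟩
    rw [hG.pos_inf_neg hE, Subgroup.mem_bot] at this
    exact hG.xg_ne_one hE hr hc this
  obtain ⟨τ, h1, h2, -⟩ := conj_lead hG hE (one_mem (D.posUnipotent F)) hN hr c
  rw [one_mul, inv_one, mul_one] at h1
  obtain ⟨τ', h3, h4⟩ := hG.exists_op' (hG.rd hE) hS h
  have h5 := hG.op_inj hE τ τ' N N (by omega) le_rfl (h1.symm.trans h4) r hN hr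
  by_contra hcon
  rw [h3 r hcon, h2] at h5
  exact hc h5

/-- if `n y n⁻¹ ∈ U_{≥ m}` then the components of `y ∈ U` are at roots mapped to `≥ m` -/
theorem support_ge {n : GL D.Idx F} {w : hG.W} {χ : Fin D.nroots → Fˣ} (hm : Mon hG (xg D F) n w χ)
    {τ : ℕ → F} {m : ℕ} (h : n * op (xg D F) τ N N * n⁻¹ ∈ US (xg D F) ({r | N ≤ r ∧ r < D.nroots} ∩ {k | m ≤ k}))
    (r : Fin D.nroots) (hr : N ≤ (r : ℕ)) (ht : τ r ≠ 0) : m ≤ (w.1 r : ℕ) := by
  have hNn := hG.nroots_eq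
  set T0 : Set ℕ := {r | N ≤ r ∧ r < D.nroots} ∩ {k | m ≤ k} with hT0
  have hT0c : PClo D N T0 := hG.pClo_ge hG.pClo_all m
  have hun : T0 = (T0 ∩ hG.Upl w⁻¹) ∪ (T0 ∩ hG.Um w⁻¹) := by
    rw [← Set.inter_union_distrib_left, ← hG.posS_eq_union, Set.inter_eq_left.2]
    intro k hk; exact hk.1
  obtain ⟨z1, h1, z2, h2, he⟩ := hG.US_union_mul (hG.rd hE) hT0c hun h
  have hu := hG.op_mem_pos (F := F) τ
  have h3 : n⁻¹ * z2 * n ∈ D.negUnipotent F := by
    have := hG.Um_conj hE hm.inv (US_mono Set.inter_subset_right h2)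
    rwa [inv_inv] at this
  have h4 : n⁻¹ * z1 * n ∈ D.posUnipotent F := by
    have := hG.Upl_conj hE hm.inv (US_mono Set.inter_subset_right h1)
    rwa [inv_inv] at this
  have h5 : n⁻¹ * z2 * n = (n⁻¹ * z1 * n)⁻¹ * op (xg D F) τ N N := by
    have e : op (xg D F) τ N N = n⁻¹ * (z1 * z2) * n := by rw [← he]; group
    rw [e]; group
  have h6 : n⁻¹ * z2 * n ∈ D.posUnipotent F ⊓ D.negUnipotent F :=
    Subgroup.mem_inf.2 ⟨by rw [h5]; exact mul_mem (inv_mem h4) hu, h3⟩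
  rw [hG.pos_inf_neg hE, Subgroup.mem_bot] at h6
  have h7 : op (xg D F) τ N N = n⁻¹ * z1 * n := by
    rw [h6] at h5
    have := eq_inv_mul_iff_mul_eq.1 h5
    rw [← this, mul_one]
  set T : Set ℕ := {s | ∃ hs : s < D.nroots, N ≤ s ∧ N ≤ (w.1 ⟨s, hs⟩ : ℕ) ∧ m ≤ (w.1 ⟨s, hs⟩ : ℕ)} with hT
  have hTc : PClo D N T := by
    apply hG.pClo_of
    · rintro s ⟨h1, h2, -⟩; exact ⟨h2, h1⟩
    · rintro s ⟨hs1, hs2, hs3, hs4⟩ s' ⟨ht1, ht2, ht3, ht4⟩ e a b he hNe ha hb hab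
      have h8 := hG.W_lin w (r := ⟨s, hs1⟩) (s := ⟨s', ht1⟩) (c := ⟨e, he⟩) hab
      have h9 := hG.kap_lin h8
      have h10 := hG.kap_pos (w.1 ⟨s, hs1⟩).2 hs3
      have h11 := hG.kap_pos (w.1 ⟨s', ht1⟩).2 ht3
      have h12 : (w.1 ⟨s, hs1⟩ : ℕ) < w.1 ⟨e, he⟩ := by
        rw [← hG.kap_lt_iff (w.1 ⟨s, hs1⟩).2 (w.1 ⟨e, he⟩).2, h9]
        have ha' : (1 : ℤ) ≤ a := by exact_mod_cast ha
        have hb' : (1 : ℤ) ≤ b := by exact_mod_cast hb
        nlinarith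
      exact ⟨he, hNe, by omega, by omega⟩
  have h8 : op (xg D F) τ N N ∈ US (xg D F) T := by
    rw [h7]
    have := hm.inv.mem_US (S := T0 ∩ hG.Upl w⁻¹) (T := T) (fun r hr => hr.1.1.2) (by
      rintro s ⟨⟨⟨h1, h2⟩, h3⟩, h4, h5, h6⟩
      have e : w.1 ((w⁻¹).1 s) = s := Equiv.apply_symm_apply w.1 s
      refine ⟨((w⁻¹).1 s).2, h6, ?_, ?_⟩
      · change N ≤ (w.1 ((w⁻¹).1 s) : ℕ)
        rw [e]; exact h1
      · change m ≤ (w.1 ((w⁻¹).1 s) : ℕ)
        rw [e]; exact h3) h1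
    rwa [inv_inv] at this
  obtain ⟨τ', h9, h10⟩ := hG.exists_op' (hG.rd hE) hTc h8
  have h11 := hG.op_inj hE τ τ' N N (by omega) le_rfl h10 r hr r.2
  by_contra hcon
  apply ht
  rw [h11]
  apply h9
  rintro ⟨_, -, -, h12⟩
  exact hcon h12

/-- **the centraliser of the unipotent radical lies in `U`** -/
theorem cent_rad (hC : Conn D) {J : Set ℕ} (hJ : ∃ i, i < D.rank ∧ i ∉ J) {z : GL D.Idx F}
    (hz : z ∈ D.parabolicSubgroup F J) (hc : ∀ g ∈ D.unipotentRadical F J, z * g * z⁻¹ = g) :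
    z ∈ D.posUnipotent F := by
  rw [radical_eq hG hE] at hc
  have hPG : D.parabolicSubgroup F J ≤ D.group F := by
    rw [parabolic_gen hG]
    refine sup_le hG.borel_le ?_
    rw [Subgroup.closure_le]
    rintro _ ⟨j, _, hj, rfl⟩
    exact hG.ng_mem_group j
  obtain ⟨b, hb, n, hn, w, χ, hm, u, hu, he⟩ := hG.canon hE (hPG hz)
  have huU : u ∈ D.posUnipotent F := by
    rw [hG.posUnipotent_eq_US]; exact US_mono (hG.Um_sub w) hu
  have hBP : D.borelSubgroup F ≤ D.parabolicSubgroup F J := le_sup_left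
  have hnP : n ∈ D.parabolicSubgroup F J := by
    have : n = b⁻¹ * z * u⁻¹ := by rw [he]; group
    rw [this]
    exact mul_mem (mul_mem (inv_mem (hBP hb)) hz) (inv_mem (hBP (Subgroup.mem_sup_left huU)))
  have hnR := parabolic_le_normalizer hG hE J hnP
  rw [radical_eq hG hE] at hnR
  have hwR : ∀ r : Fin D.nroots, (r : ℕ) ∈ posS D N \ Phi D rc J → (w.1 r : ℕ) ∈ posS D N \ Phi D rc J := by
    intro r hr
    have h1 := (Subgroup.mem_normalizer_iff.1 hnR (xg D F r 1)).1 (mem_US hr 1)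
    rw [hm.act] at h1
    exact mem_of_xg_mem hG hE (rad_pClo hG J) (w.1 r).2 (by simp) h1
  obtain ⟨v, hv, h, hh, hvh⟩ := hG.mem_borel_iff.1 hb
  have hge : ∀ r : Fin D.nroots, (r : ℕ) ∈ posS D N \ Phi D rc J → (r : ℕ) ≤ (w.1 r : ℕ) := by
    intro r hr
    obtain ⟨τ, h1, h2, -⟩ := conj_lead hG hE huU hr.1.1 r.2 (1 : F)
    refine support_ge hG hE hm (τ := τ) (m := r) ?_ r hr.1.1 (by rw [h2]; exact one_ne_zero)
    rw [← h1]
    have h3 := hc _ (mem_US hr 1)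
    have h4 : n * (u * xg D F r 1 * u⁻¹) * n⁻¹ = h⁻¹ * (v⁻¹ * xg D F r 1 * v⁻¹⁻¹) * h⁻¹⁻¹ := by
      calc n * (u * xg D F r 1 * u⁻¹) * n⁻¹ = b⁻¹ * ((b * n * u) * xg D F r 1 * (b * n * u)⁻¹) * b := by group
        _ = b⁻¹ * xg D F r 1 * b := by rw [← he, h3]
        _ = _ := by rw [hvh]; group
    rw [h4]
    have hv' : v⁻¹ ∈ US (xg D F) {r | N ≤ r ∧ r < D.nroots} := by
      rw [← hG.posUnipotent_eq_US]; exact inv_mem hv
    have hx : xg D F r 1 ∈ US (xg D F) ({r | N ≤ r ∧ r < D.nroots} ∩ {k | (r : ℕ) ≤ k}) :=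
      mem_US (S := {r | N ≤ r ∧ r < D.nroots} ∩ {k | (r : ℕ) ≤ k}) ⟨⟨hr.1.1, r.2⟩, le_refl (r : ℕ)⟩ 1
    have h5 := hG.conj_mem_US' (hG.rd hE) hG.pClo_all hv' r hx
    exact (Subgroup.mem_normalizer_iff.1 (diag_norm_US hG hE (fun s hs => hs.1.2) (inv_mem hh)) _).1 h5
  -- `w` fixes `R` pointwise
  have hfix : ∀ r : Fin D.nroots, (r : ℕ) ∈ posS D N \ Phi D rc J → w.1 r = r := by
    classical
    set R : Finset (Fin D.nroots) := Finset.univ.filter fun r => (r : ℕ) ∈ posS D N \ Phi D rc J with hR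
    have h1 : R.map w.1.toEmbedding = R := by
      apply Finset.eq_of_subset_of_card_le
      · intro r hr
        rw [Finset.mem_map] at hr
        obtain ⟨s, hs, rfl⟩ := hr
        rw [hR, Finset.mem_filter] at hs ⊢
        exact ⟨Finset.mem_univ _, hwR s hs.2⟩
      · rw [Finset.card_map]
    have h2 : ∑ r ∈ R, (w.1 r : ℕ) = ∑ r ∈ R, (r : ℕ) := by
      conv_rhs => rw [← h1]
      rw [Finset.sum_map]
      rfl
    have h3 := (Finset.sum_eq_sum_iff_of_le (s := R) (f := fun r => (r : ℕ)) (g := fun r => (w.1 r : ℕ)) (by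
      intro r hr
      rw [hR, Finset.mem_filter] at hr
      exact hge r hr.2)).1 h2.symm
    intro r hr
    exact Fin.ext (h3 r (by rw [hR, Finset.mem_filter]; exact ⟨Finset.mem_univ _, hr⟩)).symm
  have hw1 := eq_one_of_fix hG hC hJ hfix
  subst hw1
  have hnH := hG.mem_diagonal_of_mon hE hn hm
  have hzB : z ∈ D.borelSubgroup F := by
    rw [he]
    exact mul_mem (mul_mem hb (Subgroup.mem_sup_right hnH)) (Subgroup.mem_sup_left huU)
  clear hwR hge hfix hnR hnP he hvh hv hh hu huU hb hn hnH hm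
  obtain ⟨v, hv, h, hh, rfl⟩ := hG.mem_borel_iff.1 hzB
  rw [hG.mem_diagonal_iff] at hh
  obtain ⟨c, rfl⟩ := hh
  set χ : ℕ → Fˣ := fun s => ∏ k ∈ Finset.range D.rank, c k ^ D.cartan k s with hχ
  have hχc : IsChr D χ := hG.isChr_cartan c
  -- the character is trivial on `R`
  have hR1 : ∀ r ∈ posS D N \ Phi D rc J, χ r = 1 := by
    intro r hr
    obtain ⟨τ, h1, h2, -⟩ := conj_lead hG hE hv hr.1.1 hr.1.2 ((χ r : F) * 1)
    obtain ⟨τ', h1', h2', -⟩ := conj_lead hG hE (one_mem (D.posUnipotent F)) hr.1.1 hr.1.2 (1 : F)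
    have h3 := hc _ (mem_US hr 1)
    have h4 : v * tor D F χ * xg D F r 1 * (v * tor D F χ)⁻¹ = v * (tor D F χ * xg D F r 1 * (tor D F χ)⁻¹) * v⁻¹ := by
      group
    rw [h4, hG.tor_conj_xg hχc hr.1.2, h1] at h3
    rw [one_mul, inv_one, mul_one] at h1'
    have hNn := hG.nroots_eq
    have h5 := hG.op_inj hE τ τ' N N (by omega) le_rfl (h3.trans h1') r hr.1.1 hr.1.2
    rw [h2, h2', mul_one] at h5
    exact Units.ext h5
  have hs1 : ∀ j : Fin D.rank, χ (D.simple j) = 1 := by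
    intro j
    by_cases hjJ : (j : ℕ) ∈ J
    · obtain ⟨r', hr', hjr'⟩ := exists_cartan_ne hG hC hJ j
      obtain ⟨r, hr, hjr⟩ : ∃ r : Fin D.nroots, (r : ℕ) ∈ posS D N \ Phi D rc J ∧ 0 < D.cartan j r := by
        rcases lt_or_gt_of_ne hjr' with h | h
        · refine ⟨(hG.s j).1 r', rad_w hG hjJ j.2 hr', ?_⟩
          have h2 : D.cartan j ((hG.s j).1 r') = D.cartan j r' - D.cartan j (D.simple j) * D.cartan j r' :=
            hG.cartan_w j j.2 j j.2 r' r'.2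
          rw [h2, hG.cartan_diag j j.2]; omega
        · exact ⟨r', hr', h⟩
      have hne : (r : ℕ) ≠ D.simple j := fun h => hr.2 (h ▸ phi_simple hG hjJ j.2)
      obtain ⟨s, hs, hsc, hsr⟩ := sub_simple hG r.2 hr.1.1 j.2 hne hjr
      have hsR : s ∈ posS D N \ Phi D rc J := by
        obtain ⟨i, hi, hiJ, hi0⟩ := exists_coef hG hr
        have hij : i ≠ j := fun h => hiJ (h ▸ hjJ)
        have h3 : 0 < rc s i := by
          rw [hsr i hi, hG.rc_simple j j.2 i hi, if_neg hij, sub_zero]; exact hi0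
        refine ⟨⟨pos_of_coef hG hs hi h3, hs⟩, fun hphi => ?_⟩
        rw [hphi.2 i hi hiJ] at h3
        exact lt_irrefl _ h3
      unfold ChevalleyDatum.chainRoot at hsc
      rw [Option.map_eq_some_iff] at hsc
      obtain ⟨e, he, hes⟩ := hsc
      obtain ⟨hk, hk'⟩ := List.getElem?_eq_some_iff.1 he
      have h4 := hχc.chain (D.neg (D.simple j)) (hG.neg_lt' (hG.simple_lt j j.2)) r r.2 0 hk
      have h5 : ((D.chainEntry (D.neg (D.simple j)) r)[0]).1 = s := by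
        rw [← hes]
        exact congrArg Prod.fst hk'
      rw [h5, zero_add, pow_one, hR1 s hsR, hR1 r hr, mul_one, hχc.neg _ (hG.simple_lt j j.2)] at h4
      exact (inv_eq_one.1 h4.symm)
    · exact hR1 _ ⟨⟨hG.sr_pos j, (hG.sr j).2⟩, fun h => hjJ ((simple_mem_phi_iff hG j.2).1 h)⟩
  have htor : tor D F χ = 1 := by
    have hχ1 := rchr_eq hG (rchr_of_isChr hG hχc)
    rw [← tor_one, tor_eq_iff]
    intro r hr
    have h1 := hχ1 r hr
    have h2 : (fun i => χ (D.simple i)) = fun i => χ (D.simple i) := rfl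
    rw [h1]
    unfold chr
    refine Finset.prod_eq_one ?_
    intro i hi
    change χ (D.simple i) ^ _ = 1
    rw [hs1 ⟨i, Finset.mem_range.1 hi⟩, one_zpow]
  rw [htor, mul_one]
  exact hv

end Cfsg.Agent.H15.Chev
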