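import Cfsg.Agent.H15.ChevLevi

/-!
# Gradings and matrix coefficients
-/

set_option autoImplicit false
set_option linter.unusedSectionVars false

namespace Cfsg.Agent.H15.Chev

open Cfsg.Agent.H6 Cfsg.Lie Cfsg.Agent.H22
open scoped Matrix

variable {D : ChevalleyDatum} {N : ℕ} {η : ℕ → ℕ → ℤ} {rc : ℕ → ℕ → ℤ} {F : Type*} [Field F]

/-- grading of the basis by a function on roots -/
def gf (D : ChevalleyDatum) (f : ℕ → ℤ) : D.Idx → ℤ
  | Sum.inl _ => 0
  | Sum.inr s => f s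

/-- additive functions on roots -/
structure Addf (D : ChevalleyDatum) (rc : ℕ → ℕ → ℤ) (f : ℕ → ℤ) : Prop where
  lin : ∀ r < D.nroots, ∀ s < D.nroots, ∀ c < D.nroots, ∀ k : ℤ, (∀ i < D.rank, rc c i = rc s i + k * rc r i) → f c = f s + k * f r
  neg : ∀ r < D.nroots, f (D.neg r) = - f r

variable (hG : Good D N η rc) (hE : Ext D rc)
include hG

theorem addf_pairing (r₀ : ℕ) : Addf D rc (D.pairing r₀) where
  lin := by
    intro r hr s hs c hc k h
    rw [hG.pairing_rc hc, hG.pairing_rc hs, hG.pairing_rc hr, Finset.mul_sum, ← Finset.sum_add_distrib]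
    refine Finset.sum_congr rfl fun i hi => ?_
    rw [h i (Finset.mem_range.1 hi)]; ring
  neg := by
    intro r hr
    rw [hG.pairing_rc (hG.neg_lt' hr), hG.pairing_rc hr, ← Finset.sum_neg_distrib]
    refine Finset.sum_congr rfl fun i hi => ?_
    rw [hG.rc_neg i (Finset.mem_range.1 hi) r hr]; ring

theorem x_gf {f : ℕ → ℤ} (hf : Addf D rc f) {r : ℕ} (hr : r < D.nroots) (t : F) :
    ∀ b : D.Idx, ∃ w : D.Idx → F, D.x F r t *ᵥ Pi.single b 1 = Pi.single b 1 + w ∧
      ∀ a, w a ≠ 0 → ∃ k : ℤ, 1 ≤ k ∧ gf D f a = gf D f b + k * f r := by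
  rintro (i | s)
  · have h1 := x_bh (F := F) hr i.2 t
    rw [bh_of_lt i.2] at h1
    refine ⟨_, h1, ?_⟩
    intro a ha
    rw [Pi.smul_apply] at ha
    obtain ⟨s, rfl, hs⟩ := coe_be r a (right_ne_zero_of_smul ha)
    refine ⟨1, le_refl _, ?_⟩
    change f s = 0 + 1 * f r
    rw [hs]; ring
  · by_cases h1 : (s : ℕ) = r
    · refine ⟨0, ?_, fun a ha => absurd rfl ha⟩
      have := x_be_self (F := F) hr t
      rw [be_of_lt hr] at this
      have e : s = ⟨r, hr⟩ := Fin.ext h1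
      rw [e, this, add_zero]
    · by_cases h2 : (s : ℕ) = D.neg r
      · have h3 := x_be_neg (F := F) hr (hG.neg_lt' hr) (hG.toSem.neg_ne hr) t
        rw [be_of_lt (hG.neg_lt' hr), add_assoc] at h3
        have e : s = ⟨D.neg r, hG.neg_lt' hr⟩ := Fin.ext h2
        rw [e]
        refine ⟨_, h3, ?_⟩
        intro a ha
        rcases a with a | a
        · refine ⟨1, le_refl _, ?_⟩
          change (0 : ℤ) = f (D.neg r) + 1 * f r
          rw [hf.neg r hr]; ring
        · rw [Pi.add_apply, Pi.smul_apply, hvec_inr, smul_zero, zero_add, Pi.smul_apply] at ha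
          obtain ⟨s', e', hs'⟩ := coe_be r _ (right_ne_zero_of_smul ha)
          refine ⟨2, by norm_num, ?_⟩
          rw [e']
          change f s' = f (D.neg r) + 2 * f r
          rw [hs', hf.neg r hr]; ring
      · have h3 := x_be (F := F) hr s.2 (hG.keys r) h1 h2 t
        rw [be_of_lt s.2] at h3
        refine ⟨_, h3, ?_⟩
        intro a ha
        obtain ⟨u, rfl, e, he, hu⟩ := chainVec_ne _ _ a ha
        obtain ⟨k, hk, rfl⟩ := List.getElem_of_mem he
        have h5 := (Good.addC_get hG 1 (hG.add_rc r hr s s.2) k hk).2.2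
        rw [hu] at h5
        refine ⟨((1 + k : ℕ) : ℤ), by push_cast; omega, ?_⟩
        exact hf.lin r hr s s.2 u u.2 _ h5

/-- root elements with positive degree -/
theorem x_up {f : ℕ → ℤ} (hf : Addf D rc f) {r : ℕ} (hr : r < D.nroots) (hp : 0 < f r) (t : F) :
    Uni (fun a b => gf D f b < gf D f a) (D.x F r t) := by
  have hw : ∀ b : D.Idx, ∃ w : D.Idx → F, D.x F r t *ᵥ Pi.single b 1 = Pi.single b 1 + w ∧
      ∀ a, w a ≠ 0 → gf D f b < gf D f a := by
    intro b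
    obtain ⟨w, h1, h2⟩ := x_gf hG hf hr t b
    refine ⟨w, h1, fun a ha => ?_⟩
    obtain ⟨k, hk, h3⟩ := h2 a ha
    rw [h3]
    nlinarith
  constructor
  · intro a b hab hne
    obtain ⟨w, h1, h2⟩ := hw b
    rw [x_col hG, h1, Pi.add_apply, Pi.single_eq_of_ne hab, zero_add] at hne
    exact h2 a hne
  · intro a
    obtain ⟨w, h1, h2⟩ := hw a
    rw [x_col hG, h1, Pi.add_apply, Pi.single_eq_same]
    have : w a = 0 := by
      by_contra h
      exact absurd (h2 a h) (lt_irrefl _)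
    rw [this, add_zero]

theorem x_level {f : ℕ → ℤ} (hf : Addf D rc f) {r : ℕ} (hr : r < D.nroots) (hp : f r = 0) (t : F) {a b : D.Idx}
    (h : D.x F r t a b ≠ 0) : gf D f a = gf D f b := by
  obtain ⟨w, h1, h2⟩ := x_gf hG hf hr t b
  rw [x_col hG, h1, Pi.add_apply] at h
  by_cases hab : a = b
  · rw [hab]
  · rw [Pi.single_eq_of_ne hab, zero_add] at h
    obtain ⟨k, _, hk⟩ := h2 a h
    rw [hk, hp]; ring

theorem US_up {f : ℕ → ℤ} (hf : Addf D rc f) {S : Set ℕ} (hS : ∀ r ∈ S, r < D.nroots ∧ 0 < f r) {g : GL D.Idx F}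
    (hg : g ∈ US (xg D F) S) : Uni (fun a b => gf D f b < gf D f a) (g : Matrix D.Idx D.Idx F) := by
  have h : US (xg D F) S ≤ UniS (fun a b => gf D f b < gf D f a)
      (fun a b c h1 h2 => lt_trans h2 h1) (fun a b h1 h2 => absurd h1 (lt_asymm h2)) := by
    rw [US_le]
    intro r hr t
    refine ⟨?_, ?_⟩
    · rw [hG.coe_xg]; exact x_up hG hf (hS r hr).1 (hS r hr).2 t
    · rw [← hG.xg_neg, hG.coe_xg]; exact x_up hG hf (hS r hr).1 (hS r hr).2 _
  exact (h hg).1

/-- graded matrices -/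
def GrF (D : ChevalleyDatum) (f : ℕ → ℤ) (g : GL D.Idx F) : Prop :=
  ∀ a b, (g : Matrix D.Idx D.Idx F) a b ≠ 0 → gf D f a = gf D f b

theorem GrF.mul {f : ℕ → ℤ} {g h : GL D.Idx F} (hg : GrF D f g) (hh : GrF D f h) : GrF D f (g * h) := by
  intro a b hab
  rw [Units.val_mul, Matrix.mul_apply] at hab
  obtain ⟨c, -, hc⟩ := Finset.exists_ne_zero_of_sum_ne_zero hab
  exact (hg a c (left_ne_zero_of_mul hc)).trans (hh c b (right_ne_zero_of_mul hc))

theorem US_level {f : ℕ → ℤ} (hf : Addf D rc f) {S : Set ℕ} (hS : ∀ r ∈ S, r < D.nroots ∧ f r = 0) {g : GL D.Idx F}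
    (hg : g ∈ US (xg D F) S) : GrF D f g := by
  unfold US at hg
  have key : GrF D f g ∧ GrF D f g⁻¹ := by
    induction hg using Subgroup.closure_induction with
    | mem x hx =>
      obtain ⟨r, hr, t, rfl⟩ := hx
      refine ⟨fun a b h => ?_, fun a b h => ?_⟩
      · rw [hG.coe_xg] at h; exact x_level hG hf (hS r hr).1 (hS r hr).2 t h
      · rw [← hG.xg_neg, hG.coe_xg] at h; exact x_level hG hf (hS r hr).1 (hS r hr).2 _ h
    | one =>
      have : ∀ a b : D.Idx, ((1 : GL D.Idx F) : Matrix D.Idx D.Idx F) a b ≠ 0 → gf D f a = gf D f b := by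
        intro a b hab
        by_cases h : a = b
        · rw [h]
        · exact absurd (Matrix.one_apply_ne h) hab
      exact ⟨this, by rw [inv_one]; exact this⟩
    | mul a b _ _ ha hb => exact ⟨GrF.mul hG ha.1 hb.1, by rw [mul_inv_rev]; exact GrF.mul hG hb.2 ha.2⟩
    | inv a _ ha => exact ⟨ha.2, by rw [inv_inv]; exact ha.1⟩
  exact key.1

theorem diag_level {f : ℕ → ℤ} {g : GL D.Idx F} (hg : g ∈ D.diagonalSubgroup F) : GrF D f g := by
  intro a b hab
  by_cases h : a = b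
  · rw [h]
  · exact absurd (hG.diag_apply hg h) hab

include hE

/-- monomial elements permute the root vectors up to scalars -/
theorem mon_be {n : GL D.Idx F} (hn : n ∈ D.monomialSubgroup F) {w : hG.W} {χ : Fin D.nroots → Fˣ}
    (hm : Mon hG (xg D F) n w χ) (s : Fin D.nroots) :
    ∃ c : F, c ≠ 0 ∧ (n : Matrix D.Idx D.Idx F) *ᵥ be D F s = c • be D F (w.1 s) := by
  let K : Subgroup (GL D.Idx F) :=
    { carrier := {n | ∃ w χ, Mon hG (xg D F) n w χ ∧ ∀ s : Fin D.nroots,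
        ∃ c : F, c ≠ 0 ∧ (n : Matrix D.Idx D.Idx F) *ᵥ be D F s = c • be D F (w.1 s)}
      mul_mem' := by
        rintro a b ⟨w, χ, h1, h2⟩ ⟨w', χ', h1', h2'⟩
        refine ⟨w * w', _, h1.mul h1', fun s => ?_⟩
        obtain ⟨c', hc', e'⟩ := h2' s
        obtain ⟨c, hc, e⟩ := h2 (w'.1 s)
        refine ⟨c' * c, mul_ne_zero hc' hc, ?_⟩
        rw [Units.val_mul, ← Matrix.mulVec_mulVec, e', Matrix.mulVec_smul, e, smul_smul]
        rfl
      one_mem' := ⟨1, 1, Mon.one, fun s => ⟨1, one_ne_zero, by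
        rw [Units.val_one, Matrix.one_mulVec, one_smul]; rfl⟩⟩
      inv_mem' := by
        rintro a ⟨w, χ, h1, h2⟩
        refine ⟨w⁻¹, _, h1.inv, fun s => ?_⟩
        obtain ⟨c, hc, e⟩ := h2 ((w⁻¹).1 s)
        have e1 : w.1 ((w⁻¹).1 s) = s := Equiv.apply_symm_apply w.1 s
        rw [e1] at e
        refine ⟨c⁻¹, inv_ne_zero hc, ?_⟩
        have e2 : ((a⁻¹ : GL D.Idx F) : Matrix D.Idx D.Idx F) *ᵥ ((a : Matrix D.Idx D.Idx F) *ᵥ be D F ((w⁻¹).1 s)) =
            be D F ((w⁻¹).1 s) := by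
          rw [Matrix.mulVec_mulVec, ← Units.val_mul, inv_mul_cancel, Units.val_one, Matrix.one_mulVec]
        rw [e, Matrix.mulVec_smul] at e2
        rw [← e2, smul_smul, inv_mul_cancel₀ hc, one_smul] }
  have key : D.monomialSubgroup F ≤ K := by
    rw [hG.monomial_eq hE]
    refine sup_le ?_ ?_
    · rw [Subgroup.closure_le]
      rintro _ ⟨i, hi, rfl⟩
      obtain ⟨χ, h⟩ := hG.mon_ng (F := F) hE ⟨i, hi⟩
      refine ⟨hG.s ⟨i, hi⟩, χ, h, fun s => ⟨((η i s : ℤ) : F), ?_, ?_⟩⟩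
      · rcases hG.eta i hi s s.2 with h | h <;> rw [h] <;> simp
      · have h1 := hG.nMat_be (F := F) hi s.2
        rw [← hG.coe_ngr] at h1
        exact h1
    · intro x hx'
      obtain ⟨χ, h⟩ := hG.HA_mon (hG.rdn hE) (show x ∈ HA D (xg D F) by rw [hG.HA_eq]; exact hx')
      refine ⟨1, χ, h, fun s => ?_⟩
      obtain ⟨c, rfl⟩ := hG.mem_diagonal_iff.1 hx'
      set ψ : ℕ → Fˣ := fun s => ∏ k ∈ Finset.range D.rank, c k ^ D.cartan k s with hψ
      refine ⟨(ψ s : F), Units.ne_zero _, ?_⟩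
      rw [coe_tor]
      exact charDiag_be ψ _
  obtain ⟨w', χ', h1, h2⟩ := key hn
  rw [hG.mon_unique hE hm h1]
  exact h2 s

end Cfsg.Agent.H15.Chev
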