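import Cfsg.Agent.H15.ChevInv1
import Cfsg.Agent.H15.ChevPair

/-!
# The lead coefficient; monomial coordinates; the elements `n_r(t)`
-/

set_option autoImplicit false
set_option linter.unusedSectionVars false

namespace Cfsg.Agent.H15.Chev

open Cfsg.Agent.H6 Cfsg.Lie Cfsg.Agent.H22
open scoped Matrix

variable {D : ChevalleyDatum} {N : ℕ} {η : ℕ → ℕ → ℤ} {rc : ℕ → ℕ → ℤ} {F : Type*} [Field F]
variable (hG : Good D N η rc) (hE : Ext D rc)
include hG

/-- no root is twice another one -/
theorem no_double {r s : Fin D.nroots} (h : ∀ j < D.rank, rc s j = 2 * rc r j) : False := by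
  obtain ⟨w, i, hw⟩ := exists_to_simple hG r
  have h1 : ∀ j < D.rank, rc (w.1 s) j = 2 * rc (w.1 r) j := by
    intro j hj
    have := hG.W_lin w (r := r) (s := r) (c := s) (a := 2) (b := 0) (by intro k hk; rw [h k hk]; push_cast; ring) j hj
    rw [this]; push_cast; ring
  rw [hw] at h1
  have h2 : ∀ j < D.rank, rc (w.1 s) j = if j = i then 2 else 0 := by
    intro j hj
    rw [h1 j hj]
    change 2 * rc (D.simple i) j = _
    rw [hG.rc_simple i i.2 j hj]
    split_ifs <;> simp
  have h3 : N ≤ (w.1 s : ℕ) := by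
    by_contra hc
    have := hG.rc_neg_root (w.1 s).2 (by omega) i i.2
    rw [h2 i i.2, if_pos rfl] at this
    omega
  have h4 : (w.1 s : ℕ) ≠ D.simple i := by
    intro he
    have h5 := h2 i i.2
    rw [he, hG.rc_simple i i.2 i i.2, if_pos rfl, if_pos rfl] at h5
    omega
  have h5 := hG.w_pos i i.2 _ (w.1 s).2 h3 h4
  have h6 := hG.rc_pos _ (hG.w_lt i i.2 _ (w.1 s).2) h5 i i.2
  rw [hG.rc_w i i.2 i i.2 _ (w.1 s).2, if_pos rfl, h2 i i.2, if_pos rfl, hG.cartan_rc' i.2 (w.1 s).2] at h6
  rw [Finset.sum_eq_single (i : ℕ)] at h6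
  · rw [h2 i i.2, if_pos rfl, hG.cartan_diag i i.2] at h6
    omega
  · intro k hk hki
    rw [h2 k (Finset.mem_range.1 hk), if_neg hki, zero_mul]
  · intro hc; exact absurd (Finset.mem_range.2 i.2) hc

theorem x_be_sup {m s : ℕ} (hm : m < D.nroots) (hs : s < D.nroots) (hne : s ≠ D.neg m) (t : F) :
    ∃ w : D.Idx → F, D.x F m t *ᵥ be D F s = be D F s + w ∧ (∀ j, w (Sum.inl j) = 0) ∧
      ∀ a : Fin D.nroots, w (Sum.inr a) ≠ 0 → ∃ k : ℕ, ∀ j < D.rank, rc a j = rc s j + ((k + 1 : ℕ) : ℤ) * rc m j := by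
  by_cases h1 : s = m
  · refine ⟨0, ?_, fun _ => rfl, fun a ha => absurd rfl ha⟩
    rw [h1, x_be_self hm, add_zero]
  · refine ⟨_, x_be hm hs (hG.keys m) h1 hne t, ?_, ?_⟩
    · intro j
      exact chainVec_inl _ _ _ _
    · intro a ha
      obtain ⟨u, hu, e, he, hue⟩ := chainVec_ne _ _ _ ha
      obtain rfl : a = u := Sum.inr.inj hu
      obtain ⟨k, hk, rfl⟩ := List.getElem_of_mem he
      have h5 := (Good.addC_get hG 1 (hG.add_rc m hm s hs) k hk).2.2
      rw [hue] at h5
      refine ⟨k, fun j hj => ?_⟩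
      rw [h5 j hj, show 1 + k = k + 1 by ring]

/-- support condition used for the lead coefficient -/
def Sup (D : ChevalleyDatum) (rc : ℕ → ℕ → ℤ) (m r : ℕ) (v : D.Idx → F) : Prop :=
  (∀ j, v (Sum.inl j) = 0) ∧ ∀ a : Fin D.nroots, v (Sum.inr a) ≠ 0 →
    (2 * kap D.rank rc m ≤ kap D.rank rc a + kap D.rank rc r) ∨
      ∃ s : Fin D.nroots, m ≤ (s : ℕ) ∧ ∀ j < D.rank, rc a j = rc s j - rc r j

theorem kap_lin' {a b c : ℕ} {k : ℤ} (h : ∀ j < D.rank, rc a j = rc b j + k * rc c j) :
    kap D.rank rc a = kap D.rank rc b + k * kap D.rank rc c := by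
  change kapf _ _ = kapf _ _ + _ * kapf _ _
  rw [← kapf_add]
  exact kapf_congr h

theorem kap_mono_le {r s : ℕ} (hs : s < D.nroots) (h : r ≤ s) : kap D.rank rc r ≤ kap D.rank rc s := by
  rcases h.lt_or_eq with h | h
  · exact (hG.kap_lt hs h).le
  · rw [h]

theorem Sup.kpos {m r : ℕ} (hr : N ≤ r) (hrm : r < m) (hm : m < D.nroots) {v : D.Idx → F} (hv : Sup D rc m r v)
    {a : Fin D.nroots} (ha : v (Sum.inr a) ≠ 0) : N ≤ (a : ℕ) := by
  have h0 := hG.kap_pos (by omega : r < D.nroots) hr
  have h1 := hG.kap_lt hm hrm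
  rw [hG.N_le_iff a.2]
  rcases hv.2 a ha with h | ⟨s, hs, h⟩
  · omega
  · have h2 := kap_lin' hG (a := a) (b := s) (c := r) (k := -1) (by intro j hj; rw [h j hj]; ring)
    have h3 := kap_mono_le hG s.2 hs
    omega

theorem sup_step {m r : ℕ} (hr : N ≤ r) (hrm : r < m) (hm : m < D.nroots) (t : F) {v : D.Idx → F}
    (hv : Sup D rc (m + 1) r v) (hv' : m + 1 = D.nroots → v = 0) :
    Sup D rc m r (D.x F m t *ᵥ (be D F (D.neg r) + v) - be D F (D.neg r)) := by
  have hrl : r < D.nroots := by omega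
  have hmN : N ≤ m := by omega
  have hκr := hG.kap_pos hrl hr
  have hκm := hG.kap_lt hm hrm
  -- first part
  have hne1 : D.neg r ≠ D.neg m := by
    intro h
    have := congrArg D.neg h
    rw [hG.neg_neg' hrl, hG.neg_neg' hm] at this
    omega
  obtain ⟨w, h1, h2, h3⟩ := x_be_sup (F := F) hG hm (hG.neg_lt' hrl) hne1 t
  have hw : Sup D rc m r w := by
    refine ⟨h2, fun a ha => ?_⟩
    obtain ⟨k, hk⟩ := h3 a ha
    rcases Nat.eq_zero_or_pos k with h0 | h0
    · subst h0
      right
      refine ⟨⟨m, hm⟩, le_refl _, fun j hj => ?_⟩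
      rw [hk j hj, hG.rc_neg j hj r hrl]
      push_cast; ring
    · left
      have h4 := kap_lin' hG hk
      rw [hG.kap_neg hrl] at h4
      rw [h4]
      push_cast
      nlinarith
  -- second part
  have hv2 : Sup D rc m r (D.x F m t *ᵥ v) := by
    by_cases hmn : m + 1 = D.nroots
    · rw [hv' hmn, Matrix.mulVec_zero]
      exact ⟨fun _ => rfl, fun a ha => absurd rfl ha⟩
    · have hm1 : m + 1 < D.nroots := by omega
      have hκm1 := hG.kap_lt hm1 (Nat.lt_succ_self m)
      have hposv : ∀ a : Fin D.nroots, v (Sum.inr a) ≠ 0 → N ≤ (a : ℕ) := fun a ha =>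
        Sup.kpos hG hr (by omega : r < m + 1) hm1 hv ha
      have hEp : Ep D F N v := by
        refine ⟨hv.1, fun s hs => ?_⟩
        by_contra hc
        have := hposv s hc
        omega
      rw [mulVec_eq_sum _ v hEp]
      constructor
      · intro j
        rw [Finset.sum_apply]
        apply Finset.sum_eq_zero
        intro s _
        by_cases hs0 : v (Sum.inr s) = 0
        · rw [hs0, zero_smul]; rfl
        · have hsN := hposv s hs0
          have hsne : (s : ℕ) ≠ D.neg m := hG.ne_neg_of_pos hm hmN hsN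
          obtain ⟨w', e1, e2, -⟩ := x_be_sup (F := F) hG hm s.2 hsne t
          rw [e1, Pi.smul_apply, Pi.add_apply, e2, be_inl, add_zero, smul_zero]
      · intro a ha
        rw [Finset.sum_apply] at ha
        obtain ⟨s, -, hs⟩ := Finset.exists_ne_zero_of_sum_ne_zero ha
        rw [Pi.smul_apply, smul_eq_mul] at hs
        have hs0 := left_ne_zero_of_mul hs
        have hs1 := right_ne_zero_of_mul hs
        have hsN := hposv s hs0
        have hsne : (s : ℕ) ≠ D.neg m := hG.ne_neg_of_pos hm hmN hsN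
        obtain ⟨w', e1, e2, e3⟩ := x_be_sup (F := F) hG hm s.2 hsne t
        rw [e1, Pi.add_apply] at hs1
        by_cases has : (s : ℕ) = a
        · have : s = a := Fin.ext has
          subst this
          rcases hv.2 s hs0 with h | ⟨s', hs', h⟩
          · left; omega
          · right; exact ⟨s', by omega, h⟩
        · rw [be_inr, if_neg has, zero_add] at hs1
          obtain ⟨k, hk⟩ := e3 a hs1
          have h4 := kap_lin' hG hk
          left
          rw [h4]
          have hk0 : (0 : ℤ) ≤ k := Int.natCast_nonneg k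
          push_cast
          rcases hv.2 s hs0 with h | ⟨s', hs', h⟩
          · nlinarith
          · have h5 := kap_lin' hG (a := s) (b := s') (c := r) (k := -1) (by intro j hj; rw [h j hj]; ring)
            have h6 := kap_mono_le hG s'.2 hs'
            nlinarith
  have e : D.x F m t *ᵥ (be D F (D.neg r) + v) - be D F (D.neg r) = w + D.x F m t *ᵥ v := by
    rw [Matrix.mulVec_add, h1]; abel
  rw [e]
  constructor
  · intro j; rw [Pi.add_apply, hw.1, hv2.1, add_zero]
  · intro a ha
    rw [Pi.add_apply] at ha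
    by_cases h0 : w (Sum.inr a) = 0
    · rw [h0, zero_add] at ha
      exact hv2.2 a ha
    · exact hw.2 a h0

theorem op_sup (τ : ℕ → F) {r : ℕ} (hr : N ≤ r) : ∀ (k m : ℕ), m + k = D.nroots → r < m →
    Sup D rc m r (((op (xg D F) τ m k : GL D.Idx F) : Matrix D.Idx D.Idx F) *ᵥ be D F (D.neg r) - be D F (D.neg r)) := by
  intro k
  induction k with
  | zero =>
    intro m _ _
    rw [op_zero, Units.val_one, Matrix.one_mulVec, sub_self]
    exact ⟨fun _ => rfl, fun a ha => absurd rfl ha⟩
  | succ k ih =>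
    intro m hm hrm
    rw [op_succ, Units.val_mul, ← Matrix.mulVec_mulVec, hG.coe_xg]
    have h1 := ih (m + 1) (by omega) (by omega)
    have h2 := sup_step hG hr hrm (by omega) (τ m) h1 (by
      intro h
      have : k = 0 := by omega
      subst this
      rw [op_zero, Units.val_one, Matrix.one_mulVec, sub_self])
    rwa [add_sub_cancel] at h2

/-- the lead coefficient -/
theorem lead_coeff (τ : ℕ → F) {r : Fin D.nroots} (hr : N ≤ (r : ℕ)) (h0 : ∀ s, s < (r : ℕ) → τ s = 0) :
    (((op (xg D F) τ N N : GL D.Idx F) : Matrix D.Idx D.Idx F) *ᵥ be D F (D.neg r)) (Sum.inr r) = -(τ r) ^ 2 := by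
  have hrl := r.2
  have hn := hG.nroots_eq
  have e1 : op (xg D F) τ N N = op (xg D F) τ r (D.nroots - r) := by
    have := op_skip hG τ (r - N) N r (by omega) hrl.le (fun s _ hs => h0 s hs)
    rw [← this]; congr 1; omega
  have e2 : D.nroots - (r : ℕ) = (D.nroots - (r + 1)) + 1 := by omega
  rw [e1, e2, op_succ, Units.val_mul, ← Matrix.mulVec_mulVec, hG.coe_xg]
  have h1 := op_sup hG τ hr (D.nroots - (r + 1)) (r + 1) (by omega) (Nat.lt_succ_self _)
  set v := ((op (xg D F) τ (r + 1) (D.nroots - (r + 1)) : GL D.Idx F) : Matrix D.Idx D.Idx F) *ᵥ be D F (D.neg r) -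
    be D F (D.neg r) with hv
  have hv0 : (r : ℕ) + 1 = D.nroots → v = 0 := by
    intro h
    have : D.nroots - ((r : ℕ) + 1) = 0 := by omega
    rw [hv, this, op_zero, Units.val_one, Matrix.one_mulVec, sub_self]
  have e3 : ((op (xg D F) τ (r + 1) (D.nroots - (r + 1)) : GL D.Idx F) : Matrix D.Idx D.Idx F) *ᵥ be D F (D.neg r) =
      be D F (D.neg r) + v := by rw [hv]; abel
  rw [e3, Matrix.mulVec_add, Pi.add_apply, x_be_neg hrl (hG.neg_lt' hrl) (hG.toSem.neg_ne hrl)]
  have hneq : D.neg r ≠ (r : ℕ) := hG.toSem.neg_ne hrl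
  have e4 : (D.x F r (τ r) *ᵥ v) (Sum.inr r) = 0 := by
    by_cases hrn : (r : ℕ) + 1 = D.nroots
    · rw [hv0 hrn, Matrix.mulVec_zero]; rfl
    · have hr1 : (r : ℕ) + 1 < D.nroots := by omega
      have hκ := hG.kap_lt hr1 (Nat.lt_succ_self _)
      have hκr := hG.kap_pos hrl hr
      have hposv : ∀ a : Fin D.nroots, v (Sum.inr a) ≠ 0 → N ≤ (a : ℕ) := fun a ha =>
        Sup.kpos hG hr (Nat.lt_succ_self _) hr1 h1 ha
      have hEp : Ep D F N v := by
        refine ⟨h1.1, fun s hs => ?_⟩
        by_contra hc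
        have := hposv s hc
        omega
      rw [mulVec_eq_sum _ v hEp, Finset.sum_apply]
      apply Finset.sum_eq_zero
      intro s _
      by_cases hs0 : v (Sum.inr s) = 0
      · rw [hs0, zero_smul]; rfl
      · have hsN := hposv s hs0
        have hsne : (s : ℕ) ≠ D.neg r := hG.ne_neg_of_pos hrl hr hsN
        obtain ⟨w', f1, -, f3⟩ := x_be_sup (F := F) hG hrl s.2 hsne (τ r)
        by_cases hsr : (s : ℕ) = r
        · exfalso
          rcases h1.2 s hs0 with h | ⟨s', hs', h⟩
          · rw [hsr] at h; omega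
          · rw [hsr] at h
            exact no_double hG (r := r) (s := s') (by intro j hj; have := h j hj; linarith)
        · rw [f1, Pi.smul_apply, Pi.add_apply, be_inr, if_neg hsr, zero_add]
          have : w' (Sum.inr r) = 0 := by
            by_contra hc
            obtain ⟨k, hk⟩ := f3 r hc
            have h4 := kap_lin' hG hk
            have h5 := hG.kap_pos s.2 hsN
            have hk0 : (0 : ℤ) ≤ k := Int.natCast_nonneg k
            push_cast at h4
            nlinarith
          rw [this, smul_zero]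
  rw [e4, add_zero, Pi.add_apply, Pi.add_apply, be_inr, if_neg hneq, Pi.smul_apply, hvec_inr, smul_zero, zero_add,
    zero_add, Pi.smul_apply, be_inr, if_pos rfl, smul_eq_mul, mul_one]

end Cfsg.Agent.H15.Chev
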