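import Cfsg.Agent.H15.ChevInv2

/-!
# Monomial coordinates; the elements `n_r(t)` in characteristic two
-/

set_option autoImplicit false
set_option linter.unusedSectionVars false

namespace Cfsg.Agent.H15.Chev

open Cfsg.Agent.H6 Cfsg.Lie Cfsg.Agent.H22
open scoped Matrix

variable {D : ChevalleyDatum} {N : ℕ} {η : ℕ → ℕ → ℤ} {rc : ℕ → ℕ → ℤ} {F : Type*} [Field F]
variable (hG : Good D N η rc) (hE : Ext D rc)
include hG

theorem mulVec_apply_sum (M : Matrix D.Idx D.Idx F) (v : D.Idx → F) (a : D.Idx) :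
    (M *ᵥ v) a = ∑ i : Fin D.rank, (M *ᵥ bh D F i) a * v (Sum.inl i) + ∑ s : Fin D.nroots, (M *ᵥ be D F s) a * v (Sum.inr s) := by
  change ∑ b, M a b * v b = _
  rw [Fintype.sum_sum_type]
  congr 1
  · refine Finset.sum_congr rfl fun i _ => ?_
    rw [bh_of_lt i.2, Matrix.mulVec_single_one]
    rfl
  · refine Finset.sum_congr rfl fun s _ => ?_
    rw [be_of_lt s.2, Matrix.mulVec_single_one]
    rfl

include hE

/-- coordinates of the image under a monomial element -/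
theorem mon_coord {n : GL D.Idx F} (hn : n ∈ D.monomialSubgroup F) {w : hG.W} {χ : Fin D.nroots → Fˣ}
    (hm : Mon hG (xg D F) n w χ) (s : Fin D.nroots) :
    ∃ c : F, c ≠ 0 ∧ ∀ v : D.Idx → F, ((n : Matrix D.Idx D.Idx F) *ᵥ v) (Sum.inr (w.1 s)) = c * v (Sum.inr s) := by
  let K : Subgroup (GL D.Idx F) :=
    { carrier := {n | ∃ w χ, Mon hG (xg D F) n w χ ∧ ∀ s : Fin D.nroots,
        ∃ c : F, c ≠ 0 ∧ ∀ v : D.Idx → F, ((n : Matrix D.Idx D.Idx F) *ᵥ v) (Sum.inr (w.1 s)) = c * v (Sum.inr s)}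
      mul_mem' := by
        rintro a b ⟨w, χ, h1, h2⟩ ⟨w', χ', h1', h2'⟩
        refine ⟨w * w', _, h1.mul h1', fun s => ?_⟩
        obtain ⟨c', hc', e'⟩ := h2' s
        obtain ⟨c, hc, e⟩ := h2 (w'.1 s)
        refine ⟨c * c', mul_ne_zero hc hc', fun v => ?_⟩
        rw [Units.val_mul, ← Matrix.mulVec_mulVec]
        change (_ *ᵥ _) (Sum.inr (w.1 (w'.1 s))) = _
        rw [e, e', mul_assoc]
      one_mem' := ⟨1, 1, Mon.one, fun s => ⟨1, one_ne_zero, fun v => by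
        rw [Units.val_one, Matrix.one_mulVec, one_mul]; rfl⟩⟩
      inv_mem' := by
        rintro a ⟨w, χ, h1, h2⟩
        refine ⟨w⁻¹, _, h1.inv, fun s => ?_⟩
        obtain ⟨c, hc, e⟩ := h2 ((w⁻¹).1 s)
        have e1 : w.1 ((w⁻¹).1 s) = s := Equiv.apply_symm_apply w.1 s
        rw [e1] at e
        refine ⟨c⁻¹, inv_ne_zero hc, fun v => ?_⟩
        have e2 := e (((a⁻¹ : GL D.Idx F) : Matrix D.Idx D.Idx F) *ᵥ v)
        rw [Matrix.mulVec_mulVec, ← Units.val_mul, mul_inv_cancel, Units.val_one, Matrix.one_mulVec] at e2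
        rw [e2, ← mul_assoc, inv_mul_cancel₀ hc, one_mul] }
  have key : D.monomialSubgroup F ≤ K := by
    rw [hG.monomial_eq hE]
    refine sup_le ?_ ?_
    · rw [Subgroup.closure_le]
      rintro _ ⟨i, hi, rfl⟩
      obtain ⟨χ, h⟩ := hG.mon_ng (F := F) hE ⟨i, hi⟩
      refine ⟨hG.s ⟨i, hi⟩, χ, h, fun s => ⟨((η i s : ℤ) : F), ?_, fun v => ?_⟩⟩
      · rcases hG.eta i hi s s.2 with h | h <;> rw [h] <;> simp
      · have hbh : ∀ j : Fin D.rank, (((ng D F i : GL D.Idx F) : Matrix D.Idx D.Idx F) *ᵥ bh D F j)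
            (Sum.inr ((hG.s ⟨i, hi⟩).1 s)) = 0 := by
          intro j
          have h1 := hG.nMat_bh (F := F) hi j.2
          rw [← hG.coe_ngr] at h1
          change (((ngr D F (D.simple i) 1 : GL D.Idx F) : Matrix D.Idx D.Idx F) *ᵥ bh D F j) _ = 0
          rw [h1, Pi.sub_apply, Pi.smul_apply, bh_inr, bh_inr, smul_zero, sub_zero]
        have hbe : ∀ s' : Fin D.nroots, (((ng D F i : GL D.Idx F) : Matrix D.Idx D.Idx F) *ᵥ be D F s')
            (Sum.inr ((hG.s ⟨i, hi⟩).1 s)) = if s' = s then ((η i s : ℤ) : F) else 0 := by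
          intro s'
          have h1 := hG.nMat_be (F := F) hi s'.2
          rw [← hG.coe_ngr] at h1
          change (((ngr D F (D.simple i) 1 : GL D.Idx F) : Matrix D.Idx D.Idx F) *ᵥ be D F s') _ = _
          rw [h1, Pi.smul_apply, be_inr, smul_eq_mul]
          change _ * (if D.reflectRoot i s' = D.reflectRoot i s then (1 : F) else 0) = _
          by_cases hss : s' = s
          · rw [hss, if_pos rfl, if_pos rfl, mul_one]
          · rw [if_neg hss, if_neg, mul_zero]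
            intro hc
            exact hss (Fin.ext ((hG.w_eq_iff hi s'.2 s.2).1 hc))
        rw [mulVec_apply_sum hG, Finset.sum_eq_zero (fun j _ => by rw [hbh j, zero_mul]), zero_add,
          Finset.sum_eq_single s]
        · rw [hbe, if_pos rfl]
        · intro s' _ hs'
          rw [hbe, if_neg hs', zero_mul]
        · intro hc; exact absurd (Finset.mem_univ _) hc
    · intro x hx'
      obtain ⟨χ, h⟩ := hG.HA_mon (hG.rdn hE) (show x ∈ HA D (xg D F) by rw [hG.HA_eq]; exact hx')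
      refine ⟨1, χ, h, fun s => ?_⟩
      obtain ⟨c, rfl⟩ := hG.mem_diagonal_iff.1 hx'
      set ψ : ℕ → Fˣ := fun s => ∏ k ∈ Finset.range D.rank, c k ^ D.cartan k s with hψ
      refine ⟨(ψ s : F), Units.ne_zero _, fun v => ?_⟩
      change (_ *ᵥ v) (Sum.inr s) = _
      rw [mulVec_apply_sum hG, Finset.sum_eq_zero, zero_add, Finset.sum_eq_single s]
      · rw [coe_tor, charDiag_be ψ, Pi.smul_apply, be_inr, if_pos rfl, smul_eq_mul, mul_one]
      · intro s' _ hs'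
        rw [coe_tor, charDiag_be ψ, Pi.smul_apply, be_inr, if_neg (fun e => hs' (Fin.ext e)), smul_zero, zero_mul]
      · intro hc; exact absurd (Finset.mem_univ _) hc
      · intro j _
        rw [coe_tor, charDiag_bh ψ, bh_inr, zero_mul]
  obtain ⟨w', χ', h1, h2⟩ := key hn
  rw [hG.mon_unique hE hm h1]
  exact h2 s

/-! ### the elements `n_r(t)` -/

theorem neg_eq2 (h2 : (2 : F) = 0) (t : F) : -t = t := by linear_combination (-t) * h2

/-- `n_r(t)` in characteristic two -/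
theorem nX_facts (h2 : (2 : F) = 0) (r : Fin D.nroots) (t : Fˣ) :
    ∃ w χ, Mon hG (xg D F) (nX D (xg D F) r (t : F)) w χ ∧ w.1 r = hG.ngf r ∧ w.1 (hG.ngf r) = r ∧
      nX D (xg D F) r (t : F) * nX D (xg D F) r (t : F) = 1 ∧
      (∀ b : F, nX D (xg D F) r (t : F) * xg D F r b * (nX D (xg D F) r (t : F))⁻¹ = xg D F (D.neg r) ((t : F)⁻¹ ^ 2 * b)) ∧
      (∀ b : F, nX D (xg D F) r (t : F) * xg D F (D.neg r) b * (nX D (xg D F) r (t : F))⁻¹ = xg D F r ((t : F) ^ 2 * b)) ∧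
      nX D (xg D F) r (t : F) ∈ D.monomialSubgroup F := by
  obtain ⟨w, j, hw⟩ := exists_to_simple hG r
  obtain ⟨n, hn, χ, hm⟩ := hG.exists_rep (F := F) hE w
  have hsim := hG.mon_nX (hG.rdn (F := F) hE) j (χ r * t)
  have h1 := hm.conj_nX r (t : F)
  rw [hw] at h1
  have h3 : nX D (xg D F) r (t : F) = n⁻¹ * nX D (xg D F) (D.simple j) ((χ r * t : Fˣ) : F) * n := by
    have : nX D (xg D F) (D.simple j) ((χ r * t : Fˣ) : F) = n * nX D (xg D F) r (t : F) * n⁻¹ := by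
      rw [h1]; push_cast; rfl
    rw [this]; group
  have hinv : (nX D (xg D F) r (t : F))⁻¹ = nX D (xg D F) r (t : F) := by
    rw [nX_inv (hG.rd hE) hG r.2, neg_eq2 hG hE h2]
  have hsq : nX D (xg D F) r (t : F) * nX D (xg D F) r (t : F) = 1 := by
    nth_rw 1 [← hinv]; rw [inv_mul_cancel]
  have hww : (w⁻¹).1 (hG.sr j) = r := by rw [← hw]; exact Equiv.symm_apply_apply w.1 r
  have hmon := (hm.inv.mul hsim).mul hm
  rw [← h3] at hmon
  have hwr : (w⁻¹ * hG.s j * w).1 r = hG.ngf r := by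
    change (w⁻¹).1 ((hG.s j).1 (w.1 r)) = _
    rw [hw, hG.s_sr, hG.W_neg, hww]
  have hwr' : (w⁻¹ * hG.s j * w).1 (hG.ngf r) = r := by
    rw [hG.W_neg, hwr]
    exact Fin.ext (hG.neg_neg' r.2)
  have hact : ∀ b : F, nX D (xg D F) r (t : F) * xg D F r b * (nX D (xg D F) r (t : F))⁻¹ =
      xg D F (D.neg r) ((t : F)⁻¹ ^ 2 * b) := by
    intro b
    have e1 : nX D (xg D F) r (t : F) * xg D F r b * (nX D (xg D F) r (t : F))⁻¹ =
        n⁻¹ * (nX D (xg D F) (D.simple j) ((χ r * t : Fˣ) : F) * (n * xg D F r b * n⁻¹) *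
          (nX D (xg D F) (D.simple j) ((χ r * t : Fˣ) : F))⁻¹) * n := by
      rw [h3]; group
    have e2 := hsim.act (hG.sr j) ((χ r : F) * b)
    have e3 := hm.act (hG.ngf r) ((t : F)⁻¹ ^ 2 * b)
    rw [hm.neg, hG.W_neg, hw] at e3
    rw [e1, hm.act, hw]
    change n⁻¹ * (nX D (xg D F) (hG.sr j) _ * xg D F (hG.sr j) _ * (nX D (xg D F) (hG.sr j) _)⁻¹) * n = _
    change nX D (xg D F) (hG.sr j) _ * xg D F (hG.sr j) _ * (nX D (xg D F) (hG.sr j) _)⁻¹ = _ at e2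
    rw [e2, hG.s_sr]
    have e4 : ((Good.etaU η F (j : ℕ) (hG.sr j) * (χ r * t) ^ (-(D.cartan j (hG.sr j))) : Fˣ) : F) * ((χ r : F) * b) =
        (((χ r)⁻¹ : Fˣ) : F) * ((t : F)⁻¹ ^ 2 * b) := by
      have h5 : D.cartan j (hG.sr j) = 2 := hG.cartan_diag j j.2
      have h6 : ((Good.etaU η F (j : ℕ) (hG.sr j) : Fˣ) : F) = 1 := by
        rw [hG.coe_etaU j.2 (hG.sr j).2]
        rcases hG.eta j j.2 (hG.sr j) (hG.sr j).2 with h | h <;> rw [h]
        · simp
        · push_cast; exact neg_eq2 hG hE h2 1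
      rw [h5, Units.val_mul, h6, one_mul]
      have hχ : (χ r : F) ≠ 0 := (χ r).ne_zero
      have ht : (t : F) ≠ 0 := t.ne_zero
      rw [zpow_neg, Units.val_inv_eq_inv_val, Units.val_inv_eq_inv_val]
      have e5 : (((χ r * t : Fˣ) ^ (2 : ℤ) : Fˣ) : F) = ((χ r : F) * t) ^ 2 := by
        rw [show (2 : ℤ) = ((2 : ℕ) : ℤ) from rfl, zpow_natCast, Units.val_pow_eq_pow_val, Units.val_mul]
      rw [e5]
      field_simp
    rw [e4, ← e3]
    change n⁻¹ * (n * xg D F (D.neg r) _ * n⁻¹) * n = _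
    group
  have hact' : ∀ b : F, nX D (xg D F) r (t : F) * xg D F (D.neg r) b * (nX D (xg D F) r (t : F))⁻¹ =
      xg D F r ((t : F) ^ 2 * b) := by
    intro b
    have e1 := hact ((t : F) ^ 2 * b)
    have ht : (t : F) ≠ 0 := t.ne_zero
    have e2 : (t : F)⁻¹ ^ 2 * ((t : F) ^ 2 * b) = b := by
      field_simp
    rw [e2] at e1
    rw [← e1, hinv]
    calc _ = (nX D (xg D F) r (t : F) * nX D (xg D F) r (t : F)) * xg D F r ((t : F) ^ 2 * b) *
        (nX D (xg D F) r (t : F) * nX D (xg D F) r (t : F)) := by simp only [mul_assoc]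
      _ = _ := by rw [hsq]; group
  have hmem : nX D (xg D F) r (t : F) ∈ D.monomialSubgroup F := by
    have h4 : nX D (xg D F) (D.simple j) ((χ r * t : Fˣ) : F) ∈ D.monomialSubgroup F := by
      obtain ⟨h, hh, he⟩ := ngr_mem_mono (F := F) hG hE (i := j) (t := ((χ r * t : Fˣ) : F)) (Units.ne_zero _)
      change ngr D F (D.simple j) _ ∈ _
      rw [he]
      refine mul_mem ?_ (inv_mem (hG.ng_mem_monomial j.2))
      rw [hG.monomial_eq hE]
      exact Subgroup.mem_sup_right hh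
    rw [h3]
    exact mul_mem (mul_mem (inv_mem hn) h4) hn
  exact ⟨_, _, hmon, hwr, hwr', hsq, hact, hact', hmem⟩

/-- `n_r(t)` is conjugate to `x_r(1)` in `⟨X_r, X_{-r}⟩` -/
theorem nX_conj (h2 : (2 : F) = 0) (hsq : ∀ c : F, ∃ a, a ^ 2 = c) (r : Fin D.nroots) (t : Fˣ) :
    ∃ ρ ∈ US (xg D F) {(r : ℕ), D.neg r}, ρ * nX D (xg D F) r (t : F) * ρ⁻¹ = xg D F r 1 := by
  obtain ⟨a, ha⟩ := hsq t
  have ha0 : a ≠ 0 := by
    rintro rfl
    apply t.ne_zero
    rw [← ha]; ring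
  obtain ⟨w, χ, -, -, -, -, -, h6, -⟩ := nX_facts hG hE h2 r (Units.mk0 a ha0)
  have hr : (r : ℕ) ∈ ({(r : ℕ), D.neg r} : Set ℕ) := Or.inl rfl
  have hr' : D.neg r ∈ ({(r : ℕ), D.neg r} : Set ℕ) := Or.inr rfl
  have hmem : nX D (xg D F) r a ∈ US (xg D F) {(r : ℕ), D.neg r} := by
    unfold nX
    exact mul_mem (mul_mem (mem_US hr _) (mem_US hr' _)) (mem_US hr _)
  refine ⟨nX D (xg D F) r a * (xg D F r (t : F))⁻¹, mul_mem hmem (inv_mem (mem_US hr _)), ?_⟩
  have e1 : nX D (xg D F) r (t : F) = xg D F r (t : F) * xg D F (D.neg r) (t : F)⁻¹ * (xg D F r (t : F))⁻¹ := by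
    unfold nX
    rw [← hG.xg_neg, neg_eq2 hG hE h2, neg_eq2 hG hE h2]
  have e2 := h6 ((t : F)⁻¹)
  rw [Units.val_mk0, ha, mul_inv_cancel₀ t.ne_zero] at e2
  rw [e1, ← e2]
  group

end Cfsg.Agent.H15.Chev
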