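import Cfsg.Agent.H15.ChevInv3

/-!
# Relative dominance and commuting root subgroups in characteristic two
-/

set_option autoImplicit false
set_option linter.unusedSectionVars false

namespace Cfsg.Agent.H15.Chev

open Cfsg.Agent.H6 Cfsg.Lie Cfsg.Agent.H22
open scoped Matrix

variable {D : ChevalleyDatum} {N : ℕ} {η : ℕ → ℕ → ℤ} {rc : ℕ → ℕ → ℤ} {F : Type*} [Field F]

/-- hypotheses on the root system in characteristic two -/
structure EvC (hG : Good D N η rc) (F : Type*) [Field F] : Prop where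
  comm : ∀ r s : Fin D.nroots, s ≠ r → s ≠ hG.ngf r → 0 ≤ D.pairing r s → ∀ t u : F,
    xg D F r t * xg D F s u = xg D F s u * xg D F r t
  fix : ∀ r s : Fin D.nroots, s ≠ r → s ≠ hG.ngf r → 0 ≤ D.pairing r s → ∀ t : F, D.x F s t *ᵥ be D F r = be D F r
  sym0 : ∀ i < D.rank, ∀ r < D.nroots, D.cartan i r = 0 ↔ D.pairing r (D.simple i) = 0
  sym1 : ∀ i < D.rank, ∀ r < D.nroots, 0 ≤ D.cartan i r → 0 ≤ D.pairing r (D.simple i)

/-- the parabolic subgroup of the Weyl group -/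
abbrev WJ (hG : Good D N η rc) (J : Set ℕ) : Subgroup hG.W :=
  Subgroup.closure {x | ∃ i : Fin D.rank, i ∈ {i : Fin D.rank | (i : ℕ) ∈ J} ∧ x = hG.s i}

/-- `J`-dominant roots -/
def JDom (D : ChevalleyDatum) (J : Set ℕ) (r : ℕ) : Prop := ∀ j ∈ J, j < D.rank → 0 ≤ D.cartan j r

/-- the stabiliser subset -/
def Jst (D : ChevalleyDatum) (J : Set ℕ) (r : ℕ) : Set ℕ := {j | j ∈ J ∧ D.cartan j r = 0}

theorem Jst_sub (J : Set ℕ) (r : ℕ) : Jst D J r ⊆ J := fun _ h => h.1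

variable (hG : Good D N η rc) (hE : Ext D rc)
include hG

theorem pair_nonneg (hV : EvC hG F) {J : Set ℕ} {r s : ℕ} (hr : r < D.nroots) (hd : JDom D J r)
    (hs : s ∈ posS D N ∩ Phi D rc J) : 0 ≤ D.pairing r s := by
  rw [hG.pairing_rc hs.1.2]
  refine Finset.sum_nonneg fun k hk => ?_
  have hk' := Finset.mem_range.1 hk
  by_cases hkJ : k ∈ J
  · exact mul_nonneg (hG.rc_pos s hs.1.2 hs.1.1 k hk') (hV.sym1 k hk' r hr (hd k hkJ hk'))
  · rw [hs.2.2 k hk' hkJ, zero_mul]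

theorem pair_zero (hV : EvC hG F) {J : Set ℕ} {r s : ℕ} (hr : r < D.nroots)
    (hs : s ∈ Phi D rc (Jst D J r)) : D.pairing r s = 0 := by
  rw [hG.pairing_rc hs.1]
  refine Finset.sum_eq_zero fun k hk => ?_
  have hk' := Finset.mem_range.1 hk
  by_cases hkJ : k ∈ Jst D J r
  · rw [(hV.sym0 k hk' r hr).1 hkJ.2, mul_zero]
  · rw [hs.2 k hk' hkJ, zero_mul]

theorem pair_pos (hV : EvC hG F) {J : Set ℕ} {r s : ℕ} (hr : r < D.nroots) (hd : JDom D J r)
    (hs : s ∈ posS D N ∩ Phi D rc J) (hs' : s ∉ Phi D rc (Jst D J r)) : 0 < D.pairing r s := by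
  have h1 : ∃ k < D.rank, k ∉ Jst D J r ∧ rc s k ≠ 0 := by
    by_contra hcon
    push Not at hcon
    exact hs' ⟨hs.1.2, hcon⟩
  obtain ⟨k, hk, hkJ, hne⟩ := h1
  have hkJ' : k ∈ J := by
    by_contra h
    exact hne (hs.2.2 k hk h)
  rw [hG.pairing_rc hs.1.2]
  have hnn : ∀ k ∈ Finset.range D.rank, 0 ≤ rc s k * D.pairing r (D.simple k) := by
    intro k hk
    have hk' := Finset.mem_range.1 hk
    by_cases hkJ : k ∈ J
    · exact mul_nonneg (hG.rc_pos s hs.1.2 hs.1.1 k hk') (hV.sym1 k hk' r hr (hd k hkJ hk'))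
    · rw [hs.2.2 k hk' hkJ, zero_mul]
  refine lt_of_lt_of_le ?_ (Finset.single_le_sum hnn (Finset.mem_range.2 hk))
  have h2 : 0 < rc s k := lt_of_le_of_ne (hG.rc_pos s hs.1.2 hs.1.1 k hk) (Ne.symm hne)
  have h3 : 0 < D.pairing r (D.simple k) := by
    refine lt_of_le_of_ne (hV.sym1 k hk r hr (hd k hkJ' hk)) fun h => hkJ ⟨hkJ', (hV.sym0 k hk r hr).2 h.symm⟩
  positivity

/-- `U_J` commutes with the root subgroup of a dominant root -/
theorem UL_comm (hV : EvC hG F) {J : Set ℕ} {r : ℕ} (hr : r ∈ posS D N) (hd : JDom D J r) (t : F)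
    {v : GL D.Idx F} (hv : v ∈ UL D N rc F J) : v * xg D F r t = xg D F r t * v := by
  have h : UL D N rc F J ≤ Subgroup.centralizer {xg D F r t} := by
    rw [US_le]
    intro s hs u
    rw [Subgroup.mem_centralizer_singleton_iff]
    by_cases he : s = r
    · rw [he, ← hG.xg_add, ← hG.xg_add, add_comm]
    · exact (hV.comm ⟨r, hr.2⟩ ⟨s, hs.1.2⟩ (fun h => he (congrArg Fin.val h))
        (fun h => hG.ne_neg_of_pos hr.2 hr.1 hs.1.1 (congrArg Fin.val h)) (pair_nonneg hG hV hr.2 hd hs) t u).symm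
  have := h hv
  rw [Subgroup.mem_centralizer_singleton_iff] at this
  exact this

theorem UL_fix (hV : EvC hG F) {J : Set ℕ} {r : ℕ} (hr : r ∈ posS D N) (hd : JDom D J r)
    {v : GL D.Idx F} (hv : v ∈ UL D N rc F J) : (v : Matrix D.Idx D.Idx F) *ᵥ be D F r = be D F r := by
  let K : Subgroup (GL D.Idx F) :=
    { carrier := {v | (v : Matrix D.Idx D.Idx F) *ᵥ be D F r = be D F r}
      mul_mem' := by
        intro a b ha hb
        change ((a * b : GL D.Idx F) : Matrix D.Idx D.Idx F) *ᵥ _ = _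
        rw [Units.val_mul, ← Matrix.mulVec_mulVec, show (b : Matrix D.Idx D.Idx F) *ᵥ be D F r = _ from hb]
        exact ha
      one_mem' := by
        change ((1 : GL D.Idx F) : Matrix D.Idx D.Idx F) *ᵥ _ = _
        rw [Units.val_one, Matrix.one_mulVec]
      inv_mem' := by
        intro a ha
        change ((a⁻¹ : GL D.Idx F) : Matrix D.Idx D.Idx F) *ᵥ _ = _
        have ha' : (a : Matrix D.Idx D.Idx F) *ᵥ be D F r = be D F r := ha
        nth_rw 1 [← ha']
        rw [Matrix.mulVec_mulVec, ← Units.val_mul, inv_mul_cancel, Units.val_one, Matrix.one_mulVec] }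
  have h : UL D N rc F J ≤ K := by
    rw [US_le]
    intro s hs u
    change (xg D F s u : Matrix D.Idx D.Idx F) *ᵥ _ = _
    rw [hG.coe_xg]
    by_cases he : s = r
    · rw [he, x_be_self hr.2]
    · exact hV.fix ⟨r, hr.2⟩ ⟨s, hs.1.2⟩ (fun h => he (congrArg Fin.val h))
        (fun h => hG.ne_neg_of_pos hr.2 hr.1 hs.1.1 (congrArg Fin.val h)) (pair_nonneg hG hV hr.2 hd hs) u
  exact h hv

/-- `M_{J'}` commutes with `X_{±r}` -/
theorem ML_comm (hV : EvC hG F) {J : Set ℕ} {r : ℕ} (hr : r < D.nroots)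
    {v : GL D.Idx F} (hv : v ∈ ML D rc F (Jst D J r)) {g : GL D.Idx F} (hg : g ∈ US (xg D F) {r, D.neg r}) : v * g = g * v := by
  have h : US (xg D F) {r, D.neg r} ≤ Subgroup.centralizer (ML D rc F (Jst D J r) : Set (GL D.Idx F)) := by
    rw [US_le]
    intro s hs t
    have h' : ML D rc F (Jst D J r) ≤ Subgroup.centralizer {xg D F s t} := by
      rw [US_le]
      intro a ha u
      rw [Subgroup.mem_centralizer_singleton_iff]
      have hp := pair_zero hG hV hr ha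
      have hp2 : D.pairing r r = 2 := by
        rw [hG.pairing_eq, ← sum_range_list]
        exact hG.pair_self r hr
      have hne : a ≠ r := by
        rintro rfl
        rw [hp] at hp2; omega
      have hne' : a ≠ D.neg r := by
        rintro rfl
        rw [hG.pairing_neg_right hr, hp2] at hp; omega
      rcases hs with hs | hs
      · subst hs
        exact (hV.comm ⟨s, hr⟩ ⟨a, ha.1⟩ (fun h => hne (congrArg Fin.val h)) (fun h => hne' (congrArg Fin.val h)) hp.ge t u).symm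
      · rw [Set.mem_singleton_iff] at hs
        subst hs
        have hp' : D.pairing (D.neg r) a = 0 := by
          rw [hG.pairing_eq] at hp ⊢
          rw [← neg_eq_zero, ← Finset.sum_neg_distrib, ← hp]
          refine Finset.sum_congr rfl fun k hk => ?_
          rw [hG.cor_neg r hr k (Finset.mem_range.1 hk)]; ring
        exact (hV.comm ⟨D.neg r, hG.neg_lt' hr⟩ ⟨a, ha.1⟩ (fun h => hne' (congrArg Fin.val h))
          (fun h => hne (by
            have := congrArg Fin.val h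
            change a = D.neg (D.neg r) at this
            rwa [hG.neg_neg' hr] at this)) hp'.ge t u).symm
    intro m hm
    have := h' hm
    rw [Subgroup.mem_centralizer_singleton_iff] at this
    exact this
  exact h hg v hv

include hE

theorem WJ_rad {J : Set ℕ} {w : hG.W} (hw : w ∈ WJ hG J) :
    ∀ r : Fin D.nroots, (r : ℕ) ∈ posS D N \ Phi D rc J → (w.1 r : ℕ) ∈ posS D N \ Phi D rc J := by
  induction hw using Subgroup.closure_induction with
  | mem x hx =>
    obtain ⟨i, hi, rfl⟩ := hx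
    intro r hr
    exact rad_w hG hi i.2 hr
  | one => intro r hr; exact hr
  | mul a b _ _ ha hb => intro r hr; exact ha _ (hb r hr)
  | inv a ha' ha =>
    intro r hr
    classical
    set S : Finset (Fin D.nroots) := Finset.univ.filter fun r => (r : ℕ) ∈ posS D N \ Phi D rc J with hS
    have h1 : S.map a.1.toEmbedding = S := by
      apply Finset.eq_of_subset_of_card_le
      · intro r hr
        rw [Finset.mem_map] at hr
        obtain ⟨s, hs, rfl⟩ := hr
        rw [hS, Finset.mem_filter] at hs ⊢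
        exact ⟨Finset.mem_univ _, ha s hs.2⟩
      · rw [Finset.card_map]
    have h2 : r ∈ S := by rw [hS, Finset.mem_filter]; exact ⟨Finset.mem_univ _, hr⟩
    rw [← h1, Finset.mem_map] at h2
    obtain ⟨s, hs, hsr⟩ := h2
    have h3 : (a⁻¹).1 r = s := by
      rw [← hsr]
      exact Equiv.symm_apply_apply a.1 s
    rw [h3]
    rw [hS, Finset.mem_filter] at hs
    exact hs.2

/-- the stabiliser in `W_J` of a `J`-dominant root -/
theorem stab_J {J : Set ℕ} {r : Fin D.nroots} (hd : JDom D J r) :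
    ∀ (n : ℕ) (w : hG.W), len hG.s w = n → w ∈ WJ hG J → w.1 r = r → w ∈ WJ hG (Jst D J r) := by
  intro n
  induction n using Nat.strong_induction_on with
  | _ n ih =>
    intro w hw hwJ hwr
    by_cases hall : ∀ i, N ≤ (w.1 (hG.sr i) : ℕ)
    · rw [hG.eq_one_of_pos hall]; exact one_mem _
    · push Not at hall
      obtain ⟨i, hi⟩ := hall
      have hiJ : (i : ℕ) ∈ J := by
        by_contra hcon
        have := WJ_rad hG hE hwJ (hG.sr i) ⟨⟨hG.sr_pos i, (hG.sr i).2⟩, fun h => hcon ((simple_mem_phi_iff hG i.2).1 h)⟩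
        have := this.1.1
        omega
      have h1 := hG.pairing_W w (hG.sr i) r
      rw [hwr] at h1
      have h2 : D.pairing (hG.sr i) r = D.cartan i r := hG.pairing_simple i.2 r.2
      have hPhi : (w.1 (hG.sr i) : ℕ) ∈ Phi D rc J := WJ_phi hG hE hwJ _ (phi_simple hG hiJ i.2)
      have h3 : D.pairing (w.1 (hG.sr i)) r ≤ 0 := by
        rw [hG.pairing_eq]
        refine Finset.sum_nonpos fun k hk => ?_
        have hk' := Finset.mem_range.1 hk
        by_cases hkJ : k ∈ J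
        · exact mul_nonpos_of_nonpos_of_nonneg (cor_neg_le hG (w.1 (hG.sr i)).2 hi hk') (hd k hkJ hk')
        · rw [(hE.cor_zero _ hPhi.1 k hk').2 (hPhi.2 k hk' hkJ), zero_mul]
      have h4 : D.cartan i r = 0 := by
        have := hd i hiJ i.2
        omega
      have h5 : (hG.s i).1 r = r := Fin.ext (hG.w_eq_self i.2 r.2 h4)
      have h6 := hG.lt_iff_len.1 hi
      have h7 := ih _ (by rw [← hw]; exact h6) (w * hG.s i) rfl
        (mul_mem hwJ (Subgroup.subset_closure ⟨i, hiJ, rfl⟩)) (by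
        change w.1 ((hG.s i).1 r) = r
        rw [h5, hwr])
      have h8 : w = w * hG.s i * hG.s i := by rw [mul_assoc, hG.s_sq, mul_one]
      rw [h8]
      exact mul_mem h7 (Subgroup.subset_closure ⟨i, ⟨hiJ, h4⟩, rfl⟩)

omit hE in
theorem ngf_le {r s : Fin D.nroots} (h : (r : ℕ) ≤ s) : (hG.ngf s : ℕ) ≤ hG.ngf r := by
  by_contra hc
  push Not at hc
  have h1 := hG.kap_lt (hG.ngf s).2 hc
  have e1 : kap D.rank rc (hG.ngf r) = - kap D.rank rc r := hG.kap_neg r.2
  have e2 : kap D.rank rc (hG.ngf s) = - kap D.rank rc s := hG.kap_neg s.2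
  rw [e1, e2] at h1
  have h2 := kap_mono_le hG s.2 h
  omega

/-- the maximal element of a `W_J`-orbit -/
theorem exists_max {J : Set ℕ} (r : Fin D.nroots) (hN : N ≤ (r : ℕ)) (hr : (r : ℕ) ∈ Phi D rc J) :
    ∃ w₀ ∈ WJ hG J, (w₀.1 r : ℕ) ∈ posS D N ∩ Phi D rc J ∧ JDom D J (w₀.1 r) ∧
      ∀ w ∈ WJ hG J, (hG.ngf (w₀.1 r) : ℕ) ≤ w.1 (w₀.1 r) := by
  classical
  obtain ⟨x, hx, hmax⟩ := Finset.exists_max_image
    (Finset.univ.filter fun s : Fin D.nroots => ∃ w ∈ WJ hG J, w.1 r = s) (fun s => (s : ℕ))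
    ⟨r, by rw [Finset.mem_filter]; exact ⟨Finset.mem_univ _, 1, one_mem _, rfl⟩⟩
  rw [Finset.mem_filter] at hx
  obtain ⟨-, w₀, hw₀, rfl⟩ := hx
  have hm : ∀ w ∈ WJ hG J, (w.1 r : ℕ) ≤ w₀.1 r := fun w hw =>
    hmax _ (by rw [Finset.mem_filter]; exact ⟨Finset.mem_univ _, w, hw, rfl⟩)
  have h1 : N ≤ (w₀.1 r : ℕ) := le_trans hN (hm 1 (one_mem _))
  have hPhi : (w₀.1 r : ℕ) ∈ Phi D rc J := WJ_phi hG hE hw₀ r hr
  refine ⟨w₀, hw₀, ⟨⟨h1, (w₀.1 r).2⟩, hPhi⟩, ?_, ?_⟩
  · intro j hj hjr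
    by_contra hc
    push Not at hc
    have h2 := hm (hG.s ⟨j, hjr⟩ * w₀) (mul_mem (Subgroup.subset_closure ⟨⟨j, hjr⟩, hj, rfl⟩) hw₀)
    change D.reflectRoot j (w₀.1 r) ≤ w₀.1 r at h2
    have h3 := hG.w_lt_self hjr (hG.w_lt j hjr _ (w₀.1 r).2) (by rw [hG.cartan_w_self hjr (w₀.1 r).2]; omega)
    rw [hG.w_w j hjr _ (w₀.1 r).2] at h3
    omega
  · intro w hw
    obtain ⟨w₁, hw₁, he⟩ := to_neg hG hE r hN hr
    have h2 := hm (w * w₀ * w₁) (mul_mem (mul_mem hw hw₀) hw₁)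
    have h3 : (w * w₀ * w₁).1 r = hG.ngf (w.1 (w₀.1 r)) := by
      change w.1 (w₀.1 (w₁.1 r)) = _
      rw [he, hG.W_neg, hG.W_neg]
    rw [h3] at h2
    have h4 := ngf_le hG h2
    have h5 : hG.ngf (hG.ngf (w.1 (w₀.1 r))) = w.1 (w₀.1 r) := Fin.ext (hG.neg_neg' (w.1 (w₀.1 r)).2)
    rw [h5] at h4
    exact h4

/-- elements of order two of a Levi subgroup are conjugate into `U_J` -/
theorem levi_sylow [Fintype F] (p : ℕ) [hp : Fact p.Prime] [CharP F p] {J : Set ℕ} {t : GL D.Idx F}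
    (ht : t ∈ D.leviSubgroup F J) (ht2 : ∃ k : ℕ, t ^ p ^ k = 1) :
    ∃ m ∈ ML D rc F J, m * t * m⁻¹ ∈ UL D N rc F J := by
  haveI : Finite (Matrix D.Idx D.Idx F) := inferInstanceAs (Finite (D.Idx → D.Idx → F))
  haveI : Finite (GL D.Idx F) := Finite.of_injective (fun g : GL D.Idx F => (g : Matrix D.Idx D.Idx F)) fun a b h => Units.ext h
  set P := D.parabolicSubgroup F J with hP
  have hPG : P ≤ D.group F := by
    rw [hP, parabolic_gen hG]
    refine sup_le hG.borel_le ?_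
    rw [Subgroup.closure_le]
    rintro _ ⟨j, _, hj, rfl⟩
    exact hG.ng_mem_group j
  have hUP : D.posUnipotent F ≤ P := by
    rw [hP, parabolic_gen hG]
    exact le_trans le_sup_left le_sup_left
  -- index
  obtain ⟨S, hS⟩ := exists_sylow (F := F) hG hE p
  have hidx : ¬ p ∣ (D.posUnipotent F).relIndex (D.group F) := by
    have := S.not_dvd_index
    rw [hS] at this
    exact this
  have hidx2 : ¬ p ∣ ((D.posUnipotent F).subgroupOf P).index := by
    intro h
    apply hidx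
    have e := Subgroup.relIndex_mul_relIndex (D.posUnipotent F) P (D.group F) hUP hPG
    rw [← e]
    exact dvd_mul_of_dvd_left h _
  have hUp : IsPGroup p ((D.posUnipotent F).subgroupOf P) :=
    (isPGroup_pos (F := F) hG hE p).comap_of_injective _ (Subgroup.subtype_injective P)
  have htP : t ∈ P := levi_le_par hG hE J ht
  obtain ⟨k, hk⟩ := ht2
  have hZ : IsPGroup p (Subgroup.zpowers (⟨t, htP⟩ : ↥P)) := by
    rw [IsPGroup.iff_card]
    have h1 : orderOf (⟨t, htP⟩ : ↥P) ∣ p ^ k := by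
      apply orderOf_dvd_of_pow_eq_one
      exact Subtype.ext hk
    obtain ⟨j, -, hj⟩ := (Nat.dvd_prime_pow hp.out).1 h1
    exact ⟨j, by rw [Nat.card_zpowers, hj]⟩
  obtain ⟨Q, hQ⟩ := hZ.exists_le_sylow
  obtain ⟨x, hx⟩ := MulAction.exists_smul_eq ↥P Q (hUp.toSylow hidx2)
  have h1 : x * ⟨t, htP⟩ * x⁻¹ ∈ (D.posUnipotent F).subgroupOf P := by
    have h2 : x * ⟨t, htP⟩ * x⁻¹ ∈ x • Q := by
      rw [← SetLike.mem_coe, Sylow.coe_smul]
      exact ⟨_, hQ (Subgroup.mem_zpowers _), rfl⟩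
    rw [hx] at h2
    exact h2
  obtain ⟨x, hxP⟩ := x
  have h1' : x * t * x⁻¹ ∈ D.posUnipotent F := h1
  obtain ⟨q, hq, l, hl, rfl⟩ := par_decomp hG hE J hxP
  have hqU : q ∈ D.posUnipotent F := by
    rw [radical_eq hG hE] at hq
    rw [hG.posUnipotent_eq_US]
    exact US_mono Set.sdiff_subset hq
  have h3 : l * t * l⁻¹ ∈ D.posUnipotent F := by
    have e : l * t * l⁻¹ = q⁻¹ * (q * l * t * (q * l)⁻¹) * q := by group
    rw [e]
    exact mul_mem (mul_mem (inv_mem hqU) h1') hqU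
  have h4 := levi_inf_pos hG hE J (mul_mem (mul_mem hl ht) (inv_mem hl)) h3
  obtain ⟨m, hm, h, hh, rfl⟩ := (mem_levi_iff hG hE J).1 hl
  refine ⟨h⁻¹ * m * h⁻¹⁻¹, diag_norm_ML hG hE J (inv_mem hh) hm, ?_⟩
  have h5 := diag_norm_UL hG hE J (inv_mem hh) h4
  have e : h⁻¹ * m * h⁻¹⁻¹ * t * (h⁻¹ * m * h⁻¹⁻¹)⁻¹ = h⁻¹ * (m * h * t * (m * h)⁻¹) * h⁻¹⁻¹ := by group
  rw [e]
  exact h5

end Cfsg.Agent.H15.Chev
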