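import Cfsg.Agent.H15.ChevInv4

/-!
# Involutions in characteristic two: the inductive step
-/

set_option autoImplicit false
set_option linter.unusedSectionVars false

namespace Cfsg.Agent.H15.Chev

open Cfsg.Agent.H6 Cfsg.Lie Cfsg.Agent.H22
open scoped Matrix

variable {D : ChevalleyDatum} {N : ℕ} {η : ℕ → ℕ → ℤ} {rc : ℕ → ℕ → ℤ} {F : Type*} [Field F]
variable (hG : Good D N η rc) (hE : Ext D rc)
include hG hE

theorem WJ_rep {J : Set ℕ} {w : hG.W} (hw : w ∈ WJ hG J) :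
    ∃ m ∈ ML D rc F J, m ∈ D.monomialSubgroup F ∧ ∃ χ, Mon hG (xg D F) m w χ := by
  obtain ⟨m, hmC, χ, hm⟩ := exists_mono_of_closure (F := F) hG hE hw
  refine ⟨m, ?_, ng_closure_le_mono (F := F) hG hE _ hmC, χ, hm⟩
  have : Subgroup.closure {g : GL D.Idx F | ∃ i ∈ {i : Fin D.rank | (i : ℕ) ∈ J}, g = ng D F i} ≤ ML D rc F J := by
    rw [Subgroup.closure_le]
    rintro _ ⟨i, hi, rfl⟩
    exact ng_mem_ML hG hE hi i.2
  exact this hmC

/-- a nontrivial element of `U_J` is conjugate to an element of a big cell for some dominant root -/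
theorem inv_cell (hV : EvC hG F) {J : Set ℕ} {u : GL D.Idx F} (hu : u ∈ UL D N rc F J) (hne : u ≠ 1) :
    ∃ r₀ : Fin D.nroots, (r₀ : ℕ) ∈ posS D N ∩ Phi D rc J ∧ JDom D J r₀ ∧
      ∃ g ∈ ML D rc F J, ∃ n' w' χ', Mon hG (xg D F) n' w' χ' ∧ w'.1 r₀ = hG.ngf r₀ ∧
        n' ∈ D.leviSubgroup F J ∧ ∃ v ∈ UL D N rc F J, g * u * g⁻¹ = n' * v := by
  classical
  obtain ⟨τ, h1, h2⟩ := hG.exists_op' (hG.rd hE) (UL_pClo hG J) hu
  have hn2 := hG.nroots_eq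
  -- the lead root
  have hex : ∃ r, N ≤ r ∧ r < D.nroots ∧ τ r ≠ 0 := by
    by_contra hc
    push Not at hc
    apply hne
    rw [h2]
    have : op (xg D F) τ N N = op (xg D F) (fun _ => (0 : F)) N N := by
      apply op_congr
      intro r hr hr'
      exact hc r hr (by omega)
    rw [this]
    unfold op
    apply List.prod_eq_one
    intro x hx
    rw [List.mem_map] at hx
    obtain ⟨r, _, rfl⟩ := hx
    exact hG.xg_zero r
  set r := Nat.find hex with hr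
  obtain ⟨hrN, hrl, hτ⟩ := Nat.find_spec hex
  rw [← hr] at hrN hrl hτ
  have hmin : ∀ s, s < r → τ s = 0 := by
    intro s hs
    by_cases hsN : N ≤ s
    · by_contra hc
      exact Nat.find_min hex hs ⟨hsN, by omega, hc⟩
    · exact h1 s fun h => hsN h.1.1
  have hrS : r ∈ posS D N ∩ Phi D rc J := by
    by_contra hc
    exact hτ (h1 r hc)
  obtain ⟨w₀, hw₀, hr₀S, hdom, hmax⟩ := exists_max hG hE (⟨r, hrl⟩ : Fin D.nroots) hrN hrS.2
  set r₀ := w₀.1 ⟨r, hrl⟩ with hr₀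
  obtain ⟨w₁, hw₁, hw₁r⟩ := to_neg hG hE (⟨r, hrl⟩ : Fin D.nroots) hrN hrS.2
  -- the Weyl element
  have hwn : w₀ * w₁ ∈ WJ hG J := mul_mem hw₀ hw₁
  have hwn1 : (w₀ * w₁).1 ⟨r, hrl⟩ = hG.ngf r₀ := by
    change w₀.1 (w₁.1 ⟨r, hrl⟩) = _
    rw [hw₁r, hG.W_neg]
  have hwn2 : ((w₀ * w₁)⁻¹).1 r₀ = hG.ngf ⟨r, hrl⟩ := by
    have e1 : (w₀ * w₁).1 (hG.ngf ⟨r, hrl⟩) = r₀ := by
      rw [hG.W_neg, hwn1]
      exact Fin.ext (hG.neg_neg' r₀.2)
    rw [← e1]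
    exact Equiv.symm_apply_apply (w₀ * w₁).1 _
  obtain ⟨n, hnM, hnN, χ, hm⟩ := WJ_rep (F := F) hG hE hwn
  -- the coefficient
  have hlead := lead_coeff (F := F) hG τ (r := ⟨r, hrl⟩) hrN hmin
  rw [← h2] at hlead
  change ((u : Matrix D.Idx D.Idx F) *ᵥ be D F (D.neg r)) (Sum.inr ⟨r, hrl⟩) = -(τ r) ^ 2 at hlead
  obtain ⟨c₁, hc₁, e₁⟩ := mon_be (F := F) hG hE (inv_mem hnN) hm.inv r₀
  rw [hwn2] at e₁
  obtain ⟨c₂, hc₂, e₂⟩ := mon_coord (F := F) hG hE hnN hm ⟨r, hrl⟩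
  rw [hwn1] at e₂
  have huM : u ∈ ML D rc F J := UL_le_ML hG J hu
  have hcoef : (((n * u * n⁻¹ : GL D.Idx F) : Matrix D.Idx D.Idx F) *ᵥ be D F r₀) (Sum.inr (hG.ngf r₀)) ≠ 0 := by
    rw [Units.val_mul, Units.val_mul, ← Matrix.mulVec_mulVec, ← Matrix.mulVec_mulVec, e₁, e₂, Matrix.mulVec_smul,
      Pi.smul_apply]
    change c₂ * (c₁ • ((u : Matrix D.Idx D.Idx F) *ᵥ be D F (D.neg r)) (Sum.inr ⟨r, hrl⟩)) ≠ 0
    rw [hlead, smul_eq_mul]
    exact mul_ne_zero hc₂ (mul_ne_zero hc₁ (neg_ne_zero.2 (pow_ne_zero 2 hτ)))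
  have hu1 : n * u * n⁻¹ ∈ D.leviSubgroup F J := ML_le_levi hG hE J (mul_mem (mul_mem hnM huM) (inv_mem hnM))
  obtain ⟨y, hy, n', hn'N, w', χ', hm', hn'L, hw', v, hv, he⟩ := levi_bruhat hG hE hu1
  -- `w' r₀ = - r₀`
  have hfix := UL_fix hG hV hr₀S.1 hdom hv
  obtain ⟨c₃, hc₃, e₃⟩ := mon_be (F := F) hG hE hn'N hm' r₀
  rw [he, Units.val_mul, Units.val_mul, ← Matrix.mulVec_mulVec, ← Matrix.mulVec_mulVec, hfix, e₃, Matrix.mulVec_smul,
    Pi.smul_apply] at hcoef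
  have hyne := right_ne_zero_of_mul hcoef
  have hle : (w'.1 r₀ : ℕ) ≤ hG.ngf r₀ := by
    by_contra hc
    push Not at hc
    apply hyne
    have hyU := hG.pos_uni (UL_le_pos hG J hy)
    rw [be_of_lt (w'.1 r₀).2, Matrix.mulVec_single_one]
    by_contra hne0
    have hne' : (Sum.inr (hG.ngf r₀) : D.Idx) ≠ Sum.inr (w'.1 r₀) := by
      intro h
      have := Sum.inr.inj h
      rw [this] at hc
      exact lt_irrefl _ hc
    have h3 := hyU.1 _ _ hne' hne0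
    have h4 := lev_inr_lt (D := D) (N := N) hc
    omega
  have hge := hmax w' hw'
  have hw'r : w'.1 r₀ = hG.ngf r₀ := Fin.ext (le_antisymm hle hge)
  refine ⟨r₀, hr₀S, hdom, y⁻¹ * n, mul_mem (inv_mem (UL_le_ML hG J hy)) hnM, n', w', χ', hm', hw'r, hn'L, v * y,
    mul_mem hv hy, ?_⟩
  have e : y⁻¹ * n * u * (y⁻¹ * n)⁻¹ = y⁻¹ * (n * u * n⁻¹) * y := by group
  rw [e, he]; group

/-- the centralizer in `L_J` of `X_{±r₀}` -/
theorem cent_R (hV : EvC hG F) (h2 : (2 : F) = 0) {J : Set ℕ} {r₀ : Fin D.nroots} (hr : (r₀ : ℕ) ∈ posS D N ∩ Phi D rc J)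
    (hd : JDom D J r₀) {t : GL D.Idx F} (ht : t ∈ D.leviSubgroup F J)
    (hc : ∀ g ∈ US (xg D F) {(r₀ : ℕ), D.neg r₀}, t * g = g * t) : t ∈ D.leviSubgroup F (Jst D J r₀) := by
  have hmem : ∀ b : F, xg D F r₀ b ∈ US (xg D F) {(r₀ : ℕ), D.neg r₀} := fun b => mem_US (Or.inl rfl) b
  have hmem' : ∀ b : F, xg D F (D.neg r₀) b ∈ US (xg D F) {(r₀ : ℕ), D.neg r₀} := fun b => mem_US (Or.inr rfl) b
  obtain ⟨y, hy, n, hn, w, χ, hm, hnL, hw, v, hv, he⟩ := levi_bruhat hG hE ht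
  have hwr : w.1 r₀ = r₀ := by
    have h3 := hc _ (hmem 1)
    have h4 : t * xg D F r₀ 1 * t⁻¹ = xg D F r₀ 1 := by rw [h3]; group
    have hv' := UL_comm hG hV hr.1 hd 1 hv
    have hy' := UL_comm hG hV hr.1 hd 1 hy
    have h5 : n * xg D F r₀ 1 * n⁻¹ = xg D F r₀ 1 := by
      calc n * xg D F r₀ 1 * n⁻¹ = n * (v * xg D F r₀ 1 * v⁻¹) * n⁻¹ := by rw [hv']; group
        _ = y⁻¹ * (t * xg D F r₀ 1 * t⁻¹) * y := by rw [he]; group
        _ = y⁻¹ * (y * xg D F r₀ 1) := by rw [h4, hy', ← mul_assoc]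
        _ = xg D F r₀ 1 := by group
    rw [hm.act] at h5
    exact Fin.ext (hG.xg_inj hE (w.1 r₀).2 r₀.2 (by simp) h5)
  have hw1 := stab_J hG hE hd _ w rfl hw hwr
  obtain ⟨m, hmM, -, -, h, hh, hn'⟩ := mono_of_WJ hG hE hn hm hw1
  set J₁ := Jst D J r₀ with hJ₁
  obtain ⟨q₁, hq₁, a₁, ha₁, rfl⟩ := pos_decomp hG hE J₁ (UL_le_pos hG J hy)
  obtain ⟨q₂, hq₂, a₂, ha₂, rfl⟩ := pos_decomp hG hE J₁ (UL_le_pos hG J hv)
  set x := a₁ * n with hx
  have ha₁L : a₁ ∈ D.leviSubgroup F J₁ := ML_le_levi hG hE J₁ (UL_le_ML hG J₁ ha₁)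
  have ha₂L : a₂ ∈ D.leviSubgroup F J₁ := ML_le_levi hG hE J₁ (UL_le_ML hG J₁ ha₂)
  have hnL₁ : n ∈ D.leviSubgroup F J₁ := by
    rw [hn']; exact mul_mem (ML_le_levi hG hE J₁ hmM) (diag_le_levi hG hE J₁ hh)
  have hxL : x ∈ D.leviSubgroup F J₁ := mul_mem ha₁L hnL₁
  set q := q₁ * (x * q₂ * x⁻¹) with hq
  set l := x * a₂ with hl
  have htq : t = q * l := by rw [he, hq, hl, hx]; group
  have hlL : l ∈ D.leviSubgroup F J₁ := mul_mem hxL ha₂L
  have hqR : q ∈ D.unipotentRadical F J₁ := mul_mem hq₁ (par_norm_rad hG hE J₁ (levi_le_par hG hE J₁ hxL) hq₂)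
  have hsub : J₁ ⊆ J := Jst_sub J r₀
  have hMM : D.leviSubgroup F J₁ ≤ D.leviSubgroup F J := by
    rw [levi_eq hG hE, levi_eq hG hE]
    exact sup_le le_sup_left ((US_mono (phi_mono hG hsub)).trans le_sup_right)
  have hqL : q ∈ D.leviSubgroup F J := by
    have : q = t * l⁻¹ := by rw [htq]; group
    rw [this]
    exact mul_mem ht (inv_mem (hMM hlL))
  have hqU : q ∈ D.posUnipotent F := by
    rw [radical_eq hG hE] at hqR
    rw [hG.posUnipotent_eq_US]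
    exact US_mono Set.sdiff_subset hqR
  have hqUL := levi_inf_pos hG hE J hqL hqU
  -- `q` in the group of positive degree
  have hqS : q ∈ US (xg D F) ((posS D N ∩ Phi D rc J) \ Phi D rc J₁) := by
    have hun : posS D N ∩ Phi D rc J = ((posS D N ∩ Phi D rc J) \ Phi D rc J₁) ∪ (posS D N ∩ Phi D rc J₁) := by
      ext s
      constructor
      · intro hs
        by_cases h' : s ∈ Phi D rc J₁
        · exact Or.inr ⟨hs.1, h'⟩
        · exact Or.inl ⟨hs, h'⟩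
      · rintro (hs | hs)
        · exact hs.1
        · exact ⟨hs.1, phi_mono hG hsub hs.2⟩
    obtain ⟨q', hq', a', ha', hqa⟩ := hG.US_union_mul (hG.rd hE) (UL_pClo hG J) hun hqUL
    have hq'R : q' ∈ D.unipotentRadical F J₁ := by
      rw [radical_eq hG hE]
      have hsb : (posS D N ∩ Phi D rc J) \ Phi D rc J₁ ⊆ posS D N \ Phi D rc J₁ := fun s hs => ⟨hs.1.1, hs.2⟩
      exact US_mono hsb hq'
    have ha'1 : a' ∈ D.unipotentRadical F J₁ ⊓ D.leviSubgroup F J₁ := by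
      refine Subgroup.mem_inf.2 ⟨?_, ML_le_levi hG hE J₁ (UL_le_ML hG J₁ ha')⟩
      have : a' = q'⁻¹ * q := by rw [hqa]; group
      rw [this]
      exact mul_mem (inv_mem hq'R) hqR
    rw [rad_inf_levi hG hE J₁, Subgroup.mem_bot] at ha'1
    rw [hqa, ha'1, mul_one]; exact hq'
  -- conjugate by `n_{r₀}(1)`
  obtain ⟨wν, χν, hmν, hν1, hν2, hν3, -, -, hνN⟩ := nX_facts hG hE h2 r₀ 1
  set ν := nX D (xg D F) r₀ ((1 : Fˣ) : F) with hν
  have hνm : ν ∈ US (xg D F) {(r₀ : ℕ), D.neg r₀} := by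
    rw [hν]; unfold nX
    exact mul_mem (mul_mem (hmem _) (hmem' _)) (hmem _)
  have hνt := hc ν hνm
  set f := D.pairing r₀ with hf
  have hAf := addf_pairing hG (r₀ : ℕ)
  have hAf' : Addf D rc (fun s => - f s) :=
    ⟨fun r hr s hs c hc k h => by rw [hf, hAf.lin r hr s hs c hc k h]; ring,
      fun r hr => by rw [hf, hAf.neg r hr]⟩
  have hfν : ∀ s : Fin D.nroots, f (wν.1 s) = - f s := by
    intro s
    have e1 := hG.pairing_W wν (hG.ngf r₀) s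
    rw [hν2] at e1
    rw [hf, e1]
    change D.pairing (D.neg r₀) s = _
    rw [hG.pairing_eq, hG.pairing_eq, ← Finset.sum_neg_distrib]
    refine Finset.sum_congr rfl fun k hk => ?_
    rw [hG.cor_neg r₀ r₀.2 k (Finset.mem_range.1 hk)]; ring
  have hqup := US_up hG hAf (S := (posS D N ∩ Phi D rc J) \ Phi D rc J₁)
    (fun s hs => ⟨hs.1.1.2, pair_pos hG hV r₀.2 hd hs.1 hs.2⟩) hqS
  have hqν : ν * q * ν⁻¹ ∈ US (xg D F) {s | s < D.nroots ∧ 0 < - f s} := by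
    refine hmν.mem_US (S := (posS D N ∩ Phi D rc J) \ Phi D rc J₁) (fun s hs => hs.1.1.2) ?_ hqS
    intro s hs
    refine ⟨(wν.1 s).2, ?_⟩
    rw [hfν, neg_neg]
    exact pair_pos hG hV r₀.2 hd hs.1 hs.2
  have hqdown := US_up hG hAf' (S := {s | s < D.nroots ∧ 0 < - f s}) (fun s hs => hs) hqν
  have hgrL : ∀ l ∈ D.leviSubgroup F J₁, GrF D f l ∧ GrF D f l⁻¹ ∧ GrF D f (ν * l * ν⁻¹) := by
    intro l hl
    obtain ⟨m, hm, h, hh, rfl⟩ := (mem_levi_iff hG hE J₁).1 hl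
    have g1 : GrF D f m := US_level hG hAf (S := Phi D rc J₁) (fun s hs => ⟨hs.1, pair_zero hG hV r₀.2 hs⟩) hm
    have g1' : GrF D f m⁻¹ := US_level hG hAf (S := Phi D rc J₁) (fun s hs => ⟨hs.1, pair_zero hG hV r₀.2 hs⟩) (inv_mem hm)
    have g2 : GrF D f h := diag_level hG hh
    have g2' : GrF D f h⁻¹ := diag_level hG (inv_mem hh)
    have g3 : GrF D f (ν * m * ν⁻¹) := by
      refine US_level hG hAf (S := {s | s < D.nroots ∧ f s = 0}) (fun s hs => hs) ?_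
      refine hmν.mem_US (S := Phi D rc J₁) (fun s hs => hs.1) ?_ hm
      intro s hs
      refine ⟨(wν.1 s).2, ?_⟩
      rw [hfν, hf, pair_zero hG hV r₀.2 hs, neg_zero]
    have g4 : GrF D f (ν * h * ν⁻¹) := diag_level hG (hG.diagonal_normal_monomial hE hνN hh)
    refine ⟨GrF.mul hG g1 g2, ?_, ?_⟩
    · rw [mul_inv_rev]; exact GrF.mul hG g2' g1'
    · have e : ν * (m * h) * ν⁻¹ = (ν * m * ν⁻¹) * (ν * h * ν⁻¹) := by group
      rw [e]; exact GrF.mul hG g3 g4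
  obtain ⟨-, hl1, hl2⟩ := hgrL l hlL
  have hkey : q = (ν * q * ν⁻¹) * ((ν * l * ν⁻¹) * l⁻¹) := by
    have e1 : ν * t * ν⁻¹ = t := by rw [← hνt]; group
    have e2 : (ν * q * ν⁻¹) * ((ν * l * ν⁻¹) * l⁻¹) = (ν * (q * l) * ν⁻¹) * l⁻¹ := by group
    rw [e2, ← htq, e1, htq]; group
  have hgr := GrF.mul hG hl2 hl1
  have hq1 : q = 1 := by
    apply Units.ext
    funext a b
    by_cases hab : a = b
    · rw [hab, hqup.2 b]
      exact (Matrix.one_apply_eq b).symm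
    · rw [Units.val_one, Matrix.one_apply_ne hab]
      by_contra hne0
      have h3 := hqup.1 a b hab hne0
      rw [hkey, Units.val_mul, Matrix.mul_apply] at hne0
      obtain ⟨c, -, hc'⟩ := Finset.exists_ne_zero_of_sum_ne_zero hne0
      have h4 := hgr c b (right_ne_zero_of_mul hc')
      have h5 : gf D f a ≤ gf D f c := by
        by_cases hac : a = c
        · rw [hac]
        · have := hqdown.1 a c hac (left_ne_zero_of_mul hc')
          have e : ∀ x : D.Idx, gf D (fun s => - f s) x = - gf D f x := by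
            rintro (x | x)
            · exact (neg_zero).symm
            · rfl
          beta_reduce at this
          rw [e, e] at this
          linarith
      have h6 : gf D f b < gf D f a := h3
      omega
  rw [htq, hq1, one_mul]; exact hlL

end Cfsg.Agent.H15.Chev
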