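import Cfsg.Agent.H15.ChevInv5

/-!
# Involutions in characteristic two: chains of orthogonal roots
-/

set_option autoImplicit false
set_option linter.unusedSectionVars false

namespace Cfsg.Agent.H15.Chev

open Cfsg.Agent.H6 Cfsg.Lie Cfsg.Agent.H22
open scoped Matrix

variable {D : ChevalleyDatum} {N : ℕ} {η : ℕ → ℕ → ℤ} {rc : ℕ → ℕ → ℤ} {F : Type*} [Field F]

/-- products of root elements `x_r(1)` -/
noncomputable def prodX (D : ChevalleyDatum) (F : Type*) [Field F] (S : List ℕ) : GL D.Idx F :=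
  (S.map fun r => xg D F r 1).prod

/-- enumeration of the normal forms -/
def chainsL (D : ChevalleyDatum) (N : ℕ) : ℕ → List ℕ → List (List ℕ)
  | 0, _ => [[]]
  | n + 1, L => [] :: ((List.range' N N).filter (fun r =>
      ((List.range D.rank).all fun i => decide (i ∈ L) || decide (cor D r i = 0)) &&
      (L.all fun j => decide (j < D.rank → 0 ≤ D.cartan j r)))).flatMap
        (fun r => (chainsL D N n (L.filter fun j => decide (D.cartan j r = 0))).map (r :: ·))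

variable (hG : Good D N η rc) (hE : Ext D rc)
include hG hE

theorem inv_step [Fintype F] [CharP F 2] (hV : EvC hG F) (h2 : (2 : F) = 0) (hsq : ∀ c : F, ∃ a, a ^ 2 = c)
    {J : Set ℕ} {u : GL D.Idx F} (hu : u ∈ UL D N rc F J) (hu2 : u * u = 1) (hne : u ≠ 1) :
    ∃ r₀ : Fin D.nroots, (r₀ : ℕ) ∈ posS D N ∩ Phi D rc J ∧ JDom D J r₀ ∧
      ∃ g ∈ ML D rc F J, ∃ u' ∈ UL D N rc F (Jst D J r₀), u' * u' = 1 ∧ g * u * g⁻¹ = xg D F r₀ 1 * u' := by
  obtain ⟨r₀, hr, hd, g, hg, n', w', χ', hm', hw'r, hn'L, v, hv, he⟩ := inv_cell hG hE hV hu hne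
  refine ⟨r₀, hr, hd, ?_⟩
  set u2 := g * u * g⁻¹ with hu2d
  have hu22 : u2 * u2 = 1 := by
    have : u2 * u2 = g * (u * u) * g⁻¹ := by rw [hu2d]; group
    rw [this, hu2]; group
  have hu2inv : u2⁻¹ = u2 := inv_eq_of_mul_eq_one_left hu22
  have hact : ∀ b : F, u2 * xg D F r₀ b * u2⁻¹ = xg D F (D.neg r₀) ((χ' r₀ : F) * b) := by
    intro b
    have h1 := UL_comm hG hV hr.1 hd b hv
    have h3 := hm'.act r₀ b
    rw [hw'r] at h3
    have e1 : u2 * xg D F r₀ b * u2⁻¹ = n' * (v * xg D F r₀ b * v⁻¹) * n'⁻¹ := by rw [he]; group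
    rw [e1, h1, mul_inv_cancel_right]
    exact h3
  have hχ0 : (χ' r₀ : F) ≠ 0 := Units.ne_zero _
  obtain ⟨s, hs⟩ := hsq (χ' r₀ : F)⁻¹
  have hs0 : s ≠ 0 := by
    rintro rfl
    apply inv_ne_zero hχ0
    rw [← hs]; ring
  obtain ⟨wν, χν, -, -, -, t1sq, ta, tb, -⟩ := nX_facts hG hE h2 r₀ (Units.mk0 s hs0)
  rw [Units.val_mk0] at t1sq ta tb
  set t1 := nX D (xg D F) r₀ s with ht1
  have hsinv : s⁻¹ ^ 2 = (χ' r₀ : F) := by
    rw [inv_pow, hs, inv_inv]
  have hmem : ∀ b : F, xg D F r₀ b ∈ US (xg D F) {(r₀ : ℕ), D.neg r₀} := fun b => mem_US (Or.inl rfl) b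
  have hmem' : ∀ b : F, xg D F (D.neg r₀) b ∈ US (xg D F) {(r₀ : ℕ), D.neg r₀} := fun b => mem_US (Or.inr rfl) b
  have ht1m : t1 ∈ US (xg D F) {(r₀ : ℕ), D.neg r₀} := by
    rw [ht1]; unfold nX
    exact mul_mem (mul_mem (hmem _) (hmem' _)) (hmem _)
  have hRM : US (xg D F) {(r₀ : ℕ), D.neg r₀} ≤ ML D rc F J := by
    apply US_mono
    rintro a (ha | ha)
    · rw [ha]; exact hr.2
    · rw [Set.mem_singleton_iff] at ha
      rw [ha]; exact phi_neg hG hr.2
  set t2 := t1 * u2 with ht2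
  have ht2inv : t2⁻¹ = u2 * t1 := by
    have e1 : t1⁻¹ = t1 := inv_eq_of_mul_eq_one_left t1sq
    rw [ht2, mul_inv_rev, hu2inv, e1]
  have hc1 : ∀ b : F, t2 * xg D F r₀ b * t2⁻¹ = xg D F r₀ b := by
    intro b
    have e1 : t2 * xg D F r₀ b * t2⁻¹ = t1 * (u2 * xg D F r₀ b * u2⁻¹) * t1⁻¹ := by rw [ht2]; group
    rw [e1, hact, tb, hs]
    congr 1
    field_simp
  have hc2 : ∀ b : F, t2 * xg D F (D.neg r₀) b * t2⁻¹ = xg D F (D.neg r₀) b := by
    intro b
    have e0 : xg D F (D.neg r₀) b = u2 * xg D F r₀ ((χ' r₀ : F)⁻¹ * b) * u2⁻¹ := by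
      rw [hact]
      congr 1
      field_simp
    have e1 : t2 * xg D F (D.neg r₀) b * t2⁻¹ = t1 * ((u2 * u2) * xg D F r₀ ((χ' r₀ : F)⁻¹ * b) * (u2 * u2)⁻¹) * t1⁻¹ := by
      rw [e0, ht2]; group
    rw [e1, hu22, one_mul, inv_one, mul_one, ta, hsinv]
    congr 1
    field_simp
  have hcR : ∀ g' ∈ US (xg D F) {(r₀ : ℕ), D.neg r₀}, t2 * g' = g' * t2 := by
    have h : US (xg D F) {(r₀ : ℕ), D.neg r₀} ≤ Subgroup.centralizer {t2} := by
      rw [US_le]
      rintro a (ha | ha) b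
      · rw [ha, Subgroup.mem_centralizer_singleton_iff]
        have := hc1 b
        nth_rw 1 [← this]
        group
      · rw [Set.mem_singleton_iff] at ha
        rw [ha, Subgroup.mem_centralizer_singleton_iff]
        have := hc2 b
        nth_rw 1 [← this]
        group
    intro g' hg'
    have := h hg'
    rw [Subgroup.mem_centralizer_singleton_iff] at this
    exact this.symm
  have huM : u ∈ ML D rc F J := UL_le_ML hG J hu
  have ht2L : t2 ∈ D.leviSubgroup F J :=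
    ML_le_levi hG hE J (mul_mem (hRM ht1m) (mul_mem (mul_mem hg huM) (inv_mem hg)))
  have ht2L₁ := cent_R hG hE hV h2 hr hd ht2L hcR
  have hu2t : u2 = t1 * t2 := by rw [ht2, ← mul_assoc, t1sq, one_mul]
  have ht2sq : t2 * t2 = 1 := by
    have e1 := hcR t1 ht1m
    calc t2 * t2 = (t1 * t1) * (t2 * t2) := by rw [t1sq, one_mul]
      _ = t1 * (t1 * t2) * t2 := by simp only [mul_assoc]
      _ = t1 * (t2 * t1) * t2 := by rw [e1]
      _ = (t1 * t2) * (t1 * t2) := by simp only [mul_assoc]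
      _ = 1 := by rw [← hu2t, hu22]
  obtain ⟨m, hm, hmU⟩ := levi_sylow hG hE 2 ht2L₁ ⟨1, by rw [pow_one, pow_two, ht2sq]⟩
  obtain ⟨ρ, hρ, hρe⟩ := nX_conj hG hE h2 hsq r₀ (Units.mk0 s hs0)
  rw [Units.val_mk0, ← ht1] at hρe
  set u' := m * t2 * m⁻¹ with hu'
  have hmt := ML_comm hG hV r₀.2 hm ht1m
  have huρ := ML_comm hG hV r₀.2 (UL_le_ML hG _ hmU) hρ
  have hsub := phi_mono (rc := rc) hG (Jst_sub (D := D) J (r₀ : ℕ))
  refine ⟨ρ * m * g, mul_mem (mul_mem (hRM hρ) (US_mono hsub hm)) hg, u', hmU, ?_, ?_⟩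
  · have : u' * u' = m * (t2 * t2) * m⁻¹ := by rw [hu']; group
    rw [this, ht2sq]; group
  · calc ρ * m * g * u * (ρ * m * g)⁻¹ = ρ * (m * u2 * m⁻¹) * ρ⁻¹ := by rw [hu2d]; group
      _ = ρ * ((m * t1) * t2 * m⁻¹) * ρ⁻¹ := by rw [hu2t]; simp only [mul_assoc]
      _ = ρ * (t1 * u') * ρ⁻¹ := by rw [hmt, hu']; simp only [mul_assoc]
      _ = (ρ * t1 * ρ⁻¹) * (ρ * u' * ρ⁻¹) := by group
      _ = xg D F r₀ 1 * u' := by rw [hρe, ← huρ, mul_inv_cancel_right]

theorem inv_chain [Fintype F] [CharP F 2] (hV : EvC hG F) (h2 : (2 : F) = 0) (hsq : ∀ c : F, ∃ a, a ^ 2 = c) :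
    ∀ (n : ℕ) (L : List ℕ), L.length ≤ n → ∀ u ∈ UL D N rc F {j | j ∈ L}, u * u = 1 →
      ∃ S ∈ chainsL D N n L, ∃ g ∈ ML D rc F {j | j ∈ L}, g * u * g⁻¹ = prodX D F S := by
  intro n
  induction n with
  | zero =>
    intro L hL u hu hu2
    refine ⟨[], by simp [chainsL], 1, one_mem _, ?_⟩
    by_cases hne : u = 1
    · rw [hne]; simp [prodX]
    · obtain ⟨r₀, hr, -, -⟩ := inv_step hG hE hV h2 hsq hu hu2 hne
      obtain ⟨j, hj, -, -⟩ := exists_desc hG hr.2 hr.1.1 hE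
      have : L = [] := List.eq_nil_of_length_eq_zero (by omega)
      rw [this] at hj
      exact absurd hj (by simp)
  | succ n ih =>
    intro L hL u hu hu2
    by_cases hne : u = 1
    · exact ⟨[], by simp [chainsL], 1, one_mem _, by rw [hne]; simp [prodX]⟩
    · obtain ⟨r₀, hr, hd, g, hg, u', hu', hu'2, he⟩ := inv_step hG hE hV h2 hsq hu hu2 hne
      obtain ⟨j, hj, hjr, hjpos⟩ := exists_desc hG hr.2 hr.1.1 hE
      set L₁ := L.filter fun j => decide (D.cartan j r₀ = 0) with hL₁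
      have hlen : L₁.length < L.length := by
        rw [hL₁, List.length_filter_lt_length_iff_exists]
        refine ⟨j, hj, ?_⟩
        rw [decide_eq_true_eq]
        omega
      have hset : {j | j ∈ L₁} = Jst D {j | j ∈ L} (r₀ : ℕ) := by
        ext k
        rw [hL₁]
        simp [Jst]
      obtain ⟨S, hS, g', hg', he'⟩ := ih L₁ (by omega) u' (by rw [hset]; exact hu') hu'2
      rw [hset] at hg'
      refine ⟨(r₀ : ℕ) :: S, ?_, g' * g, mul_mem (US_mono (phi_mono (rc := rc) hG (Jst_sub (D := D) _ (r₀ : ℕ))) hg') hg, ?_⟩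
      · rw [chainsL, List.mem_cons]
        right
        rw [List.mem_flatMap]
        refine ⟨r₀, ?_, ?_⟩
        · rw [List.mem_filter]
          refine ⟨?_, ?_⟩
          · rw [List.mem_range'_1]
            have := hG.nroots_eq
            have h3 := r₀.2
            exact ⟨hr.1.1, by omega⟩
          · rw [Bool.and_eq_true, List.all_eq_true, List.all_eq_true]
            refine ⟨fun i hi => ?_, fun k hk => ?_⟩
            · rw [Bool.or_eq_true, decide_eq_true_eq, decide_eq_true_eq]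
              by_cases hiL : i ∈ L
              · exact Or.inl hiL
              · exact Or.inr ((hE.cor_zero r₀ r₀.2 i (List.mem_range.1 hi)).2 (hr.2.2 i (List.mem_range.1 hi) hiL))
            · rw [decide_eq_true_eq]
              exact fun hkr => hd k hk hkr
        · rw [List.mem_map]
          exact ⟨S, hS, rfl⟩
      · have hcomm := ML_comm hG hV r₀.2 hg' (g := xg D F r₀ 1) (mem_US (Or.inl rfl) 1)
        calc g' * g * u * (g' * g)⁻¹ = g' * (g * u * g⁻¹) * g'⁻¹ := by group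
          _ = (g' * xg D F r₀ 1) * u' * g'⁻¹ := by rw [he]; simp only [mul_assoc]
          _ = xg D F r₀ 1 * (g' * u' * g'⁻¹) := by rw [hcomm]; simp only [mul_assoc]
          _ = prodX D F ((r₀ : ℕ) :: S) := by rw [he']; simp [prodX]

/-- normal forms of involutions -/
theorem inv_main [Fintype F] [CharP F 2] (hV : EvC hG F) {g : GL D.Idx F} (hg : g ∈ D.group F) (hg2 : g * g = 1) (hne : g ≠ 1) :
    ∃ S ∈ chainsL D N D.rank (List.range D.rank), S ≠ [] ∧ ∃ h ∈ D.group F, h * g * h⁻¹ = prodX D F S := by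
  have h2 : (2 : F) = 0 := CharTwo.two_eq_zero
  have hsq : ∀ c : F, ∃ a, a ^ 2 = c := by
    intro c
    obtain ⟨a, ha⟩ := FiniteField.isSquare_of_char_two (F := F) (ringChar.eq F 2) c
    exact ⟨a, by rw [pow_two]; exact ha.symm⟩
  have hPhi : Phi D rc {j | j ∈ List.range D.rank} = {r | r < D.nroots} := by
    ext r
    constructor
    · exact fun h => h.1
    · intro h
      refine ⟨h, fun i hi hiJ => absurd ?_ hiJ⟩
      exact List.mem_range.2 hi
  have hML : ML D rc F {j | j ∈ List.range D.rank} = D.group F := by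
    rw [hG.group_eq_US]
    change US (xg D F) (Phi D rc _) = _
    rw [hPhi]
  have hgL : g ∈ D.leviSubgroup F {j | j ∈ List.range D.rank} := ML_le_levi hG hE _ (by rw [hML]; exact hg)
  obtain ⟨m, hm, hmU⟩ := levi_sylow hG hE 2 hgL ⟨1, by rw [pow_one, pow_two, hg2]⟩
  have hsqm : (m * g * m⁻¹) * (m * g * m⁻¹) = 1 := by
    have : (m * g * m⁻¹) * (m * g * m⁻¹) = m * (g * g) * m⁻¹ := by group
    rw [this, hg2]; group
  obtain ⟨S, hS, h, hh, he⟩ := inv_chain hG hE hV h2 hsq D.rank (List.range D.rank) (by rw [List.length_range]) _ hmU hsqm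
  rw [hML] at hh hm
  refine ⟨S, hS, ?_, h * m, mul_mem hh hm, ?_⟩
  · rintro rfl
    apply hne
    have e : g = (h * m)⁻¹ * (h * (m * g * m⁻¹) * h⁻¹) * (h * m) := by group
    rw [e, he]
    simp [prodX]
  · rw [← he]; group

end Cfsg.Agent.H15.Chev
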