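import Cfsg.Agent.H15.ChevMod4

/-!
# Involution classes in characteristic two: reduction to certificates
-/

set_option autoImplicit false
set_option linter.unusedSectionVars false

namespace Cfsg.Agent.H15.Chev

open Cfsg.Agent.H6 Cfsg.Lie Cfsg.Agent.H22
open scoped Matrix

def okEv (D : ChevalleyDatum) (i s : ℕ) : Bool :=
  decide (s = D.simple i) || decide (s = D.neg (D.simple i)) || decide (D.cartan i s < 0) ||
  ((D.commTerms (D.simple i) s).all (fun c => decide (c.2.1 % 2 = 0)) && (D.chainEntry s (D.simple i)).all (fun e => decide (e.2 % 2 = 0)))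
def tabEv (D : ChevalleyDatum) : Bool := (List.range D.rank).all fun i => (List.range D.nroots).all (okEv D i)
def okSym (D : ChevalleyDatum) (i r : ℕ) : Bool :=
  (decide (D.cartan i r = 0) == decide (D.pairing r (D.simple i) = 0)) &&
  (decide (D.cartan i r < 0) || decide (0 ≤ D.pairing r (D.simple i)))
def tabSym (D : ChevalleyDatum) : Bool := (List.range D.rank).all fun i => (List.range D.nroots).all (okSym D i)

variable {D : ChevalleyDatum} {N : ℕ} {η : ℕ → ℕ → ℤ} {rc : ℕ → ℕ → ℤ} {F : Type*} [Field F]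
variable (hG : Good D N η rc) (hE : Ext D rc)

theorem cast_even (h2 : (2 : F) = 0) {m : ℤ} (h : m % 2 = 0) : ((m : ℤ) : F) = 0 := by
  rw [cast_mod2 h2, if_neg (by omega)]

theorem chainVec_zero (t : F) : ∀ (L : List (ℕ × ℤ)) (k : ℕ), (∀ e ∈ L, ((e.2 : ℤ) : F) = 0) → chainVec D F t k L = 0 := by
  intro L
  induction L with
  | nil => intro k _; rfl
  | cons a L ih =>
    obtain ⟨u, m⟩ := a
    intro k h
    have h1 : ((m : ℤ) : F) = 0 := h (u, m) List.mem_cons_self
    rw [chainVec, ih (k + 1) fun e he => h e (List.mem_cons_of_mem _ he), h1, zero_mul, zero_smul, add_zero]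

include hG hE

/-- the hypotheses from tables -/
theorem evC_of (h2 : (2 : F) = 0) (h1 : tabEv D = true) (h3 : tabSym D = true) : EvC hG F := by
  have hT : ∀ i < D.rank, ∀ s < D.nroots, s ≠ D.simple i → s ≠ D.neg (D.simple i) → 0 ≤ D.cartan i s →
      (∀ c ∈ D.commTerms (D.simple i) s, ((c.2.1 : ℤ) : F) = 0) ∧
      (∀ e ∈ D.chainEntry s (D.simple i), ((e.2 : ℤ) : F) = 0) := by
    intro i hi s hs hne hne' hc
    unfold tabEv at h1
    rw [List.all_eq_true] at h1
    have h4 := h1 i (List.mem_range.2 hi)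
    rw [List.all_eq_true] at h4
    have h5 := h4 s (List.mem_range.2 hs)
    unfold okEv at h5
    rw [Bool.or_eq_true, Bool.or_eq_true, Bool.or_eq_true, Bool.and_eq_true, decide_eq_true_eq, decide_eq_true_eq,
      decide_eq_true_eq, List.all_eq_true, List.all_eq_true] at h5
    rcases h5 with ((h5 | h5) | h5) | ⟨h5, h6⟩
    · exact absurd h5 hne
    · exact absurd h5 hne'
    · omega
    · exact ⟨fun c hc => cast_even h2 (by simpa using h5 c hc), fun e he => cast_even h2 (by simpa using h6 e he)⟩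
  have hS : ∀ i < D.rank, ∀ r < D.nroots, okSym D i r = true := by
    intro i hi r hr
    unfold tabSym at h3
    rw [List.all_eq_true] at h3
    have h4 := h3 i (List.mem_range.2 hi)
    rw [List.all_eq_true] at h4
    exact h4 r (List.mem_range.2 hr)
  -- reduction to simple roots
  have hred : ∀ r s : Fin D.nroots, s ≠ r → s ≠ hG.ngf r → 0 ≤ D.pairing r s →
      ∃ (w : hG.W) (i : Fin D.rank), w.1 r = hG.sr i ∧ (w.1 s : ℕ) ≠ D.simple i ∧ (w.1 s : ℕ) ≠ D.neg (D.simple i) ∧
        0 ≤ D.cartan i (w.1 s) := by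
    intro r s hne hne' hp
    obtain ⟨w, i, hw⟩ := exists_to_simple hG r
    refine ⟨w, i, hw, ?_, ?_, ?_⟩
    · intro h
      apply hne
      apply w.1.injective
      rw [hw]
      exact Fin.ext h
    · intro h
      apply hne'
      apply w.1.injective
      rw [hG.W_neg, hw]
      exact Fin.ext h
    · have h4 := hG.pairing_W w r s
      rw [hw] at h4
      rw [← h4] at hp
      have h5 : D.pairing (hG.sr i) (w.1 s) = D.cartan i (w.1 s) := hG.pairing_simple i.2 (w.1 s).2
      rwa [h5] at hp
  constructor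
  · intro r s hne hne' hp t u
    obtain ⟨w, i, hw, e1, e2, e3⟩ := hred r s hne hne' hp
    obtain ⟨n, hn, χ, hm⟩ := hG.exists_rep (F := F) hE w
    have h4 := (hT i i.2 _ (w.1 s).2 e1 e2 e3).1
    have key : ∀ a b : F, xg D F (w.1 s) b * xg D F (D.simple i) a = xg D F (D.simple i) a * xg D F (w.1 s) b := by
      intro a b
      have h5 := (hG.rd (F := F) hE).comm _ (hG.simple_lt i i.2) _ (w.1 s).2 e1 e2 a b
      rw [h5]
      have h6 : xw (xg D F) (D.commWord F (D.simple i) (w.1 s) a b) = 1 := by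
        unfold xw ChevalleyDatum.commWord
        apply List.prod_eq_one
        intro x hx
        rw [List.map_map, List.mem_map] at hx
        obtain ⟨c, hc, rfl⟩ := hx
        change xg D F c.1 (((c.2.1 : ℤ) : F) * (-a) ^ c.2.2.1 * b ^ c.2.2.2) = 1
        rw [h4 c hc, zero_mul, zero_mul, hG.xg_zero]
      rw [h6, mul_one]
    have h5 := hm.act r t
    have h6 := hm.act s u
    rw [hw] at h5
    have h7 := key ((χ r : F) * t) ((χ s : F) * u)
    change _ = xg D F (D.simple i) _ at h5
    rw [← h5, ← h6] at h7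
    have e4 : n * (xg D F s u * xg D F r t) * n⁻¹ = n * (xg D F r t * xg D F s u) * n⁻¹ := by
      calc _ = n * xg D F s u * n⁻¹ * (n * xg D F r t * n⁻¹) := by group
        _ = _ := by rw [h7]; group
    have e5 := mul_left_cancel (mul_right_cancel e4)
    exact e5.symm
  · intro r s hne hne' hp t
    obtain ⟨w, i, hw, e1, e2, e3⟩ := hred r s hne hne' hp
    obtain ⟨n, hn, χ, hm⟩ := hG.exists_rep (F := F) hE w
    have h4 := (hT i i.2 _ (w.1 s).2 e1 e2 e3).2
    have hsne : D.simple i ≠ D.neg (w.1 s) := by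
      intro h
      apply e2
      rw [h, hG.neg_neg' (w.1 s).2]
    have key : D.x F (w.1 s) ((χ s : F) * t) *ᵥ be D F (D.simple i) = be D F (D.simple i) := by
      rw [x_be (w.1 s).2 (hG.simple_lt i i.2) (hG.keys _) (fun h => e1 h.symm) hsne, chainVec_zero _ _ _ h4, add_zero]
    obtain ⟨c, hc, e4⟩ := mon_be (F := F) hG hE hn hm r
    rw [hw] at e4
    change _ = c • be D F (D.simple i) at e4
    have h6 := hm.act s t
    have h7 : xg D F s t = n⁻¹ * xg D F (w.1 s) ((χ s : F) * t) * n := by rw [← h6]; group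
    rw [← hG.coe_xg, h7, Units.val_mul, Units.val_mul, ← Matrix.mulVec_mulVec, ← Matrix.mulVec_mulVec, e4,
      Matrix.mulVec_smul, hG.coe_xg, key, ← e4, Matrix.mulVec_mulVec, ← Units.val_mul, inv_mul_cancel, Units.val_one,
      Matrix.one_mulVec]
  · intro i hi r hr
    have := hS i hi r hr
    unfold okSym at this
    rw [Bool.and_eq_true, beq_iff_eq] at this
    have h4 := this.1
    constructor
    · intro h
      rw [decide_eq_true h] at h4
      exact of_decide_eq_true h4.symm
    · intro h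
      rw [decide_eq_true (p := D.pairing r (D.simple i) = 0) h] at h4
      exact of_decide_eq_true h4
  · intro i hi r hr h
    have := hS i hi r hr
    unfold okSym at this
    rw [Bool.and_eq_true, Bool.or_eq_true, decide_eq_true_eq, decide_eq_true_eq] at this
    rcases this.2 with h4 | h4
    · omega
    · exact h4

theorem chain_comm (hV : EvC hG F) : ∀ (n : ℕ) (L : List ℕ), ∀ S ∈ chainsL D N n L,
    (∀ a ∈ S, a ∈ Phi D rc {j | j ∈ L}) ∧ (S.map fun r => xg D F r 1).Pairwise Commute := by
  intro n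
  induction n with
  | zero =>
    intro L S hS
    simp only [chainsL, List.mem_singleton] at hS
    subst hS
    exact ⟨fun a ha => absurd ha (by simp), List.Pairwise.nil⟩
  | succ n ih =>
    intro L S hS
    rw [chainsL, List.mem_cons, List.mem_flatMap] at hS
    rcases hS with rfl | ⟨r, hr, hS⟩
    · exact ⟨fun a ha => absurd ha (by simp), List.Pairwise.nil⟩
    · rw [List.mem_map] at hS
      obtain ⟨S', hS', rfl⟩ := hS
      rw [List.mem_filter, List.mem_range'_1, Bool.and_eq_true, List.all_eq_true] at hr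
      have hn2 := hG.nroots_eq
      have hrl : r < D.nroots := by omega
      have hrPhi : r ∈ Phi D rc {j | j ∈ L} := by
        refine ⟨hrl, fun i hi hiL => ?_⟩
        have h4 := hr.2.1 i (List.mem_range.2 hi)
        rw [Bool.or_eq_true, decide_eq_true_eq, decide_eq_true_eq] at h4
        rcases h4 with h4 | h4
        · exact absurd h4 hiL
        · exact (hE.cor_zero r hrl i hi).1 h4
      have hset : {j | j ∈ L.filter fun j => decide (D.cartan j r = 0)} = Jst D {j | j ∈ L} r := by
        ext k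
        simp [Jst]
      obtain ⟨h5, h6⟩ := ih _ S' hS'
      rw [hset] at h5
      refine ⟨?_, ?_⟩
      · intro a ha
        rw [List.mem_cons] at ha
        rcases ha with rfl | ha
        · exact hrPhi
        · exact phi_mono (rc := rc) hG (Jst_sub _ _) (h5 a ha)
      · rw [List.map_cons, List.pairwise_cons]
        refine ⟨?_, h6⟩
        intro x hx
        rw [List.mem_map] at hx
        obtain ⟨a, ha, rfl⟩ := hx
        have := ML_comm hG hV (J := {j | j ∈ L}) hrl (v := xg D F a 1) (mem_US (h5 a ha) 1) (g := xg D F r 1)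
          (mem_US (Or.inl rfl) 1)
        exact this.symm

/-- the certificate table -/
def okT (E : ℕ → List (ℕ × ℕ)) (w n d : ℕ) (e : List ℕ × List ℕ × List ℕ) : Bool :=
  (e.2.2 ++ e.1).all (okEnt E n d) && (e.2.1 ++ e.2.2).all (okEnt E n d) &&
    Nat.beq (wordM E d w (e.2.2 ++ e.1)) (wordM E d w (e.2.1 ++ e.2.2))

/-- involutions are conjugate to the representatives -/
theorem inv_reps [Fintype F] [CharP F 2] (hV : EvC hG F) (E : ℕ → List (ℕ × ℕ)) (hEe : E = ent D) (w n d : ℕ)
    (hn : n = D.nroots) (hd : d = D.rank + D.nroots) (hw : d ≤ w) (T : List (List ℕ × List ℕ × List ℕ))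
    (hA : T.all (okT E w n d) = true)
    (hB : ((chainsL D N D.rank (List.range D.rank)).all fun S => S.isEmpty || T.any fun e => S.isPerm e.1) = true)
    {g : GL D.Idx F} (hg : g ∈ D.group F) (hg2 : g * g = 1) (hne : g ≠ 1) :
    ∃ e ∈ T, ∃ h ∈ D.group F, h * g * h⁻¹ = prodX D F e.2.1 := by
  have h2 : (2 : F) = 0 := CharTwo.two_eq_zero
  obtain ⟨S, hS, hSne, h, hh, he⟩ := inv_main hG hE hV hg hg2 hne
  rw [List.all_eq_true] at hB
  have h4 := hB S hS
  rw [Bool.or_eq_true, List.any_eq_true] at h4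
  rcases h4 with h4 | ⟨e, heT, hperm⟩
  · exact absurd (List.isEmpty_iff.1 h4) hSne
  · have hp : S.Perm e.1 := List.isPerm_iff.1 hperm
    have h5 := (chain_comm (F := F) hG hE hV _ _ S hS).2
    have h6 : prodX D F S = prodX D F e.1 := by
      unfold prodX
      exact (hp.map _).prod_eq' h5
    rw [List.all_eq_true] at hA
    have h7 := hA e heT
    unfold okT at h7
    rw [Bool.and_eq_true, Bool.and_eq_true] at h7
    have h8 := word_eq2 (F := F) hG h2 E hEe w n d hn hd hw h7.1.1 h7.1.2 (Nat.eq_of_beq_eq_true h7.2)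
    rw [prodX_append, prodX_append] at h8
    refine ⟨e, heT, prodX D F e.2.2 * h, mul_mem (prodX_mem hG _) hh, ?_⟩
    calc prodX D F e.2.2 * h * g * (prodX D F e.2.2 * h)⁻¹ = prodX D F e.2.2 * (h * g * h⁻¹) * (prodX D F e.2.2)⁻¹ := by group
      _ = prodX D F e.2.1 := by rw [he, h6, h8, mul_inv_cancel_right]

/-- certificates for the representatives -/
def okR (E : ℕ → List (ℕ × ℕ)) (w n d : ℕ) (e : List ℕ × List (ℕ × List ℕ)) : Bool :=
  (e.1 ++ e.1).all (okEnt E n d) && Nat.beq (wordM E d w (e.1 ++ e.1)) (idM d w) && Nat.ble 1 e.2.length &&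
    chkR w d (Nat.xor (wordM E d w e.1) (idM d w)) e.2

theorem okR_spec (h2 : (2 : F) = 0) (E : ℕ → List (ℕ × ℕ)) (hEe : E = ent D) (w n d : ℕ)
    (hn : n = D.nroots) (hd : d = D.rank + D.nroots) (hw : d ≤ w) {e : List ℕ × List (ℕ × List ℕ)}
    (h : okR E w n d e = true) : orderOf (prodX D F e.1) = 2 ∧
      (((prodX D F e.1 : GL D.Idx F) : Matrix D.Idx D.Idx F) - 1).rank = e.2.length := by
  unfold okR at h
  rw [Bool.and_eq_true, Bool.and_eq_true, Bool.and_eq_true] at h
  obtain ⟨⟨⟨h3, h4⟩, h5⟩, h6⟩ := h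
  have h7 : e.1.all (okEnt E n d) = true := by
    rw [List.all_append, Bool.and_eq_true] at h3
    exact h3.1
  have hr := rank_prodX (F := F) hG h2 E hEe w n d hn hd hw h7 e.2 h6
  have hsq : prodX D F e.1 * prodX D F e.1 = 1 := by
    have := word_eq2 (F := F) hG h2 E hEe w n d hn hd hw (S := e.1 ++ e.1) (T := []) h3 rfl (Nat.eq_of_beq_eq_true h4)
    rw [prodX_append] at this
    exact this
  refine ⟨?_, hr⟩
  apply orderOf_eq_prime
  · rw [pow_two]; exact hsq
  · intro h1
    rw [h1, Units.val_one, sub_self, Matrix.rank_zero] at hr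
    have := Nat.le_of_ble_eq_true h5
    omega

end Cfsg.Agent.H15.Chev
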