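import Cfsg.Agent.H15.ChevInv7

/-!
# Involution classes in characteristic two: final forms
-/

set_option autoImplicit false
set_option linter.unusedSectionVars false

namespace Cfsg.Agent.H15.Chev

open Cfsg.Agent.H6 Cfsg.Lie Cfsg.Agent.H22
open scoped Matrix

variable {D : ChevalleyDatum} {N : ℕ} {η : ℕ → ℕ → ℤ} {rc : ℕ → ℕ → ℤ} {F : Type*} [Field F]
variable (hG : Good D N η rc) (hE : Ext D rc)
include hG hE

theorem classes3 [Fintype F] [CharP F 2] (hV : EvC hG F) (E : ℕ → List (ℕ × ℕ)) (hEe : E = ent D) (w n d : ℕ)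
    (hn : n = D.nroots) (hd : d = D.rank + D.nroots) (hw : d ≤ w) (T : List (List ℕ × List ℕ × List ℕ))
    (hA : T.all (okT E w n d) = true)
    (hB : ((chainsL D N D.rank (List.range D.rank)).all fun S => S.isEmpty || T.any fun e => S.isPerm e.1) = true)
    (RC : List (List ℕ × List (ℕ × List ℕ))) (hC : RC.all (okR E w n d) = true)
    (hTR : (T.all fun e => decide (e.2.1 ∈ RC.map Prod.fst)) = true) (hnd : (RC.map fun e => e.2.length).Nodup) :
    (∀ y : GL D.Idx F, (y : Matrix D.Idx D.Idx F) ∈ RC.map (fun e => ((prodX D F e.1 : GL D.Idx F) : Matrix D.Idx D.Idx F)) →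
      y ∈ D.group F ∧ orderOf y = 2) ∧
    (∀ g ∈ D.group F, orderOf g = 2 → ∃ y ∈ D.group F,
      (y : Matrix D.Idx D.Idx F) ∈ RC.map (fun e => ((prodX D F e.1 : GL D.Idx F) : Matrix D.Idx D.Idx F)) ∧
        ∃ h ∈ D.group F, h * g * h⁻¹ = y) ∧
    (∀ y₁ ∈ D.group F, ∀ y₂ ∈ D.group F,
      (y₁ : Matrix D.Idx D.Idx F) ∈ RC.map (fun e => ((prodX D F e.1 : GL D.Idx F) : Matrix D.Idx D.Idx F)) →
      (y₂ : Matrix D.Idx D.Idx F) ∈ RC.map (fun e => ((prodX D F e.1 : GL D.Idx F) : Matrix D.Idx D.Idx F)) →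
      (∃ h ∈ D.group F, h * y₁ * h⁻¹ = y₂) → (y₁ : Matrix D.Idx D.Idx F) = (y₂ : Matrix D.Idx D.Idx F)) := by
  have h2 : (2 : F) = 0 := CharTwo.two_eq_zero
  rw [List.all_eq_true] at hC hTR
  have hspec := fun e he => okR_spec (F := F) hG hE h2 E hEe w n d hn hd hw (hC e he)
  refine ⟨?_, ?_, ?_⟩
  · intro y hy
    rw [List.mem_map] at hy
    obtain ⟨e, he, h⟩ := hy
    have : y = prodX D F e.1 := Units.ext h.symm
    rw [this]
    exact ⟨prodX_mem hG _, (hspec e he).1⟩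
  · intro g hg ho
    have hg2 : g * g = 1 := by
      have := pow_orderOf_eq_one g
      rwa [ho, pow_two] at this
    have hne : g ≠ 1 := by
      rintro rfl
      rw [orderOf_one] at ho
      omega
    obtain ⟨e, heT, h, hh, he⟩ := inv_reps hG hE hV E hEe w n d hn hd hw T hA hB hg hg2 hne
    have h3 := of_decide_eq_true (hTR e heT)
    rw [List.mem_map] at h3
    obtain ⟨e', he', h4⟩ := h3
    refine ⟨prodX D F e.2.1, prodX_mem hG _, ?_, h, hh, he⟩
    rw [List.mem_map]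
    exact ⟨e', he', by rw [h4]⟩
  · intro y₁ _ y₂ _ hy₁ hy₂ hc
    rw [List.mem_map] at hy₁ hy₂
    obtain ⟨e₁, he₁, h₁⟩ := hy₁
    obtain ⟨e₂, he₂, h₂⟩ := hy₂
    obtain ⟨h, -, hconj⟩ := hc
    have r1 := (hspec e₁ he₁).2
    have r2 := (hspec e₂ he₂).2
    rw [h₁] at r1
    rw [h₂] at r2
    have r3 := rank_conj (F := F) h y₁
    rw [hconj, r1, r2] at r3
    have : e₁ = e₂ := List.inj_on_of_nodup_map hnd he₁ he₂ r3.symm
    rw [← h₁, ← h₂, this]

theorem classes_card [Fintype F] [CharP F 2] (hV : EvC hG F) (E : ℕ → List (ℕ × ℕ)) (hEe : E = ent D) (w n d : ℕ)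
    (hn : n = D.nroots) (hd : d = D.rank + D.nroots) (hw : d ≤ w) (T : List (List ℕ × List ℕ × List ℕ))
    (hA : T.all (okT E w n d) = true)
    (hB : ((chainsL D N D.rank (List.range D.rank)).all fun S => S.isEmpty || T.any fun e => S.isPerm e.1) = true)
    (RC : List (List ℕ × List (ℕ × List ℕ))) (hC : RC.all (okR E w n d) = true)
    (hTR : (T.all fun e => decide (e.2.1 ∈ RC.map Prod.fst)) = true) (hnd : (RC.map fun e => e.2.length).Nodup) :
    (ConjClasses.mk '' {g : ↥(D.group F) | orderOf g = 2}).ncard = RC.length := by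
  classical
  have h2 : (2 : F) = 0 := CharTwo.two_eq_zero
  obtain ⟨c1, c2, c3⟩ := classes3 hG hE hV E hEe w n d hn hd hw T hA hB RC hC hTR hnd
  rw [List.all_eq_true] at hC
  have hspec := fun e he => okR_spec (F := F) hG hE h2 E hEe w n d hn hd hw (hC e he)
  let f : (List ℕ × List (ℕ × List ℕ)) → ↥(D.group F) := fun e => ⟨prodX D F e.1, prodX_mem hG _⟩
  have hset : ConjClasses.mk '' {g : ↥(D.group F) | orderOf g = 2} = ((RC.map fun e => ConjClasses.mk (f e)).toFinset : Set _) := by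
    ext c
    simp only [Set.mem_image, Set.mem_ofPred_eq, List.coe_toFinset, List.mem_map]
    constructor
    · rintro ⟨g, ho, rfl⟩
      obtain ⟨y, hyG, hyR, h, hh, hc⟩ := c2 g g.2 (by rw [Subgroup.orderOf_coe]; exact ho)
      rw [List.mem_map] at hyR
      obtain ⟨e, he, hy⟩ := hyR
      refine ⟨e, he, ?_⟩
      rw [ConjClasses.mk_eq_mk_iff_isConj, isConj_comm, isConj_iff]
      refine ⟨⟨h, hh⟩, Subtype.ext ?_⟩
      change h * (g : GL D.Idx F) * h⁻¹ = prodX D F e.1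
      rw [hc]
      exact (Units.ext hy).symm
    · rintro ⟨e, he, rfl⟩
      refine ⟨f e, ?_, rfl⟩
      rw [← Subgroup.orderOf_coe]
      exact (hspec e he).1
  rw [hset, Set.ncard_coe_finset, List.toFinset_card_of_nodup, List.length_map]
  rw [List.nodup_map_iff_inj_on]
  · intro e₁ he₁ e₂ he₂ h
    rw [ConjClasses.mk_eq_mk_iff_isConj, isConj_iff] at h
    obtain ⟨x, hx⟩ := h
    have hx' := congrArg Subtype.val hx
    change (x : GL D.Idx F) * prodX D F e₁.1 * (x : GL D.Idx F)⁻¹ = prodX D F e₂.1 at hx'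
    have r3 := rank_conj (F := F) (x : GL D.Idx F) (prodX D F e₁.1)
    rw [hx', (hspec e₁ he₁).2, (hspec e₂ he₂).2] at r3
    exact List.inj_on_of_nodup_map hnd he₁ he₂ r3.symm
  · exact List.Nodup.of_map _ hnd

end Cfsg.Agent.H15.Chev
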