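import Cfsg.Agent.H15.ChevInv8

/-!
# Conjugacy of root elements; involution classes of `F4`
-/

set_option autoImplicit false
set_option linter.unusedSectionVars false

namespace Cfsg.Agent.H15.Chev

open Cfsg.Agent.H6 Cfsg.Lie Cfsg.Agent.H22
open scoped Matrix

variable {D : ChevalleyDatum} {N : ℕ} {η : ℕ → ℕ → ℤ} {rc : ℕ → ℕ → ℤ} {F : Type*} [Field F]
variable (hG : Good D N η rc) (hE : Ext D rc)
include hG

/-- a set of roots stable under the simple reflections is stable under `W` -/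
theorem W_stable {L : Set ℕ} (hL : ∀ i < D.rank, ∀ r < D.nroots, r ∈ L → D.reflectRoot i r ∈ L) (w : hG.W) (r : Fin D.nroots)
    (hr : (r : ℕ) ∈ L) : (w.1 r : ℕ) ∈ L := by
  induction w using hG.W_induction with
  | one => exact hr
  | mul i w ih => exact hL i i.2 _ (w.1 r).2 ih

include hE

/-- root elements of the highest root conjugate to another root element -/
theorem root_fusion {r s : Fin D.nroots} (hr : (r : ℕ) + 1 = D.nroots) (hs : N ≤ (s : ℕ)) {t u : F} (ht : t ≠ 0) (hu : u ≠ 0)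
    {h : GL D.Idx F} (hh : h ∈ D.group F) (he : h * xg D F r t * h⁻¹ = xg D F s u) : ∃ w : hG.W, w.1 r = s := by
  have hn2 := hG.nroots_eq
  have hrN : N ≤ (r : ℕ) := by omega
  obtain ⟨b, hb, n, hn, w, χ, hm, v, hv, rfl⟩ := hG.canon hE hh
  refine ⟨w, ?_⟩
  have hvU : v ∈ D.posUnipotent F := by
    rw [hG.posUnipotent_eq_US]; exact US_mono (hG.Um_sub w) hv
  have hcen : v * xg D F r t * v⁻¹ = xg D F r t := by
    have h1 : D.posUnipotent F ≤ Subgroup.centralizer {xg D F r t} := by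
      rw [hG.posUnipotent_eq_US, US_le]
      rintro s ⟨hs1, hs2⟩ c
      rw [Subgroup.mem_centralizer_singleton_iff]
      exact comm_top hG hE hr hs2 hrN hs1 c t
    have h2 := h1 hvU
    rw [Subgroup.mem_centralizer_singleton_iff] at h2
    rw [h2, mul_inv_cancel_right]
  have h1 : xg D F (w.1 r) ((χ r : F) * t) = b⁻¹ * xg D F s u * b⁻¹⁻¹ := by
    have e : b⁻¹ * (b * n * v * xg D F r t * (b * n * v)⁻¹) * b⁻¹⁻¹ = n * (v * xg D F r t * v⁻¹) * n⁻¹ := by group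
    rw [← he, ← hm.act, e, hcen]
  obtain ⟨y, hy, x, hx, hbx⟩ := hG.mem_borel_iff.1 (inv_mem hb)
  obtain ⟨c, hc⟩ : ∃ c : F, x * xg D F s u * x⁻¹ = xg D F s c ∧ c ≠ 0 := by
    obtain ⟨ψ, hψ⟩ := hG.HA_mon (hG.rdn hE) (show x ∈ HA D (xg D F) by rw [hG.HA_eq]; exact hx)
    exact ⟨_, hψ.act s u, mul_ne_zero (Units.ne_zero _) hu⟩
  have h2 : xg D F (w.1 r) ((χ r : F) * t) = y * xg D F s c * y⁻¹ := by
    rw [h1, hbx, ← hc.1]; group
  obtain ⟨τ, e1, e2, e3⟩ := conj_lead hG hE hy hs s.2 c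
  rw [e1] at h2
  have hχt : (χ r : F) * t ≠ 0 := mul_ne_zero (Units.ne_zero _) ht
  have hwN : N ≤ (w.1 r : ℕ) := by
    by_contra hc'
    have h3 : xg D F (w.1 r) ((χ r : F) * t) ∈ D.posUnipotent F ⊓ D.negUnipotent F :=
      ⟨by rw [h2]; exact hG.op_mem_pos τ, hG.xg_mem_neg (by omega) _⟩
    rw [hG.pos_inf_neg hE, Subgroup.mem_bot] at h3
    exact hG.xg_ne_one hE (w.1 r).2 hχt h3
  obtain ⟨τ', f1, f2, f3⟩ := conj_lead hG hE (one_mem (D.posUnipotent F)) hwN (w.1 r).2 ((χ r : F) * t)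
  rw [one_mul, inv_one, mul_one] at f1
  rw [f1] at h2
  have h4 := hG.op_inj hE _ _ N N (by omega) le_rfl h2
  apply Fin.ext
  rcases lt_trichotomy (w.1 r : ℕ) (s : ℕ) with h5 | h5 | h5
  · exfalso
    have h6 := h4 _ hwN (w.1 r).2
    rw [f2, e3 _ h5] at h6
    exact hχt h6
  · exact h5
  · exfalso
    have h6 := h4 _ hs s.2
    rw [e2, f3 _ h5] at h6
    exact hc.2 h6.symm

/-- the three part form with an injectivity hypothesis -/
theorem classes3' [Fintype F] [CharP F 2] (hV : EvC hG F) (E : ℕ → List (ℕ × ℕ)) (hEe : E = ent D) (w n d : ℕ)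
    (hn : n = D.nroots) (hd : d = D.rank + D.nroots) (hw : d ≤ w) (T : List (List ℕ × List ℕ × List ℕ))
    (hA : T.all (okT E w n d) = true)
    (hB : ((chainsL D N D.rank (List.range D.rank)).all fun S => S.isEmpty || T.any fun e => S.isPerm e.1) = true)
    (RC : List (List ℕ × List (ℕ × List ℕ))) (hC : RC.all (okR E w n d) = true)
    (hTR : (T.all fun e => decide (e.2.1 ∈ RC.map Prod.fst)) = true)
    (hinj : ∀ e₁ ∈ RC, ∀ e₂ ∈ RC, e₁.2.length = e₂.2.length → (∃ h ∈ D.group F, h * prodX D F e₁.1 * h⁻¹ = prodX D F e₂.1) →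
      e₁.1 = e₂.1) :
    (∀ y : GL D.Idx F, (y : Matrix D.Idx D.Idx F) ∈ RC.map (fun e => ((prodX D F e.1 : GL D.Idx F) : Matrix D.Idx D.Idx F)) →
      y ∈ D.group F ∧ orderOf y = 2) ∧
    (∀ g ∈ D.group F, orderOf g = 2 → ∃ y ∈ D.group F,
      (y : Matrix D.Idx D.Idx F) ∈ RC.map (fun e => ((prodX D F e.1 : GL D.Idx F) : Matrix D.Idx D.Idx F)) ∧
        ∃ h ∈ D.group F, h * g * h⁻¹ = y) ∧
    (∀ y₁ ∈ D.group F, ∀ y₂ ∈ D.group F,
      (y₁ : Matrix D.Idx D.Idx F) ∈ RC.map (fun e => ((prodX D F e.1 : GL D.Idx F) : Matrix D.Idx D.Idx F)) →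
      (y₂ : Matrix D.Idx D.Idx F) ∈ RC.map (fun e => ((prodX D F e.1 : GL D.Idx F) : Matrix D.Idx D.Idx F)) →
      (∃ h ∈ D.group F, h * y₁ * h⁻¹ = y₂) → (y₁ : Matrix D.Idx D.Idx F) = (y₂ : Matrix D.Idx D.Idx F)) := by
  have h2 : (2 : F) = 0 := CharTwo.two_eq_zero
  rw [List.all_eq_true] at hC hTR
  have hspec := fun e he => okR_spec (F := F) hG hE h2 E hEe w n d hn hd hw (hC e he)
  refine ⟨?_, ?_, ?_⟩
  · intro y hy
    rw [List.mem_map] at hy
    obtain ⟨e, he, h⟩ := hy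
    have : y = prodX D F e.1 := Units.ext h.symm
    rw [this]
    exact ⟨prodX_mem hG _, (hspec e he).1⟩
  · intro g hg ho
    have hg2 : g * g = 1 := by
      have := pow_orderOf_eq_one g
      rwa [ho, pow_two] at this
    have hne : g ≠ 1 := by
      rintro rfl
      rw [orderOf_one] at ho
      omega
    obtain ⟨e, heT, h, hh, he⟩ := inv_reps hG hE hV E hEe w n d hn hd hw T hA hB hg hg2 hne
    have h3 := of_decide_eq_true (hTR e heT)
    rw [List.mem_map] at h3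
    obtain ⟨e', he', h4⟩ := h3
    refine ⟨prodX D F e.2.1, prodX_mem hG _, ?_, h, hh, he⟩
    rw [List.mem_map]
    exact ⟨e', he', by rw [h4]⟩
  · intro y₁ _ y₂ _ hy₁ hy₂ hc
    rw [List.mem_map] at hy₁ hy₂
    obtain ⟨e₁, he₁, h₁⟩ := hy₁
    obtain ⟨e₂, he₂, h₂⟩ := hy₂
    obtain ⟨h, hh, hconj⟩ := hc
    have r1 := (hspec e₁ he₁).2
    have r2 := (hspec e₂ he₂).2
    rw [h₁] at r1
    rw [h₂] at r2
    have r3 := rank_conj (F := F) h y₁
    rw [hconj, r1, r2] at r3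
    have e₁' : y₁ = prodX D F e₁.1 := Units.ext h₁.symm
    have e₂' : y₂ = prodX D F e₂.1 := Units.ext h₂.symm
    have := hinj e₁ he₁ e₂ he₂ r3.symm ⟨h, hh, by rw [← e₁', ← e₂', hconj]⟩
    rw [← h₁, ← h₂, this]

end Cfsg.Agent.H15.Chev
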