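import Cfsg.Agent.H15.ChevInv8
import Cfsg.Agent.H6.TabE7
import Cfsg.Agent.H6.ChevExtTab

/-!
# Involution classes of `E7` in characteristic two: certificates
-/

set_option autoImplicit false
set_option linter.unusedSectionVars false
set_option maxRecDepth 100000

namespace Cfsg.Agent.H15.Chev.IE7

open Cfsg.Agent.H6 Cfsg.Lie Cfsg.Agent.H22 Cfsg.Agent.H15.Chev

def EE : ℕ → List (ℕ × ℕ) := entF chevE7 (caF 7 126 TE7.CA) (coF 7 126 TE7.CO) (ngF 126)

theorem EE_eq : EE = ent chevE7 :=
  entF_eq _ _ _ _ (chkCartan_spec TE7.c_cartan) (chkCoroot_spec TE7.c_coroot) (chkNeg_spec TE7.c_neg)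

/-- conjugations of the normal forms to the representatives -/
def T : List (List ℕ × List ℕ × List ℕ) :=
  [([125], [125], []),
   ([92, 125], [125, 92], [109, 16, 109, 93, 32, 93]),
   ([63, 92, 125], [125, 92, 63], [119, 6, 119, 97, 28, 97]),
   ([87, 92, 125], [125, 92, 87], [86, 39, 86, 76, 49, 76, 114, 11, 114, 93, 32, 93]),
   ([63, 87, 92, 125], [125, 92, 63, 87], [84, 41, 84, 79, 46, 79, 119, 6, 119, 97, 28, 97]),
   ([66, 87, 92, 125], [125, 92, 63, 87], [84, 41, 84, 79, 46, 79, 63, 62, 63, 68, 57, 68, 64, 61, 64, 121, 4, 121, 95, 30, 95]),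
   ([73, 87, 92, 125], [125, 92, 87], [87, 38, 87, 92, 33, 92, 123, 2, 123, 93, 32, 93, 109, 94, 103, 108]),
   ([78, 87, 92, 125], [125, 92, 63, 87], [75, 50, 75, 69, 56, 69, 68, 57, 68, 64, 61, 64, 118, 7, 118, 95, 30, 95]),
   ([63, 66, 87, 92, 125], [125, 92, 63, 87], [84, 41, 84, 70, 55, 70, 63, 62, 63, 68, 57, 68, 64, 61, 64, 121, 4, 121, 95, 30, 95, 68, 65, 67, 88]),
   ([63, 73, 87, 92, 125], [125, 92, 63, 87], [80, 45, 80, 69, 56, 69, 82, 43, 82, 71, 54, 71, 119, 6, 119, 97, 28, 97, 109, 94, 103, 108]),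
   ([63, 78, 87, 92, 125], [125, 92, 63, 87], [84, 41, 84, 70, 55, 70, 68, 57, 68, 64, 61, 64, 118, 7, 118, 95, 30, 95, 102, 98, 101, 115]),
   ([66, 73, 87, 92, 125], [125, 92, 63, 87], [82, 43, 82, 71, 54, 71, 121, 4, 121, 95, 30, 95, 109, 94, 103, 108]),
   ([66, 78, 87, 92, 125], [125, 92, 63, 87], [87, 38, 87, 68, 57, 68, 64, 61, 64, 118, 7, 118, 95, 30, 95, 100, 96, 99, 117]),
   ([73, 78, 87, 92, 125], [125, 92, 63, 87], [80, 45, 80, 69, 56, 69, 68, 57, 68, 64, 61, 64, 118, 7, 118, 95, 30, 95, 109, 94, 103, 108]),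
   ([63, 66, 73, 87, 92, 125], [125, 92, 63, 87], [83, 42, 83, 69, 56, 69, 82, 43, 82, 71, 54, 71, 119, 6, 119, 97, 28, 97, 68, 65, 67, 88, 107, 105, 106, 110]),
   ([63, 66, 78, 87, 92, 125], [125, 92, 63, 87], [84, 41, 84, 79, 46, 79, 89, 36, 89, 64, 61, 64, 119, 6, 119, 97, 28, 97, 102, 98, 101, 115, 68, 65, 67, 88]),
   ([63, 73, 78, 87, 92, 125], [125, 92, 63, 87], [87, 38, 87, 82, 43, 82, 71, 54, 71, 119, 6, 119, 97, 28, 97, 102, 98, 101, 115, 77, 72, 76, 81]),
   ([66, 73, 78, 87, 92, 125], [125, 92, 63, 87], [84, 41, 84, 74, 51, 74, 82, 43, 82, 71, 54, 71, 121, 4, 121, 95, 30, 95, 100, 96, 99, 117, 75, 70, 74, 79]),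
   ([63, 66, 73, 78, 87, 92, 125], [125, 92, 63, 87], [80, 45, 80, 69, 56, 69, 89, 36, 89, 64, 61, 64, 119, 6, 119, 97, 28, 97, 75, 70, 74, 79, 68, 65, 67, 88, 107, 105, 106, 110])]

/-- representatives with rank certificates -/
def RC : List (List ℕ × List (ℕ × List ℕ)) :=
  [([125], [(0, [132]), (7, [2]), (8, [100]), (9, [101]), (10, [102]), (11, [103]), (12, [104]), (13, [105]), (14, [106]), (15, [107]), (16, [108]), (17, [109]), (18, [110]), (19, [111]), (20, [112]), (21, [113]), (22, [114]), (23, [115]), (24, [116]), (25, [117]), (26, [118]), (27, [119]), (28, [120]), (29, [121]), (30, [122]), (31, [123]), (32, [124]), (33, [125]), (34, [126]), (35, [127]), (36, [128]), (37, [129]), (38, [130]), (39, [131])]),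
   ([125, 92], [(5, [99]), (0, [132]), (7, [4]), (12, [104]), (13, [105]), (16, [108]), (17, [109]), (19, [111]), (20, [112]), (21, [113]), (22, [114]), (23, [115]), (8, [23]), (25, [117]), (26, [118]), (27, [119]), (28, [120]), (29, [121]), (9, [29]), (30, [122]), (31, [123]), (32, [124]), (10, [32]), (33, [125]), (11, [33]), (34, [126]), (35, [127]), (36, [128]), (14, [36]), (37, [129]), (15, [37]), (38, [130]), (18, [38]), (39, [131]), (24, [39]), (40, [1]), (41, [71]), (42, [72]), (43, [74]), (44, [75]), (46, [78]), (47, [79]), (50, [83]), (51, [84]), (55, [88]), (56, [89]), (60, [92]), (61, [93]), (64, [95]), (65, [96]), (67, [97]), (68, [98])]),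
   ([125, 92, 63], [(0, [132]), (5, [70]), (13, [105]), (12, [13]), (17, [109]), (16, [17]), (20, [112]), (19, [20]), (22, [114]), (21, [22]), (23, [115]), (8, [23]), (26, [118]), (25, [26]), (28, [120]), (27, [28]), (29, [121]), (9, [29]), (31, [123]), (30, [31]), (32, [124]), (10, [32]), (33, [125]), (11, [33]), (35, [127]), (34, [35]), (36, [128]), (14, [36]), (37, [129]), (15, [37]), (38, [130]), (18, [38]), (39, [131]), (24, [39]), (42, [72]), (41, [42]), (44, [75]), (43, [44]), (47, [79]), (46, [47]), (51, [84]), (50, [51]), (56, [89]), (55, [56]), (61, [93]), (60, [61]), (65, [96]), (64, [65]), (68, [98]), (67, [68]), (69, [6]), (7, [4]), (40, [1])]),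
   ([125, 92, 87], [(3, [94]), (5, [99]), (0, [132]), (19, [111]), (20, [112]), (21, [113]), (22, [114]), (25, [117]), (26, [118]), (27, [119]), (28, [120]), (30, [122]), (12, [30]), (31, [123]), (13, [31]), (32, [124]), (10, [32]), (33, [125]), (11, [33]), (34, [126]), (16, [34]), (35, [127]), (17, [35]), (36, [128]), (14, [36]), (37, [129]), (15, [37]), (38, [130]), (23, [38]), (18, [110]), (8, [18]), (39, [131]), (29, [39]), (24, [116]), (9, [24]), (46, [78]), (47, [79]), (48, [76]), (49, [77]), (50, [83]), (51, [84]), (52, [81]), (53, [82]), (55, [88]), (56, [89]), (57, [86]), (58, [87]), (60, [92]), (61, [93]), (62, [90]), (63, [91]), (64, [95]), (41, [64]), (65, [96]), (42, [65]), (67, [97]), (43, [67]), (68, [98]), (44, [68]), (40, [1]), (7, [1, 2]), (45, [1, 2, 4])]),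
   ([125, 92, 63, 87], [(3, [94]), (0, [132]), (5, [70]), (20, [112]), (19, [20]), (22, [114]), (21, [22]), (26, [118]), (25, [26]), (28, [120]), (27, [28]), (31, [123]), (30, [31]), (13, [105]), (12, [13]), (32, [124]), (10, [32]), (33, [125]), (11, [33]), (35, [127]), (34, [35]), (17, [109]), (16, [17]), (36, [128]), (14, [36]), (37, [129]), (15, [37]), (38, [130]), (23, [38]), (18, [110]), (8, [18]), (39, [131]), (29, [39]), (24, [116]), (9, [24]), (47, [79]), (46, [47]), (48, [76]), (49, [77]), (51, [84]), (50, [51]), (52, [81]), (53, [82]), (56, [89]), (55, [56]), (57, [86]), (58, [87]), (61, [93]), (60, [61]), (62, [90]), (63, [91]), (65, [96]), (64, [65]), (42, [72]), (41, [42]), (68, [98]), (67, [68]), (44, [75]), (43, [44]), (69, [6]), (40, [1]), (7, [1, 2]), (45, [1, 2, 4])])]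

theorem hEv : tabEv chevE7 = true := by decide +kernel
theorem hSym : tabSym chevE7 = true := by decide +kernel
theorem hA : T.all (okT EE 256 126 133) = true := by decide +kernel
theorem hB : ((chainsL chevE7 63 7 (List.range 7)).all fun S => S.isEmpty || T.any fun e => S.isPerm e.1) = true := by
  decide +kernel
theorem hC : RC.all (okR EE 256 126 133) = true := by decide +kernel
theorem hTR : (T.all fun e => decide (e.2.1 ∈ RC.map Prod.fst)) = true := by decide +kernel
theorem hnd : (RC.map fun e => e.2.length).Nodup := by decide +kernel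

end Cfsg.Agent.H15.Chev.IE7
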