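import Cfsg.Agent.H15.ChevInv8
import Cfsg.Agent.H6.TabE8
import Cfsg.Agent.H6.ChevExtTab

/-!
# Involution classes of `E8` in characteristic two: certificates
-/

set_option autoImplicit false
set_option linter.unusedSectionVars false
set_option maxRecDepth 100000

namespace Cfsg.Agent.H15.Chev.IE8

open Cfsg.Agent.H6 Cfsg.Lie Cfsg.Agent.H22 Cfsg.Agent.H15.Chev

def EE : ℕ → List (ℕ × ℕ) := entF chevE8 (caF 8 240 TE8.CA) (coF 8 240 TE8.CO) (ngF 240)

theorem EE_eq : EE = ent chevE8 :=
  entF_eq _ _ _ _ (chkCartan_spec TE8.c_cartan) (chkCoroot_spec TE8.c_coroot) (chkNeg_spec TE8.c_neg)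

/-- conjugations of the normal forms to the representatives -/
def T : List (List ℕ × List ℕ × List ℕ) :=
  [([239], [239], []),
   ([226, 239], [232, 233], [140, 99, 140]),
   ([159, 226, 239], [228, 222, 218], [214, 25, 214, 128, 111, 128, 185, 54, 185, 161, 78, 161, 238, 1, 238, 159, 80, 159]),
   ([121, 159, 226, 239], [228, 222, 218], [215, 24, 215, 129, 110, 129, 178, 61, 178, 227, 12, 227, 161, 122, 160, 227]),
   ([152, 159, 226, 239], [226, 220, 213, 216], [180, 59, 180, 142, 97, 142, 173, 66, 173, 127, 112, 127, 187, 52, 187, 124, 115, 124, 229, 10, 229, 155, 84, 155]),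
   ([121, 152, 159, 226, 239], [226, 220, 213, 216], [143, 96, 143, 130, 109, 130, 123, 116, 123, 192, 47, 192, 227, 12, 227, 122, 117, 122, 161, 122, 160, 227]),
   ([126, 152, 159, 226, 239], [226, 220, 213, 216], [199, 40, 199, 142, 97, 142, 173, 66, 173, 183, 56, 183, 229, 10, 229, 129, 110, 129, 158, 129, 155, 229]),
   ([135, 152, 159, 226, 239], [226, 220, 213, 216], [202, 37, 202, 177, 62, 177, 173, 66, 173, 192, 47, 192, 231, 8, 231, 140, 99, 140, 184, 163, 174, 181]),
   ([141, 152, 159, 226, 239], [226, 220, 213, 216], [202, 37, 202, 177, 62, 177, 173, 66, 173, 192, 47, 192, 231, 8, 231, 146, 93, 146, 206, 173, 196, 203]),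
   ([121, 126, 152, 159, 226, 239], [226, 220, 213, 216], [202, 37, 202, 143, 96, 143, 173, 66, 173, 123, 116, 123, 222, 17, 222, 128, 111, 128, 227, 12, 227, 122, 117, 122, 158, 129, 155, 229, 128, 124, 127, 153]),
   ([121, 135, 152, 159, 226, 239], [226, 220, 213, 216], [157, 82, 157, 142, 97, 142, 213, 26, 213, 150, 89, 150, 215, 24, 215, 227, 12, 227, 122, 117, 122, 184, 163, 174, 181, 193, 183, 192, 215]),
   ([121, 141, 152, 159, 226, 239], [226, 220, 213, 216], [202, 37, 202, 193, 46, 193, 123, 116, 123, 201, 38, 201, 136, 103, 136, 227, 12, 227, 122, 117, 122, 206, 173, 196, 203, 172, 167, 171, 194]),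
   ([126, 135, 152, 159, 226, 239], [226, 220, 213, 216], [180, 59, 180, 142, 97, 142, 144, 95, 144, 215, 24, 215, 229, 10, 229, 129, 110, 129, 184, 163, 174, 181, 190, 180, 187, 217]),
   ([126, 141, 152, 159, 226, 239], [226, 220, 213, 216], [180, 59, 180, 127, 112, 127, 201, 38, 201, 136, 103, 136, 229, 10, 229, 129, 110, 129, 206, 173, 196, 203, 170, 165, 169, 197]),
   ([135, 141, 152, 159, 226, 239], [226, 220, 213, 216], [177, 62, 177, 130, 109, 130, 123, 116, 123, 183, 56, 183, 231, 8, 231, 140, 99, 140, 184, 163, 174, 181, 151, 140, 146, 231]),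
   ([121, 126, 135, 152, 159, 226, 239], [226, 220, 213, 216], [177, 62, 177, 213, 26, 213, 130, 109, 130, 222, 17, 222, 128, 111, 128, 227, 12, 227, 122, 117, 122, 193, 183, 192, 215, 128, 124, 127, 153, 179, 176, 178, 185]),
   ([121, 126, 141, 152, 159, 226, 239], [226, 220, 213, 216], [177, 62, 177, 203, 36, 203, 222, 17, 222, 128, 111, 128, 227, 12, 227, 122, 117, 122, 172, 167, 171, 194, 128, 124, 127, 153, 202, 199, 201, 208]),
   ([121, 135, 141, 152, 159, 226, 239], [226, 220, 213, 216], [180, 59, 180, 142, 97, 142, 203, 36, 203, 215, 24, 215, 227, 12, 227, 122, 117, 122, 172, 167, 171, 194, 193, 183, 192, 215, 139, 133, 138, 144]),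
   ([126, 135, 141, 152, 159, 226, 239], [226, 220, 213, 216], [202, 37, 202, 177, 62, 177, 203, 36, 203, 215, 24, 215, 229, 10, 229, 129, 110, 129, 170, 165, 169, 197, 190, 180, 187, 217, 137, 131, 136, 142]),
   ([121, 126, 135, 141, 152, 159, 226, 239], [226, 220, 213, 216], [202, 37, 202, 213, 26, 213, 130, 109, 130, 222, 17, 222, 128, 111, 128, 227, 12, 227, 122, 117, 122, 137, 131, 136, 142, 128, 124, 127, 153, 202, 199, 201, 208, 179, 176, 178, 185])]

/-- representatives with rank certificates -/
def RC : List (List ℕ × List (ℕ × List ℕ)) :=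
  [([239], [(7, [247]), (8, [1]), (9, [128]), (10, [130]), (11, [133]), (12, [137]), (13, [142]), (14, [148]), (15, [154]), (16, [159]), (17, [163]), (18, [166]), (19, [168]), (20, [169]), (22, [176]), (23, [181]), (24, [185]), (25, [188]), (26, [190]), (27, [191]), (29, [195]), (30, [198]), (31, [200]), (32, [201]), (34, [204]), (35, [206]), (36, [207]), (38, [209]), (39, [210]), (41, [211]), (44, [214]), (45, [216]), (46, [217]), (48, [219]), (49, [220]), (51, [221]), (54, [223]), (55, [224]), (57, [225]), (60, [226]), (64, [228]), (65, [229]), (67, [230]), (70, [231]), (74, [232]), (79, [233]), (86, [235]), (87, [236]), (89, [237]), (92, [238]), (96, [239]), (101, [240]), (107, [241]), (113, [242]), (118, [243]), (122, [244]), (125, [245]), (127, [246])]),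
   ([232, 233], [(0, [241]), (1, [240]), (15, [3]), (14, [1]), (22, [170]), (23, [171]), (24, [172]), (25, [173]), (26, [174]), (27, [175]), (28, [176]), (29, [177]), (30, [178]), (31, [179]), (32, [180]), (33, [181]), (34, [182]), (35, [183]), (36, [184]), (37, [185]), (38, [186]), (39, [187]), (40, [188]), (41, [189]), (42, [190]), (43, [191]), (44, [192]), (45, [193]), (46, [194]), (47, [195]), (48, [196]), (49, [197]), (50, [198]), (51, [199]), (52, [200]), (53, [201]), (54, [202]), (55, [203]), (56, [204]), (57, [205]), (58, [206]), (59, [207]), (60, [208]), (61, [209]), (62, [210]), (63, [211]), (64, [212]), (65, [213]), (66, [214]), (67, [215]), (68, [216]), (69, [217]), (70, [218]), (71, [219]), (72, [220]), (73, [221]), (74, [222]), (75, [223]), (76, [224]), (77, [225]), (78, [226]), (79, [227]), (80, [228]), (81, [229]), (82, [230]), (83, [231]), (84, [232]), (85, [233]), (101, [234]), (8, [101]), (102, [235]), (9, [102]), (103, [236]), (10, [103]), (104, [237]), (11, [104]), (105, [238]), (12, [105]), (106, [239]), (13, [106]), (143, [242]),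 (16, [143]), (144, [243]), (17, [144]), (145, [244]), (18, [145]), (146, [245]), (19, [146]), (147, [246]), (20, [147]), (148, [247]), (21, [148])]),
   ([228, 222, 218], [(6, [236]), (0, [230]), (2, [226]), (20, [129]), (21, [130]), (27, [132]), (28, [133]), (32, [136]), (33, [137]), (36, [141]), (37, [142]), (39, [147]), (40, [148]), (41, [175]), (42, [176]), (46, [153]), (47, [154]), (49, [158]), (50, [159]), (51, [180]), (52, [181]), (55, [162]), (56, [163]), (57, [184]), (58, [185]), (62, [169]), (10, [62]), (63, [191]), (11, [63]), (65, [165]), (66, [166]), (70, [197]), (71, [198]), (73, [201]), (12, [73]), (74, [203]), (75, [204]), (77, [207]), (13, [77]), (78, [210]), (14, [78]), (79, [213]), (80, [214]), (82, [217]), (15, [82]), (83, [220]), (16, [83]), (84, [224]), (17, [84]), (85, [229]), (18, [85]), (89, [189]), (90, [190]), (92, [199]), (93, [200]), (96, [205]), (97, [206]), (100, [211]), (22, [100]), (101, [208]), (102, [209]), (107, [215]), (108, [216]), (111, [221]), (23, [111]), (112, [225]), (24, [112]), (113, [218]), (114, [219]), (118,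 [222]), (119, [223]), (122, [227]), (123, [228]), (125, [234]), (126, [235]), (131, [237]), (26, [131]), (134, [231]), (30, [134]), (135, [238]), (31, [135]), (139, [232]), (34, [139]), (140, [239]), (35, [140]), (146, [240]), (38, [146]), (151, [233]), (44, [151]), (152, [241]), (45, [152]), (157, [242]), (48, [157]), (161, [243]), (54, [161]), (164, [244]), (64, [164]), (167, [246]), (67, [167]), (60, [187]), (8, [60]), (168, [247]), (68, [168]), (61, [188]), (9, [61]), (186, [245]), (86, [186]), (25, [0]), (19, [0, 2]), (29, [2, 7])]),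
   ([226, 220, 213, 216], [(1, [221]), (3, [224]), (2, [228]), (0, [234]), (44, [149]), (45, [150]), (46, [155]), (47, [177]), (48, [151]), (49, [156]), (50, [178]), (54, [152]), (57, [161]), (58, [183]), (60, [164]), (61, [186]), (65, [158]), (67, [162]), (69, [194]), (70, [165]), (72, [197]), (74, [167]), (77, [205]), (78, [208]), (80, [212]), (15, [80]), (81, [213]), (16, [81]), (82, [215]), (17, [82]), (83, [218]), (18, [83]), (84, [222]), (19, [84]), (85, [227]), (20, [85]), (88, [181]), (90, [185]), (91, [195]), (93, [188]), (94, [198]), (97, [190]), (99, [206]), (100, [209]), (103, [201]), (104, [207]), (105, [210]), (106, [211]), (109, [214]), (23, [109]), (110, [216]), (24, [110]), (111, [219]), (25, [111]), (112, [223]), (26, [112]), (116, [217]), (29, [116]), (117, [220]), (30, [117]), (128, [235]), (28, [128]), (129, [229]), (32, [129]), (130, [236]), (33, [130]), (131, [225]), (35, [131]), (132, [230]), (36, [132]), (133, [237]), (37, [133]), (135, [226]), (38, [135]), (136, [231]), (39, [136]), (137, [238]), (40, [137]), (141, [232]), (41,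 [141]), (142, [239]), (42, [142]), (148, [240]), (43, [148]), (153, [233]), (55, [153]), (51, [157]), (8, [51]), (154, [241]), (56, [154]), (52, [179]), (9, [52]), (159, [242]), (66, [159]), (53, [180]), (10, [53]), (163, [243]), (68, [163]), (59, [184]), (11, [59]), (166, [244]), (71, [166]), (62, [187]), (12, [62]), (168, [245]), (75, [168]), (63, [189]), (13, [63]), (169, [246]), (76, [169]), (73, [199]), (14, [73]), (191, [247]), (98, [191]), (95, [200]), (22, [95]), (27, [0]), (21, [0, 2]), (34, [3]), (31, [2, 3, 4])])]

theorem hEv : tabEv chevE8 = true := by decide +kernel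
theorem hSym : tabSym chevE8 = true := by decide +kernel
theorem hA : T.all (okT EE 256 240 248) = true := by decide +kernel
theorem hB : ((chainsL chevE8 120 8 (List.range 8)).all fun S => S.isEmpty || T.any fun e => S.isPerm e.1) = true := by
  decide +kernel
theorem hC : RC.all (okR EE 256 240 248) = true := by decide +kernel
theorem hTR : (T.all fun e => decide (e.2.1 ∈ RC.map Prod.fst)) = true := by decide +kernel
theorem hnd : (RC.map fun e => e.2.length).Nodup := by decide +kernel

end Cfsg.Agent.H15.Chev.IE8
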