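import Cfsg.Agent.H15.ChevInv8
import Cfsg.Agent.H6.TabF4
import Cfsg.Agent.H6.ChevExtTab

/-!
# Involution classes of `F4` in characteristic two: certificates
-/

set_option autoImplicit false
set_option linter.unusedSectionVars false
set_option maxRecDepth 100000

namespace Cfsg.Agent.H15.Chev.IF4

open Cfsg.Agent.H6 Cfsg.Lie Cfsg.Agent.H22 Cfsg.Agent.H15.Chev

def EE : ℕ → List (ℕ × ℕ) := entF chevF4 (caF 4 48 TF4.CA) (coF 4 48 TF4.CO) (ngF 48)

theorem EE_eq : EE = ent chevF4 :=
  entF_eq _ _ _ _ (chkCartan_spec TF4.c_cartan) (chkCoroot_spec TF4.c_coroot) (chkNeg_spec TF4.c_neg)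

/-- conjugations of the normal forms to the representatives -/
def T : List (List ℕ × List ℕ × List ℕ) :=
  [([44], [44], []),
   ([47], [47], []),
   ([29, 44], [47, 44], [6]),
   ([32, 44], [39, 45], [27, 20, 27, 33, 14, 33]),
   ([37, 47], [39, 45], [25, 22, 25, 24, 23, 24]),
   ([41, 47], [47, 44], [18]),
   ([24, 32, 44], [39, 45], [27, 20, 27, 33, 14, 33, 6, 19, 42]),
   ([25, 37, 47], [39, 45], [25, 24, 21, 9]),
   ([27, 32, 44], [39, 45], [27, 33, 13, 4]),
   ([28, 29, 44], [39, 45], [27, 20, 27, 33, 14, 33, 5, 41, 24]),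
   ([28, 41, 47], [39, 45], [27, 20, 27, 33, 14, 33, 41, 24, 5, 18]),
   ([29, 30, 44], [39, 45], [25, 22, 25, 24, 23, 24, 29, 33, 11, 6]),
   ([30, 41, 47], [39, 45], [25, 22, 25, 24, 23, 24, 11, 29, 33]),
   ([33, 37, 47], [39, 45], [25, 22, 25, 24, 23, 24, 17, 18, 36]),
   ([24, 27, 32, 44], [39, 45], [6, 27, 34, 13, 4, 19, 26]),
   ([25, 29, 30, 44], [39, 45], [5, 11, 25, 42, 6, 20, 38]),
   ([25, 30, 41, 47], [39, 45], [5, 11, 25, 42, 20, 38, 18]),
   ([25, 33, 37, 47], [39, 45], [15, 20, 25, 24, 21, 34, 9]),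
   ([27, 28, 29, 44], [39, 45], [5, 11, 27, 36, 22, 43, 6]),
   ([27, 28, 41, 47], [39, 45], [5, 11, 27, 36, 18, 22, 43])]

/-- representatives with rank certificates -/
def RC : List (List ℕ × List (ℕ × List ℕ)) :=
  [([47], [(3, [51]), (4, [0]), (5, [28]), (6, [30]), (7, [33]), (8, [35]), (9, [36]), (11, [40]), (12, [42]), (13, [43]), (15, [44]), (19, [46]), (20, [47]), (22, [48]), (25, [49]), (27, [50])]),
   ([44], [(0, [48]), (4, [22]), (5, [23]), (6, [24]), (7, [1]), (8, [31]), (9, [32]), (10, [33]), (11, [37]), (12, [38]), (13, [39]), (14, [40]), (15, [41]), (16, [42]), (17, [43]), (18, [44])]),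
   ([47, 44], [(0, [48]), (3, [51]), (4, [0]), (10, [33]), (7, [1]), (14, [40]), (11, [37]), (16, [42]), (12, [38]), (17, [43]), (13, [39]), (18, [44]), (15, [41]), (19, [46]), (5, [23]), (20, [47]), (6, [24]), (25, [49]), (8, [31]), (27, [50]), (9, [32])]),
   ([39, 45], [(1, [43]), (2, [49]), (8, [18]), (9, [34]), (10, [35]), (12, [0]), (6, [3]), (13, [41]), (14, [42]), (15, [32]), (16, [33]), (17, [44]), (7, [17]), (19, [37]), (20, [45]), (21, [46]), (22, [39]), (23, [40]), (24, [48]), (11, [24]), (25, [50]), (4, [13]), (26, [51]), (5, [14])])]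

theorem hEv : tabEv chevF4 = true := by decide +kernel
theorem hSym : tabSym chevF4 = true := by decide +kernel
theorem hA : T.all (okT EE 64 48 52) = true := by decide +kernel
theorem hB : ((chainsL chevF4 24 4 (List.range 4)).all fun S => S.isEmpty || T.any fun e => S.isPerm e.1) = true := by
  decide +kernel
theorem hC : RC.all (okR EE 64 48 52) = true := by decide +kernel
theorem hTR : (T.all fun e => decide (e.2.1 ∈ RC.map Prod.fst)) = true := by decide +kernel


end Cfsg.Agent.H15.Chev.IF4
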