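import Cfsg.Agent.H15.ChevGF
import Cfsg.Agent.H22.ChevPar2

/-!
# Relative theory: Levi subgroups of Chevalley groups
-/

set_option autoImplicit false
set_option linter.unusedSectionVars false

namespace Cfsg.Agent.H15.Chev

open Cfsg.Agent.H6 Cfsg.Lie Cfsg.Agent.H22
open scoped Matrix

variable {D : ChevalleyDatum} {N : ℕ} {η : ℕ → ℕ → ℤ} {rc : ℕ → ℕ → ℤ} {F : Type*} [Field F]

/-- the group generated by the root subgroups of `Φ_J` -/
noncomputable abbrev ML (D : ChevalleyDatum) (rc : ℕ → ℕ → ℤ) (F : Type*) [Field F] (J : Set ℕ) : Subgroup (GL D.Idx F) :=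
  US (xg D F) (Phi D rc J)

/-- positive part -/
noncomputable abbrev UL (D : ChevalleyDatum) (N : ℕ) (rc : ℕ → ℕ → ℤ) (F : Type*) [Field F] (J : Set ℕ) : Subgroup (GL D.Idx F) :=
  US (xg D F) (posS D N ∩ Phi D rc J)

variable (hG : Good D N η rc) (hE : Ext D rc)
include hG

theorem UL_le_ML (J : Set ℕ) : UL D N rc F J ≤ ML D rc F J := US_mono Set.inter_subset_right

theorem UL_le_pos (J : Set ℕ) : UL D N rc F J ≤ D.posUnipotent F := by
  rw [hG.posUnipotent_eq_US]; exact US_mono Set.inter_subset_left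

theorem phi_mono {J J' : Set ℕ} (h : J' ⊆ J) : Phi D rc J' ⊆ Phi D rc J :=
  fun _ hr => ⟨hr.1, fun i hi hiJ => hr.2 i hi fun h' => hiJ (h h')⟩

theorem UL_pClo (J : Set ℕ) : PClo D N (posS D N ∩ Phi D rc J) := by
  apply hG.pClo_of
  · intro r hr; exact hr.1
  · intro r hr s hs c a b hc hN _ _ h
    refine ⟨⟨hN, hc⟩, hc, fun i hi hiJ => ?_⟩
    rw [h i hi, hr.2.2 i hi hiJ, hs.2.2 i hi hiJ]; ring

include hE

theorem ng_mem_ML {J : Set ℕ} {j : ℕ} (hj : j ∈ J) (hjr : j < D.rank) : ng D F j ∈ ML D rc F J :=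
  ng_mem_US hG (phi_simple hG hj hjr) (phi_neg hG (phi_simple hG hj hjr))

theorem diag_norm_ML (J : Set ℕ) {h : GL D.Idx F} (hh : h ∈ D.diagonalSubgroup F) {m : GL D.Idx F}
    (hm : m ∈ ML D rc F J) : h * m * h⁻¹ ∈ ML D rc F J :=
  (Subgroup.mem_normalizer_iff.1 (diag_norm_US hG hE (fun _ hs => hs.1) hh) m).1 hm

theorem diag_norm_UL (J : Set ℕ) {h : GL D.Idx F} (hh : h ∈ D.diagonalSubgroup F) {m : GL D.Idx F}
    (hm : m ∈ UL D N rc F J) : h * m * h⁻¹ ∈ UL D N rc F J :=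
  (Subgroup.mem_normalizer_iff.1 (diag_norm_US hG hE (fun _ hs => hs.1.2) hh) m).1 hm

theorem mem_levi_iff (J : Set ℕ) {g : GL D.Idx F} : g ∈ D.leviSubgroup F J ↔
    ∃ m ∈ ML D rc F J, ∃ h ∈ D.diagonalSubgroup F, g = m * h := by
  rw [levi_eq hG hE, sup_comm]
  exact mem_sup_iff_of_norm fun x hx u hu => diag_norm_ML hG hE J hx hu

theorem ML_le_levi (J : Set ℕ) : ML D rc F J ≤ D.leviSubgroup F J := by
  rw [levi_eq hG hE]; exact le_sup_right

theorem diag_le_levi (J : Set ℕ) : D.diagonalSubgroup F ≤ D.leviSubgroup F J := by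
  rw [levi_eq hG hE]; exact le_sup_left

theorem levi_le_par (J : Set ℕ) : D.leviSubgroup F J ≤ D.parabolicSubgroup F J := by
  rw [← radical_sup_levi hG hE J]; exact le_sup_right

theorem rad_le_par (J : Set ℕ) : D.unipotentRadical F J ≤ D.parabolicSubgroup F J := by
  rw [← radical_sup_levi hG hE J]; exact le_sup_left

theorem par_norm_rad (J : Set ℕ) {g : GL D.Idx F} (hg : g ∈ D.parabolicSubgroup F J) {q : GL D.Idx F}
    (hq : q ∈ D.unipotentRadical F J) : g * q * g⁻¹ ∈ D.unipotentRadical F J :=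
  (Subgroup.mem_normalizer_iff.1 (parabolic_le_normalizer hG hE J hg) q).1 hq

theorem par_decomp (J : Set ℕ) {g : GL D.Idx F} (hg : g ∈ D.parabolicSubgroup F J) :
    ∃ q ∈ D.unipotentRadical F J, ∃ l ∈ D.leviSubgroup F J, g = q * l := by
  rw [← radical_sup_levi hG hE J] at hg
  exact (mem_sup_iff_of_norm fun x hx u hu => par_norm_rad hG hE J (levi_le_par hG hE J hx) hu).1 hg

theorem pos_decomp (J : Set ℕ) {u : GL D.Idx F} (hu : u ∈ D.posUnipotent F) :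
    ∃ q ∈ D.unipotentRadical F J, ∃ v ∈ UL D N rc F J, u = q * v := by
  rw [radical_eq hG hE]
  rw [hG.posUnipotent_eq_US] at hu
  refine hG.US_union_mul (hG.rd hE) hG.pClo_all ?_ hu
  change posS D N = _
  rw [Set.sdiff_union_inter]

theorem levi_inf_pos (J : Set ℕ) {g : GL D.Idx F} (hg : g ∈ D.leviSubgroup F J) (hu : g ∈ D.posUnipotent F) :
    g ∈ UL D N rc F J := by
  obtain ⟨q, hq, v, hv, rfl⟩ := pos_decomp hG hE J hu
  have hvL : v ∈ D.leviSubgroup F J := ML_le_levi hG hE J (UL_le_ML hG J hv)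
  have h1 : q ∈ D.unipotentRadical F J ⊓ D.leviSubgroup F J := by
    refine Subgroup.mem_inf.2 ⟨hq, ?_⟩
    have : q = q * v * v⁻¹ := by group
    rw [this]
    exact mul_mem hg (inv_mem hvL)
  rw [rad_inf_levi hG hE J, Subgroup.mem_bot] at h1
  rw [h1, one_mul]; exact hv

/-- Weyl elements preserving the roots outside `J` -/
theorem WJ_of_rad {J : Set ℕ} : ∀ (n : ℕ) (w : hG.W), len hG.s w = n →
    (∀ r : Fin D.nroots, (r : ℕ) ∈ posS D N \ Phi D rc J → (w.1 r : ℕ) ∈ posS D N \ Phi D rc J) →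
    w ∈ Subgroup.closure {x | ∃ i : Fin D.rank, i ∈ {i : Fin D.rank | (i : ℕ) ∈ J} ∧ x = hG.s i} := by
  intro n
  induction n using Nat.strong_induction_on with
  | _ n ih =>
    intro w hw hwr
    by_cases hall : ∀ i, N ≤ (w.1 (hG.sr i) : ℕ)
    · rw [hG.eq_one_of_pos hall]; exact one_mem _
    · push Not at hall
      obtain ⟨i, hi⟩ := hall
      have hiJ : (i : ℕ) ∈ J := by
        by_contra hcon
        have := hwr (hG.sr i) ⟨⟨hG.sr_pos i, (hG.sr i).2⟩, fun h => hcon ((simple_mem_phi_iff hG i.2).1 h)⟩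
        have := this.1.1
        omega
      have h6 := hG.lt_iff_len.1 hi
      have h7 := ih _ (by rw [← hw]; exact h6) (w * hG.s i) rfl (by
        intro r hr
        change (w.1 ((hG.s i).1 r) : ℕ) ∈ _
        exact hwr _ (rad_w hG hiJ i.2 hr))
      have h8 : w = w * hG.s i * hG.s i := by rw [mul_assoc, hG.s_sq, mul_one]
      rw [h8]
      exact mul_mem h7 (Subgroup.subset_closure ⟨i, hiJ, rfl⟩)

/-- monomial elements of `P_J` -/
theorem mono_par {J : Set ℕ} {n : GL D.Idx F} (hn : n ∈ D.monomialSubgroup F) (hnP : n ∈ D.parabolicSubgroup F J)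
    {w : hG.W} {χ : Fin D.nroots → Fˣ} (hm : Mon hG (xg D F) n w χ) :
    w ∈ Subgroup.closure {x | ∃ i : Fin D.rank, i ∈ {i : Fin D.rank | (i : ℕ) ∈ J} ∧ x = hG.s i} := by
  apply WJ_of_rad hG hE _ w rfl
  intro r hr
  have h1 := par_norm_rad hG hE J hnP (q := xg D F r 1) (by rw [radical_eq hG hE]; exact mem_US hr 1)
  rw [hm.act, radical_eq hG hE] at h1
  exact mem_of_xg_mem hG hE (rad_pClo hG J) (w.1 r).2 (by simp) h1

/-- monomial elements with Weyl part in `W_J` are in `L_J` -/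
theorem mono_of_WJ {J : Set ℕ} {n : GL D.Idx F} (hn : n ∈ D.monomialSubgroup F)
    {w : hG.W} {χ : Fin D.nroots → Fˣ} (hm : Mon hG (xg D F) n w χ)
    (hw : w ∈ Subgroup.closure {x | ∃ i : Fin D.rank, i ∈ {i : Fin D.rank | (i : ℕ) ∈ J} ∧ x = hG.s i}) :
    ∃ m ∈ ML D rc F J, m ∈ D.monomialSubgroup F ∧ (∃ χ', Mon hG (xg D F) m w χ') ∧
      ∃ h ∈ D.diagonalSubgroup F, n = m * h := by
  obtain ⟨m, hmC, χ', hm'⟩ := exists_mono_of_closure (F := F) hG hE hw
  have hmN := ng_closure_le_mono (F := F) hG hE _ hmC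
  have hd : m⁻¹ * n ∈ D.diagonalSubgroup F := by
    have h3 := hm'.inv.mul hm
    rw [inv_mul_cancel] at h3
    exact hG.mem_diagonal_of_mon hE (mul_mem (inv_mem hmN) hn) h3
  refine ⟨m, ?_, hmN, ⟨χ', hm'⟩, m⁻¹ * n, hd, by group⟩
  have : Subgroup.closure {g : GL D.Idx F | ∃ i ∈ {i : Fin D.rank | (i : ℕ) ∈ J}, g = ng D F i} ≤ ML D rc F J := by
    rw [Subgroup.closure_le]
    rintro _ ⟨i, hi, rfl⟩
    exact ng_mem_ML hG hE hi i.2
  exact this hmC

/-- Bruhat decomposition of the Levi subgroup -/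
theorem levi_bruhat {J : Set ℕ} {g : GL D.Idx F} (hg : g ∈ D.leviSubgroup F J) :
    ∃ y ∈ UL D N rc F J, ∃ n ∈ D.monomialSubgroup F, ∃ w χ, Mon hG (xg D F) n w χ ∧ n ∈ D.leviSubgroup F J ∧
      w ∈ Subgroup.closure {x | ∃ i : Fin D.rank, i ∈ {i : Fin D.rank | (i : ℕ) ∈ J} ∧ x = hG.s i} ∧
      ∃ v ∈ UL D N rc F J, g = y * n * v := by
  have hPG : D.parabolicSubgroup F J ≤ D.group F := by
    rw [parabolic_gen hG]
    refine sup_le hG.borel_le ?_
    rw [Subgroup.closure_le]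
    rintro _ ⟨j, _, hj, rfl⟩
    exact hG.ng_mem_group j
  have hgP := levi_le_par hG hE J hg
  obtain ⟨b, hb, n, hn, w, χ, hm, u, hu, he⟩ := hG.canon hE (hPG hgP)
  have huU : u ∈ D.posUnipotent F := by
    rw [hG.posUnipotent_eq_US]; exact US_mono (hG.Um_sub w) hu
  have hBP : D.borelSubgroup F ≤ D.parabolicSubgroup F J := le_sup_left
  have hnP : n ∈ D.parabolicSubgroup F J := by
    have : n = b⁻¹ * g * u⁻¹ := by rw [he]; group
    rw [this]
    exact mul_mem (mul_mem (inv_mem (hBP hb)) hgP) (inv_mem (hBP (Subgroup.mem_sup_left huU)))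
  have hw := mono_par hG hE hn hnP hm
  obtain ⟨v₁, hv₁, h, hh, rfl⟩ := hG.mem_borel_iff.1 hb
  obtain ⟨q₁, hq₁, y, hy, rfl⟩ := pos_decomp hG hE J hv₁
  obtain ⟨q₂, hq₂, v, hv, rfl⟩ := pos_decomp hG hE J huU
  obtain ⟨m, hmM, hmN, ⟨χ', hm'⟩, h', hh', hn'⟩ := mono_of_WJ hG hE hn hm hw
  have hnL : n ∈ D.leviSubgroup F J := by
    rw [hn']; exact mul_mem (ML_le_levi hG hE J hmM) (diag_le_levi hG hE J hh')
  have hyL : y ∈ D.leviSubgroup F J := ML_le_levi hG hE J (UL_le_ML hG J hy)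
  have hvL : v ∈ D.leviSubgroup F J := ML_le_levi hG hE J (UL_le_ML hG J hv)
  have hhL := diag_le_levi (F := F) hG hE J hh
  obtain ⟨χh, hχh⟩ := hG.HA_mon (hG.rdn hE) (show h ∈ HA D (xg D F) by rw [hG.HA_eq]; exact hh)
  obtain ⟨χn, hhn⟩ : ∃ χn, Mon hG (xg D F) (h * n) w χn := by
    have := hχh.mul hm
    rw [one_mul] at this
    exact ⟨_, this⟩
  set x := y * (h * n) with hx
  have hxL : x ∈ D.leviSubgroup F J := mul_mem hyL (mul_mem hhL hnL)
  have he2 : g = (q₁ * (x * q₂ * x⁻¹)) * (x * v) := by rw [he, hx]; group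
  have hq : q₁ * (x * q₂ * x⁻¹) ∈ D.unipotentRadical F J :=
    mul_mem hq₁ (par_norm_rad hG hE J (levi_le_par hG hE J hxL) hq₂)
  have h1 : q₁ * (x * q₂ * x⁻¹) ∈ D.unipotentRadical F J ⊓ D.leviSubgroup F J := by
    refine Subgroup.mem_inf.2 ⟨hq, ?_⟩
    have : q₁ * (x * q₂ * x⁻¹) = g * (x * v)⁻¹ := by rw [he2]; group
    rw [this]
    exact mul_mem hg (inv_mem (mul_mem hxL hvL))
  rw [rad_inf_levi hG hE J, Subgroup.mem_bot] at h1
  rw [h1, one_mul, hx] at he2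
  have hhnN : h * n ∈ D.monomialSubgroup F := by
    refine mul_mem ?_ hn
    rw [hG.monomial_eq hE]
    exact Subgroup.mem_sup_right hh
  exact ⟨y, hy, h * n, hhnN, w, χn, hhn, mul_mem hhL hnL, hw, v, hv, he2⟩

/-- `W_J` preserves `Φ_J` -/
theorem WJ_phi {J : Set ℕ} {w : hG.W}
    (hw : w ∈ Subgroup.closure {x | ∃ i : Fin D.rank, i ∈ {i : Fin D.rank | (i : ℕ) ∈ J} ∧ x = hG.s i}) :
    ∀ r : Fin D.nroots, (r : ℕ) ∈ Phi D rc J → (w.1 r : ℕ) ∈ Phi D rc J := by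
  induction hw using Subgroup.closure_induction with
  | mem x hx =>
    obtain ⟨i, hi, rfl⟩ := hx
    intro r hr
    exact phi_w hG hi i.2 hr
  | one => intro r hr; exact hr
  | mul a b _ _ ha hb => intro r hr; exact ha _ (hb r hr)
  | inv a ha' ha =>
    intro r hr
    -- finite order argument through the permutation of a finite set
    classical
    set S : Finset (Fin D.nroots) := Finset.univ.filter fun r => (r : ℕ) ∈ Phi D rc J with hS
    have h1 : S.map a.1.toEmbedding = S := by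
      apply Finset.eq_of_subset_of_card_le
      · intro r hr
        rw [Finset.mem_map] at hr
        obtain ⟨s, hs, rfl⟩ := hr
        rw [hS, Finset.mem_filter] at hs ⊢
        exact ⟨Finset.mem_univ _, ha s hs.2⟩
      · rw [Finset.card_map]
    have h2 : r ∈ S := by rw [hS, Finset.mem_filter]; exact ⟨Finset.mem_univ _, hr⟩
    rw [← h1, Finset.mem_map] at h2
    obtain ⟨s, hs, hsr⟩ := h2
    have h3 : (a⁻¹).1 r = s := by
      rw [← hsr]
      exact Equiv.symm_apply_apply a.1 s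
    rw [h3]
    rw [hS, Finset.mem_filter] at hs
    exact hs.2

/-- roots of `Φ_J` are `W_J`-conjugate to simple roots -/
theorem to_simple {J : Set ℕ} : ∀ (r : Fin D.nroots), N ≤ (r : ℕ) → (r : ℕ) ∈ Phi D rc J →
    ∃ w ∈ Subgroup.closure {x | ∃ i : Fin D.rank, i ∈ {i : Fin D.rank | (i : ℕ) ∈ J} ∧ x = hG.s i},
      ∃ j : Fin D.rank, (j : ℕ) ∈ J ∧ w.1 r = hG.sr j := by
  intro r
  obtain ⟨k, hk⟩ : ∃ k, k = (r : ℕ) := ⟨_, rfl⟩
  induction k using Nat.strong_induction_on generalizing r with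
  | _ k ih =>
    intro hN hr
    obtain ⟨j, hjJ, hj, hpos⟩ := exists_desc hG hr hN hE
    by_cases hs : (r : ℕ) = D.simple j
    · exact ⟨1, one_mem _, ⟨j, hj⟩, hjJ, Fin.ext hs⟩
    · have h1 := hG.w_lt_self hj r.2 hpos
      have h2 := hG.w_pos j hj r r.2 hN hs
      obtain ⟨w, hw, i, hi, he⟩ := ih _ (by rw [hk]; exact h1) ((hG.s ⟨j, hj⟩).1 r) rfl h2 (phi_w hG hjJ hj hr)
      exact ⟨w * hG.s ⟨j, hj⟩, mul_mem hw (Subgroup.subset_closure ⟨⟨j, hj⟩, hjJ, rfl⟩), i, hi, he⟩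

/-- a root of `Φ_J` and its negative are `W_J`-conjugate -/
theorem to_neg {J : Set ℕ} (r : Fin D.nroots) (hN : N ≤ (r : ℕ)) (hr : (r : ℕ) ∈ Phi D rc J) :
    ∃ w ∈ Subgroup.closure {x | ∃ i : Fin D.rank, i ∈ {i : Fin D.rank | (i : ℕ) ∈ J} ∧ x = hG.s i},
      w.1 r = hG.ngf r := by
  obtain ⟨w, hw, j, hj, he⟩ := to_simple hG hE r hN hr
  refine ⟨w⁻¹ * hG.s j * w, mul_mem (mul_mem (inv_mem hw) (Subgroup.subset_closure ⟨j, hj, rfl⟩)) hw, ?_⟩
  change (w⁻¹).1 ((hG.s j).1 (w.1 r)) = _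
  rw [he, hG.s_sr, ← he, ← hG.W_neg]
  exact Equiv.symm_apply_apply w.1 _

end Cfsg.Agent.H15.Chev
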