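import Cfsg.Agent.H15.ChevInv6

/-!
# Packed matrices modulo two
-/

set_option autoImplicit false
set_option linter.unusedSectionVars false

namespace Cfsg.Agent.H15.Chev

open Cfsg.Agent.H6 Cfsg.Lie Cfsg.Agent.H22
open scoped Matrix

/-- flattened index -/
def fl (D : ChevalleyDatum) : D.Idx → ℕ
  | Sum.inl i => i
  | Sum.inr s => D.rank + s

theorem fl_lt (D : ChevalleyDatum) (a : D.Idx) : fl D a < D.rank + D.nroots := by
  rcases a with a | a
  · change (a : ℕ) < _; omega
  · change D.rank + (a : ℕ) < _; omega

theorem fl_inj (D : ChevalleyDatum) {a b : D.Idx} (h : fl D a = fl D b) : a = b := by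
  rcases a with a | a <;> rcases b with b | b
  · exact congrArg _ (Fin.ext h)
  · change (a : ℕ) = D.rank + (b : ℕ) at h; omega
  · change D.rank + (a : ℕ) = (b : ℕ) at h; omega
  · change D.rank + (a : ℕ) = D.rank + (b : ℕ) at h
    exact congrArg _ (Fin.ext (by omega))

theorem exists_fl (D : ChevalleyDatum) {q : ℕ} (h : q < D.rank + D.nroots) : ∃ b : D.Idx, fl D b = q := by
  by_cases hq : q < D.rank
  · exact ⟨Sum.inl ⟨q, hq⟩, rfl⟩
  · exact ⟨Sum.inr ⟨q - D.rank, by omega⟩, by change D.rank + (q - D.rank) = q; omega⟩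

def odds (L : List (ℕ × ℤ)) : List ℕ := (L.filter fun q => decide (q.2 % 2 = 1)).map Prod.fst

/-- odd off-diagonal entries of `x_r(1)` -/
def ent (D : ChevalleyDatum) (r : ℕ) : List (ℕ × ℕ) :=
  (((List.range D.rank).filter fun i => decide (D.cartan i r % 2 = 1)).map fun i => (D.rank + r, i)) ++
  ((((List.range D.rank).filter fun i => decide (cor D r i % 2 = 1)).map fun i => (i, D.rank + D.neg r)) ++
  ((D.rank + r, D.rank + D.neg r) ::
  ((D.chain.getD r #[]).toList.filter fun e => decide (e.1 ≠ r) && decide (e.1 ≠ D.neg r)).flatMap fun e =>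
    (odds e.2.toList).map fun q => (D.rank + q, D.rank + e.1)))

section cnt
variable (F : Type*) [Field F]

def cnt (L : List (ℕ × ℕ)) (p q : ℕ) : F := (L.map fun e => if e.1 = p ∧ e.2 = q then (1 : F) else 0).sum

theorem cnt_append (L L' : List (ℕ × ℕ)) (p q : ℕ) : cnt F (L ++ L') p q = cnt F L p q + cnt F L' p q := by
  unfold cnt; rw [List.map_append, List.sum_append]

theorem cnt_cons (e : ℕ × ℕ) (L : List (ℕ × ℕ)) (p q : ℕ) :
    cnt F (e :: L) p q = (if e.1 = p ∧ e.2 = q then 1 else 0) + cnt F L p q := by
  unfold cnt; rw [List.map_cons, List.sum_cons]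

theorem cnt_nil (p q : ℕ) : cnt F [] p q = 0 := rfl

theorem cnt_zero {L : List (ℕ × ℕ)} {p q : ℕ} (h : ∀ e ∈ L, ¬ (e.1 = p ∧ e.2 = q)) : cnt F L p q = 0 := by
  unfold cnt
  apply List.sum_eq_zero
  intro x hx
  rw [List.mem_map] at hx
  obtain ⟨e, he, rfl⟩ := hx
  rw [if_neg (h e he)]

theorem cntA (P : ℕ → Bool) (c p q : ℕ) : ∀ n, cnt F (((List.range n).filter P).map fun i => (c, i)) p q =
    if c = p ∧ q < n ∧ P q = true then 1 else 0 := by
  intro n
  induction n with
  | zero => rw [if_neg (by omega)]; rfl
  | succ n ih =>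
    rw [List.range_succ, List.filter_append, List.map_append, cnt_append, ih]
    by_cases hP : P n = true
    · rw [List.filter_cons_of_pos hP, List.filter_nil, List.map_cons, List.map_nil, cnt_cons, cnt_nil, add_zero]
      by_cases hc : c = p
      · by_cases hq : q = n
        · subst hq
          rw [if_neg (by omega), if_pos ⟨hc, rfl⟩, if_pos ⟨hc, by omega, hP⟩, zero_add]
        · have h1 : ¬ ((c, n).1 = p ∧ (c, n).2 = q) := fun h => hq h.2.symm
          rw [if_neg h1, add_zero]
          congr 1
          apply propext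
          constructor
          · rintro ⟨a, b, d⟩; exact ⟨a, by omega, d⟩
          · rintro ⟨a, b, d⟩; exact ⟨a, by omega, d⟩
      · rw [if_neg (fun h => hc h.1), if_neg (fun h => hc h.1), if_neg (fun h => hc h.1), add_zero]
    · rw [List.filter_cons_of_neg hP, List.filter_nil, List.map_nil, cnt_nil, add_zero]
      congr 1
      apply propext
      constructor
      · rintro ⟨a, b, d⟩; exact ⟨a, by omega, d⟩
      · rintro ⟨a, b, d⟩
        refine ⟨a, ?_, d⟩
        by_contra hc
        have : q = n := by omega
        subst this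
        exact hP d

theorem cntB (P : ℕ → Bool) (c p q : ℕ) : ∀ n, cnt F (((List.range n).filter P).map fun i => (i, c)) p q =
    if c = q ∧ p < n ∧ P p = true then 1 else 0 := by
  intro n
  rw [← cntA F P c q p n]
  unfold cnt
  rw [List.map_map, List.map_map]
  congr 1
  apply List.map_congr_left
  intro i _
  change (if i = p ∧ c = q then (1 : F) else 0) = if c = q ∧ i = p then 1 else 0
  simp only [and_comm]

end cnt

section
variable {D : ChevalleyDatum} {N : ℕ} {η : ℕ → ℕ → ℤ} {rc : ℕ → ℕ → ℤ} {F : Type*} [Field F]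

theorem cast_mod2 (h2 : (2 : F) = 0) (m : ℤ) : ((m : ℤ) : F) = if m % 2 = 1 then 1 else 0 := by
  have h := Int.emod_add_mul_ediv m 2
  have e : ((m : ℤ) : F) = ((m % 2 : ℤ) : F) + ((2 : ℤ) : F) * ((m / 2 : ℤ) : F) := by
    exact_mod_cast congrArg (Int.cast (R := F)) h.symm
  have e2 : ((2 : ℤ) : F) = 0 := by push_cast; exact h2
  rw [e, e2, zero_mul, add_zero]
  rcases Int.emod_two_eq_zero_or_one m with h | h
  · rw [h, if_neg (by norm_num), Int.cast_zero]
  · rw [h, if_pos rfl, Int.cast_one]

theorem neg_mod2 (h2 : (2 : F) = 0) (t : F) : -t = t := by linear_combination (-t) * h2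

theorem inner_sum (h2 : (2 : F) = 0) (u : ℕ) (L : List (ℕ × ℤ)) : ∀ k : ℕ,
    ((odds L).map fun q => if q = u then (1 : F) else 0).sum =
      ((((L.zipIdx k).filter (fun q => q.1.1 = u)).map fun q => (q.2 + 1, q.1.2)).map
        fun km => ((km.2 : ℤ) : F) * 1 ^ km.1).sum := by
  induction L with
  | nil => intro k; rfl
  | cons a L ih =>
    intro k
    rw [List.zipIdx_cons]
    have hL := ih (k + 1)
    have e1 : (odds (a :: L)).map (fun q => if q = u then (1 : F) else 0) =
        (if a.2 % 2 = 1 then [if a.1 = u then (1 : F) else 0] else []) ++ (odds L).map (fun q => if q = u then (1 : F) else 0) := by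
      unfold odds
      by_cases h : a.2 % 2 = 1
      · rw [List.filter_cons_of_pos (by simpa using h), if_pos h]; rfl
      · rw [List.filter_cons_of_neg (by simpa using h), if_neg h]; rfl
    rw [e1, List.sum_append, hL]
    by_cases hu : a.1 = u
    · rw [List.filter_cons_of_pos (by simpa using hu), List.map_cons, List.map_cons, List.sum_cons]
      congr 1
      change _ = ((a.2 : ℤ) : F) * 1 ^ (k + 1)
      rw [one_pow, mul_one, cast_mod2 h2]
      by_cases h : a.2 % 2 = 1
      · rw [if_pos h, if_pos h, if_pos hu]; simp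
      · rw [if_neg h, if_neg h]; simp
    · rw [List.filter_cons_of_neg (by simpa using hu)]
      by_cases h : a.2 % 2 = 1
      · rw [if_pos h, if_neg hu]; simp
      · rw [if_neg h]; simp

theorem flat_sum (h2 : (2 : F) = 0) (l r nr s u : ℕ) (h1 : s ≠ r) (h1' : s ≠ nr) (R : List (ℕ × Array (ℕ × ℤ))) :
    cnt F ((R.filter fun e => decide (e.1 ≠ r) && decide (e.1 ≠ nr)).flatMap fun e =>
      (odds e.2.toList).map fun q => (l + q, l + e.1)) (l + u) (l + s) =
    (((R.filter (fun e => e.1 = s)).flatMap fun e =>
      ((e.2.toList.zipIdx).filter (fun q => q.1.1 = u)).map fun q => (q.2 + 1, q.1.2)).map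
        fun km => ((km.2 : ℤ) : F) * 1 ^ km.1).sum := by
  induction R with
  | nil => rfl
  | cons e R ih =>
    by_cases hs : e.1 = s
    · have hp : (decide (e.1 ≠ r) && decide (e.1 ≠ nr)) = true := by
        rw [hs]; simp [h1, h1']
      rw [List.filter_cons_of_pos (p := fun e : ℕ × Array (ℕ × ℤ) => decide (e.1 ≠ r) && decide (e.1 ≠ nr)) hp,
        List.flatMap_cons, cnt_append, ih,
        List.filter_cons_of_pos (by simpa using hs), List.flatMap_cons, List.map_append, List.sum_append]
      congr 1
      rw [← inner_sum h2 u e.2.toList 0]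
      unfold cnt
      rw [List.map_map]
      congr 1
      apply List.map_congr_left
      intro q _
      change (if l + q = l + u ∧ l + e.1 = l + s then (1 : F) else 0) = _
      by_cases hq : q = u
      · rw [if_pos ⟨by omega, by omega⟩, if_pos hq]
      · rw [if_neg (by omega), if_neg hq]
    · rw [List.filter_cons_of_neg (p := fun e : ℕ × Array (ℕ × ℤ) => decide (e.1 = s)) (by simpa using hs), ← ih]
      by_cases hp : (decide (e.1 ≠ r) && decide (e.1 ≠ nr)) = true
      · rw [List.filter_cons_of_pos (p := fun e : ℕ × Array (ℕ × ℤ) => decide (e.1 ≠ r) && decide (e.1 ≠ nr)) hp,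
          List.flatMap_cons, cnt_append]
        rw [cnt_zero, zero_add]
        intro x hx
        rw [List.mem_map] at hx
        obtain ⟨q, _, rfl⟩ := hx
        rintro ⟨-, h⟩
        exact hs (by change l + e.1 = l + s at h; omega)
      · rw [List.filter_cons_of_neg (p := fun e : ℕ × Array (ℕ × ℤ) => decide (e.1 ≠ r) && decide (e.1 ≠ nr)) hp]

variable (hG : Good D N η rc)
include hG

/-- entries of `x_r(1)` in characteristic two -/
theorem x_ent (h2 : (2 : F) = 0) {r : ℕ} (hr : r < D.nroots) (a b : D.Idx) :
    D.x F r 1 a b = (if a = b then 1 else 0) + cnt F (ent D r) (fl D a) (fl D b) := by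
  have hnr : D.neg r ≠ r := hG.toSem.neg_ne hr
  unfold ent
  rw [cnt_append, cnt_append, cnt_cons, cntA, cntB, x_of_lt hr]
  rcases b with b | b
  · -- column `h_i`
    have hD : cnt F (((D.chain.getD r #[]).toList.filter fun e => decide (e.1 ≠ r) && decide (e.1 ≠ D.neg r)).flatMap fun e =>
        (odds e.2.toList).map fun q => (D.rank + q, D.rank + e.1)) (fl D a) (fl D (Sum.inl b)) = 0 := by
      apply cnt_zero
      intro x hx
      rw [List.mem_flatMap] at hx
      obtain ⟨e, _, hx⟩ := hx
      rw [List.mem_map] at hx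
      obtain ⟨q, _, rfl⟩ := hx
      rintro ⟨-, h⟩
      change D.rank + e.1 = (b : ℕ) at h
      omega
    rw [hD, add_zero]
    have hb1 : fl D (Sum.inl b) = (b : ℕ) := rfl
    rw [hb1]
    rw [if_neg (c := D.rank + D.neg r = (b : ℕ) ∧ _) (by omega), if_neg (c := _ ∧ D.rank + D.neg r = (b : ℕ)) (by
      rintro ⟨-, h⟩; omega), zero_add, add_zero]
    rcases a with a | a
    · simp only [ChevalleyDatum.xMat, Matrix.of_apply]
      rw [if_neg (c := D.rank + r = _ ∧ _) (by
        rintro ⟨h, -⟩; change D.rank + r = (a : ℕ) at h; omega), add_zero]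
      simp
    · simp only [ChevalleyDatum.xMat, Matrix.of_apply]
      have hab : ¬ ((Sum.inr a : D.Idx) = Sum.inl b) := by simp
      have ha1 : fl D (Sum.inr a) = D.rank + (a : ℕ) := rfl
      rw [if_neg hab, zero_add, ha1]
      change (if a = ⟨r, hr⟩ then -(((D.cartan b r : ℤ) : F)) * 1 else 0) = if D.rank + r = D.rank + (a : ℕ) ∧ _ then 1 else 0
      by_cases ha : a = ⟨r, hr⟩
      · rw [if_pos ha, mul_one, neg_mod2 h2, cast_mod2 h2]
        have : (a : ℕ) = r := by rw [ha]
        by_cases ho : D.cartan b r % 2 = 1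
        · have hc : D.rank + r = D.rank + (a : ℕ) ∧ (b : ℕ) < D.rank ∧ decide (D.cartan b r % 2 = 1) = true :=
            ⟨by omega, b.2, by simpa using ho⟩
          rw [if_pos ho, if_pos hc]
        · rw [if_neg ho, if_neg]
          rintro ⟨-, -, h⟩
          exact ho (by simpa using h)
      · rw [if_neg ha, if_neg]
        rintro ⟨h, -⟩
        exact ha (Fin.ext (by change (a : ℕ) = r; omega))
  · have hb1 : fl D (Sum.inr b) = D.rank + (b : ℕ) := rfl
    rw [hb1, if_neg (c := D.rank + r = _ ∧ D.rank + (b : ℕ) < D.rank ∧ _) (by rintro ⟨-, h, -⟩; omega), zero_add]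
    simp only [ChevalleyDatum.xMat, Matrix.of_apply]
    by_cases hbr : b = ⟨r, hr⟩
    · have hb : (b : ℕ) = r := by rw [hbr]
      rw [if_pos hbr, if_neg (c := D.rank + D.neg r = D.rank + (b : ℕ) ∧ _) (by rintro ⟨h, -⟩; omega),
        if_neg (c := _ ∧ D.rank + D.neg r = D.rank + (b : ℕ)) (by rintro ⟨-, h⟩; omega), zero_add, zero_add,
        cnt_zero, add_zero]
      · rcases a with a | a
        · simp
        · by_cases ha : a = b
          · rw [ha, if_pos rfl, hbr]; simp
          · rw [if_neg (by simpa using ha)]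
            change (if a = ⟨r, hr⟩ then (1 : F) else 0) = 0
            rw [if_neg]
            intro h; exact ha (h.trans hbr.symm)
      · intro x hx
        rw [List.mem_flatMap] at hx
        obtain ⟨e, he, hx⟩ := hx
        rw [List.mem_filter] at he
        rw [List.mem_map] at hx
        obtain ⟨q, _, rfl⟩ := hx
        rintro ⟨-, h⟩
        change D.rank + e.1 = D.rank + (b : ℕ) at h
        have h3 := he.2
        rw [Bool.and_eq_true, decide_eq_true_eq] at h3
        exact h3.1 (by omega)
    · rw [if_neg hbr]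
      have hbr' : (b : ℕ) ≠ r := fun h => hbr (Fin.ext h)
      by_cases hbn : (b : ℕ) = D.neg r
      · have hbn' : (b : ℕ) = D.negIdx.getD r 0 := hbn
        rw [if_pos hbn', cnt_zero, add_zero]
        · rcases a with a | a
          · have ha1 : fl D (Sum.inl a) = (a : ℕ) := rfl
            rw [ha1, if_neg (c := (Sum.inl a : D.Idx) = Sum.inr b) (by simp),
              if_neg (c := D.rank + r = (a : ℕ) ∧ _) (by rintro ⟨h, -⟩; omega), zero_add, add_zero]
            change ((cor D r a : ℤ) : F) * 1 = _
            rw [mul_one, cast_mod2 h2]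
            by_cases ho : cor D r a % 2 = 1
            · have hc : D.rank + D.neg r = D.rank + (b : ℕ) ∧ (a : ℕ) < D.rank ∧ decide (cor D r a % 2 = 1) = true :=
                ⟨by omega, a.2, by simpa using ho⟩
              rw [if_pos ho, if_pos hc]
            · rw [if_neg ho, if_neg]
              rintro ⟨-, -, h⟩
              exact ho (by simpa using h)
          · have ha1 : fl D (Sum.inr a) = D.rank + (a : ℕ) := rfl
            rw [ha1, if_neg (c := _ ∧ D.rank + (a : ℕ) < D.rank ∧ _) (by rintro ⟨-, h, -⟩; omega), zero_add]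
            change (if a = b then (1 : F) else if a = ⟨r, hr⟩ then -(1 ^ 2) else 0) = _
            by_cases hab : a = b
            · rw [if_pos hab, if_pos (by rw [hab]), if_neg, add_zero]
              rintro ⟨h, -⟩
              change D.rank + r = D.rank + (a : ℕ) at h
              rw [hab] at h
              omega
            · rw [if_neg hab, if_neg (c := (Sum.inr a : D.Idx) = Sum.inr b) (by simpa using hab), zero_add]
              by_cases har : a = ⟨r, hr⟩
              · rw [if_pos har, if_pos, one_pow, neg_mod2 h2]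
                have : (a : ℕ) = r := by rw [har]
                exact ⟨by change D.rank + r = D.rank + (a : ℕ); omega, by change D.rank + D.neg r = D.rank + (b : ℕ); omega⟩
              · rw [if_neg har, if_neg]
                rintro ⟨h, -⟩
                exact har (Fin.ext (by change D.rank + r = D.rank + (a : ℕ) at h; change (a : ℕ) = r; omega))
        · intro x hx
          rw [List.mem_flatMap] at hx
          obtain ⟨e, he, hx⟩ := hx
          rw [List.mem_filter] at he
          rw [List.mem_map] at hx
          obtain ⟨q, _, rfl⟩ := hx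
          rintro ⟨-, h⟩
          change D.rank + e.1 = D.rank + (b : ℕ) at h
          have h3 := he.2
          rw [Bool.and_eq_true, decide_eq_true_eq, decide_eq_true_eq] at h3
          exact h3.2 (by omega)
      · have hbn' : ¬ (b : ℕ) = D.negIdx.getD r 0 := hbn
        rw [if_neg hbn', if_neg (c := D.rank + D.neg r = D.rank + (b : ℕ) ∧ _) (by rintro ⟨h, -⟩; omega),
          if_neg (c := _ ∧ D.rank + D.neg r = D.rank + (b : ℕ)) (by rintro ⟨-, h⟩; omega), zero_add, zero_add]
        rcases a with a | a
        · rw [if_neg (c := (Sum.inl a : D.Idx) = Sum.inr b) (by simp), zero_add, cnt_zero]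
          intro x hx
          rw [List.mem_flatMap] at hx
          obtain ⟨e, he, hx⟩ := hx
          rw [List.mem_map] at hx
          obtain ⟨q, _, rfl⟩ := hx
          rintro ⟨h, -⟩
          change D.rank + q = (a : ℕ) at h
          omega
        · change (if a = b then (1 : F) else 0) + ((D.chainCoeff r b a).map fun km => ((km.2 : ℤ) : F) * 1 ^ km.1).sum =
            (if (Sum.inr a : D.Idx) = Sum.inr b then 1 else 0) + cnt F _ (D.rank + (a : ℕ)) (D.rank + (b : ℕ))
          rw [flat_sum h2 D.rank r (D.neg r) b a hbr' hbn]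
          congr 1
          by_cases hab : a = b
          · rw [if_pos hab, if_pos (by rw [hab])]
          · rw [if_neg hab, if_neg (by simpa using hab)]

end

end Cfsg.Agent.H15.Chev
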