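import Cfsg.Agent.H15.ChevMod2

/-!
# Packed matrices modulo two: words and ranks
-/

set_option autoImplicit false
set_option linter.unusedSectionVars false

namespace Cfsg.Agent.H15.Chev

open Cfsg.Agent.H6 Cfsg.Lie Cfsg.Agent.H22
open scoped Matrix

section
variable (F : Type*) [Field F]

/-- bit as a field element -/
def bt (x : Bool) : F := if x = true then 1 else 0

theorem bt_xor (h2 : (2 : F) = 0) (x y : Bool) : bt F (x ^^ y) = bt F x + bt F y := by
  cases x <;> cases y <;> simp [bt]
  rw [← two_mul, mul_one, h2]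

/-- decoding of a packed matrix -/
def decM (D : ChevalleyDatum) (w M : ℕ) : Matrix D.Idx D.Idx F :=
  Matrix.of fun a b => bt F (M.testBit (w * fl D a + fl D b))

end

def opM (w M P acc : ℕ) (e : ℕ × ℕ) : ℕ :=
  Nat.xor acc (Nat.shiftLeft (Nat.mod (Nat.shiftRight M (Nat.mul w e.2)) P) (Nat.mul w e.1))

def oddZ (m : ℤ) : Bool := Nat.beq (Nat.mod (Int.natAbs m) 2) 1

theorem oddZ_eq (m : ℤ) : oddZ m = decide (m % 2 = 1) := by
  unfold oddZ
  change Nat.beq (m.natAbs % 2) 1 = _
  by_cases h : m % 2 = 1
  · have h1 : m.natAbs % 2 = 1 := by omega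
    rw [h1, decide_eq_true h]; rfl
  · have h1 : m.natAbs % 2 = 0 := by omega
    rw [h1, decide_eq_false h]; rfl

/-- kernel-friendly form of `ent` -/
def entF (D : ChevalleyDatum) (ca co : ℕ → ℕ → ℤ) (ng : ℕ → ℕ) (r : ℕ) : List (ℕ × ℕ) :=
  force (ng r) fun nr => force D.rank fun l => force (Nat.add l r) fun lr => force (Nat.add l nr) fun ln =>
  (((List.range l).filter fun i => oddZ (ca i r)).map fun i => (lr, i)) ++
  ((((List.range l).filter fun i => oddZ (co r i)).map fun i => (i, ln)) ++
  ((lr, ln) ::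
  ((D.chain.getD r #[]).toList.filter fun e => !(Nat.beq e.1 r) && !(Nat.beq e.1 nr)).flatMap fun e =>
    ((e.2.toList.filter fun q => oddZ q.2).map Prod.fst).map fun q => (Nat.add l q, Nat.add l e.1)))

theorem nbeq (a b : ℕ) : (!(Nat.beq a b)) = decide (a ≠ b) := by
  by_cases h : a = b
  · subst h; simp
  · rw [decide_eq_true h]
    cases h' : Nat.beq a b
    · rfl
    · exact absurd (Nat.eq_of_beq_eq_true h') h

theorem entF_eq (D : ChevalleyDatum) (ca co : ℕ → ℕ → ℤ) (ng : ℕ → ℕ) (h1 : D.cartan = ca) (h2 : cor D = co) (h3 : D.neg = ng) :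
    entF D ca co ng = ent D := by
  funext r
  subst h1 h2 h3
  unfold entF ent odds
  simp only [force_eq, oddZ_eq, nbeq]
  rfl

def stepM (E : ℕ → List (ℕ × ℕ)) (w : ℕ) (r : ℕ) (M : ℕ) : ℕ :=
  force M fun M => force (Nat.pow 2 w) fun P => (E r).foldl (opM w M P) M

def idM (d w : ℕ) : ℕ :=
  (List.range d).foldl (fun acc a => Nat.xor acc (Nat.pow 2 (w * a + a))) 0

def wordM (E : ℕ → List (ℕ × ℕ)) (d w : ℕ) (S : List ℕ) : ℕ := S.foldr (stepM E w) (idM d w)

def okEnt (E : ℕ → List (ℕ × ℕ)) (n d : ℕ) (r : ℕ) : Bool :=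
  decide (r < n) && (E r).all fun e => Nat.ble (Nat.succ e.2) d

theorem testBit_row (w M q p a c : ℕ) (hc : c < w) :
    (((M >>> (w * q)) % 2 ^ w) <<< (w * p)).testBit (w * a + c) = (decide (p = a) && M.testBit (w * q + c)) := by
  rw [Nat.testBit_shiftLeft, Nat.testBit_mod_two_pow, Nat.testBit_shiftRight]
  rcases lt_trichotomy p a with h | h | h
  · obtain ⟨k, rfl⟩ : ∃ k, a = p + 1 + k := ⟨a - p - 1, by omega⟩
    have h1 : w * (p + 1 + k) + c - w * p = w * (1 + k) + c := by
      have : w * (p + 1 + k) = w * p + w * (1 + k) := by ring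
      omega
    have h2 : ¬ (w * (1 + k) + c < w) := by
      have : w * (1 + k) = w + w * k := by ring
      omega
    rw [h1, decide_eq_false h2, decide_eq_false (show ¬ p = p + 1 + k by omega)]
    simp
  · subst h
    have h1 : w * p + c - w * p = c := by omega
    rw [h1, decide_eq_true (show w * p + c ≥ w * p by omega), decide_eq_true hc, decide_eq_true rfl]
    simp
  · obtain ⟨k, rfl⟩ : ∃ k, p = a + 1 + k := ⟨p - a - 1, by omega⟩
    have h1 : ¬ (w * a + c ≥ w * (a + 1 + k)) := by
      have : w * (a + 1 + k) = w * a + w + w * k := by ring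
      omega
    rw [decide_eq_false h1, decide_eq_false (show ¬ a + 1 + k = a by omega)]
    simp

section
variable {D : ChevalleyDatum} {N : ℕ} {η : ℕ → ℕ → ℤ} {rc : ℕ → ℕ → ℤ} {F : Type*} [Field F]

theorem fold_spec (h2 : (2 : F) = 0) (w M a c : ℕ) (hc : c < w) (L : List (ℕ × ℕ)) : ∀ acc : ℕ,
    bt F ((L.foldl (opM w M (2 ^ w)) acc).testBit (w * a + c)) = bt F (acc.testBit (w * a + c)) +
      (L.map fun e => if e.1 = a then bt F (M.testBit (w * e.2 + c)) else 0).sum := by
  induction L with
  | nil => intro acc; simp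
  | cons e L ih =>
    intro acc
    rw [List.foldl_cons, ih, List.map_cons, List.sum_cons, ← add_assoc]
    congr 1
    have e1 : opM w M (2 ^ w) acc e = acc ^^^ (((M >>> (w * e.2)) % 2 ^ w) <<< (w * e.1)) := rfl
    rw [e1, Nat.testBit_xor, testBit_row _ _ _ _ _ _ hc, bt_xor F h2]
    congr 1
    by_cases h : e.1 = a
    · rw [if_pos h, decide_eq_true h, Bool.true_and]
    · rw [if_neg h, decide_eq_false h, Bool.false_and]; rfl

theorem idM_spec (w : ℕ) (hw : D.rank + D.nroots ≤ w) (a c : ℕ) (hc : c < w) : ∀ n, n ≤ w →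
    (((List.range n).foldl (fun acc a => Nat.xor acc (Nat.pow 2 (w * a + a))) 0).testBit (w * a + c) =
      (decide (a < n) && decide (a = c))) := by
  intro n
  induction n with
  | zero => intro _; simp
  | succ n ih =>
    intro hn
    rw [List.range_succ, List.foldl_append, List.foldl_cons, List.foldl_nil]
    change ((_ : ℕ) ^^^ 2 ^ (w * n + n)).testBit (w * a + c) = _
    rw [Nat.testBit_xor, ih (by omega), Nat.testBit_two_pow]
    have hiff : w * n + n = w * a + c ↔ n = a ∧ a = c := by
      constructor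
      · intro h
        have hna : n = a := by
          rcases lt_trichotomy n a with h1 | h1 | h1
          · exfalso
            obtain ⟨k, rfl⟩ : ∃ k, a = n + 1 + k := ⟨a - n - 1, by omega⟩
            have : w * (n + 1 + k) = w * n + w + w * k := by ring
            omega
          · exact h1
          · exfalso
            obtain ⟨k, rfl⟩ : ∃ k, n = a + 1 + k := ⟨n - a - 1, by omega⟩
            have : w * (a + 1 + k) = w * a + w + w * k := by ring
            omega
        subst hna
        exact ⟨rfl, by omega⟩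
      · rintro ⟨rfl, rfl⟩; rfl
    by_cases h1 : n = a
    · subst h1
      by_cases h2 : n = c
      · rw [decide_eq_true (hiff.2 ⟨rfl, h2⟩), decide_eq_false (lt_irrefl n), decide_eq_true (Nat.lt_succ_self n),
          decide_eq_true h2]
        rfl
      · rw [decide_eq_false (fun h => h2 (hiff.1 h).2), decide_eq_false (lt_irrefl n), decide_eq_false h2]
        simp
    · rw [decide_eq_false (fun h => h1 (hiff.1 h).1)]
      have : decide (a < n) = decide (a < n + 1) := by
        congr 1
        apply propext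
        omega
      rw [this, Bool.xor_false]

theorem dec_idM (w : ℕ) (hw : D.rank + D.nroots ≤ w) : decM F D w (idM (D.rank + D.nroots) w) = 1 := by
  funext a b
  change bt F (Nat.testBit _ _) = _
  have hb := fl_lt D b
  have ha := fl_lt D a
  unfold idM
  rw [idM_spec w hw (fl D a) (fl D b) (by omega) _ hw, decide_eq_true ha, Bool.true_and]
  by_cases h : a = b
  · subst h
    rw [decide_eq_true rfl, Matrix.one_apply_eq]; rfl
  · rw [decide_eq_false (fun h' => h (fl_inj D h')), Matrix.one_apply_ne h]; rfl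

variable (hG : Good D N η rc)
include hG

theorem dec_step (h2 : (2 : F) = 0) (w : ℕ) (hw : D.rank + D.nroots ≤ w) {r : ℕ}
    (hr : okEnt (ent D) D.nroots (D.rank + D.nroots) r = true) (M : ℕ) :
    decM F D w (stepM (ent D) w r M) = D.x F r 1 * decM F D w M := by
  unfold okEnt at hr
  rw [Bool.and_eq_true, decide_eq_true_eq, List.all_eq_true] at hr
  obtain ⟨hr, hL⟩ := hr
  funext a b
  have hb := fl_lt D b
  rw [Matrix.mul_apply]
  change bt F ((stepM (ent D) w r M).testBit (w * fl D a + fl D b)) = _
  unfold stepM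
  rw [force_eq, force_eq]
  change bt F (((ent D r).foldl (opM w M (2 ^ w)) M).testBit (w * fl D a + fl D b)) = _
  rw [fold_spec h2 w M _ _ (by omega)]
  have e1 : ∀ c : D.Idx, D.x F r 1 a c * decM F D w M c b =
      (if a = c then decM F D w M c b else 0) + cnt F (ent D r) (fl D a) (fl D c) * decM F D w M c b := by
    intro c
    rw [x_ent hG h2 hr, add_mul, ite_mul, one_mul, zero_mul]
  rw [Finset.sum_congr rfl fun c _ => e1 c, Finset.sum_add_distrib, Finset.sum_ite_eq Finset.univ a,
    if_pos (Finset.mem_univ _)]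
  congr 1
  have key : ∀ L : List (ℕ × ℕ), (∀ e ∈ L, e.2 < D.rank + D.nroots) →
      (L.map fun e => if e.1 = fl D a then bt F (M.testBit (w * e.2 + fl D b)) else 0).sum =
      ∑ c : D.Idx, cnt F L (fl D a) (fl D c) * decM F D w M c b := by
    intro L
    induction L with
    | nil =>
      intro _
      rw [List.map_nil, List.sum_nil]
      symm
      apply Finset.sum_eq_zero
      intro c _
      rw [cnt_nil, zero_mul]
    | cons e L ih =>
      intro he
      rw [List.map_cons, List.sum_cons, ih fun x hx => he x (List.mem_cons_of_mem _ hx)]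
      have e2 : ∀ c : D.Idx, cnt F (e :: L) (fl D a) (fl D c) * decM F D w M c b =
          (if e.1 = fl D a ∧ e.2 = fl D c then decM F D w M c b else 0) + cnt F L (fl D a) (fl D c) * decM F D w M c b := by
        intro c
        rw [cnt_cons, add_mul, ite_mul, one_mul, zero_mul]
      rw [Finset.sum_congr rfl fun c _ => e2 c, Finset.sum_add_distrib]
      congr 1
      obtain ⟨c₀, hc₀⟩ := exists_fl D (he e List.mem_cons_self)
      rw [Finset.sum_eq_single c₀]
      · by_cases h : e.1 = fl D a
        · rw [if_pos h, if_pos ⟨h, hc₀.symm⟩, ← hc₀]; rfl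
        · rw [if_neg h, if_neg (fun h' => h h'.1)]
      · intro c _ hc
        rw [if_neg]
        rintro ⟨-, h⟩
        exact hc (fl_inj D (by rw [← h, hc₀]))
      · intro h; exact absurd (Finset.mem_univ _) h
  exact key _ fun e he => Nat.le_of_ble_eq_true (hL e he)

theorem dec_word (h2 : (2 : F) = 0) (w : ℕ) (hw : D.rank + D.nroots ≤ w) (S : List ℕ)
    (hS : S.all (okEnt (ent D) D.nroots (D.rank + D.nroots)) = true) :
    decM F D w (wordM (ent D) (D.rank + D.nroots) w S) = ((prodX D F S : GL D.Idx F) : Matrix D.Idx D.Idx F) := by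
  induction S with
  | nil =>
    unfold wordM prodX
    rw [List.foldr_nil, dec_idM w hw, List.map_nil, List.prod_nil, Units.val_one]
  | cons r S ih =>
    rw [List.all_cons, Bool.and_eq_true] at hS
    have e : wordM (ent D) (D.rank + D.nroots) w (r :: S) = stepM (ent D) w r (wordM (ent D) (D.rank + D.nroots) w S) := rfl
    rw [e, dec_step hG h2 w hw hS.1, ih hS.2]
    unfold prodX
    rw [List.map_cons, List.prod_cons, Units.val_mul, hG.coe_xg]

omit hG in
theorem prodX_append (S T : List ℕ) : prodX D F (S ++ T) = prodX D F S * prodX D F T := by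
  unfold prodX; rw [List.map_append, List.prod_append]

theorem prodX_mem (S : List ℕ) : prodX D F S ∈ D.group F := by
  unfold prodX
  apply Subgroup.list_prod_mem
  intro x hx
  rw [List.mem_map] at hx
  obtain ⟨r, _, rfl⟩ := hx
  exact hG.xg_mem_group r 1

/-- equality of words -/
theorem word_eq2 (h2 : (2 : F) = 0) (E : ℕ → List (ℕ × ℕ)) (hE : E = ent D) (w n d : ℕ) (hn : n = D.nroots)
    (hd : d = D.rank + D.nroots) (hw : d ≤ w) {S T : List ℕ}
    (hS : S.all (okEnt E n d) = true) (hT : T.all (okEnt E n d) = true)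
    (h : wordM E d w S = wordM E d w T) : prodX D F S = prodX D F T := by
  subst hE hn hd
  apply Units.ext
  rw [← dec_word hG h2 w hw S hS, ← dec_word hG h2 w hw T hT, h]

end

end Cfsg.Agent.H15.Chev
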