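import Cfsg.Agent.H15.ChevMod3

/-!
# Ranks of packed matrices modulo two
-/

set_option autoImplicit false
set_option linter.unusedSectionVars false

namespace Cfsg.Agent.H15.Chev

open Cfsg.Agent.H6 Cfsg.Lie Cfsg.Agent.H22
open scoped Matrix

def rowM (w M P a : ℕ) : ℕ := Nat.mod (Nat.shiftRight M (Nat.mul w a)) P

def xrows (w M P : ℕ) (L : List ℕ) : ℕ := L.foldr (fun a acc => Nat.xor (rowM w M P a) acc) 0

def buildB (w M P : ℕ) : List (ℕ × List ℕ) → (List (ℕ × ℕ) → Bool) → Bool
  | [], k => k []
  | (p, L) :: C, k => force (xrows w M P L) fun v => buildB w M P C fun B => k ((p, v) :: B)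

def triB (d : ℕ) : List (ℕ × ℕ) → ℕ → Bool
  | [], _ => true
  | (p, v) :: B, Q => (decide (p < d) && Nat.testBit v p && Nat.beq (Nat.land v Q) 0) && force (Nat.lor Q (Nat.pow 2 p)) (triB d B)

def redB : List (ℕ × ℕ) → ℕ → Bool
  | [], v => Nat.beq v 0
  | (p, u) :: B, v => force (cond (Nat.testBit v p) (Nat.xor v u) v) (redB B)

def chkR (w d M : ℕ) (C : List (ℕ × List ℕ)) : Bool :=
  force M fun M => force (Nat.pow 2 w) fun P =>
    (C.all fun c => c.2.all fun a => decide (a < d)) &&
    buildB w M P C fun B => triB d B 0 && (List.range d).all fun a => force (rowM w M P a) (redB B)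

section
variable {D : ChevalleyDatum} {N : ℕ} {η : ℕ → ℕ → ℤ} {rc : ℕ → ℕ → ℤ} {F : Type*} [Field F]

/-- decoded vectors -/
def dv (D : ChevalleyDatum) (F : Type*) [Field F] (v : ℕ) : D.Idx → F := fun b => bt F (v.testBit (fl D b))

theorem dv_xor (h2 : (2 : F) = 0) (u v : ℕ) : dv D F (u ^^^ v) = dv D F u + dv D F v := by
  funext b
  change bt F ((u ^^^ v).testBit _) = bt F _ + bt F _
  rw [Nat.testBit_xor, bt_xor F h2]

theorem dv_zero : dv D F 0 = 0 := by
  funext b
  change bt F ((0 : ℕ).testBit _) = 0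
  rw [Nat.zero_testBit]; rfl

theorem dv_row (w M : ℕ) (hw : D.rank + D.nroots ≤ w) (a : D.Idx) :
    dv D F (rowM w M (2 ^ w) (fl D a)) = (decM F D w M).row a := by
  funext b
  have hb := fl_lt D b
  change bt F (((M >>> (w * fl D a)) % 2 ^ w).testBit (fl D b)) = bt F (M.testBit (w * fl D a + fl D b))
  rw [Nat.testBit_mod_two_pow, Nat.testBit_shiftRight, decide_eq_true (show fl D b < w by omega), Bool.true_and]

theorem dv_xrows (h2 : (2 : F) = 0) (w M : ℕ) (hw : D.rank + D.nroots ≤ w) (L : List ℕ)
    (hL : ∀ a ∈ L, a < D.rank + D.nroots) :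
    dv D F (xrows w M (2 ^ w) L) ∈ Submodule.span F (Set.range (decM F D w M).row) := by
  induction L with
  | nil =>
    change dv D F 0 ∈ _
    rw [dv_zero]; exact zero_mem _
  | cons a L ih =>
    change dv D F (rowM w M (2 ^ w) a ^^^ xrows w M (2 ^ w) L) ∈ _
    rw [dv_xor h2]
    refine add_mem ?_ (ih fun x hx => hL x (List.mem_cons_of_mem _ hx))
    obtain ⟨a', rfl⟩ := exists_fl D (hL a List.mem_cons_self)
    rw [dv_row w M hw]
    exact Submodule.subset_span ⟨a', rfl⟩

theorem buildB_spec (h2 : (2 : F) = 0) (w M : ℕ) (hw : D.rank + D.nroots ≤ w) : ∀ (C : List (ℕ × List ℕ))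
    (k : List (ℕ × ℕ) → Bool), (∀ c ∈ C, ∀ a ∈ c.2, a < D.rank + D.nroots) → buildB w M (2 ^ w) C k = true →
    ∃ B : List (ℕ × ℕ), k B = true ∧ B.length = C.length ∧
      ∀ e ∈ B, dv D F e.2 ∈ Submodule.span F (Set.range (decM F D w M).row) := by
  intro C
  induction C with
  | nil =>
    intro k _ h
    exact ⟨[], h, rfl, fun e he => absurd he (by simp)⟩
  | cons c C ih =>
    obtain ⟨p, L⟩ := c
    intro k hC h
    rw [buildB, force_eq] at h
    obtain ⟨B, h1, h3, h4⟩ := ih _ (fun c hc => hC c (List.mem_cons_of_mem _ hc)) h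
    refine ⟨_, h1, by rw [List.length_cons, List.length_cons, h3], ?_⟩
    intro e he
    rw [List.mem_cons] at he
    rcases he with rfl | he
    · exact dv_xrows h2 w M hw L (hC (p, L) List.mem_cons_self)
    · exact h4 e he

theorem triB_spec (d : ℕ) (hd : d ≤ D.rank + D.nroots) : ∀ (B : List (ℕ × ℕ)) (Q : ℕ), triB d B Q = true →
    (∀ e ∈ B, ∀ p, Q.testBit p = true → e.2.testBit p = false) ∧
      LinearIndependent F (fun i : Fin B.length => dv D F (B.get i).2) := by
  intro B
  induction B with
  | nil =>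
    intro Q _
    refine ⟨fun e he => absurd he (by simp), ?_⟩
    haveI : IsEmpty (Fin ([] : List (ℕ × ℕ)).length) := Fin.isEmpty'
    exact linearIndependent_empty_type
  | cons e B ih =>
    obtain ⟨p, v⟩ := e
    intro Q h
    rw [triB, force_eq, Bool.and_eq_true, Bool.and_eq_true, Bool.and_eq_true, decide_eq_true_eq] at h
    obtain ⟨⟨⟨h1, h3⟩, h4⟩, h5⟩ := h
    obtain ⟨i1, i2⟩ := ih _ h5
    have h4' : v &&& Q = 0 := Nat.eq_of_beq_eq_true h4
    have hQ : ∀ q, Q.testBit q = true → (Nat.lor Q (Nat.pow 2 p)).testBit q = true := by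
      intro q hq
      change (Q ||| 2 ^ p).testBit q = true
      rw [Nat.testBit_or, hq, Bool.true_or]
    have hp : (Nat.lor Q (Nat.pow 2 p)).testBit p = true := by
      change (Q ||| 2 ^ p).testBit p = true
      rw [Nat.testBit_or, Nat.testBit_two_pow, decide_eq_true rfl, Bool.or_true]
    refine ⟨?_, ?_⟩
    · intro e he q hq
      rw [List.mem_cons] at he
      rcases he with rfl | he
      · have := congrArg (fun x => Nat.testBit x q) h4'
        simp only [Nat.testBit_and, Nat.zero_testBit, hq, Bool.and_true] at this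
        exact this
      · exact i1 e he q (hQ q hq)
    · have hcons : (fun i : Fin ((p, v) :: B).length => dv D F (((p, v) :: B).get i).2) =
          (Fin.cons (dv D F v) (fun i : Fin B.length => dv D F (B.get i).2) : Fin (B.length + 1) → (D.Idx → F)) := by
        funext i
        refine Fin.cases ?_ (fun j => ?_) i
        · rfl
        · rfl
      rw [hcons]
      apply (linearIndependent_fin_cons (K := F)).2
      refine ⟨i2, fun hmem => ?_⟩
      obtain ⟨b, hb⟩ := exists_fl D (lt_of_lt_of_le h1 hd)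
      have hle : Submodule.span F (Set.range fun i : Fin B.length => dv D F (B.get i).2) ≤
          LinearMap.ker (LinearMap.proj (R := F) (φ := fun _ : D.Idx => F) b) := by
        rw [Submodule.span_le]
        rintro _ ⟨i, rfl⟩
        change bt F ((B.get i).2.testBit (fl D b)) = 0
        rw [hb, i1 _ (List.get_mem B i) p hp]; rfl
      have h6 := hle hmem
      change bt F (v.testBit (fl D b)) = 0 at h6
      rw [hb, h3] at h6
      exact one_ne_zero (α := F) h6

theorem redB_spec (h2 : (2 : F) = 0) : ∀ (B : List (ℕ × ℕ)) (v : ℕ), redB B v = true →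
    dv D F v ∈ Submodule.span F (Set.range fun i : Fin B.length => dv D F (B.get i).2) := by
  intro B
  induction B with
  | nil =>
    intro v h
    have : v = 0 := Nat.eq_of_beq_eq_true h
    rw [this, dv_zero]; exact zero_mem _
  | cons e B ih =>
    obtain ⟨p, u⟩ := e
    intro v h
    rw [redB, force_eq] at h
    have h1 := ih _ h
    have hle : Submodule.span F (Set.range fun i : Fin B.length => dv D F (B.get i).2) ≤
        Submodule.span F (Set.range fun i : Fin ((p, u) :: B).length => dv D F (((p, u) :: B).get i).2) := by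
      apply Submodule.span_mono
      rintro _ ⟨i, rfl⟩
      exact ⟨i.succ, rfl⟩
    have h3 := hle h1
    cases hv : Nat.testBit v p with
    | false => rw [hv, cond_false] at h3; exact h3
    | true =>
      rw [hv, cond_true] at h3
      change dv D F (v ^^^ u) ∈ _ at h3
      rw [dv_xor h2] at h3
      have h4 : dv D F u ∈ Submodule.span F (Set.range fun i : Fin ((p, u) :: B).length => dv D F (((p, u) :: B).get i).2) :=
        Submodule.subset_span ⟨⟨0, Nat.succ_pos _⟩, rfl⟩
      have := sub_mem h3 h4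
      rwa [add_sub_cancel_right] at this

/-- the rank from a certificate -/
theorem rank_cert (h2 : (2 : F) = 0) (w M : ℕ) (hw : D.rank + D.nroots ≤ w) (C : List (ℕ × List ℕ))
    (h : chkR w (D.rank + D.nroots) M C = true) : (decM F D w M).rank = C.length := by
  unfold chkR at h
  rw [force_eq, force_eq, Bool.and_eq_true, List.all_eq_true] at h
  obtain ⟨h1, h3⟩ := h
  have h1' : ∀ c ∈ C, ∀ a ∈ c.2, a < D.rank + D.nroots := by
    intro c hc a ha
    have := h1 c hc
    rw [List.all_eq_true] at this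
    exact of_decide_eq_true (this a ha)
  obtain ⟨B, h4, h5, h6⟩ := buildB_spec (D := D) h2 w M hw C _ h1' h3
  rw [Bool.and_eq_true, List.all_eq_true] at h4
  obtain ⟨h7, h8⟩ := h4
  obtain ⟨-, h9⟩ := triB_spec (D := D) (F := F) _ le_rfl B 0 h7
  have hS1 : Submodule.span F (Set.range fun i : Fin B.length => dv D F (B.get i).2) ≤
      Submodule.span F (Set.range (decM F D w M).row) := by
    rw [Submodule.span_le]
    rintro _ ⟨i, rfl⟩
    exact h6 _ (List.get_mem B i)
  have hS2 : Submodule.span F (Set.range (decM F D w M).row) ≤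
      Submodule.span F (Set.range fun i : Fin B.length => dv D F (B.get i).2) := by
    rw [Submodule.span_le]
    rintro _ ⟨a, rfl⟩
    have ha := fl_lt D a
    have h10 := h8 (fl D a) (List.mem_range.2 ha)
    rw [force_eq] at h10
    have h11 := redB_spec (D := D) h2 B _ h10
    change dv D F (rowM w M (2 ^ w) (fl D a)) ∈ _ at h11
    rw [dv_row w M hw] at h11
    exact h11
  rw [Matrix.rank_eq_finrank_span_row, le_antisymm hS2 hS1, finrank_span_eq_card h9, Fintype.card_fin, h5]

theorem dec_xor (h2 : (2 : F) = 0) (w M M' : ℕ) : decM F D w (M ^^^ M') = decM F D w M + decM F D w M' := by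
  funext a b
  change bt F ((M ^^^ M').testBit _) = bt F _ + bt F _
  rw [Nat.testBit_xor, bt_xor F h2]

variable (hG : Good D N η rc)
include hG

/-- rank certificate for `y - 1` -/
theorem rank_prodX (h2 : (2 : F) = 0) (E : ℕ → List (ℕ × ℕ)) (hE : E = ent D) (w n d : ℕ) (hn : n = D.nroots)
    (hd : d = D.rank + D.nroots) (hw : d ≤ w) {S : List ℕ} (hS : S.all (okEnt E n d) = true)
    (C : List (ℕ × List ℕ)) (h : chkR w d (Nat.xor (wordM E d w S) (idM d w)) C = true) :
    (((prodX D F S : GL D.Idx F) : Matrix D.Idx D.Idx F) - 1).rank = C.length := by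
  subst hE hn hd
  have h1 := rank_cert (F := F) h2 w _ hw C h
  change (decM F D w (wordM (ent D) (D.rank + D.nroots) w S ^^^ idM (D.rank + D.nroots) w)).rank = _ at h1
  rw [dec_xor h2, dec_word hG h2 w hw S hS, dec_idM w hw] at h1
  have : (((prodX D F S : GL D.Idx F) : Matrix D.Idx D.Idx F) - 1) = ((prodX D F S : GL D.Idx F) : Matrix D.Idx D.Idx F) + 1 := by
    rw [sub_eq_add_neg]
    congr 1
    funext a b
    change -((1 : Matrix D.Idx D.Idx F) a b) = _
    rw [neg_mod2 h2]
  rw [this]; exact h1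

omit hG in
/-- the rank of `y - 1` is a class invariant -/
theorem rank_conj (h y : GL D.Idx F) :
    (((h * y * h⁻¹ : GL D.Idx F) : Matrix D.Idx D.Idx F) - 1).rank = ((y : Matrix D.Idx D.Idx F) - 1).rank := by
  have e : (((h * y * h⁻¹ : GL D.Idx F) : Matrix D.Idx D.Idx F) - 1) =
      (h : Matrix D.Idx D.Idx F) * ((y : Matrix D.Idx D.Idx F) - 1) * ((h⁻¹ : GL D.Idx F) : Matrix D.Idx D.Idx F) := by
    rw [Matrix.mul_sub, Matrix.sub_mul, mul_one, ← Units.val_mul, ← Units.val_mul, ← Units.val_mul, mul_inv_cancel, Units.val_one]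
  rw [e, Matrix.rank_mul_eq_left_of_isUnit_det, Matrix.rank_mul_eq_right_of_isUnit_det]
  · exact Matrix.isUnits_det_units h
  · exact Matrix.isUnits_det_units h⁻¹

end

end Cfsg.Agent.H15.Chev
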