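import Cfsg.Agent.H15.ChevAut4

/-!
# Conjugates of root elements inside `U`; regular elements
-/

set_option autoImplicit false
set_option linter.unusedSectionVars false

namespace Cfsg.Agent.H15.Chev

open Cfsg.Agent.H6 Cfsg.Lie Cfsg.Agent.H22
open scoped Matrix

variable {D : ChevalleyDatum} {N : ℕ} {η : ℕ → ℕ → ℤ} {rc : ℕ → ℕ → ℤ} {F : Type*} [Field F]
variable (hG : Good D N η rc) (hE : Ext D rc)

include hG in
theorem op_skip (t : ℕ → F) : ∀ (j m r : ℕ), m + j = r → r ≤ D.nroots → (∀ s, m ≤ s → s < r → t s = 0) →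
    op (xg D F) t m (D.nroots - m) = op (xg D F) t r (D.nroots - r) := by
  intro j
  induction j with
  | zero => intro m r h _ _; rw [← h, Nat.add_zero]
  | succ j ih =>
    intro m r h hr h0
    have e : D.nroots - m = (D.nroots - (m + 1)) + 1 := by omega
    rw [e, op_succ, h0 m le_rfl (by omega), hG.xg_zero, one_mul]
    exact ih (m + 1) r (by omega) hr fun s h1 h2 => h0 s (by omega) h2

include hG hE

theorem mem_pos_iff' {g : GL D.Idx F} : g ∈ D.posUnipotent F ↔ g ∈ US (xg D F) (posS D N) := by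
  rw [hG.posUnipotent_eq_US]; rfl

/-- normal form of an element of `U_{≥ r}` -/
theorem exists_op_ge {S : Set ℕ} (hS : PClo D N S) {r : ℕ} (hr : N ≤ r) (hr' : r ≤ D.nroots) {g : GL D.Idx F}
    (hg : g ∈ US (xg D F) (S ∩ {k | r ≤ k})) :
    ∃ τ : ℕ → F, (∀ s, s ∉ S → τ s = 0) ∧ (∀ s, s < r → τ s = 0) ∧ g = op (xg D F) τ N N := by
  obtain ⟨τ, h1, h2⟩ := hG.exists_op' (hG.rd hE) (hG.pClo_ge hS r) hg
  refine ⟨τ, fun s hs => h1 s fun h => hs h.1, fun s hs => h1 s fun h => ?_, h2⟩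
  have := h.2
  simp only [Set.mem_ofPred_eq] at this
  omega

/-- the leading term of a conjugate -/
theorem conj_lead {u : GL D.Idx F} (hu : u ∈ D.posUnipotent F) {r : ℕ} (hN : N ≤ r) (hr : r < D.nroots) (t : F) :
    ∃ τ : ℕ → F, u * xg D F r t * u⁻¹ = op (xg D F) τ N N ∧ τ r = t ∧ ∀ s, s < r → τ s = 0 := by
  have hu' : u ∈ US (xg D F) {r | N ≤ r ∧ r < D.nroots} := by rwa [← hG.posUnipotent_eq_US]
  have hx : xg D F r t ∈ US (xg D F) ({r | N ≤ r ∧ r < D.nroots} ∩ {k | r ≤ k}) :=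
    mem_US (S := {r | N ≤ r ∧ r < D.nroots} ∩ {k | r ≤ k}) ⟨⟨hN, hr⟩, le_refl r⟩ t
  have h1 := hG.conj_mem_US' (hG.rd hE) hG.pClo_all hu' r hx
  obtain ⟨τ, h2, h3, h4⟩ := exists_op_ge hG hE hG.pClo_all hN hr.le h1
  refine ⟨τ, h4, ?_, h3⟩
  have h5 := hG.comm_level (hG.rd hE) hG.pClo_all hu' r hx
  have h6 : (xg D F r t)⁻¹ * (u * xg D F r t * u⁻¹ * (xg D F r t)⁻¹) * (xg D F r t)⁻¹⁻¹ ∈
      US (xg D F) ({r | N ≤ r ∧ r < D.nroots} ∩ {k | r + 1 ≤ k}) :=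
    hG.conj_mem_US' (hG.rd hE) hG.pClo_all (inv_mem (mem_US (S := {r | N ≤ r ∧ r < D.nroots}) ⟨hN, hr⟩ t)) (r + 1) h5
  have h7 : u * xg D F r t * u⁻¹ = xg D F r t *
      ((xg D F r t)⁻¹ * (u * xg D F r t * u⁻¹ * (xg D F r t)⁻¹) * (xg D F r t)⁻¹⁻¹) := by group
  obtain ⟨τ', h8, h9⟩ := hG.exists_op (hG.rd hE) hG.pClo_all (D.nroots - (r + 1)) (r + 1) (by omega) _ h6
  rw [h9] at h7
  have hNn := hG.nroots_eq
  have h10 : op (xg D F) τ N N = op (xg D F) τ r (D.nroots - r) := by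
    have := op_skip hG τ (r - N) N r (by omega) hr.le (fun s _ hs => h3 s hs)
    rw [← this]
    congr 1
    omega
  have h11 : xg D F r t * op (xg D F) τ' (r + 1) (D.nroots - (r + 1)) =
      op (xg D F) (fun s => if s = r then t else τ' s) r (D.nroots - r) := by
    have e : D.nroots - r = (D.nroots - (r + 1)) + 1 := by omega
    rw [e, op_succ, if_pos rfl]
    congr 1
    apply op_congr
    intro s h _
    rw [if_neg (by omega)]
  rw [h4, h10, h11] at h7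
  have := hG.op_inj hE _ _ (D.nroots - r) r (by omega) hN h7 r le_rfl hr
  rw [this, if_pos rfl]

/-- if `n y n⁻¹` is in `U` with `y ∈ U`, the components of `y` are at roots staying positive -/
theorem support_of_conj {n : GL D.Idx F} {w : hG.W} {χ : Fin D.nroots → Fˣ} (hm : Mon hG (xg D F) n w χ)
    {τ : ℕ → F} (h : n * op (xg D F) τ N N * n⁻¹ ∈ D.posUnipotent F) (r : Fin D.nroots) (hr : N ≤ (r : ℕ))
    (ht : τ r ≠ 0) : N ≤ (w.1 r : ℕ) := by
  have hy := hG.op_mem_pos (F := F) τ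
  have hy' := hy
  rw [hG.posUnipotent_eq_US] at hy'
  obtain ⟨v₁, h1, v₂, h2, he⟩ := hG.US_union_mul (hG.rd hE) hG.pClo_all (hG.posS_eq_union w) hy'
  have h3 : n * v₂ * n⁻¹ ∈ D.posUnipotent F ⊓ D.negUnipotent F := by
    refine Subgroup.mem_inf.2 ⟨?_, hG.Um_conj hE hm h2⟩
    have e : n * v₂ * n⁻¹ = (n * v₁ * n⁻¹)⁻¹ * (n * (v₁ * v₂) * n⁻¹) := by group
    rw [e, ← he]
    exact mul_mem (inv_mem (hG.Upl_conj hE hm h1)) h
  rw [hG.pos_inf_neg hE, Subgroup.mem_bot] at h3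
  have h4 : v₂ = 1 := by
    have : v₂ = n⁻¹ * (n * v₂ * n⁻¹) * n := by group
    rw [this, h3]; group
  rw [h4, mul_one] at he
  obtain ⟨τ', h5, h6⟩ := hG.exists_op' (hG.rd hE) (hG.pClo_Upl w) h1
  rw [← he] at h6
  have h7 := hG.op_inj hE _ _ N N (by have := hG.nroots_eq; omega) le_rfl h6 r hr r.2
  by_contra hc
  apply ht
  rw [h7]
  apply h5
  rintro ⟨hr', -, h8⟩
  exact hc h8

/-- the basic position lemma -/
theorem pos_of_conj {b n u : GL D.Idx F} (hb : b ∈ D.borelSubgroup F) (hu : u ∈ D.posUnipotent F)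
    {w : hG.W} {χ : Fin D.nroots → Fˣ} (hm : Mon hG (xg D F) n w χ) (r : Fin D.nroots) (hr : N ≤ (r : ℕ)) {t : F}
    (ht : t ≠ 0) (h : (b * n * u) * xg D F r t * (b * n * u)⁻¹ ∈ D.posUnipotent F) : N ≤ (w.1 r : ℕ) := by
  obtain ⟨τ, h1, h2, h3⟩ := conj_lead hG hE hu hr r.2 t
  refine support_of_conj hG hE hm (τ := τ) ?_ r hr (by rw [h2]; exact ht)
  rw [← h1]
  have h4 := hG.borel_conj_pos (inv_mem hb) h
  have e : b⁻¹ * ((b * n * u) * xg D F r t * (b * n * u)⁻¹) * b⁻¹⁻¹ = n * (u * xg D F r t * u⁻¹) * n⁻¹ := by group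
  rwa [e] at h4

/-- an element sending all simple root elements `x_i(1)` into `U` is in `B` -/
theorem mem_borel_of_simple {g : GL D.Idx F} (hg : g ∈ D.group F)
    (h : ∀ i : Fin D.rank, ∃ t : F, t ≠ 0 ∧ g * xg D F (D.simple i) t * g⁻¹ ∈ D.posUnipotent F) :
    g ∈ D.borelSubgroup F := by
  obtain ⟨b, hb, n, hn, w, χ, hm, u, hu, rfl⟩ := hG.canon hE hg
  have huU : u ∈ D.posUnipotent F := by
    rw [hG.posUnipotent_eq_US]; exact US_mono (hG.Um_sub w) hu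
  have hw : w = 1 := by
    apply hG.eq_one_of_pos
    intro i
    obtain ⟨t, ht, h1⟩ := h i
    exact pos_of_conj hG hE hb huU hm (hG.sr i) (hG.sr_pos i) ht h1
  subst hw
  have hnH := hG.mem_diagonal_of_mon hE hn hm
  exact mul_mem (mul_mem hb (Subgroup.mem_sup_right hnH)) (Subgroup.mem_sup_left huU)

end Cfsg.Agent.H15.Chev
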