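import Mathlib
import Cfsg.Agent.H15.AutPerm
import Cfsg.Agent.H29.M24Cent
import Cfsg.Agent.H7.SteinerAut
import Cfsg.Agent.H7.GolayM12

/-! # Outer automorphism groups of the large Mathieu groups -/

set_option autoImplicit false

namespace Cfsg.Agent.H15.MathieuOut

open Cfsg Cfsg.Agent.H7 Cfsg.Agent.H29 Cfsg.Agent.H15.AutPerm
open scoped Pointwise

/-- fixed points -/
def fx (σ : Equiv.Perm GolayPt) : Finset GolayPt := Finset.univ.filter fun p => σ p = p

theorem mem_fx {σ : Equiv.Perm GolayPt} {p : GolayPt} : p ∈ fx σ ↔ σ p = p := by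
  unfold fx; simp

theorem fx_le {σ : Equiv.Perm GolayPt} (hσ : σ ∈ M24) (h1 : σ ≠ 1) : (fx σ).card ≤ 8 := by
  by_contra hcon
  exact h1 (M24_fix9 hσ (by unfold fx at hcon; omega))

theorem card_pt : Fintype.card GolayPt = 24 := by decide

theorem fx_mod {σ : Equiv.Perm GolayPt} {p : ℕ} [hp : Fact p.Prime] (h2 : σ ^ p = 1) :
    24 ≡ (fx σ).card [MOD p] := by
  have := card_fix_mod h2 (Finset.univ : Finset GolayPt) (fun x _ => Finset.mem_univ _)
  rwa [Finset.card_univ, card_pt] at this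

theorem fx_card {σ : Equiv.Perm GolayPt} (hσ : σ ∈ M24) (h1 : σ ≠ 1) {p : ℕ} [hp : Fact p.Prime]
    (h2 : σ ^ p = 1) (h3 : 24 % p + p > 8) : (fx σ).card = 24 % p := by
  have e1 := fx_le hσ h1
  have e2 := fx_mod h2
  unfold Nat.ModEq at e2
  rw [e2] at h3 ⊢
  have e3 := Nat.mod_add_div (fx σ).card p
  generalize (fx σ).card / p = k at e3
  generalize (fx σ).card % p = r at e3 h3 ⊢
  rcases Nat.eq_zero_or_pos k with hk | hk
  · subst hk; omega
  · have : p ≤ p * k := Nat.le_mul_of_pos_right p hk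
    omega

theorem fx_conj (σ τ : Equiv.Perm GolayPt) : fx (τ * σ * τ⁻¹) = τ • fx σ := fixed_conj σ τ

theorem fx_three {σ : Equiv.Perm GolayPt} (hσ : σ ∈ M24) (h1 : σ ≠ 1) (h3 : σ ^ 3 = 1) :
    (fx σ).card = 0 ∨ (fx σ).card = 6 := by
  obtain ⟨τ, hτ, h | h⟩ := order3_class hσ h3 h1
  · right
    have e1 := fx_conj σ τ
    have e2 : (fx (mkPerm r3A)).card = 6 := card_fix3A
    rw [← h, e1, Finset.card_smul_finset] at e2
    exact e2
  · left
    have e1 := fx_conj σ τ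
    have e2 : (fx (mkPerm r3B)).card = 0 := card_fix3B
    rw [← h, e1, Finset.card_smul_finset] at e2
    exact e2

/-! ### involutions and octads -/

theorem octad0 : toSet 4415544 ∈ octads :=
  ⟨mem_GC_mask.mpr ⟨4415544, by decide +kernel, rfl⟩, by rw [card_toSet]; decide +kernel⟩

theorem octad_fx {σ : Equiv.Perm GolayPt} (hσ : σ ∈ M24) (h2 : σ ^ 2 = 1) (h1 : σ ≠ 1)
    {p : GolayPt} (hp : p ∈ fx σ) : fx σ ∈ octads := by
  obtain ⟨τ, hτ, h | h⟩ := invol_class hσ h2 h1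
  · have e1 := fx_conj σ τ
    rw [h] at e1
    have e2 : fx (mkPerm r2A) = toSet 4415544 := fix2A
    have e3 : fx σ = τ⁻¹ • toSet 4415544 := by rw [← e2, e1, inv_smul_smul]
    rw [e3]
    exact M24_smul_octad (M24.inv_mem hτ) octad0
  · exfalso
    have e1 := fx_conj σ τ
    rw [h] at e1
    have e2 : (fx (mkPerm r2B)).card = 0 := card_fix2B
    rw [e1, Finset.card_smul_finset, Finset.card_eq_zero] at e2
    rw [e2] at hp
    exact Finset.notMem_empty _ hp

theorem r2A_sq : mkPerm r2A ^ 2 = 1 ∧ mkPerm r2A ≠ 1 := by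
  constructor
  · rw [sq]
    apply ap_ext
    intro i hi
    have h := okPerm_isPerm reps_ok.1
    rw [ap_mul, ap_mkPerm h hi, ap_mkPerm h (papp_lt h hi)]
    have : ∀ i < 24, papp r2A (papp r2A i) = i := by decide +kernel
    rw [this i hi]
    unfold ap
    rw [Equiv.Perm.one_apply, gidx_gpt hi]
  · intro h
    have e2 : (fx (mkPerm r2A)).card = 8 := card_fix2A
    rw [h] at e2
    have : fx (1 : Equiv.Perm GolayPt) = Finset.univ := by
      ext p; simp [mem_fx]
    rw [this, Finset.card_univ, card_pt] at e2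
    omega

theorem exists_invol {o : Finset GolayPt} (ho : o ∈ octads) :
    ∃ σ ∈ M24, σ ^ 2 = 1 ∧ σ ≠ 1 ∧ fx σ = o := by
  obtain ⟨τ, hτ, h⟩ := octad_transitive octad0 ho
  refine ⟨τ * mkPerm r2A * τ⁻¹, M24.mul_mem (M24.mul_mem hτ (mkPerm_mem_M24 reps_ok.1))
    (M24.inv_mem hτ), ?_, ?_, ?_⟩
  · rw [conj_pow, r2A_sq.1]; group
  · intro h0
    apply r2A_sq.2
    rw [show mkPerm r2A = τ⁻¹ * (τ * mkPerm r2A * τ⁻¹) * τ by group, h0]; group
  · rw [fx_conj, ← h]
    exact congrArg (fun s => τ • s) fix2A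

/-- an element normalising enough of `M24` preserves octads -/
theorem smul_octad_of_conj {π : Equiv.Perm GolayPt} {o : Finset GolayPt} (ho : o ∈ octads)
    (h : ∀ σ ∈ M24, (∀ p ∈ o, σ p = p) → π * σ * π⁻¹ ∈ M24) : π • o ∈ octads := by
  obtain ⟨σ, hσ, h2, h1, hf⟩ := exists_invol ho
  have h3 := h σ hσ (fun p hp => by rw [← hf] at hp; exact mem_fx.mp hp)
  have h4 : (π * σ * π⁻¹) ^ 2 = 1 := by rw [conj_pow, h2]; group
  have h5 : π * σ * π⁻¹ ≠ 1 := by
    intro h0
    apply h1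
    rw [show σ = π⁻¹ * (π * σ * π⁻¹) * π by group, h0]; group
  have h6 := fx_conj σ π
  rw [hf] at h6
  rw [← h6]
  have hne : (π • o).Nonempty := by
    rw [← Finset.card_pos, Finset.card_smul_finset, ho.2]; norm_num
  obtain ⟨p, hp⟩ := hne
  exact octad_fx h3 h4 h5 (p := p) (by rw [h6]; exact hp)

/-! ### orbits -/

open Classical in
/-- orbit as a finset -/
noncomputable def orb (H : Subgroup (Equiv.Perm GolayPt)) (a : GolayPt) : Finset GolayPt :=
  Finset.univ.filter fun q => ∃ h ∈ H, h a = q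

theorem mem_orb {H : Subgroup (Equiv.Perm GolayPt)} {a q : GolayPt} :
    q ∈ orb H a ↔ ∃ h ∈ H, h a = q := by
  classical
  unfold orb; simp

theorem self_mem_orb (H : Subgroup (Equiv.Perm GolayPt)) (a : GolayPt) : a ∈ orb H a :=
  mem_orb.mpr ⟨1, H.one_mem, rfl⟩

/-- stabiliser in a subgroup -/
def stb (H : Subgroup (Equiv.Perm GolayPt)) (a : GolayPt) : Subgroup (Equiv.Perm GolayPt) :=
  H ⊓ MulAction.stabilizer (Equiv.Perm GolayPt) a

theorem mem_stb {H : Subgroup (Equiv.Perm GolayPt)} {a : GolayPt} {σ : Equiv.Perm GolayPt} :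
    σ ∈ stb H a ↔ σ ∈ H ∧ σ a = a := Iff.rfl

theorem card_orb (H : Subgroup (Equiv.Perm GolayPt)) (a : GolayPt) :
    Nat.card H = (orb H a).card * Nat.card (stb H a) :=
  card_step H (stb H a) a (orb H a) rfl (fun σ hσ => mem_orb.mpr ⟨σ, hσ, rfl⟩)
    (fun q hq => mem_orb.mp hq)

theorem orb_mod {H : Subgroup (Equiv.Perm GolayPt)} {x : Equiv.Perm GolayPt} (hx : x ∈ H) {p : ℕ}
    [hp : Fact p.Prime] (hxp : x ^ p = 1) (a : GolayPt) :
    (orb H a).card ≡ ((orb H a).filter fun q => x q = q).card [MOD p] :=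
  card_fix_mod hxp _ (fun q hq => by
    obtain ⟨h, hh, rfl⟩ := mem_orb.mp hq
    exact mem_orb.mpr ⟨x * h, H.mul_mem hx hh, rfl⟩)

theorem exists_order {H : Subgroup (Equiv.Perm GolayPt)} {p : ℕ} [hp : Fact p.Prime]
    (h : p ∣ Nat.card H) : ∃ x ∈ H, x ≠ 1 ∧ x ^ p = 1 := by
  obtain ⟨x, hx⟩ := exists_prime_orderOf_dvd_card' p h
  refine ⟨x, x.2, ?_, ?_⟩
  · intro h0
    have : x = 1 := Subtype.ext h0
    rw [this, orderOf_one] at hx
    exact hp.out.one_lt.ne hx
  · have := pow_orderOf_eq_one x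
    rw [hx] at this
    exact congrArg Subtype.val this

/-- the points of the orbit fixed by `x` avoid the points fixed by the group -/
theorem filter_le {H : Subgroup (Equiv.Perm GolayPt)} {x : Equiv.Perm GolayPt} {a : GolayPt}
    {T : Finset GolayPt} (hT : ∀ t ∈ T, (∀ h ∈ H, h t = t) ∧ t ≠ a) (hTx : ∀ t ∈ T, x t = t) :
    ((orb H a).filter fun q => x q = q).card + T.card ≤ (fx x).card := by
  classical
  have hd : Disjoint ((orb H a).filter fun q => x q = q) T := by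
    rw [Finset.disjoint_left]
    intro q hq hqT
    rw [Finset.mem_filter] at hq
    obtain ⟨h, hh, hhq⟩ := mem_orb.mp hq.1
    obtain ⟨h1, h2⟩ := hT q hqT
    have h3 := h1 h⁻¹ (H.inv_mem hh)
    rw [← hhq, ← Equiv.Perm.mul_apply, inv_mul_cancel, Equiv.Perm.one_apply, hhq] at h3
    exact h2 h3.symm
  rw [← Finset.card_union_of_disjoint hd]
  apply Finset.card_le_card
  intro q hq
  rw [Finset.mem_union, Finset.mem_filter] at hq
  rw [mem_fx]
  rcases hq with hq | hq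
  · exact hq.2
  · exact hTx q hq

theorem orb_le {H : Subgroup (Equiv.Perm GolayPt)} {a : GolayPt} {T : Finset GolayPt}
    (hT : ∀ t ∈ T, (∀ h ∈ H, h t = t) ∧ t ≠ a) : (orb H a).card + T.card ≤ 24 := by
  classical
  have h1 := filter_le (x := 1) hT (fun t _ => rfl)
  have h2 : fx (1 : Equiv.Perm GolayPt) = Finset.univ := by
    ext p; simp [mem_fx]
  rw [h2, Finset.card_univ, card_pt] at h1
  have h3 : ((orb H a).filter fun q => (1 : Equiv.Perm GolayPt) q = q) = orb H a := by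
    rw [Finset.filter_true_of_mem]
    intro q _; rfl
  rwa [h3] at h1

theorem orb_one {H : Subgroup (Equiv.Perm GolayPt)} {a : GolayPt} (h : (orb H a).card = 1) :
    ∀ σ ∈ H, σ a = a := by
  intro σ hσ
  obtain ⟨b, hb⟩ := Finset.card_eq_one.mp h
  have h1 := self_mem_orb H a
  have h2 : σ a ∈ orb H a := mem_orb.mpr ⟨σ, hσ, rfl⟩
  rw [hb, Finset.mem_singleton] at h1 h2
  rw [h2, ← h1]

end Cfsg.Agent.H15.MathieuOut
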