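import Mathlib
import Cfsg.Agent.H15.MathieuOut
import Cfsg.Agent.H8.CosetPres

/-! # Computations with permutation codes -/

set_option autoImplicit false

namespace Cfsg.Agent.H15.MathCode

open Cfsg Cfsg.Agent.H7 Cfsg.Agent.H8
open Cfsg.Agent.H29 hiding force force_eq
open scoped Pointwise

/-- code of the identity -/
def idc : ℕ := 0xbdab49ca307b9ac5a928398a418820

theorem idc_perm : isPermCode idc = true := by decide +kernel

theorem mkPerm_idc : mkPerm idc = 1 := by
  apply ap_ext
  intro i hi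
  rw [ap_mkPerm idc_perm hi]
  have : ∀ i < 24, papp idc i = i := by decide +kernel
  rw [this i hi]
  unfold ap
  rw [Equiv.Perm.one_apply, gidx_gpt hi]

theorem cmul {c d e : ℕ} (hc : isPermCode c = true) (hd : isPermCode d = true)
    (h : Nat.beq (pmul c d) e = true) : mkPerm c * mkPerm d = mkPerm e := by
  rw [← mkPerm_pmul hc hd (isPermCode_pmul hc hd), Nat.eq_of_beq_eq_true h]

/-- product code of a word -/
def wc (Y : ℕ → ℕ) : List ℕ → ℕ
  | [] => idc
  | l :: w => pmul (Y l) (wc Y w)

theorem wc_perm {Y : ℕ → ℕ} (w : List ℕ) (h : ∀ l ∈ w, isPermCode (Y l) = true) :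
    isPermCode (wc Y w) = true := by
  induction w with
  | nil => exact idc_perm
  | cons l w ih =>
    rw [wc]
    exact isPermCode_pmul (h l List.mem_cons_self) (ih fun l' hl' => h l' (List.mem_cons_of_mem _ hl'))

theorem wc_prod {Y : ℕ → ℕ} (w : List ℕ) (h : ∀ l ∈ w, isPermCode (Y l) = true) :
    (w.map fun l => mkPerm (Y l)).prod = mkPerm (wc Y w) := by
  induction w with
  | nil => exact mkPerm_idc.symm
  | cons l w ih =>
    have h1 := h l List.mem_cons_self
    have h2 := wc_perm w fun l' hl' => h l' (List.mem_cons_of_mem _ hl')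
    rw [List.map_cons, List.prod_cons, ih fun l' hl' => h l' (List.mem_cons_of_mem _ hl'), wc,
      mkPerm_pmul h1 h2 (isPermCode_pmul h1 h2)]

theorem papp_eq_of_mkPerm {c d : ℕ} (hc : isPermCode c = true) (hd : isPermCode d = true)
    (h : mkPerm c = mkPerm d) {i : ℕ} (hi : i < 24) : papp c i = papp d i := by
  have h1 := mkPerm_gpt hc hi
  have h2 := mkPerm_gpt hd hi
  rw [h, h2] at h1
  have h3 := congrArg gidx h1
  rw [gidx_gpt (papp_lt hd hi), gidx_gpt (papp_lt hc hi)] at h3
  exact h3.symm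

theorem mkPerm_inj {c d : ℕ} (hc : isPermCode c = true) (hd : isPermCode d = true)
    (hc' : c < 2 ^ 120) (hd' : d < 2 ^ 120) (h : mkPerm c = mkPerm d) : c = d := by
  apply Nat.eq_of_testBit_eq
  intro j
  by_cases hj : j < 120
  · have h1 := papp_eq_of_mkPerm hc hd h (i := j / 5) (by omega)
    unfold papp at h1
    have h2 := congrArg (fun x => Nat.testBit x (j % 5)) h1
    simp only [show (32 : ℕ) = 2 ^ 5 by norm_num, Nat.testBit_mod_two_pow, Nat.testBit_shiftRight] at h2
    have h3 : 5 * (j / 5) + j % 5 = j := by omega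
    rw [h3] at h2
    have h4 : j % 5 < 5 := by omega
    simpa [h4] using h2
  · have e1 : c < 2 ^ j := lt_of_lt_of_le hc' (Nat.pow_le_pow_right (by norm_num) (by omega))
    have e2 : d < 2 ^ j := lt_of_lt_of_le hd' (Nat.pow_le_pow_right (by norm_num) (by omega))
    rw [Nat.testBit_lt_two_pow e1, Nat.testBit_lt_two_pow e2]

/-- step check for the table of codes -/
noncomputable def ckC (C D Y : ℕ → ℕ) (L t : ℕ) : Bool :=
  force (C (Nat.succ t)) fun c => force (D (Nat.succ t)) fun d =>
    force (Nat.div d (nat_lit 32)) fun i => force (Nat.mod d (nat_lit 32)) fun l =>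
      band (Nat.ble i t) (band (Nat.ble (Nat.succ l) L)
        (band (Nat.beq c (pmul (C i) (Y l))) (Nat.ble (Nat.succ c) (nat_lit 1329227995784915872903807060280344576))))

theorem ckC_sound {C D Y : ℕ → ℕ} {L t : ℕ} (h : ckC C D Y L t = true) :
    D (t + 1) / 32 ≤ t ∧ D (t + 1) % 32 < L ∧ C (t + 1) = pmul (C (D (t + 1) / 32)) (Y (D (t + 1) % 32)) ∧
      C (t + 1) < 2 ^ 120 := by
  unfold ckC at h
  rw [force_eq, force_eq, force_eq, force_eq, band_eq_true, band_eq_true, band_eq_true] at h
  obtain ⟨h1, h2, h3, h4⟩ := h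
  refine ⟨Nat.le_of_ble_eq_true h1, Nat.le_of_ble_eq_true h2, Nat.eq_of_beq_eq_true h3, ?_⟩
  have := Nat.le_of_ble_eq_true h4
  have h5 : (2 : ℕ) ^ 120 = 1329227995784915872903807060280344576 := by norm_num
  rw [h5]; exact this

/-- order check -/
noncomputable def ckS (C S : ℕ → ℕ) (n t : ℕ) : Bool :=
  band (Nat.ble (Nat.succ (S t)) n) (band (Nat.ble (Nat.succ (S (Nat.succ t))) n)
    (Nat.ble (Nat.succ (C (S t))) (C (S (Nat.succ t)))))

/-- a lower bound for the order of a group of permutations -/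
theorem card_ge_codes (P : Subgroup (Equiv.Perm GolayPt)) (n L : ℕ) (C D Y S : ℕ → ℕ)
    (hY : ∀ l < L, isPermCode (Y l) = true ∧ mkPerm (Y l) ∈ P) (h0 : Nat.beq (C 0) idc = true)
    (h1 : allR (ckC C D Y L) 0 n = true) (h2 : allR (ckS C S (n + 1)) 0 n = true) :
    n + 1 ≤ Nat.card P := by
  have h0' := Nat.eq_of_beq_eq_true h0
  have key : ∀ t, t < n + 1 → isPermCode (C t) = true ∧ mkPerm (C t) ∈ P ∧ C t < 2 ^ 120 := by
    intro t
    induction t using Nat.strong_induction_on with
    | _ t ih =>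
      intro ht
      cases t with
      | zero =>
        rw [h0']
        refine ⟨idc_perm, ?_, by decide +kernel⟩
        rw [mkPerm_idc]; exact P.one_mem
      | succ t =>
        obtain ⟨a1, a2, a3, a4⟩ := ckC_sound (allR_zero _ _ h1 t (by omega))
        obtain ⟨b1, b2, -⟩ := ih (D (t + 1) / 32) (by omega) (by omega)
        obtain ⟨c1, c2⟩ := hY _ a2
        refine ⟨?_, ?_, a4⟩
        · rw [a3]; exact isPermCode_pmul b1 c1
        · rw [a3, mkPerm_pmul b1 c1 (isPermCode_pmul b1 c1)]; exact P.mul_mem b2 c2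
  have hstep : ∀ t < n, S t < n + 1 ∧ S (t + 1) < n + 1 ∧ C (S t) < C (S (t + 1)) := by
    intro t ht
    have h := allR_zero _ _ h2 t ht
    unfold ckS at h
    rw [band_eq_true, band_eq_true] at h
    exact ⟨Nat.le_of_ble_eq_true h.1, Nat.le_of_ble_eq_true h.2.1, Nat.le_of_ble_eq_true h.2.2⟩
  rcases Nat.eq_zero_or_pos n with hn | hn
  · subst hn
    have : 0 < Nat.card P := Nat.card_pos
    omega
  have hSlt : ∀ t < n + 1, S t < n + 1 := by
    intro t ht
    rcases Nat.lt_or_ge t n with h | h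
    · exact (hstep t h).1
    · have : t = (n - 1) + 1 := by omega
      rw [this]; exact (hstep (n - 1) (by omega)).2.1
  have hmono : ∀ a b, a < b → b < n + 1 → C (S a) < C (S b) := by
    intro a b hab
    induction b with
    | zero => omega
    | succ b ih =>
      intro hb
      have h3 := (hstep b (by omega)).2.2
      rcases Nat.lt_or_ge a b with h4 | h4
      · exact (ih h4 (by omega)).trans h3
      · have : a = b := by omega
        rw [this]; exact h3
  let f : Fin (n + 1) → P := fun t => ⟨mkPerm (C (S t)), (key _ (hSlt t t.2)).2.1⟩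
  have hf : Function.Injective f := by
    intro a b hab
    have h3 : mkPerm (C (S a)) = mkPerm (C (S b)) := congrArg Subtype.val hab
    obtain ⟨a1, -, a3⟩ := key _ (hSlt a a.2)
    obtain ⟨b1, -, b3⟩ := key _ (hSlt b b.2)
    have h4 := mkPerm_inj a1 b1 a3 b3 h3
    apply Fin.ext
    rcases Nat.lt_trichotomy a.1 b.1 with h5 | h5 | h5
    · have := hmono _ _ h5 b.2; omega
    · exact h5
    · have := hmono _ _ h5 a.2; omega
  have := Nat.card_le_card_of_injective f hf
  simpa using this

/-! ### elements of a subgroup -/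

theorem el_mul {G : Subgroup (Equiv.Perm GolayPt)} {c d e f : ℕ} (hc : mkPerm c ∈ G) (hd : mkPerm d ∈ G)
    (he : mkPerm e ∈ G) (hf : mkPerm f ∈ G) (pc : isPermCode c = true) (pd : isPermCode d = true)
    (pe : isPermCode e = true) (pf : isPermCode f = true) (h : Nat.beq (pmul c d) (pmul e f) = true) :
    (⟨mkPerm c, hc⟩ : G) * ⟨mkPerm d, hd⟩ = ⟨mkPerm e, he⟩ * ⟨mkPerm f, hf⟩ := by
  apply Subtype.ext
  show mkPerm c * mkPerm d = mkPerm e * mkPerm f
  rw [← mkPerm_pmul pc pd (isPermCode_pmul pc pd), ← mkPerm_pmul pe pf (isPermCode_pmul pe pf),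
    Nat.eq_of_beq_eq_true h]

end Cfsg.Agent.H15.MathCode
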