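import Mathlib
import Cfsg.Agent.H15.MathieuOut

/-! # Subgroups of small index in the large Mathieu groups -/

set_option autoImplicit false

namespace Cfsg.Agent.H15.MathieuOut

open Cfsg Cfsg.Agent.H7 Cfsg.Agent.H29 Cfsg.Agent.H15.AutPerm
open scoped Pointwise

/-- subgroups of order `|M22|` in `M23` fix a second point -/
theorem index_M23 {H : Subgroup (Equiv.Perm GolayPt)} (hH : H ≤ M24) {u : GolayPt}
    (hu : ∀ h ∈ H, h u = u) (hcard : Nat.card H = 443520) : ∃ a, a ≠ u ∧ ∀ h ∈ H, h a = a := by
  have f11 : Fact (Nat.Prime 11) := ⟨by norm_num⟩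
  have f7 : Fact (Nat.Prime 7) := ⟨by norm_num⟩
  obtain ⟨x, hx, hx1, hxp⟩ := exists_order (H := H) (p := 11) (by rw [hcard]; norm_num)
  obtain ⟨y, hy, hy1, hyp⟩ := exists_order (H := H) (p := 7) (by rw [hcard]; norm_num)
  have hxf := fx_card (hH hx) hx1 hxp (by norm_num)
  have hyf := fx_card (hH hy) hy1 hyp (by norm_num)
  norm_num at hxf hyf
  obtain ⟨a, ha, hau⟩ : ∃ a ∈ fx x, a ≠ u := by
    by_contra hcon
    push Not at hcon
    have : (fx x).card ≤ 1 := Finset.card_le_one.mpr fun b hb c hc => by
      rw [hcon b hb, hcon c hc]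
    omega
  refine ⟨a, hau, orb_one ?_⟩
  have hT : ∀ t ∈ ({u} : Finset GolayPt), (∀ h ∈ H, h t = t) ∧ t ≠ a := by
    intro t ht
    rw [Finset.mem_singleton] at ht
    subst ht
    exact ⟨hu, hau.symm⟩
  have e1 := orb_mod hx hxp a
  have e2 := filter_le (x := x) hT (fun t ht => (hT t ht).1 x hx)
  have e3 := orb_mod hy hyp a
  have e4 := filter_le (x := y) hT (fun t ht => (hT t ht).1 y hy)
  have e5 := orb_le hT
  have e6 : 1 ≤ ((orb H a).filter fun q => x q = q).card := by
    rw [Nat.one_le_iff_ne_zero, ← Nat.pos_iff_ne_zero, Finset.card_pos]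
    exact ⟨a, Finset.mem_filter.mpr ⟨self_mem_orb H a, mem_fx.mp ha⟩⟩
  have e7 : (orb H a).card ∣ 443520 := by rw [← hcard, card_orb H a]; exact Dvd.intro _ rfl
  rw [Finset.card_singleton] at e2 e4 e5
  rw [hxf] at e2
  rw [hyf] at e4
  unfold Nat.ModEq at e1 e3
  generalize ((orb H a).filter fun q => x q = q).card = s at *
  generalize ((orb H a).filter fun q => y q = q).card = t at *
  generalize (orb H a).card = n at *
  have hs : s = 1 := by omega
  subst hs
  have hn : n = 1 ∨ n = 12 ∨ n = 23 := by omega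
  rcases hn with rfl | rfl | rfl
  · rfl
  · exfalso; omega
  · exfalso; revert e7; norm_num

/-- subgroups of order `|M21|` in `M22` fix a third point -/
theorem index_M22 {H : Subgroup (Equiv.Perm GolayPt)} (hH : H ≤ M24) {u v : GolayPt} (huv : u ≠ v)
    (hu : ∀ h ∈ H, h u = u) (hv : ∀ h ∈ H, h v = v) (hcard : Nat.card H = 20160) :
    ∃ a, a ≠ u ∧ a ≠ v ∧ ∀ h ∈ H, h a = a := by
  have f5 : Fact (Nat.Prime 5) := ⟨by norm_num⟩
  have f7 : Fact (Nat.Prime 7) := ⟨by norm_num⟩
  obtain ⟨x, hx, hx1, hxp⟩ := exists_order (H := H) (p := 7) (by rw [hcard]; norm_num)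
  obtain ⟨y, hy, hy1, hyp⟩ := exists_order (H := H) (p := 5) (by rw [hcard]; norm_num)
  have hxf := fx_card (hH hx) hx1 hxp (by norm_num)
  have hyf := fx_card (hH hy) hy1 hyp (by norm_num)
  norm_num at hxf hyf
  have huvc : ({u, v} : Finset GolayPt).card = 2 := Finset.card_pair huv
  obtain ⟨a, ha, hau, hav⟩ : ∃ a ∈ fx x, a ≠ u ∧ a ≠ v := by
    by_contra hcon
    push Not at hcon
    have : fx x ⊆ {u, v} := by
      intro b hb
      rw [Finset.mem_insert, Finset.mem_singleton]
      by_cases hbu : b = u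
      · exact Or.inl hbu
      · exact Or.inr (hcon b hb hbu)
    have := Finset.card_le_card this
    omega
  refine ⟨a, hau, hav, orb_one ?_⟩
  have hT : ∀ t ∈ ({u, v} : Finset GolayPt), (∀ h ∈ H, h t = t) ∧ t ≠ a := by
    intro t ht
    rw [Finset.mem_insert, Finset.mem_singleton] at ht
    rcases ht with rfl | rfl
    · exact ⟨hu, hau.symm⟩
    · exact ⟨hv, hav.symm⟩
  have e1 := orb_mod hx hxp a
  have e2 := filter_le (x := x) hT (fun t ht => (hT t ht).1 x hx)
  have e3 := orb_mod hy hyp a
  have e4 := filter_le (x := y) hT (fun t ht => (hT t ht).1 y hy)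
  have e5 := orb_le hT
  have e6 : 1 ≤ ((orb H a).filter fun q => x q = q).card := by
    rw [Nat.one_le_iff_ne_zero, ← Nat.pos_iff_ne_zero, Finset.card_pos]
    exact ⟨a, Finset.mem_filter.mpr ⟨self_mem_orb H a, mem_fx.mp ha⟩⟩
  have e7 : (orb H a).card ∣ 20160 := by rw [← hcard, card_orb H a]; exact Dvd.intro _ rfl
  rw [huvc] at e2 e4 e5
  rw [hxf] at e2
  rw [hyf] at e4
  have hn : (orb H a).card = 1 ∨ (orb H a).card = 15 := by
    unfold Nat.ModEq at e1 e3
    generalize ((orb H a).filter fun q => x q = q).card = s at *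
    generalize ((orb H a).filter fun q => y q = q).card = t at *
    generalize (orb H a).card = n at *
    have hs : s = 1 := by omega
    subst hs
    have hn : n = 1 ∨ n = 8 ∨ n = 15 ∨ n = 22 := by omega
    rcases hn with rfl | rfl | rfl | rfl
    · exact Or.inl rfl
    · exfalso; omega
    · exact Or.inr rfl
    · exfalso; revert e7; norm_num
  rcases hn with hn | hn
  · exact hn
  · exfalso
    -- the remaining seven points
    classical
    set R : Finset GolayPt := Finset.univ \ (orb H a ∪ {u, v}) with hR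
    have hRc : R.card = 7 := by
      have hd : Disjoint (orb H a) ({u, v} : Finset GolayPt) := by
        rw [Finset.disjoint_left]
        intro q hq hqT
        obtain ⟨h, hh, hhq⟩ := mem_orb.mp hq
        obtain ⟨h1, h2⟩ := hT q hqT
        have h3 := h1 h⁻¹ (H.inv_mem hh)
        rw [← hhq, ← Equiv.Perm.mul_apply, inv_mul_cancel, Equiv.Perm.one_apply, hhq] at h3
        exact h2 h3.symm
      rw [hR, Finset.card_sdiff_of_subset (Finset.subset_univ _), Finset.card_univ, card_pt,
        Finset.card_union_of_disjoint hd, hn, huvc]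
    have hstab : ∀ σ ∈ H, ∀ q, q ∉ R → σ q ∉ R := by
      intro σ hσ q hq
      rw [hR, Finset.mem_sdiff, not_and_not_right] at hq ⊢
      intro _
      have hq' := hq (Finset.mem_univ q)
      rw [Finset.mem_union] at hq' ⊢
      rcases hq' with hq' | hq'
      · left
        obtain ⟨h, hh, rfl⟩ := mem_orb.mp hq'
        exact mem_orb.mpr ⟨σ * h, H.mul_mem hσ hh, rfl⟩
      · right
        rw [(hT q hq').1 σ hσ]; exact hq'
    have hstab' : ∀ σ ∈ H, ∀ q, q ∈ R ↔ σ q ∈ R := by
      intro σ hσ q
      constructor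
      · intro hq
        by_contra hcon
        have := hstab σ⁻¹ (H.inv_mem hσ) _ hcon
        rw [← Equiv.Perm.mul_apply, inv_mul_cancel, Equiv.Perm.one_apply] at this
        exact this hq
      · intro hq
        by_contra hcon
        exact hstab σ hσ q hcon hq
    let ρ : H → Equiv.Perm R := fun σ => (σ : Equiv.Perm GolayPt).subtypePerm
      (fun q => (hstab' σ σ.2 q).symm)
    have hinj : Function.Injective ρ := by
      intro σ τ h
      apply Subtype.ext
      rw [← inv_mul_eq_one]
      apply M24_fix9 (M24.mul_mem (M24.inv_mem (hH σ.2)) (hH τ.2))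
      have hsub : R ∪ {u, v} ⊆ Finset.univ.filter
          fun p => ((σ : Equiv.Perm GolayPt)⁻¹ * (τ : Equiv.Perm GolayPt)) p = p := by
        intro q hq
        rw [Finset.mem_filter]
        refine ⟨Finset.mem_univ _, ?_⟩
        rw [Equiv.Perm.mul_apply, Equiv.Perm.inv_eq_iff_eq]
        rw [Finset.mem_union] at hq
        rcases hq with hq | hq
        · have h1 := congrArg (fun f : Equiv.Perm R => ((f ⟨q, hq⟩ : R) : GolayPt)) h
          exact h1.symm
        · rw [(hT q hq).1 σ σ.2, (hT q hq).1 τ τ.2]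
      refine le_trans ?_ (Finset.card_le_card hsub)
      rw [Finset.card_union_of_disjoint, hRc, huvc]
      rw [Finset.disjoint_left]
      intro q hq hq'
      rw [hR, Finset.mem_sdiff, Finset.mem_union, not_or] at hq
      exact hq.2.2 hq'
    have h1 := Nat.card_le_card_of_injective ρ hinj
    rw [hcard, Nat.card_eq_fintype_card, Fintype.card_perm, Fintype.card_coe, hRc] at h1
    revert h1
    norm_num [Nat.factorial]

/-- subgroups of order `|M23|` in `M24` fix a point -/
theorem index_M24 {H : Subgroup (Equiv.Perm GolayPt)} (hH : H ≤ M24)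
    (hcard : Nat.card H = 10200960) : ∃ a, ∀ h ∈ H, h a = a := by
  have f23 : Fact (Nat.Prime 23) := ⟨by norm_num⟩
  have f11 : Fact (Nat.Prime 11) := ⟨by norm_num⟩
  have f7 : Fact (Nat.Prime 7) := ⟨by norm_num⟩
  have f5 : Fact (Nat.Prime 5) := ⟨by norm_num⟩
  have f3 : Fact (Nat.Prime 3) := ⟨by norm_num⟩
  obtain ⟨x, hx, hx1, hxp⟩ := exists_order (H := H) (p := 23) (by rw [hcard]; norm_num)
  have hxf := fx_card (hH hx) hx1 hxp (by norm_num)
  norm_num at hxf
  obtain ⟨a, ha⟩ : ∃ a, a ∈ fx x := by
    have : 0 < (fx x).card := by omega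
    exact Finset.card_pos.mp this
  refine ⟨a, orb_one ?_⟩
  by_contra hne
  -- H is transitive
  have o1 : (orb H a).card = 24 := by
    have e1 := orb_mod hx hxp a
    have e2 := filter_le (x := x) (H := H) (a := a) (T := ∅) (by simp) (by simp)
    have e5 := orb_le (H := H) (a := a) (T := ∅) (by simp)
    have e6 : 1 ≤ ((orb H a).filter fun q => x q = q).card := by
      rw [Nat.one_le_iff_ne_zero, ← Nat.pos_iff_ne_zero, Finset.card_pos]
      exact ⟨a, Finset.mem_filter.mpr ⟨self_mem_orb H a, mem_fx.mp ha⟩⟩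
    rw [Finset.card_empty] at e2 e5
    unfold Nat.ModEq at e1
    generalize ((orb H a).filter fun q => x q = q).card = s at *
    generalize (orb H a).card = n at *
    omega
  have c1 := card_orb H a
  rw [hcard, o1] at c1
  set K := stb H a with hK
  have cK : Nat.card K = 425040 := by omega
  have hKM : K ≤ M24 := inf_le_left.trans hH
  have hKa : ∀ h ∈ K, h a = a := fun h hh => hh.2
  -- K is transitive on 23 points
  obtain ⟨x, hx, hx1, hxp⟩ := exists_order (H := K) (p := 23) (by rw [cK]; norm_num)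
  have hxf := fx_card (hKM hx) hx1 hxp (by norm_num)
  norm_num at hxf
  obtain ⟨b, hb⟩ : ∃ b : GolayPt, b ≠ a := exists_ne a
  have o2 : (orb K b).card = 23 := by
    have hT : ∀ t ∈ ({a} : Finset GolayPt), (∀ h ∈ K, h t = t) ∧ t ≠ b := by
      intro t ht
      rw [Finset.mem_singleton] at ht
      subst ht
      exact ⟨hKa, hb.symm⟩
    have e1 := orb_mod hx hxp b
    have e2 := filter_le (x := x) hT (fun t ht => (hT t ht).1 x hx)
    have e5 := orb_le hT
    have e7 : 0 < (orb K b).card := Finset.card_pos.mpr ⟨b, self_mem_orb K b⟩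
    rw [Finset.card_singleton] at e2 e5
    rw [hxf] at e2
    unfold Nat.ModEq at e1
    generalize ((orb K b).filter fun q => x q = q).card = s at *
    generalize (orb K b).card = n at *
    omega
  have c2 := card_orb K b
  rw [cK, o2] at c2
  set L := stb K b with hL
  have cL : Nat.card L = 18480 := by omega
  have hLM : L ≤ M24 := inf_le_left.trans hKM
  have hLa : ∀ h ∈ L, h a = a := fun h hh => hKa h hh.1
  have hLb : ∀ h ∈ L, h b = b := fun h hh => hh.2
  -- L is transitive on 22 points
  obtain ⟨x, hx, hx1, hxp⟩ := exists_order (H := L) (p := 11) (by rw [cL]; norm_num)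
  have hxf := fx_card (hLM hx) hx1 hxp (by norm_num)
  obtain ⟨y, hy, hy1, hyp⟩ := exists_order (H := L) (p := 7) (by rw [cL]; norm_num)
  have hyf := fx_card (hLM hy) hy1 hyp (by norm_num)
  norm_num at hxf hyf
  obtain ⟨c, hca, hcb⟩ : ∃ c : GolayPt, c ≠ a ∧ c ≠ b := by
    have : ∃ c : GolayPt, c ∉ ({a, b} : Finset GolayPt) := by
      by_contra hcon
      push Not at hcon
      have h1 : Fintype.card GolayPt ≤ ({a, b} : Finset GolayPt).card := by
        rw [← Finset.card_univ]; exact Finset.card_le_card fun x _ => hcon x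
      have := Finset.card_le_two (a := a) (b := b)
      rw [card_pt] at h1
      omega
    obtain ⟨c, hc⟩ := this
    simp only [Finset.mem_insert, Finset.mem_singleton, not_or] at hc
    exact ⟨c, hc⟩
  have o3 : (orb L c).card = 22 := by
    have hT : ∀ t ∈ ({a, b} : Finset GolayPt), (∀ h ∈ L, h t = t) ∧ t ≠ c := by
      intro t ht
      rw [Finset.mem_insert, Finset.mem_singleton] at ht
      rcases ht with rfl | rfl
      · exact ⟨hLa, hca.symm⟩
      · exact ⟨hLb, hcb.symm⟩
    have e1 := orb_mod hx hxp c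
    have e2 := filter_le (x := x) hT (fun t ht => (hT t ht).1 x hx)
    have e3 := orb_mod hy hyp c
    have e4 := filter_le (x := y) hT (fun t ht => (hT t ht).1 y hy)
    have e5 := orb_le hT
    have e7 : 0 < (orb L c).card := Finset.card_pos.mpr ⟨c, self_mem_orb L c⟩
    rw [Finset.card_pair hb.symm] at e2 e4 e5
    rw [hxf] at e2
    rw [hyf] at e4
    unfold Nat.ModEq at e1 e3
    generalize ((orb L c).filter fun q => x q = q).card = s at *
    generalize ((orb L c).filter fun q => y q = q).card = t at *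
    generalize (orb L c).card = n at *
    have hs : s = 0 := by omega
    subst hs
    have hn : n = 11 ∨ n = 22 := by omega
    rcases hn with rfl | rfl
    · exfalso; omega
    · rfl
  have c3 := card_orb L c
  rw [cL, o3] at c3
  set M := stb L c with hM
  have cM : Nat.card M = 840 := by omega
  have hMM : M ≤ M24 := inf_le_left.trans hLM
  have hMa : ∀ h ∈ M, h a = a := fun h hh => hLa h hh.1
  have hMb : ∀ h ∈ M, h b = b := fun h hh => hLb h hh.1
  have hMc : ∀ h ∈ M, h c = c := fun h hh => hh.2
  -- M is transitive on 21 points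
  obtain ⟨x, hx, hx1, hxp⟩ := exists_order (H := M) (p := 7) (by rw [cM]; norm_num)
  have hxf := fx_card (hMM hx) hx1 hxp (by norm_num)
  obtain ⟨y, hy, hy1, hyp⟩ := exists_order (H := M) (p := 5) (by rw [cM]; norm_num)
  have hyf := fx_card (hMM hy) hy1 hyp (by norm_num)
  obtain ⟨z, hz, hz1, hzp⟩ := exists_order (H := M) (p := 3) (by rw [cM]; norm_num)
  norm_num at hxf hyf
  have habc : ({a, b, c} : Finset GolayPt).card = 3 := by
    rw [Finset.card_eq_three]
    exact ⟨a, b, c, hb.symm, hca.symm, hcb.symm, rfl⟩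
  have hzf : (fx z).card = 6 := by
    rcases fx_three (hMM hz) hz1 hzp with h | h
    · exfalso
      rw [Finset.card_eq_zero] at h
      have := mem_fx.mpr (hMa z hz)
      rw [h] at this
      exact Finset.notMem_empty _ this
    · exact h
  obtain ⟨d, hd, hdn⟩ : ∃ d ∈ fx z, d ∉ ({a, b, c} : Finset GolayPt) := by
    by_contra hcon
    push Not at hcon
    have := Finset.card_le_card (fun d hd => hcon d hd : fx z ⊆ {a, b, c})
    omega
  simp only [Finset.mem_insert, Finset.mem_singleton, not_or] at hdn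
  obtain ⟨hda, hdb, hdc⟩ := hdn
  have o4 : (orb M d).card = 21 := by
    have hT : ∀ t ∈ ({a, b, c} : Finset GolayPt), (∀ h ∈ M, h t = t) ∧ t ≠ d := by
      intro t ht
      simp only [Finset.mem_insert, Finset.mem_singleton] at ht
      rcases ht with rfl | rfl | rfl
      · exact ⟨hMa, fun h => hda h.symm⟩
      · exact ⟨hMb, fun h => hdb h.symm⟩
      · exact ⟨hMc, fun h => hdc h.symm⟩
    have e1 := orb_mod hx hxp d
    have e2 := filter_le (x := x) hT (fun t ht => (hT t ht).1 x hx)
    have e3 := orb_mod hy hyp d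
    have e4 := filter_le (x := y) hT (fun t ht => (hT t ht).1 y hy)
    have e5 := orb_le hT
    have e7 : 0 < (orb M d).card := Finset.card_pos.mpr ⟨d, self_mem_orb M d⟩
    rw [habc] at e2 e4 e5
    rw [hxf] at e2
    rw [hyf] at e4
    unfold Nat.ModEq at e1 e3
    generalize ((orb M d).filter fun q => x q = q).card = s at *
    generalize ((orb M d).filter fun q => y q = q).card = t at *
    generalize (orb M d).card = n at *
    have hs : s = 0 := by omega
    subst hs
    have hn : n = 7 ∨ n = 14 ∨ n = 21 := by omega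
    rcases hn with rfl | rfl | rfl
    · exfalso; omega
    · exfalso; omega
    · rfl
  have c4 := card_orb M d
  rw [cM, o4] at c4
  have cN : Nat.card (stb M d) = 40 := by omega
  have hzN : z ∈ stb M d := ⟨hz, mem_fx.mp hd⟩
  have hzo : orderOf z = 3 := orderOf_eq_prime hzp hz1
  have h1 : orderOf z ∣ Nat.card (stb M d) := by
    rw [← Subgroup.orderOf_mk z hzN]; exact orderOf_dvd_natCard _
  rw [hzo, cN] at h1
  revert h1
  norm_num

end Cfsg.Agent.H15.MathieuOut
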