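import Mathlib
import Cfsg.Agent.H15.MathieuOut2
import Cfsg.Prelude.Def_Spor_Mathieu

/-! # Outer automorphism groups of M22, M23, M24 -/

set_option autoImplicit false

namespace Cfsg.Agent.H15.MathieuOut

open Cfsg Cfsg.Agent.H7 Cfsg.Agent.H29 Cfsg.Agent.H15.AutPerm
open scoped Pointwise

abbrev P0 : GolayPt := none
abbrev P1 : GolayPt := some 0

theorem gpt23' : gpt 23 = P0 := by decide +kernel
theorem gpt0' : gpt 0 = P1 := by decide +kernel

theorem inj2 {a b : GolayPt} (h : a ≠ b) : Function.Injective ![a, b] := by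
  intro i j hij
  fin_cases i <;> fin_cases j <;> simp_all

theorem inj3 {a b c : GolayPt} (h1 : a ≠ b) (h2 : a ≠ c) (h3 : b ≠ c) :
    Function.Injective ![a, b, c] := by
  intro i j hij
  fin_cases i <;> fin_cases j <;> simp_all

theorem inj4 {a b c d : GolayPt} (h1 : a ≠ b) (h2 : a ≠ c) (h3 : a ≠ d) (h4 : b ≠ c) (h5 : b ≠ d)
    (h6 : c ≠ d) : Function.Injective ![a, b, c, d] := by
  intro i j hij
  fin_cases i <;> fin_cases j <;> simp_all

theorem exists_avoid (T : Finset GolayPt) (h : T.card < 24) : ∃ z, z ∉ T := by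
  by_contra hcon
  push Not at hcon
  have h1 : Fintype.card GolayPt ≤ T.card := by
    rw [← Finset.card_univ]; exact Finset.card_le_card fun x _ => hcon x
  rw [card_pt] at h1
  omega

theorem map2 {a b a' b' : GolayPt} (h : a ≠ b) (h' : a' ≠ b') :
    ∃ σ ∈ M24, σ a = a' ∧ σ b = b' := by
  obtain ⟨σ, hσ, h1⟩ := M24_mapn (n := 2) (by norm_num) _ _ (inj2 h) (inj2 h')
  exact ⟨σ, hσ, h1 0, h1 1⟩

theorem map3 {a b c a' b' c' : GolayPt} (h1 : a ≠ b) (h2 : a ≠ c) (h3 : b ≠ c) (h1' : a' ≠ b')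
    (h2' : a' ≠ c') (h3' : b' ≠ c') : ∃ σ ∈ M24, σ a = a' ∧ σ b = b' ∧ σ c = c' := by
  obtain ⟨σ, hσ, h⟩ := M24_mapn (n := 3) (by norm_num) _ _ (inj3 h1 h2 h3) (inj3 h1' h2' h3')
  exact ⟨σ, hσ, h 0, h 1, h 2⟩

theorem map4 {a b c d a' b' c' d' : GolayPt} (h1 : a ≠ b) (h2 : a ≠ c) (h3 : a ≠ d) (h4 : b ≠ c)
    (h5 : b ≠ d) (h6 : c ≠ d) (h1' : a' ≠ b') (h2' : a' ≠ c') (h3' : a' ≠ d') (h4' : b' ≠ c')
    (h5' : b' ≠ d') (h6' : c' ≠ d') : ∃ σ ∈ M24, σ a = a' ∧ σ b = b' ∧ σ c = c' ∧ σ d = d' := by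
  obtain ⟨σ, hσ, h⟩ := M24_mapn (n := 4) (by norm_num) _ _ (inj4 h1 h2 h3 h4 h5 h6)
    (inj4 h1' h2' h3' h4' h5' h6')
  exact ⟨σ, hσ, h 0, h 1, h 2, h 3⟩

theorem act24 : Act M24 (Set.univ : Set GolayPt) where
  out := fun _ _ x hx => absurd (Set.mem_univ x) hx
  stab := fun _ _ _ _ => Set.mem_univ _
  trans := by
    intro x _ y _
    obtain ⟨x', hx'⟩ := exists_ne x
    obtain ⟨y', hy'⟩ := exists_ne y
    obtain ⟨σ, hσ, h, -⟩ := map2 hx'.symm hy'.symm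
    exact ⟨σ, hσ, h⟩
  inj := by
    intro x _ y _ h
    by_contra hne
    obtain ⟨z, hz⟩ := exists_avoid {x, y} (lt_of_le_of_lt (Finset.card_le_two) (by norm_num))
    simp only [Finset.mem_insert, Finset.mem_singleton, not_or] at hz
    obtain ⟨σ, hσ, h1, h2⟩ := map2 hne (fun h => hz.1 h.symm : x ≠ z)
    have := h σ hσ h1
    rw [this] at h2
    exact hz.2 h2.symm

theorem M23_mem {σ : Equiv.Perm GolayPt} : σ ∈ Spor.M23 ↔ σ ∈ M24 ∧ σ P0 = P0 := Iff.rfl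
theorem M22_mem {σ : Equiv.Perm GolayPt} : σ ∈ Spor.M22 ↔ (σ ∈ M24 ∧ σ P0 = P0) ∧ σ P1 = P1 :=
  Iff.rfl

theorem P01 : P0 ≠ P1 := by decide

theorem act23 : Act Spor.M23 ({x | x ≠ P0} : Set GolayPt) where
  out := by
    intro g hg x hx
    have hx' : x = P0 := not_not.mp hx
    rw [hx']; exact hg.2
  stab := by
    intro g hg x hx h
    apply hx
    exact g.injective (h.trans (M23_mem.mp hg).2.symm)
  trans := by
    intro x hx y hy
    obtain ⟨σ, hσ, h1, h2⟩ := map2 (Ne.symm hx) (Ne.symm hy)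
    exact ⟨σ, ⟨hσ, h1⟩, h2⟩
  inj := by
    intro x hx y hy h
    by_contra hne
    obtain ⟨z, hz⟩ := exists_avoid {P0, x, y}
      (lt_of_le_of_lt (Finset.card_le_three) (by norm_num))
    simp only [Finset.mem_insert, Finset.mem_singleton, not_or] at hz
    obtain ⟨σ, hσ, h0, h1, h2⟩ := map3 (Ne.symm hx) (Ne.symm hy) hne (Ne.symm hx)
      (fun h => hz.1 h.symm : P0 ≠ z) (fun h => hz.2.1 h.symm : x ≠ z)
    have := h σ ⟨hσ, h0⟩ h1
    rw [this] at h2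
    exact hz.2.2 h2.symm

theorem act22 : Act Spor.M22 ({x | x ≠ P0 ∧ x ≠ P1} : Set GolayPt) where
  out := by
    intro g hg x hx
    obtain ⟨⟨h1, h2⟩, h3⟩ := M22_mem.mp hg
    have hx' : x = P0 ∨ x = P1 := by
      by_contra hcon
      push Not at hcon
      exact hx hcon
    rcases hx' with rfl | rfl
    · exact h2
    · exact h3
  stab := by
    intro g hg x hx
    obtain ⟨⟨h1, h2⟩, h3⟩ := M22_mem.mp hg
    exact ⟨fun h => hx.1 (g.injective (h.trans h2.symm)),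
      fun h => hx.2 (g.injective (h.trans h3.symm))⟩
  trans := by
    intro x hx y hy
    obtain ⟨σ, hσ, h1, h2, h3⟩ := map3 P01 (Ne.symm hx.1) (Ne.symm hx.2) P01 (Ne.symm hy.1)
      (Ne.symm hy.2)
    exact ⟨σ, ⟨⟨hσ, h1⟩, h2⟩, h3⟩
  inj := by
    intro x hx y hy h
    by_contra hne
    obtain ⟨z, hz⟩ := exists_avoid {P0, P1, x, y}
      (lt_of_le_of_lt (Finset.card_le_four) (by norm_num))
    simp only [Finset.mem_insert, Finset.mem_singleton, not_or] at hz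
    obtain ⟨σ, hσ, h0, h1, h2, h3⟩ := map4 P01 (Ne.symm hx.1) (Ne.symm hy.1) (Ne.symm hx.2)
      (Ne.symm hy.2) hne P01 (Ne.symm hx.1) (fun h => hz.1 h.symm : P0 ≠ z) (Ne.symm hx.2)
      (fun h => hz.2.1 h.symm : P1 ≠ z) (fun h => hz.2.2.1 h.symm : x ≠ z)
    have := h σ ⟨⟨hσ, h0⟩, h1⟩ h2
    rw [this] at h3
    exact hz.2.2.2 h3.symm

/-! ### orders -/

theorem card_stb {G : Subgroup (Equiv.Perm GolayPt)} (x : GolayPt) :
    Nat.card (MulAction.stabilizer G x) = Nat.card (stb G x) :=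
  Nat.card_congr
    { toFun := fun g => ⟨g.1.1, g.1.2, g.2⟩
      invFun := fun h => ⟨⟨h.1, h.2.1⟩, h.2.2⟩
      left_inv := fun _ => rfl
      right_inv := fun _ => rfl }

theorem orb_eq {G : Subgroup (Equiv.Perm GolayPt)} {S : Set GolayPt} (hG : Act G S) {T : Finset GolayPt}
    (hT : ∀ x, x ∈ T ↔ x ∈ S) {x : GolayPt} (hx : x ∈ S) : orb G x = T := by
  ext q
  rw [mem_orb, hT]
  constructor
  · rintro ⟨g, hg, rfl⟩
    exact hG.stab g hg x hx
  · intro hq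
    exact hG.trans x hx q hq

theorem card_stab24 (x : GolayPt) : Nat.card (MulAction.stabilizer M24 x) = 10200960 := by
  rw [card_stb]
  have h1 := card_orb M24 x
  rw [orb_eq act24 (T := Finset.univ) (by simp) (Set.mem_univ x), card_M24, Finset.card_univ,
    card_pt] at h1
  omega

theorem card_M23' : Nat.card Spor.M23 = 10200960 := by
  rw [← card_stab24 P0, card_stb]
  rfl

theorem card_stab23 {x : GolayPt} (hx : x ≠ P0) :
    Nat.card (MulAction.stabilizer Spor.M23 x) = 443520 := by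
  rw [card_stb]
  have h1 := card_orb Spor.M23 x
  rw [orb_eq act23 (T := Finset.univ.erase P0) (by simp) hx, card_M23',
    Finset.card_erase_of_mem (Finset.mem_univ _), Finset.card_univ, card_pt] at h1
  omega

theorem card_M22' : Nat.card Spor.M22 = 443520 := by
  rw [← card_stab23 P01.symm, card_stb]
  rfl

theorem card_stab22 {x : GolayPt} (hx : x ≠ P0 ∧ x ≠ P1) :
    Nat.card (MulAction.stabilizer Spor.M22 x) = 20160 := by
  rw [card_stb]
  have h1 := card_orb Spor.M22 x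
  rw [orb_eq act22 (T := (Finset.univ.erase P0).erase P1) (by simp; tauto) hx, card_M22',
    Finset.card_erase_of_mem (by simp), Finset.card_erase_of_mem (Finset.mem_univ _),
    Finset.card_univ, card_pt] at h1
  omega

/-! ### M24 -/

theorem aut24 (α : M24 ≃* M24) : ∃ π ∈ M24, ∀ g : M24, π * (g : Equiv.Perm GolayPt) * π⁻¹ = α g := by
  have h1 := stab_cond act24 10200960 (fun x _ => card_stab24 x) (fun H hH hc => by
    obtain ⟨a, ha⟩ := index_M24 hH hc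
    exact ⟨a, Set.mem_univ _, ha⟩) α
  obtain ⟨π, -, -, hπ⟩ := exists_perm act24 α h1
  refine ⟨π, ?_, hπ⟩
  have h2 : π ∈ setSystemAut octads := by
    rw [mem_aut_iff]
    intro o ho
    apply smul_octad_of_conj ho
    intro σ hσ _
    have := hπ ⟨σ, hσ⟩
    rw [show π * σ * π⁻¹ = α ⟨σ, hσ⟩ from this]
    exact (α ⟨σ, hσ⟩).2
  have h3 := M24_eq_octad_aut
  rw [h3]
  exact h2

theorem out24 : Nat.card (Cfsg.Out ↥Cfsg.M24) = 1 := by
  have h : Cfsg.Inn ↥Cfsg.M24 = ⊤ := by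
    rw [eq_top_iff]
    intro α _
    obtain ⟨π, hπ, h⟩ := aut24 α
    refine ⟨⟨π, hπ⟩, ?_⟩
    ext1 g
    exact Subtype.ext (h g)
  rw [← Subgroup.index_eq_card, h, Subgroup.index_top]

/-! ### M23 -/

theorem octad_of_23 {π : Equiv.Perm GolayPt}
    (h : ∀ σ ∈ Spor.M23, π * σ * π⁻¹ ∈ M24) {o : Finset GolayPt} (ho : o ∈ octads)
    (h0 : P0 ∈ o) : π • o ∈ octads :=
  smul_octad_of_conj ho fun σ hσ hf => h σ ⟨hσ, hf P0 h0⟩

theorem aut23 (α : Spor.M23 ≃* Spor.M23) :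
    ∃ π ∈ Spor.M23, ∀ g : Spor.M23, π * (g : Equiv.Perm GolayPt) * π⁻¹ = α g := by
  have h1 := stab_cond act23 443520 (fun x hx => card_stab23 hx) (fun H hH hc => by
    obtain ⟨a, ha, ha'⟩ := index_M23 (H := H) (fun h hh => (hH hh).1) (fun h hh => (hH hh).2) hc
    exact ⟨a, ha, ha'⟩) α
  obtain ⟨π, hπ1, -, hπ⟩ := exists_perm act23 α h1
  refine ⟨π, ⟨?_, hπ1 P0 (by simp)⟩, hπ⟩
  have hc : ∀ σ ∈ Spor.M23, π * σ * π⁻¹ ∈ M24 := by
    intro σ hσ
    rw [show π * σ * π⁻¹ = α ⟨σ, hσ⟩ from hπ ⟨σ, hσ⟩]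
    exact (α ⟨σ, hσ⟩).2.1
  apply M24_of_gens dual_std
  intro g hg
  refine (octad_of_23 hc (stdG_octads hg) ?_).1
  rw [← gpt23', gpt_mem_toSet (by norm_num)]
  exact stdG_23 g hg

theorem out23 : Nat.card (Cfsg.Out ↥Cfsg.Spor.M23) = 1 := by
  have h : Cfsg.Inn ↥Cfsg.Spor.M23 = ⊤ := by
    rw [eq_top_iff]
    intro α _
    obtain ⟨π, hπ, h⟩ := aut23 α
    refine ⟨⟨π, hπ⟩, ?_⟩
    ext1 g
    exact Subtype.ext (h g)
  rw [← Subgroup.index_eq_card, h, Subgroup.index_top]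

/-! ### M22 -/

theorem octad_of_22 {π : Equiv.Perm GolayPt}
    (h : ∀ σ ∈ Spor.M22, π * σ * π⁻¹ ∈ M24) {o : Finset GolayPt} (ho : o ∈ octads)
    (h0 : P0 ∈ o) (h1 : P1 ∈ o) : π • o ∈ octads :=
  smul_octad_of_conj ho fun σ hσ hf => h σ ⟨⟨hσ, hf P0 h0⟩, hf P1 h1⟩

theorem stdG_P {g : ℕ} (hg : g ∈ stdG) : toSet g ∈ octads ∧ P0 ∈ toSet g ∧ P1 ∈ toSet g := by
  have hg' : g ∈ stdX1 :: stdG := List.mem_cons_of_mem _ hg
  refine ⟨stdG_octads hg', ?_, ?_⟩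
  · rw [← gpt23', gpt_mem_toSet (by norm_num)]; exact stdG_23 g hg'
  · rw [← gpt0', gpt_mem_toSet (by norm_num)]; exact stdG_0 g hg

theorem swap_smul_of_mem {t : Finset GolayPt} (h0 : P0 ∈ t) (h1 : P1 ∈ t) :
    Equiv.swap P0 P1 • t = t := by
  ext q
  rw [← Finset.inv_smul_mem_iff, Equiv.swap_inv, Equiv.Perm.smul_def]
  by_cases hq0 : q = P0
  · subst hq0; rw [Equiv.swap_apply_left]; exact ⟨fun _ => h0, fun _ => h1⟩
  · by_cases hq1 : q = P1
    · subst hq1; rw [Equiv.swap_apply_right]; exact ⟨fun _ => h1, fun _ => h0⟩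
    · rw [Equiv.swap_apply_of_ne_of_ne hq0 hq1]

theorem pairMask_eq : toSet pairMask = {P0, P1} := by
  unfold pairMask
  rw [toSet_or, toSet_shift _ (by norm_num), toSet_shift _ (by norm_num), gpt23', gpt0']
  rfl

theorem swap_smul_of_half {t : Finset GolayPt} (h0 : P0 ∈ t) (h1 : P1 ∉ t) :
    Equiv.swap P0 P1 • t = symmDiff t (toSet pairMask) := by
  ext q
  rw [← Finset.inv_smul_mem_iff, Equiv.swap_inv, Equiv.Perm.smul_def, Finset.mem_symmDiff,
    pairMask_eq]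
  by_cases hq0 : q = P0
  · subst hq0; rw [Equiv.swap_apply_left]; simp [h0, h1]
  · by_cases hq1 : q = P1
    · subst hq1; rw [Equiv.swap_apply_right]; simp [h0, h1]
    · rw [Equiv.swap_apply_of_ne_of_ne hq0 hq1]; simp [hq0, hq1]

theorem ext22 {π : Equiv.Perm GolayPt} (h0 : π P0 = P0) (h1 : π P1 = P1)
    (ha : ∀ σ ∈ Spor.M22, π * σ * π⁻¹ ∈ M24) (hb : ∀ σ ∈ Spor.M22, π⁻¹ * σ * π ∈ M24) :
    π ∈ M24 ∨ Equiv.swap P0 P1 * π ∈ M24 := by
  have hX23 : P0 ∈ toSet stdX1 := by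
    rw [← gpt23', gpt_mem_toSet (by norm_num)]; decide +kernel
  have hX0 : P1 ∉ toSet stdX1 := by
    rw [← gpt0', gpt_mem_toSet (by norm_num)]; decide +kernel
  have hXG : toSet stdX1 ∈ GC := (stdG_octads (List.mem_cons_self ..)).1
  have hGo : ∀ g ∈ stdG, π • toSet g ∈ octads := fun g hg =>
    octad_of_22 ha (stdG_P hg).1 (stdG_P hg).2.1 (stdG_P hg).2.2
  have hGo' : ∀ g ∈ stdG, π⁻¹ • toSet g ∈ octads := fun g hg =>
    octad_of_22 (by simpa using hb) (stdG_P hg).1 (stdG_P hg).2.1 (stdG_P hg).2.2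
  set s := π • toSet stdX1 with hs
  have hev : ∀ g ∈ stdG, (s ∩ toSet g).card % 2 = 0 := by
    intro g hg
    have h3 : s ∩ toSet g = π • (toSet stdX1 ∩ π⁻¹ • toSet g) := by
      rw [Finset.smul_finset_inter, smul_inv_smul]
    rw [h3, Finset.card_smul_finset]
    exact GC_inter_mod hXG (hGo' g hg).1
  by_cases hX : (s ∩ toSet stdX1).card % 2 = 0
  · left
    apply M24_of_gens dual_std
    intro g hg
    rw [List.mem_cons] at hg
    rcases hg with rfl | hg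
    · apply mem_GC_of_dual dual_std
      intro g hg
      rw [List.mem_cons] at hg
      rcases hg with rfl | hg
      · exact hX
      · exact hev g hg
    · exact (hGo g hg).1
  · right
    apply M24_of_gens dual_std
    intro g hg
    rw [List.mem_cons] at hg
    rcases hg with rfl | hg
    · have hs0 : P0 ∈ s := by
        have := Finset.smul_mem_smul_finset (a := π) hX23
        rwa [Equiv.Perm.smul_def, h0] at this
      have hs1 : P1 ∉ s := by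
        intro h
        rw [hs, ← Finset.inv_smul_mem_iff, Equiv.Perm.smul_def,
          Equiv.Perm.inv_eq_iff_eq.mpr h1.symm] at h
        exact hX0 h
      rw [mul_smul, ← hs, swap_smul_of_half hs0 hs1]
      apply mem_GC_of_dual dual_std
      intro g hg
      rw [card_symmDiff_inter_mod, ← toSet_and, card_toSet]
      rw [List.mem_cons] at hg
      rcases hg with rfl | hg
      · rw [pair_X1]; omega
      · have := hev g hg
        rw [Nat.eq_of_beq_eq_true (pair_G g hg)]; omega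
    · have e0 : P0 ∈ π • toSet g := by
        have := Finset.smul_mem_smul_finset (a := π) (stdG_P hg).2.1
        rwa [Equiv.Perm.smul_def, h0] at this
      have e1 : P1 ∈ π • toSet g := by
        have := Finset.smul_mem_smul_finset (a := π) (stdG_P hg).2.2
        rwa [Equiv.Perm.smul_def, h1] at this
      rw [mul_smul, swap_smul_of_mem e0 e1]
      exact (hGo g hg).1

theorem aut22 (α : Spor.M22 ≃* Spor.M22) : ∃ ρ ∈ M24, (ρ P0 = P0 ∧ ρ P1 = P1 ∨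
    ρ P0 = P1 ∧ ρ P1 = P0) ∧ ∀ g : Spor.M22, ρ * (g : Equiv.Perm GolayPt) * ρ⁻¹ = α g := by
  have h1 := stab_cond act22 20160 (fun x hx => card_stab22 hx) (fun H hH hc => by
    obtain ⟨a, ha, ha', ha''⟩ := index_M22 (H := H) (fun h hh => (hH hh).1.1) P01
      (fun h hh => (hH hh).1.2) (fun h hh => (hH hh).2) hc
    exact ⟨a, ⟨ha, ha'⟩, ha''⟩) α
  obtain ⟨π, hπ1, -, hπ⟩ := exists_perm act22 α h1
  have hp0 : π P0 = P0 := hπ1 P0 (by simp)
  have hp1 : π P1 = P1 := hπ1 P1 (by simp)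
  have ha : ∀ σ ∈ Spor.M22, π * σ * π⁻¹ ∈ M24 := by
    intro σ hσ
    rw [show π * σ * π⁻¹ = α ⟨σ, hσ⟩ from hπ ⟨σ, hσ⟩]
    exact (α ⟨σ, hσ⟩).2.1.1
  have hb : ∀ σ ∈ Spor.M22, π⁻¹ * σ * π ∈ M24 := by
    intro σ hσ
    obtain ⟨τ, hτ⟩ := α.surjective ⟨σ, hσ⟩
    have h2 := hπ τ
    rw [hτ] at h2
    have h3 : π⁻¹ * σ * π = (τ : Equiv.Perm GolayPt) := by
      rw [show σ = π * (τ : Equiv.Perm GolayPt) * π⁻¹ from h2.symm]; group
    rw [h3]
    exact τ.2.1.1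
  rcases ext22 hp0 hp1 ha hb with h | h
  · exact ⟨π, h, Or.inl ⟨hp0, hp1⟩, hπ⟩
  · refine ⟨_, h, Or.inr ⟨?_, ?_⟩, ?_⟩
    · rw [Equiv.Perm.mul_apply, hp0, Equiv.swap_apply_left]
    · rw [Equiv.Perm.mul_apply, hp1, Equiv.swap_apply_right]
    · intro g
      have h2 : Equiv.swap P0 P1 * (α g : Equiv.Perm GolayPt) =
          (α g : Equiv.Perm GolayPt) * Equiv.swap P0 P1 := by
        have e0 : (α g : Equiv.Perm GolayPt) P0 = P0 := (α g).2.1.2
        have e1 : (α g : Equiv.Perm GolayPt) P1 = P1 := (α g).2.2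
        have h3 := Equiv.mul_swap_eq_swap_mul (α g : Equiv.Perm GolayPt) P0 P1
        rw [e0, e1] at h3
        exact h3.symm
      have h4 : Equiv.swap P0 P1 * π * (g : Equiv.Perm GolayPt) * (Equiv.swap P0 P1 * π)⁻¹ =
          Equiv.swap P0 P1 * (π * (g : Equiv.Perm GolayPt) * π⁻¹) * (Equiv.swap P0 P1)⁻¹ := by
        group
      rw [h4, hπ, h2, mul_inv_cancel_right]

theorem inn22_iff {ρ : Equiv.Perm GolayPt} (hρ : ρ ∈ M24) (h : ρ P0 = P0 ∧ ρ P1 = P1 ∨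
    ρ P0 = P1 ∧ ρ P1 = P0) (α : MulAut Spor.M22)
    (hα : ∀ g : Spor.M22, ρ * (g : Equiv.Perm GolayPt) * ρ⁻¹ = α g) :
    α ∈ Cfsg.Inn ↥Cfsg.Spor.M22 ↔ ρ P0 = P0 := by
  constructor
  · rintro ⟨k, hk⟩
    have hkα : ∀ g : Spor.M22, (k : Equiv.Perm GolayPt) * (g : Equiv.Perm GolayPt) *
        (k : Equiv.Perm GolayPt)⁻¹ = α g := by
      intro g
      rw [← hk]; rfl
    set κ : Equiv.Perm GolayPt := (k : Equiv.Perm GolayPt)⁻¹ * ρ with hκ
    have hκM : κ ∈ M24 := M24.mul_mem (M24.inv_mem k.2.1.1) hρ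
    have hcomm : ∀ g ∈ Spor.M22, κ * g = g * κ := by
      intro g hg
      have h1 := hα ⟨g, hg⟩
      have h2 := hkα ⟨g, hg⟩
      rw [← h2] at h1
      have h3 : ρ * g * ρ⁻¹ = (k : Equiv.Perm GolayPt) * g * (k : Equiv.Perm GolayPt)⁻¹ := h1
      rw [hκ]
      calc (k : Equiv.Perm GolayPt)⁻¹ * ρ * g = (k : Equiv.Perm GolayPt)⁻¹ * (ρ * g * ρ⁻¹) * ρ := by
            group
        _ = g * ((k : Equiv.Perm GolayPt)⁻¹ * ρ) := by rw [h3]; group
    have hk0 : (k : Equiv.Perm GolayPt) P0 = P0 := k.2.1.2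
    have hk1 : (k : Equiv.Perm GolayPt) P1 = P1 := k.2.2
    have hk0' : (k : Equiv.Perm GolayPt)⁻¹ P0 = P0 := Equiv.Perm.inv_eq_iff_eq.mpr hk0.symm
    have hk1' : (k : Equiv.Perm GolayPt)⁻¹ P1 = P1 := Equiv.Perm.inv_eq_iff_eq.mpr hk1.symm
    have hfix : ∀ x, x ≠ P0 ∧ x ≠ P1 → κ x = x := by
      intro x hx
      symm
      have hκ01 : κ P0 = P0 ∧ κ P1 = P1 ∨ κ P0 = P1 ∧ κ P1 = P0 := by
        rw [hκ, Equiv.Perm.mul_apply, Equiv.Perm.mul_apply]
        rcases h with h | h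
        · left; rw [h.1, h.2]; exact ⟨hk0', hk1'⟩
        · right; rw [h.1, h.2]; exact ⟨hk1', hk0'⟩
      have hκx : κ x ≠ P0 ∧ κ x ≠ P1 := by
        rcases hκ01 with h' | h'
        · exact ⟨fun e => hx.1 (κ.injective (e.trans h'.1.symm)),
            fun e => hx.2 (κ.injective (e.trans h'.2.symm))⟩
        · exact ⟨fun e => hx.2 (κ.injective (e.trans h'.2.symm)),
            fun e => hx.1 (κ.injective (e.trans h'.1.symm))⟩
      apply act22.inj x hx _ hκx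
      intro g hg hgx
      rw [← Equiv.Perm.mul_apply, ← hcomm g hg, Equiv.Perm.mul_apply, hgx]
    have hκ1 : κ = 1 := by
      apply M24_fix9 hκM
      have hsub : (Finset.univ.erase P0).erase P1 ⊆ Finset.univ.filter fun p => κ p = p := by
        intro q hq
        rw [Finset.mem_filter]
        rw [Finset.mem_erase, Finset.mem_erase] at hq
        exact ⟨Finset.mem_univ _, hfix q ⟨hq.2.1, hq.1⟩⟩
      refine le_trans ?_ (Finset.card_le_card hsub)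
      rw [Finset.card_erase_of_mem (by simp), Finset.card_erase_of_mem (Finset.mem_univ _),
        Finset.card_univ, card_pt]
      norm_num
    have : ρ = k := by rw [hκ, inv_mul_eq_one] at hκ1; exact hκ1.symm
    rw [this]; exact hk0
  · intro h0
    have h1 : ρ P1 = P1 := by
      rcases h with h | h
      · exact h.2
      · exfalso
        rw [h.1] at h0
        exact P01 h0.symm
    refine ⟨⟨ρ, ⟨⟨hρ, h0⟩, h1⟩⟩, ?_⟩
    ext1 g
    exact Subtype.ext (hα g)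

theorem out22 : Nat.card (Cfsg.Out ↥Cfsg.Spor.M22) = 2 := by
  rw [← Subgroup.index_eq_card, Subgroup.index_eq_two_iff]
  obtain ⟨τ, hτ, h0, h1⟩ := map2 P01 P01.symm
  have h0' : τ⁻¹ P0 = P1 := Equiv.Perm.inv_eq_iff_eq.mpr h1.symm
  have h1' : τ⁻¹ P1 = P0 := Equiv.Perm.inv_eq_iff_eq.mpr h0.symm
  have hc1 : ∀ g ∈ Spor.M22, τ * g * τ⁻¹ ∈ Spor.M22 := by
    intro g hg
    obtain ⟨⟨e1, e2⟩, e3⟩ := M22_mem.mp hg
    refine M22_mem.mpr ⟨⟨M24.mul_mem (M24.mul_mem hτ e1) (M24.inv_mem hτ), ?_⟩, ?_⟩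
    · rw [Equiv.Perm.mul_apply, Equiv.Perm.mul_apply, h0', e3, h1]
    · rw [Equiv.Perm.mul_apply, Equiv.Perm.mul_apply, h1', e2, h0]
  have hc2 : ∀ g ∈ Spor.M22, τ⁻¹ * g * τ ∈ Spor.M22 := by
    intro g hg
    obtain ⟨⟨e1, e2⟩, e3⟩ := M22_mem.mp hg
    refine M22_mem.mpr ⟨⟨M24.mul_mem (M24.mul_mem (M24.inv_mem hτ) e1) hτ, ?_⟩, ?_⟩
    · rw [Equiv.Perm.mul_apply, Equiv.Perm.mul_apply, h0, e3, h1']
    · rw [Equiv.Perm.mul_apply, Equiv.Perm.mul_apply, h1, e2, h0']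
  let a : MulAut Spor.M22 :=
    { toFun := fun g => ⟨τ * g * τ⁻¹, hc1 g g.2⟩
      invFun := fun g => ⟨τ⁻¹ * g * τ, hc2 g g.2⟩
      left_inv := fun g => Subtype.ext (by
        show τ⁻¹ * (τ * (g : Equiv.Perm GolayPt) * τ⁻¹) * τ = g
        group)
      right_inv := fun g => Subtype.ext (by
        show τ * (τ⁻¹ * (g : Equiv.Perm GolayPt) * τ) * τ⁻¹ = g
        group)
      map_mul' := fun g h => Subtype.ext (by
        show τ * ((g : Equiv.Perm GolayPt) * h) * τ⁻¹ = τ * g * τ⁻¹ * (τ * h * τ⁻¹)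
        group) }
  refine ⟨a, fun b => ?_⟩
  obtain ⟨ρ, hρ, h, hb⟩ := aut22 b
  have e1 := inn22_iff hρ h b hb
  have h' : (ρ * τ) P0 = P0 ∧ (ρ * τ) P1 = P1 ∨ (ρ * τ) P0 = P1 ∧ (ρ * τ) P1 = P0 := by
    rw [Equiv.Perm.mul_apply, Equiv.Perm.mul_apply, h0, h1]
    rcases h with h | h
    · right; exact ⟨h.2, h.1⟩
    · left; exact ⟨h.2, h.1⟩
  have e2 := inn22_iff (M24.mul_mem hρ hτ) h' (b * a) (fun g => by
    have := hb (a g)
    show ρ * τ * (g : Equiv.Perm GolayPt) * (ρ * τ)⁻¹ = ((b (a g) : Spor.M22) : Equiv.Perm GolayPt)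
    rw [← this]
    show ρ * τ * (g : Equiv.Perm GolayPt) * (ρ * τ)⁻¹ =
      ρ * (τ * (g : Equiv.Perm GolayPt) * τ⁻¹) * ρ⁻¹
    group)
  rw [e1, e2, Equiv.Perm.mul_apply, h0]
  rcases h with h | h
  · right
    refine ⟨h.1, ?_⟩
    rw [h.2]; exact P01.symm
  · left
    refine ⟨h.2, ?_⟩
    rw [h.1]; exact P01.symm

end Cfsg.Agent.H15.MathieuOut
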