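import Cfsg.Agent.H15.OInv6
import Cfsg.Agent.H22.PoincE8
import Cfsg.Agent.H6.ChevExtTab
import Cfsg.Agent.H6.ChevSmith

set_option autoImplicit false
set_option maxRecDepth 100000

/-! # Tables for the odd-characteristic involutions of type E8 (generated) -/

namespace Cfsg.Agent.H15.OInv
open Cfsg.Agent.H6 Cfsg.Lie Cfsg.Agent.H22
namespace OE8

def M : List ℕ := [nat_lit 4, nat_lit 8, nat_lit 9, nat_lit 22, nat_lit 40, nat_lit 80, nat_lit 160, nat_lit 64]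
def T : List ℕ := [nat_lit 0, nat_lit 0, nat_lit 1, nat_lit 0, nat_lit 2, nat_lit 0, nat_lit 1, nat_lit 2, nat_lit 3, nat_lit 3, nat_lit 3, nat_lit 0, nat_lit 2, nat_lit 3, nat_lit 3, nat_lit 2, nat_lit 4, nat_lit 4, nat_lit 1, nat_lit 4, nat_lit 2, nat_lit 4, nat_lit 4, nat_lit 4, nat_lit 4, nat_lit 3, nat_lit 3, nat_lit 4, nat_lit 4, nat_lit 3, nat_lit 4, nat_lit 4, nat_lit 5, nat_lit 0, nat_lit 1, nat_lit 5, nat_lit 5, nat_lit 2, nat_lit 5, nat_lit 5, nat_lit 5, nat_lit 5, nat_lit 3, nat_lit 5, nat_lit 3, nat_lit 5, nat_lit 5, nat_lit 5, nat_lit 5, nat_lit 4, nat_lit 4, nat_lit 5, nat_lit 5, nat_lit 4, nat_lit 5, nat_lit 5, nat_lit 5, nat_lit 5, nat_lit 4, nat_lit 5, nat_lit 4, nat_lit 5, nat_lit 5, nat_lit 5, nat_lit 6, nat_lit 0, nat_lit 6, nat_lit 1, nat_lit 6, nat_lit 2, nat_lit 2, nat_lit 1, nat_lit 6, nat_lit 6, nat_lit 6, nat_lit 3, nat_lit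 3, nat_lit 6, nat_lit 2, nat_lit 3, nat_lit 6, nat_lit 6, nat_lit 4, nat_lit 6, nat_lit 4, nat_lit 6, nat_lit 6, nat_lit 6, nat_lit 3, nat_lit 4, nat_lit 4, nat_lit 6, nat_lit 6, nat_lit 4, nat_lit 6, nat_lit 6, nat_lit 6, nat_lit 5, nat_lit 5, nat_lit 6, nat_lit 6, nat_lit 5, nat_lit 6, nat_lit 6, nat_lit 6, nat_lit 6, nat_lit 5, nat_lit 6, nat_lit 5, nat_lit 6, nat_lit 6, nat_lit 6, nat_lit 4, nat_lit 5, nat_lit 5, nat_lit 6, nat_lit 6, nat_lit 5, nat_lit 6, nat_lit 6, nat_lit 6, nat_lit 6, nat_lit 5, nat_lit 6, nat_lit 5, nat_lit 6, nat_lit 6, nat_lit 6, nat_lit 0, nat_lit 7, nat_lit 7, nat_lit 1, nat_lit 2, nat_lit 7, nat_lit 2, nat_lit 1, nat_lit 3, nat_lit 3, nat_lit 7, nat_lit 3, nat_lit 7, nat_lit 3, nat_lit 2, nat_lit 3, nat_lit 7, nat_lit 7, nat_lit 7, nat_lit 4, nat_lit 4, nat_lit 7, nat_lit 4, nat_lit 4, nat_lit 3, nat_lit 4, nat_lit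 7, nat_lit 4, nat_lit 7, nat_lit 4, nat_lit 4, nat_lit 4, nat_lit 7, nat_lit 7, nat_lit 5, nat_lit 7, nat_lit 5, nat_lit 7, nat_lit 7, nat_lit 7, nat_lit 5, nat_lit 5, nat_lit 5, nat_lit 7, nat_lit 7, nat_lit 5, nat_lit 7, nat_lit 7, nat_lit 4, nat_lit 5, nat_lit 7, nat_lit 5, nat_lit 7, nat_lit 5, nat_lit 5, nat_lit 5, nat_lit 7, nat_lit 7, nat_lit 7, nat_lit 5, nat_lit 5, nat_lit 7, nat_lit 5, nat_lit 5, nat_lit 7, nat_lit 6, nat_lit 6, nat_lit 7, nat_lit 7, nat_lit 6, nat_lit 7, nat_lit 7, nat_lit 7, nat_lit 7, nat_lit 6, nat_lit 7, nat_lit 6, nat_lit 7, nat_lit 7, nat_lit 7, nat_lit 6, nat_lit 6, nat_lit 6, nat_lit 7, nat_lit 7, nat_lit 6, nat_lit 7, nat_lit 7, nat_lit 7, nat_lit 7, nat_lit 6, nat_lit 7, nat_lit 6, nat_lit 7, nat_lit 7, nat_lit 7, nat_lit 5, nat_lit 6, nat_lit 7, nat_lit 6, nat_lit 7, nat_lit 6, nat_lit 6, nat_lit 6, nat_lit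 7, nat_lit 7, nat_lit 7, nat_lit 6, nat_lit 6, nat_lit 7, nat_lit 6, nat_lit 6, nat_lit 7, nat_lit 7, nat_lit 6, nat_lit 7, nat_lit 6, nat_lit 7, nat_lit 7, nat_lit 7, nat_lit 6, nat_lit 6, nat_lit 6, nat_lit 7, nat_lit 7, nat_lit 6, nat_lit 7, nat_lit 7]
def cl : List ℤ := [.negSucc (nat_lit 1), .negSucc (nat_lit 2), .negSucc (nat_lit 2), .negSucc (nat_lit 5), .negSucc (nat_lit 4), .negSucc (nat_lit 3), .negSucc (nat_lit 2), .negSucc (nat_lit 1)]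
theorem hMA : ∀ i < 8, ∀ k < 8, (M.getD i 0).testBit k = decide ((PE8.A.getD i []).getD k 0 % 2 = 1) := by decide +kernel
theorem hM : ∀ i < chevE8.rank, ∀ k < chevE8.rank, (M.getD i 0).testBit k = decide (chevE8.cartan i (chevE8.simple k) % 2 = 1) := by
  intro i hi k hk
  rw [PE8.hA i hi k hk]
  exact hMA i hi k hk
theorem hT : ∀ v < 256, T.getD v 0 < 8 := by decide +kernel
theorem hTl : ∀ v < 256, vact M (T.getD v 0) v < 256 := by decide +kernel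
theorem hf : ∀ v < 256, v ≠ 0 → orbchk M T [1, 128] 28 v = true := by decide +kernel
theorem horthA : ∀ i < 8, ∀ j < 8, (PE8.A.getD i []).getD j 0 % 2 = 0 → (PE8.A.getD j []).getD i 0 % 2 = 0 → i ≠ j →
    (PE8.A.getD i []).getD j 0 = 0 := by decide +kernel
theorem hlevA : ∀ j < 8, (∑ r ∈ Finset.range 240, if cO TE8.MO r j = cl.getD j 0 then caF 8 240 TE8.CA j r else 0) % 2 = 1 := by decide +kernel
theorem odd : OddData chevE8 (cO TE8.MO) where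
  orth := by
    intro i hi j hj h1 h2 h3
    rw [PE8.hA i hi j hj] at h1 ⊢
    rw [PE8.hA j hj i hi] at h2
    exact horthA i hi j hj h1 h2 h3
  lev := by
    intro j hj
    refine ⟨cl.getD j 0, ?_⟩
    have h := hlevA j hj
    rw [← chkCartan_spec TE8.c_cartan] at h
    exact h
theorem hmA0 : ∀ m < 8, (∑ k ∈ Finset.range 8, if Nat.testBit 6 k then (PE8.A.getD k []).getD m 0 else 0) % 2 =
    if Nat.testBit (2 ^ 0) m then 1 else 0 := by decide +kernel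
theorem hm0 {F : Type*} [Field F] : hv chevE8 F (cO TE8.MO) (2 ^ 0) ∈ chevE8.diagonalSubgroup F := by
  apply hv_mem TE8.good (u := 6)
  intro m hm
  rw [← hmA0 m hm]
  congr 1
  refine Finset.sum_congr rfl fun k hk => ?_
  rw [Finset.mem_range] at hk
  rw [PE8.hA k hk m hm]
def RL0 : List (List (List ℤ)) := [[[.ofNat (nat_lit 1)]],
  [[.ofNat (nat_lit 0), .ofNat (nat_lit 1)]],
  [[.ofNat (nat_lit 0), .ofNat (nat_lit 0), .ofNat (nat_lit 1)], [.ofNat (nat_lit 1), .ofNat (nat_lit 0), .ofNat (nat_lit 1)]],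
  [[.ofNat (nat_lit 0), .ofNat (nat_lit 0), .ofNat (nat_lit 0), .ofNat (nat_lit 1)], [.ofNat (nat_lit 0), .ofNat (nat_lit 0), .ofNat (nat_lit 1), .ofNat (nat_lit 1)], [.ofNat (nat_lit 0), .ofNat (nat_lit 1), .ofNat (nat_lit 0), .ofNat (nat_lit 1)], [.ofNat (nat_lit 0), .ofNat (nat_lit 1), .ofNat (nat_lit 1), .ofNat (nat_lit 1)], [.ofNat (nat_lit 1), .ofNat (nat_lit 0), .ofNat (nat_lit 1), .ofNat (nat_lit 1)], [.ofNat (nat_lit 1), .ofNat (nat_lit 1), .ofNat (nat_lit 1), .ofNat (nat_lit 1)]],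
  [[.ofNat (nat_lit 0), .ofNat (nat_lit 0), .ofNat (nat_lit 0), .ofNat (nat_lit 0), .ofNat (nat_lit 1)], [.ofNat (nat_lit 0), .ofNat (nat_lit 0), .ofNat (nat_lit 0), .ofNat (nat_lit 1), .ofNat (nat_lit 1)], [.ofNat (nat_lit 0), .ofNat (nat_lit 0), .ofNat (nat_lit 1), .ofNat (nat_lit 1), .ofNat (nat_lit 1)], [.ofNat (nat_lit 0), .ofNat (nat_lit 1), .ofNat (nat_lit 0), .ofNat (nat_lit 1), .ofNat (nat_lit 1)], [.ofNat (nat_lit 0), .ofNat (nat_lit 1), .ofNat (nat_lit 1), .ofNat (nat_lit 1), .ofNat (nat_lit 1)], [.ofNat (nat_lit 0), .ofNat (nat_lit 1), .ofNat (nat_lit 1), .ofNat (nat_lit 2), .ofNat (nat_lit 1)], [.ofNat (nat_lit 1), .ofNat (nat_lit 0), .ofNat (nat_lit 1), .ofNat (nat_lit 1), .ofNat (nat_lit 1)], [.ofNat (nat_lit 1), .ofNat (nat_lit 1), .ofNat (nat_lit 1), .ofNat (nat_lit 1), .ofNat (nat_lit 1)], [.ofNat (nat_lit 1), .ofNat (nat_lit 1),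 .ofNat (nat_lit 1), .ofNat (nat_lit 2), .ofNat (nat_lit 1)], [.ofNat (nat_lit 1), .ofNat (nat_lit 1), .ofNat (nat_lit 2), .ofNat (nat_lit 2), .ofNat (nat_lit 1)]],
  [[.ofNat (nat_lit 0), .ofNat (nat_lit 0), .ofNat (nat_lit 0), .ofNat (nat_lit 0), .ofNat (nat_lit 0), .ofNat (nat_lit 1)], [.ofNat (nat_lit 0), .ofNat (nat_lit 0), .ofNat (nat_lit 0), .ofNat (nat_lit 0), .ofNat (nat_lit 1), .ofNat (nat_lit 1)], [.ofNat (nat_lit 0), .ofNat (nat_lit 0), .ofNat (nat_lit 0), .ofNat (nat_lit 1), .ofNat (nat_lit 1), .ofNat (nat_lit 1)], [.ofNat (nat_lit 0), .ofNat (nat_lit 0), .ofNat (nat_lit 1), .ofNat (nat_lit 1), .ofNat (nat_lit 1), .ofNat (nat_lit 1)], [.ofNat (nat_lit 0), .ofNat (nat_lit 1), .ofNat (nat_lit 0), .ofNat (nat_lit 1), .ofNat (nat_lit 1), .ofNat (nat_lit 1)], [.ofNat (nat_lit 0), .ofNat (nat_lit 1), .ofNat (nat_lit 1), .ofNat (nat_lit 1),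 .ofNat (nat_lit 1), .ofNat (nat_lit 1)], [.ofNat (nat_lit 0), .ofNat (nat_lit 1), .ofNat (nat_lit 1), .ofNat (nat_lit 2), .ofNat (nat_lit 1), .ofNat (nat_lit 1)], [.ofNat (nat_lit 0), .ofNat (nat_lit 1), .ofNat (nat_lit 1), .ofNat (nat_lit 2), .ofNat (nat_lit 2), .ofNat (nat_lit 1)], [.ofNat (nat_lit 1), .ofNat (nat_lit 0), .ofNat (nat_lit 1), .ofNat (nat_lit 1), .ofNat (nat_lit 1), .ofNat (nat_lit 1)], [.ofNat (nat_lit 1), .ofNat (nat_lit 1), .ofNat (nat_lit 1), .ofNat (nat_lit 1), .ofNat (nat_lit 1), .ofNat (nat_lit 1)], [.ofNat (nat_lit 1), .ofNat (nat_lit 1), .ofNat (nat_lit 1), .ofNat (nat_lit 2), .ofNat (nat_lit 1), .ofNat (nat_lit 1)], [.ofNat (nat_lit 1), .ofNat (nat_lit 1), .ofNat (nat_lit 1), .ofNat (nat_lit 2), .ofNat (nat_lit 2), .ofNat (nat_lit 1)], [.ofNat (nat_lit 1), .ofNat (nat_lit 1), .ofNat (nat_lit 2), .ofNat (nat_lit 2), .ofNat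 (nat_lit 1), .ofNat (nat_lit 1)], [.ofNat (nat_lit 1), .ofNat (nat_lit 1), .ofNat (nat_lit 2), .ofNat (nat_lit 2), .ofNat (nat_lit 2), .ofNat (nat_lit 1)], [.ofNat (nat_lit 1), .ofNat (nat_lit 1), .ofNat (nat_lit 2), .ofNat (nat_lit 3), .ofNat (nat_lit 2), .ofNat (nat_lit 1)], [.ofNat (nat_lit 1), .ofNat (nat_lit 2), .ofNat (nat_lit 2), .ofNat (nat_lit 3), .ofNat (nat_lit 2), .ofNat (nat_lit 1)]],
  [[.ofNat (nat_lit 0), .ofNat (nat_lit 0), .ofNat (nat_lit 0), .ofNat (nat_lit 0), .ofNat (nat_lit 0), .ofNat (nat_lit 0), .ofNat (nat_lit 1)], [.ofNat (nat_lit 0), .ofNat (nat_lit 0), .ofNat (nat_lit 0), .ofNat (nat_lit 0), .ofNat (nat_lit 0), .ofNat (nat_lit 1), .ofNat (nat_lit 1)], [.ofNat (nat_lit 0), .ofNat (nat_lit 0), .ofNat (nat_lit 0), .ofNat (nat_lit 0), .ofNat (nat_lit 1), .ofNat (nat_lit 1), .ofNat (nat_lit 1)], [.ofNat (nat_lit 0), .ofNat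 (nat_lit 0), .ofNat (nat_lit 0), .ofNat (nat_lit 1), .ofNat (nat_lit 1), .ofNat (nat_lit 1), .ofNat (nat_lit 1)], [.ofNat (nat_lit 0), .ofNat (nat_lit 0), .ofNat (nat_lit 1), .ofNat (nat_lit 1), .ofNat (nat_lit 1), .ofNat (nat_lit 1), .ofNat (nat_lit 1)], [.ofNat (nat_lit 0), .ofNat (nat_lit 1), .ofNat (nat_lit 0), .ofNat (nat_lit 1), .ofNat (nat_lit 1), .ofNat (nat_lit 1), .ofNat (nat_lit 1)], [.ofNat (nat_lit 0), .ofNat (nat_lit 1), .ofNat (nat_lit 1), .ofNat (nat_lit 1), .ofNat (nat_lit 1), .ofNat (nat_lit 1), .ofNat (nat_lit 1)], [.ofNat (nat_lit 0), .ofNat (nat_lit 1), .ofNat (nat_lit 1), .ofNat (nat_lit 2), .ofNat (nat_lit 1), .ofNat (nat_lit 1), .ofNat (nat_lit 1)], [.ofNat (nat_lit 0), .ofNat (nat_lit 1), .ofNat (nat_lit 1), .ofNat (nat_lit 2), .ofNat (nat_lit 2), .ofNat (nat_lit 1), .ofNat (nat_lit 1)], [.ofNat (nat_lit 0), .ofNat (nat_lit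 1), .ofNat (nat_lit 1), .ofNat (nat_lit 2), .ofNat (nat_lit 2), .ofNat (nat_lit 2), .ofNat (nat_lit 1)], [.ofNat (nat_lit 1), .ofNat (nat_lit 0), .ofNat (nat_lit 1), .ofNat (nat_lit 1), .ofNat (nat_lit 1), .ofNat (nat_lit 1), .ofNat (nat_lit 1)], [.ofNat (nat_lit 1), .ofNat (nat_lit 1), .ofNat (nat_lit 1), .ofNat (nat_lit 1), .ofNat (nat_lit 1), .ofNat (nat_lit 1), .ofNat (nat_lit 1)], [.ofNat (nat_lit 1), .ofNat (nat_lit 1), .ofNat (nat_lit 1), .ofNat (nat_lit 2), .ofNat (nat_lit 1), .ofNat (nat_lit 1), .ofNat (nat_lit 1)], [.ofNat (nat_lit 1), .ofNat (nat_lit 1), .ofNat (nat_lit 1), .ofNat (nat_lit 2), .ofNat (nat_lit 2), .ofNat (nat_lit 1), .ofNat (nat_lit 1)], [.ofNat (nat_lit 1), .ofNat (nat_lit 1), .ofNat (nat_lit 1), .ofNat (nat_lit 2), .ofNat (nat_lit 2), .ofNat (nat_lit 2), .ofNat (nat_lit 1)], [.ofNat (nat_lit 1), .ofNat (nat_lit 1), .ofNat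 (nat_lit 2), .ofNat (nat_lit 2), .ofNat (nat_lit 1), .ofNat (nat_lit 1), .ofNat (nat_lit 1)], [.ofNat (nat_lit 1), .ofNat (nat_lit 1), .ofNat (nat_lit 2), .ofNat (nat_lit 2), .ofNat (nat_lit 2), .ofNat (nat_lit 1), .ofNat (nat_lit 1)], [.ofNat (nat_lit 1), .ofNat (nat_lit 1), .ofNat (nat_lit 2), .ofNat (nat_lit 2), .ofNat (nat_lit 2), .ofNat (nat_lit 2), .ofNat (nat_lit 1)], [.ofNat (nat_lit 1), .ofNat (nat_lit 1), .ofNat (nat_lit 2), .ofNat (nat_lit 3), .ofNat (nat_lit 2), .ofNat (nat_lit 1), .ofNat (nat_lit 1)], [.ofNat (nat_lit 1), .ofNat (nat_lit 1), .ofNat (nat_lit 2), .ofNat (nat_lit 3), .ofNat (nat_lit 2), .ofNat (nat_lit 2), .ofNat (nat_lit 1)], [.ofNat (nat_lit 1), .ofNat (nat_lit 1), .ofNat (nat_lit 2), .ofNat (nat_lit 3), .ofNat (nat_lit 3), .ofNat (nat_lit 2), .ofNat (nat_lit 1)], [.ofNat (nat_lit 1), .ofNat (nat_lit 2), .ofNat (nat_lit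 2), .ofNat (nat_lit 3), .ofNat (nat_lit 2), .ofNat (nat_lit 1), .ofNat (nat_lit 1)], [.ofNat (nat_lit 1), .ofNat (nat_lit 2), .ofNat (nat_lit 2), .ofNat (nat_lit 3), .ofNat (nat_lit 2), .ofNat (nat_lit 2), .ofNat (nat_lit 1)], [.ofNat (nat_lit 1), .ofNat (nat_lit 2), .ofNat (nat_lit 2), .ofNat (nat_lit 3), .ofNat (nat_lit 3), .ofNat (nat_lit 2), .ofNat (nat_lit 1)], [.ofNat (nat_lit 1), .ofNat (nat_lit 2), .ofNat (nat_lit 2), .ofNat (nat_lit 4), .ofNat (nat_lit 3), .ofNat (nat_lit 2), .ofNat (nat_lit 1)], [.ofNat (nat_lit 1), .ofNat (nat_lit 2), .ofNat (nat_lit 3), .ofNat (nat_lit 4), .ofNat (nat_lit 3), .ofNat (nat_lit 2), .ofNat (nat_lit 1)], [.ofNat (nat_lit 2), .ofNat (nat_lit 2), .ofNat (nat_lit 3), .ofNat (nat_lit 4), .ofNat (nat_lit 3), .ofNat (nat_lit 2), .ofNat (nat_lit 1)]],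
  [[.ofNat (nat_lit 0), .ofNat (nat_lit 0), .ofNat (nat_lit 0), .ofNat (nat_lit 0), .ofNat (nat_lit 0), .ofNat (nat_lit 0), .ofNat (nat_lit 0), .ofNat (nat_lit 1)], [.ofNat (nat_lit 0), .ofNat (nat_lit 0), .ofNat (nat_lit 0), .ofNat (nat_lit 0), .ofNat (nat_lit 0), .ofNat (nat_lit 0), .ofNat (nat_lit 1), .ofNat (nat_lit 1)], [.ofNat (nat_lit 0), .ofNat (nat_lit 0), .ofNat (nat_lit 0), .ofNat (nat_lit 0), .ofNat (nat_lit 0), .ofNat (nat_lit 1), .ofNat (nat_lit 1), .ofNat (nat_lit 1)], [.ofNat (nat_lit 0), .ofNat (nat_lit 0), .ofNat (nat_lit 0), .ofNat (nat_lit 0), .ofNat (nat_lit 1), .ofNat (nat_lit 1), .ofNat (nat_lit 1), .ofNat (nat_lit 1)], [.ofNat (nat_lit 0), .ofNat (nat_lit 0), .ofNat (nat_lit 0), .ofNat (nat_lit 1), .ofNat (nat_lit 1), .ofNat (nat_lit 1), .ofNat (nat_lit 1), .ofNat (nat_lit 1)], [.ofNat (nat_lit 0), .ofNat (nat_lit 0), .ofNat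 (nat_lit 1), .ofNat (nat_lit 1), .ofNat (nat_lit 1), .ofNat (nat_lit 1), .ofNat (nat_lit 1), .ofNat (nat_lit 1)], [.ofNat (nat_lit 0), .ofNat (nat_lit 1), .ofNat (nat_lit 0), .ofNat (nat_lit 1), .ofNat (nat_lit 1), .ofNat (nat_lit 1), .ofNat (nat_lit 1), .ofNat (nat_lit 1)], [.ofNat (nat_lit 0), .ofNat (nat_lit 1), .ofNat (nat_lit 1), .ofNat (nat_lit 1), .ofNat (nat_lit 1), .ofNat (nat_lit 1), .ofNat (nat_lit 1), .ofNat (nat_lit 1)], [.ofNat (nat_lit 0), .ofNat (nat_lit 1), .ofNat (nat_lit 1), .ofNat (nat_lit 2), .ofNat (nat_lit 1), .ofNat (nat_lit 1), .ofNat (nat_lit 1), .ofNat (nat_lit 1)], [.ofNat (nat_lit 0), .ofNat (nat_lit 1), .ofNat (nat_lit 1), .ofNat (nat_lit 2), .ofNat (nat_lit 2), .ofNat (nat_lit 1), .ofNat (nat_lit 1), .ofNat (nat_lit 1)], [.ofNat (nat_lit 0), .ofNat (nat_lit 1), .ofNat (nat_lit 1), .ofNat (nat_lit 2), .ofNat (nat_lit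 2), .ofNat (nat_lit 2), .ofNat (nat_lit 1), .ofNat (nat_lit 1)], [.ofNat (nat_lit 0), .ofNat (nat_lit 1), .ofNat (nat_lit 1), .ofNat (nat_lit 2), .ofNat (nat_lit 2), .ofNat (nat_lit 2), .ofNat (nat_lit 2), .ofNat (nat_lit 1)], [.ofNat (nat_lit 1), .ofNat (nat_lit 0), .ofNat (nat_lit 1), .ofNat (nat_lit 1), .ofNat (nat_lit 1), .ofNat (nat_lit 1), .ofNat (nat_lit 1), .ofNat (nat_lit 1)], [.ofNat (nat_lit 1), .ofNat (nat_lit 1), .ofNat (nat_lit 1), .ofNat (nat_lit 1), .ofNat (nat_lit 1), .ofNat (nat_lit 1), .ofNat (nat_lit 1), .ofNat (nat_lit 1)], [.ofNat (nat_lit 1), .ofNat (nat_lit 1), .ofNat (nat_lit 1), .ofNat (nat_lit 2), .ofNat (nat_lit 1), .ofNat (nat_lit 1), .ofNat (nat_lit 1), .ofNat (nat_lit 1)], [.ofNat (nat_lit 1), .ofNat (nat_lit 1), .ofNat (nat_lit 1), .ofNat (nat_lit 2), .ofNat (nat_lit 2), .ofNat (nat_lit 1), .ofNat (nat_lit 1), .ofNat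 (nat_lit 1)], [.ofNat (nat_lit 1), .ofNat (nat_lit 1), .ofNat (nat_lit 1), .ofNat (nat_lit 2), .ofNat (nat_lit 2), .ofNat (nat_lit 2), .ofNat (nat_lit 1), .ofNat (nat_lit 1)], [.ofNat (nat_lit 1), .ofNat (nat_lit 1), .ofNat (nat_lit 1), .ofNat (nat_lit 2), .ofNat (nat_lit 2), .ofNat (nat_lit 2), .ofNat (nat_lit 2), .ofNat (nat_lit 1)], [.ofNat (nat_lit 1), .ofNat (nat_lit 1), .ofNat (nat_lit 2), .ofNat (nat_lit 2), .ofNat (nat_lit 1), .ofNat (nat_lit 1), .ofNat (nat_lit 1), .ofNat (nat_lit 1)], [.ofNat (nat_lit 1), .ofNat (nat_lit 1), .ofNat (nat_lit 2), .ofNat (nat_lit 2), .ofNat (nat_lit 2), .ofNat (nat_lit 1), .ofNat (nat_lit 1), .ofNat (nat_lit 1)], [.ofNat (nat_lit 1), .ofNat (nat_lit 1), .ofNat (nat_lit 2), .ofNat (nat_lit 2), .ofNat (nat_lit 2), .ofNat (nat_lit 2), .ofNat (nat_lit 1), .ofNat (nat_lit 1)], [.ofNat (nat_lit 1), .ofNat (nat_lit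 1), .ofNat (nat_lit 2), .ofNat (nat_lit 2), .ofNat (nat_lit 2), .ofNat (nat_lit 2), .ofNat (nat_lit 2), .ofNat (nat_lit 1)], [.ofNat (nat_lit 1), .ofNat (nat_lit 1), .ofNat (nat_lit 2), .ofNat (nat_lit 3), .ofNat (nat_lit 2), .ofNat (nat_lit 1), .ofNat (nat_lit 1), .ofNat (nat_lit 1)], [.ofNat (nat_lit 1), .ofNat (nat_lit 1), .ofNat (nat_lit 2), .ofNat (nat_lit 3), .ofNat (nat_lit 2), .ofNat (nat_lit 2), .ofNat (nat_lit 1), .ofNat (nat_lit 1)], [.ofNat (nat_lit 1), .ofNat (nat_lit 1), .ofNat (nat_lit 2), .ofNat (nat_lit 3), .ofNat (nat_lit 2), .ofNat (nat_lit 2), .ofNat (nat_lit 2), .ofNat (nat_lit 1)], [.ofNat (nat_lit 1), .ofNat (nat_lit 1), .ofNat (nat_lit 2), .ofNat (nat_lit 3), .ofNat (nat_lit 3), .ofNat (nat_lit 2), .ofNat (nat_lit 1), .ofNat (nat_lit 1)], [.ofNat (nat_lit 1), .ofNat (nat_lit 1), .ofNat (nat_lit 2), .ofNat (nat_lit 3), .ofNat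 (nat_lit 3), .ofNat (nat_lit 2), .ofNat (nat_lit 2), .ofNat (nat_lit 1)], [.ofNat (nat_lit 1), .ofNat (nat_lit 1), .ofNat (nat_lit 2), .ofNat (nat_lit 3), .ofNat (nat_lit 3), .ofNat (nat_lit 3), .ofNat (nat_lit 2), .ofNat (nat_lit 1)], [.ofNat (nat_lit 1), .ofNat (nat_lit 2), .ofNat (nat_lit 2), .ofNat (nat_lit 3), .ofNat (nat_lit 2), .ofNat (nat_lit 1), .ofNat (nat_lit 1), .ofNat (nat_lit 1)], [.ofNat (nat_lit 1), .ofNat (nat_lit 2), .ofNat (nat_lit 2), .ofNat (nat_lit 3), .ofNat (nat_lit 2), .ofNat (nat_lit 2), .ofNat (nat_lit 1), .ofNat (nat_lit 1)], [.ofNat (nat_lit 1), .ofNat (nat_lit 2), .ofNat (nat_lit 2), .ofNat (nat_lit 3), .ofNat (nat_lit 2), .ofNat (nat_lit 2), .ofNat (nat_lit 2), .ofNat (nat_lit 1)], [.ofNat (nat_lit 1), .ofNat (nat_lit 2), .ofNat (nat_lit 2), .ofNat (nat_lit 3), .ofNat (nat_lit 3), .ofNat (nat_lit 2), .ofNat (nat_lit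 1), .ofNat (nat_lit 1)], [.ofNat (nat_lit 1), .ofNat (nat_lit 2), .ofNat (nat_lit 2), .ofNat (nat_lit 3), .ofNat (nat_lit 3), .ofNat (nat_lit 2), .ofNat (nat_lit 2), .ofNat (nat_lit 1)], [.ofNat (nat_lit 1), .ofNat (nat_lit 2), .ofNat (nat_lit 2), .ofNat (nat_lit 3), .ofNat (nat_lit 3), .ofNat (nat_lit 3), .ofNat (nat_lit 2), .ofNat (nat_lit 1)], [.ofNat (nat_lit 1), .ofNat (nat_lit 2), .ofNat (nat_lit 2), .ofNat (nat_lit 4), .ofNat (nat_lit 3), .ofNat (nat_lit 2), .ofNat (nat_lit 1), .ofNat (nat_lit 1)], [.ofNat (nat_lit 1), .ofNat (nat_lit 2), .ofNat (nat_lit 2), .ofNat (nat_lit 4), .ofNat (nat_lit 3), .ofNat (nat_lit 2), .ofNat (nat_lit 2), .ofNat (nat_lit 1)], [.ofNat (nat_lit 1), .ofNat (nat_lit 2), .ofNat (nat_lit 2), .ofNat (nat_lit 4), .ofNat (nat_lit 3), .ofNat (nat_lit 3), .ofNat (nat_lit 2), .ofNat (nat_lit 1)], [.ofNat (nat_lit 1), .ofNat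 (nat_lit 2), .ofNat (nat_lit 2), .ofNat (nat_lit 4), .ofNat (nat_lit 4), .ofNat (nat_lit 3), .ofNat (nat_lit 2), .ofNat (nat_lit 1)], [.ofNat (nat_lit 1), .ofNat (nat_lit 2), .ofNat (nat_lit 3), .ofNat (nat_lit 4), .ofNat (nat_lit 3), .ofNat (nat_lit 2), .ofNat (nat_lit 1), .ofNat (nat_lit 1)], [.ofNat (nat_lit 1), .ofNat (nat_lit 2), .ofNat (nat_lit 3), .ofNat (nat_lit 4), .ofNat (nat_lit 3), .ofNat (nat_lit 2), .ofNat (nat_lit 2), .ofNat (nat_lit 1)], [.ofNat (nat_lit 1), .ofNat (nat_lit 2), .ofNat (nat_lit 3), .ofNat (nat_lit 4), .ofNat (nat_lit 3), .ofNat (nat_lit 3), .ofNat (nat_lit 2), .ofNat (nat_lit 1)], [.ofNat (nat_lit 1), .ofNat (nat_lit 2), .ofNat (nat_lit 3), .ofNat (nat_lit 4), .ofNat (nat_lit 4), .ofNat (nat_lit 3), .ofNat (nat_lit 2), .ofNat (nat_lit 1)], [.ofNat (nat_lit 1), .ofNat (nat_lit 2), .ofNat (nat_lit 3), .ofNat (nat_lit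 5), .ofNat (nat_lit 4), .ofNat (nat_lit 3), .ofNat (nat_lit 2), .ofNat (nat_lit 1)], [.ofNat (nat_lit 1), .ofNat (nat_lit 3), .ofNat (nat_lit 3), .ofNat (nat_lit 5), .ofNat (nat_lit 4), .ofNat (nat_lit 3), .ofNat (nat_lit 2), .ofNat (nat_lit 1)], [.ofNat (nat_lit 2), .ofNat (nat_lit 2), .ofNat (nat_lit 3), .ofNat (nat_lit 4), .ofNat (nat_lit 3), .ofNat (nat_lit 2), .ofNat (nat_lit 1), .ofNat (nat_lit 1)], [.ofNat (nat_lit 2), .ofNat (nat_lit 2), .ofNat (nat_lit 3), .ofNat (nat_lit 4), .ofNat (nat_lit 3), .ofNat (nat_lit 2), .ofNat (nat_lit 2), .ofNat (nat_lit 1)], [.ofNat (nat_lit 2), .ofNat (nat_lit 2), .ofNat (nat_lit 3), .ofNat (nat_lit 4), .ofNat (nat_lit 3), .ofNat (nat_lit 3), .ofNat (nat_lit 2), .ofNat (nat_lit 1)], [.ofNat (nat_lit 2), .ofNat (nat_lit 2), .ofNat (nat_lit 3), .ofNat (nat_lit 4), .ofNat (nat_lit 4), .ofNat (nat_lit 3), .ofNat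 (nat_lit 2), .ofNat (nat_lit 1)], [.ofNat (nat_lit 2), .ofNat (nat_lit 2), .ofNat (nat_lit 3), .ofNat (nat_lit 5), .ofNat (nat_lit 4), .ofNat (nat_lit 3), .ofNat (nat_lit 2), .ofNat (nat_lit 1)], [.ofNat (nat_lit 2), .ofNat (nat_lit 2), .ofNat (nat_lit 4), .ofNat (nat_lit 5), .ofNat (nat_lit 4), .ofNat (nat_lit 3), .ofNat (nat_lit 2), .ofNat (nat_lit 1)], [.ofNat (nat_lit 2), .ofNat (nat_lit 3), .ofNat (nat_lit 3), .ofNat (nat_lit 5), .ofNat (nat_lit 4), .ofNat (nat_lit 3), .ofNat (nat_lit 2), .ofNat (nat_lit 1)], [.ofNat (nat_lit 2), .ofNat (nat_lit 3), .ofNat (nat_lit 4), .ofNat (nat_lit 5), .ofNat (nat_lit 4), .ofNat (nat_lit 3), .ofNat (nat_lit 2), .ofNat (nat_lit 1)], [.ofNat (nat_lit 2), .ofNat (nat_lit 3), .ofNat (nat_lit 4), .ofNat (nat_lit 6), .ofNat (nat_lit 4), .ofNat (nat_lit 3), .ofNat (nat_lit 2), .ofNat (nat_lit 1)], [.ofNat (nat_lit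 2), .ofNat (nat_lit 3), .ofNat (nat_lit 4), .ofNat (nat_lit 6), .ofNat (nat_lit 5), .ofNat (nat_lit 3), .ofNat (nat_lit 2), .ofNat (nat_lit 1)], [.ofNat (nat_lit 2), .ofNat (nat_lit 3), .ofNat (nat_lit 4), .ofNat (nat_lit 6), .ofNat (nat_lit 5), .ofNat (nat_lit 4), .ofNat (nat_lit 2), .ofNat (nat_lit 1)], [.ofNat (nat_lit 2), .ofNat (nat_lit 3), .ofNat (nat_lit 4), .ofNat (nat_lit 6), .ofNat (nat_lit 5), .ofNat (nat_lit 4), .ofNat (nat_lit 3), .ofNat (nat_lit 1)], [.ofNat (nat_lit 2), .ofNat (nat_lit 3), .ofNat (nat_lit 4), .ofNat (nat_lit 6), .ofNat (nat_lit 5), .ofNat (nat_lit 4), .ofNat (nat_lit 3), .ofNat (nat_lit 2)]]]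
def C0 : List (List ℤ × List ℕ × ℕ) := [([.ofNat (nat_lit 1), .ofNat (nat_lit 0), .ofNat (nat_lit 0), .ofNat (nat_lit 0), .ofNat (nat_lit 0), .ofNat (nat_lit 0), .ofNat (nat_lit 0), .ofNat (nat_lit 0)], [], nat_lit 0),
  ([.negSucc (nat_lit 0), .ofNat (nat_lit 0), .ofNat (nat_lit 0), .ofNat (nat_lit 0), .ofNat (nat_lit 0), .ofNat (nat_lit 0), .ofNat (nat_lit 0), .ofNat (nat_lit 2)], [nat_lit 0, nat_lit 2, nat_lit 3, nat_lit 1, nat_lit 4, nat_lit 3, nat_lit 2, nat_lit 0, nat_lit 5, nat_lit 4, nat_lit 3, nat_lit 1, nat_lit 2, nat_lit 3, nat_lit 4, nat_lit 5, nat_lit 6, nat_lit 5, nat_lit 4, nat_lit 3, nat_lit 1, nat_lit 2, nat_lit 0, nat_lit 3, nat_lit 2, nat_lit 4, nat_lit 3, nat_lit 1, nat_lit 5, nat_lit 4, nat_lit 3, nat_lit 2, nat_lit 0], nat_lit 1),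
  ([.negSucc (nat_lit 0), .ofNat (nat_lit 0), .ofNat (nat_lit 0), .ofNat (nat_lit 0), .ofNat (nat_lit 0), .ofNat (nat_lit 0), .ofNat (nat_lit 2), .negSucc (nat_lit 1)], [nat_lit 0, nat_lit 2, nat_lit 3, nat_lit 1, nat_lit 4, nat_lit 3, nat_lit 2, nat_lit 0, nat_lit 5, nat_lit 4, nat_lit 3, nat_lit 1, nat_lit 2, nat_lit 3, nat_lit 4, nat_lit 5, nat_lit 6, nat_lit 5, nat_lit 4, nat_lit 3, nat_lit 1, nat_lit 2, nat_lit 0, nat_lit 3, nat_lit 2, nat_lit 4, nat_lit 3, nat_lit 1, nat_lit 5, nat_lit 4, nat_lit 3, nat_lit 2, nat_lit 0, nat_lit 7], nat_lit 2),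
  ([.negSucc (nat_lit 0), .ofNat (nat_lit 0), .ofNat (nat_lit 0), .ofNat (nat_lit 0), .ofNat (nat_lit 0), .ofNat (nat_lit 2), .negSucc (nat_lit 1), .ofNat (nat_lit 0)], [nat_lit 0, nat_lit 2, nat_lit 3, nat_lit 1, nat_lit 4, nat_lit 3, nat_lit 2, nat_lit 0, nat_lit 5, nat_lit 4, nat_lit 3, nat_lit 1, nat_lit 2, nat_lit 3, nat_lit 4, nat_lit 5, nat_lit 6, nat_lit 5, nat_lit 4, nat_lit 3, nat_lit 1, nat_lit 2, nat_lit 0, nat_lit 3, nat_lit 2, nat_lit 4, nat_lit 3, nat_lit 1, nat_lit 5, nat_lit 4, nat_lit 3, nat_lit 2, nat_lit 0, nat_lit 7, nat_lit 6], nat_lit 3),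
  ([.negSucc (nat_lit 0), .ofNat (nat_lit 0), .ofNat (nat_lit 0), .ofNat (nat_lit 0), .ofNat (nat_lit 2), .negSucc (nat_lit 1), .ofNat (nat_lit 0), .ofNat (nat_lit 0)], [nat_lit 0, nat_lit 2, nat_lit 3, nat_lit 1, nat_lit 4, nat_lit 3, nat_lit 2, nat_lit 0, nat_lit 5, nat_lit 4, nat_lit 3, nat_lit 1, nat_lit 2, nat_lit 3, nat_lit 4, nat_lit 5, nat_lit 6, nat_lit 5, nat_lit 4, nat_lit 3, nat_lit 1, nat_lit 2, nat_lit 0, nat_lit 3, nat_lit 2, nat_lit 4, nat_lit 3, nat_lit 1, nat_lit 5, nat_lit 4, nat_lit 3, nat_lit 2, nat_lit 0, nat_lit 7, nat_lit 6, nat_lit 5], nat_lit 4),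
  ([.negSucc (nat_lit 0), .ofNat (nat_lit 0), .ofNat (nat_lit 0), .ofNat (nat_lit 2), .negSucc (nat_lit 1), .ofNat (nat_lit 0), .ofNat (nat_lit 0), .ofNat (nat_lit 0)], [nat_lit 0, nat_lit 2, nat_lit 3, nat_lit 1, nat_lit 4, nat_lit 3, nat_lit 2, nat_lit 0, nat_lit 5, nat_lit 4, nat_lit 3, nat_lit 1, nat_lit 2, nat_lit 3, nat_lit 4, nat_lit 5, nat_lit 6, nat_lit 5, nat_lit 4, nat_lit 3, nat_lit 1, nat_lit 2, nat_lit 0, nat_lit 3, nat_lit 2, nat_lit 4, nat_lit 3, nat_lit 1, nat_lit 5, nat_lit 4, nat_lit 3, nat_lit 2, nat_lit 0, nat_lit 7, nat_lit 6, nat_lit 5, nat_lit 4], nat_lit 5),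
  ([.negSucc (nat_lit 0), .ofNat (nat_lit 2), .ofNat (nat_lit 2), .negSucc (nat_lit 1), .ofNat (nat_lit 0), .ofNat (nat_lit 0), .ofNat (nat_lit 0), .ofNat (nat_lit 0)], [nat_lit 0, nat_lit 2, nat_lit 3, nat_lit 1, nat_lit 4, nat_lit 3, nat_lit 2, nat_lit 0, nat_lit 5, nat_lit 4, nat_lit 3, nat_lit 1, nat_lit 2, nat_lit 3, nat_lit 4, nat_lit 5, nat_lit 6, nat_lit 5, nat_lit 4, nat_lit 3, nat_lit 1, nat_lit 2, nat_lit 0, nat_lit 3, nat_lit 2, nat_lit 4, nat_lit 3, nat_lit 1, nat_lit 5, nat_lit 4, nat_lit 3, nat_lit 2, nat_lit 0, nat_lit 7, nat_lit 6, nat_lit 5, nat_lit 4, nat_lit 3], nat_lit 6),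
  ([.negSucc (nat_lit 0), .negSucc (nat_lit 1), .ofNat (nat_lit 2), .ofNat (nat_lit 0), .ofNat (nat_lit 0), .ofNat (nat_lit 0), .ofNat (nat_lit 0), .ofNat (nat_lit 0)], [nat_lit 0, nat_lit 2, nat_lit 3, nat_lit 1, nat_lit 4, nat_lit 3, nat_lit 2, nat_lit 0, nat_lit 5, nat_lit 4, nat_lit 3, nat_lit 1, nat_lit 2, nat_lit 3, nat_lit 4, nat_lit 5, nat_lit 6, nat_lit 5, nat_lit 4, nat_lit 3, nat_lit 1, nat_lit 2, nat_lit 0, nat_lit 3, nat_lit 2, nat_lit 4, nat_lit 3, nat_lit 1, nat_lit 5, nat_lit 4, nat_lit 3, nat_lit 2, nat_lit 0, nat_lit 7, nat_lit 6, nat_lit 5, nat_lit 4, nat_lit 3, nat_lit 1], nat_lit 7),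
  ([.ofNat (nat_lit 1), .ofNat (nat_lit 2), .negSucc (nat_lit 1), .ofNat (nat_lit 0), .ofNat (nat_lit 0), .ofNat (nat_lit 0), .ofNat (nat_lit 0), .ofNat (nat_lit 0)], [nat_lit 0, nat_lit 2, nat_lit 3, nat_lit 1, nat_lit 4, nat_lit 3, nat_lit 2, nat_lit 0, nat_lit 5, nat_lit 4, nat_lit 3, nat_lit 1, nat_lit 2, nat_lit 3, nat_lit 4, nat_lit 5, nat_lit 6, nat_lit 5, nat_lit 4, nat_lit 3, nat_lit 1, nat_lit 2, nat_lit 0, nat_lit 3, nat_lit 2, nat_lit 4, nat_lit 3, nat_lit 1, nat_lit 5, nat_lit 4, nat_lit 3, nat_lit 2, nat_lit 0, nat_lit 7, nat_lit 6, nat_lit 5, nat_lit 4, nat_lit 3, nat_lit 2], nat_lit 7),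
  ([.ofNat (nat_lit 1), .negSucc (nat_lit 1), .negSucc (nat_lit 1), .ofNat (nat_lit 2), .ofNat (nat_lit 0), .ofNat (nat_lit 0), .ofNat (nat_lit 0), .ofNat (nat_lit 0)], [nat_lit 0, nat_lit 2, nat_lit 3, nat_lit 1, nat_lit 4, nat_lit 3, nat_lit 2, nat_lit 0, nat_lit 5, nat_lit 4, nat_lit 3, nat_lit 1, nat_lit 2, nat_lit 3, nat_lit 4, nat_lit 5, nat_lit 6, nat_lit 5, nat_lit 4, nat_lit 3, nat_lit 1, nat_lit 2, nat_lit 0, nat_lit 3, nat_lit 2, nat_lit 4, nat_lit 3, nat_lit 1, nat_lit 5, nat_lit 4, nat_lit 3, nat_lit 2, nat_lit 0, nat_lit 7, nat_lit 6, nat_lit 5, nat_lit 4, nat_lit 3, nat_lit 1, nat_lit 2], nat_lit 8),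
  ([.ofNat (nat_lit 1), .ofNat (nat_lit 0), .ofNat (nat_lit 0), .negSucc (nat_lit 1), .ofNat (nat_lit 2), .ofNat (nat_lit 0), .ofNat (nat_lit 0), .ofNat (nat_lit 0)], [nat_lit 0, nat_lit 2, nat_lit 3, nat_lit 1, nat_lit 4, nat_lit 3, nat_lit 2, nat_lit 0, nat_lit 5, nat_lit 4, nat_lit 3, nat_lit 1, nat_lit 2, nat_lit 3, nat_lit 4, nat_lit 5, nat_lit 6, nat_lit 5, nat_lit 4, nat_lit 3, nat_lit 1, nat_lit 2, nat_lit 0, nat_lit 3, nat_lit 2, nat_lit 4, nat_lit 3, nat_lit 1, nat_lit 5, nat_lit 4, nat_lit 3, nat_lit 2, nat_lit 0, nat_lit 7, nat_lit 6, nat_lit 5, nat_lit 4, nat_lit 3, nat_lit 1, nat_lit 2, nat_lit 3], nat_lit 9),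
  ([.ofNat (nat_lit 1), .ofNat (nat_lit 0), .ofNat (nat_lit 0), .ofNat (nat_lit 0), .negSucc (nat_lit 1), .ofNat (nat_lit 2), .ofNat (nat_lit 0), .ofNat (nat_lit 0)], [nat_lit 0, nat_lit 2, nat_lit 3, nat_lit 1, nat_lit 4, nat_lit 3, nat_lit 2, nat_lit 0, nat_lit 5, nat_lit 4, nat_lit 3, nat_lit 1, nat_lit 2, nat_lit 3, nat_lit 4, nat_lit 5, nat_lit 6, nat_lit 5, nat_lit 4, nat_lit 3, nat_lit 1, nat_lit 2, nat_lit 0, nat_lit 3, nat_lit 2, nat_lit 4, nat_lit 3, nat_lit 1, nat_lit 5, nat_lit 4, nat_lit 3, nat_lit 2, nat_lit 0, nat_lit 7, nat_lit 6, nat_lit 5, nat_lit 4, nat_lit 3, nat_lit 1, nat_lit 2, nat_lit 3, nat_lit 4], nat_lit 10),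
  ([.ofNat (nat_lit 1), .ofNat (nat_lit 0), .ofNat (nat_lit 0), .ofNat (nat_lit 0), .ofNat (nat_lit 0), .negSucc (nat_lit 1), .ofNat (nat_lit 2), .ofNat (nat_lit 0)], [nat_lit 0, nat_lit 2, nat_lit 3, nat_lit 1, nat_lit 4, nat_lit 3, nat_lit 2, nat_lit 0, nat_lit 5, nat_lit 4, nat_lit 3, nat_lit 1, nat_lit 2, nat_lit 3, nat_lit 4, nat_lit 5, nat_lit 6, nat_lit 5, nat_lit 4, nat_lit 3, nat_lit 1, nat_lit 2, nat_lit 0, nat_lit 3, nat_lit 2, nat_lit 4, nat_lit 3, nat_lit 1, nat_lit 5, nat_lit 4, nat_lit 3, nat_lit 2, nat_lit 0, nat_lit 7, nat_lit 6, nat_lit 5, nat_lit 4, nat_lit 3, nat_lit 1, nat_lit 2, nat_lit 3, nat_lit 4, nat_lit 5], nat_lit 11),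
  ([.ofNat (nat_lit 1), .ofNat (nat_lit 0), .ofNat (nat_lit 0), .ofNat (nat_lit 0), .ofNat (nat_lit 0), .ofNat (nat_lit 0), .negSucc (nat_lit 1), .ofNat (nat_lit 2)], [nat_lit 0, nat_lit 2, nat_lit 3, nat_lit 1, nat_lit 4, nat_lit 3, nat_lit 2, nat_lit 0, nat_lit 5, nat_lit 4, nat_lit 3, nat_lit 1, nat_lit 2, nat_lit 3, nat_lit 4, nat_lit 5, nat_lit 6, nat_lit 5, nat_lit 4, nat_lit 3, nat_lit 1, nat_lit 2, nat_lit 0, nat_lit 3, nat_lit 2, nat_lit 4, nat_lit 3, nat_lit 1, nat_lit 5, nat_lit 4, nat_lit 3, nat_lit 2, nat_lit 0, nat_lit 7, nat_lit 6, nat_lit 5, nat_lit 4, nat_lit 3, nat_lit 1, nat_lit 2, nat_lit 3, nat_lit 4, nat_lit 5, nat_lit 6], nat_lit 12),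
  ([.ofNat (nat_lit 1), .ofNat (nat_lit 0), .ofNat (nat_lit 0), .ofNat (nat_lit 0), .ofNat (nat_lit 0), .ofNat (nat_lit 0), .ofNat (nat_lit 0), .negSucc (nat_lit 1)], [nat_lit 0, nat_lit 2, nat_lit 3, nat_lit 1, nat_lit 4, nat_lit 3, nat_lit 2, nat_lit 0, nat_lit 5, nat_lit 4, nat_lit 3, nat_lit 1, nat_lit 2, nat_lit 3, nat_lit 4, nat_lit 5, nat_lit 6, nat_lit 5, nat_lit 4, nat_lit 3, nat_lit 1, nat_lit 2, nat_lit 0, nat_lit 3, nat_lit 2, nat_lit 4, nat_lit 3, nat_lit 1, nat_lit 5, nat_lit 4, nat_lit 3, nat_lit 2, nat_lit 0, nat_lit 7, nat_lit 6, nat_lit 5, nat_lit 4, nat_lit 3, nat_lit 1, nat_lit 2, nat_lit 3, nat_lit 4, nat_lit 5, nat_lit 6, nat_lit 7], nat_lit 13),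
  ([.negSucc (nat_lit 0), .ofNat (nat_lit 0), .ofNat (nat_lit 0), .ofNat (nat_lit 0), .ofNat (nat_lit 0), .ofNat (nat_lit 0), .ofNat (nat_lit 0), .ofNat (nat_lit 0)], [nat_lit 0, nat_lit 2, nat_lit 3, nat_lit 1, nat_lit 4, nat_lit 3, nat_lit 2, nat_lit 0, nat_lit 5, nat_lit 4, nat_lit 3, nat_lit 1, nat_lit 2, nat_lit 3, nat_lit 4, nat_lit 5, nat_lit 6, nat_lit 5, nat_lit 4, nat_lit 3, nat_lit 1, nat_lit 2, nat_lit 0, nat_lit 3, nat_lit 2, nat_lit 4, nat_lit 3, nat_lit 1, nat_lit 5, nat_lit 4, nat_lit 3, nat_lit 2, nat_lit 0, nat_lit 7, nat_lit 6, nat_lit 5, nat_lit 4, nat_lit 3, nat_lit 1, nat_lit 2, nat_lit 0, nat_lit 3, nat_lit 2, nat_lit 4, nat_lit 3, nat_lit 1, nat_lit 5, nat_lit 4, nat_lit 3, nat_lit 2, nat_lit 0, nat_lit 6, nat_lit 5, nat_lit 4, nat_lit 3, nat_lit 1, nat_lit 2, nat_lit 3, nat_lit 4, nat_lit 5, nat_lit 7, nat_lit 6, nat_lit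 5, nat_lit 4, nat_lit 3, nat_lit 1, nat_lit 2, nat_lit 0, nat_lit 3, nat_lit 2, nat_lit 4, nat_lit 3, nat_lit 1, nat_lit 5, nat_lit 4, nat_lit 3, nat_lit 2, nat_lit 0], nat_lit 14)]
theorem hRL0 : ∀ n < 8, ∀ c ∈ RL0.getD n [], c.length ≤ n + 1 ∧ ∃ r < 240, ∀ k < 8, cO TE8.MO r k = c.getD k 0 := by decide +kernel
theorem hb0 : ∀ r < 240, -2 ≤ cO TE8.MO r 0 ∧ cO TE8.MO r 0 ≤ 2 := by decide +kernel
theorem hS0 : srch 0 RL0 (C0.map Prod.fst) 8 [] = true := by decide +kernel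
theorem hnd0 : (C0.map Prod.fst).Nodup := by decide +kernel
theorem hC10 : ∀ x ∈ C0, (∀ i ∈ x.2.1, i < 8) ∧ x.2.1.foldl (fun c i => pact PE8.A i c) (punit 8 0) = x.1 := by decide +kernel
theorem hC20 : ∀ x ∈ C0, ∀ m < 8, (x.1.getD m 0 - (if m = 0 then 1 else 0)) % 2 = 0 := by decide +kernel
theorem hC30 : ∀ x ∈ C0, ((List.range' 120 120).filter fun r => decide (cO TE8.MO r 0 % 2 = 0) &&
      decide ((∑ m ∈ Finset.range 8, cO TE8.MO r m * x.1.getD m 0) < 0)).length = x.2.2 := by decide +kernel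
theorem hE0 : ((List.range' 120 120).filter fun r => decide (cO TE8.MO r 0 % 2 = 0)).length = 56 := by decide +kernel
theorem he0 : C0.map (fun x => x.2.2) = [0, 1, 2, 3, 4, 5, 6, 7, 7, 8, 9, 10, 11, 12, 13, 14] := by decide +kernel
theorem wt0 {R : Type*} [CommRing R] (q : R) : (∑ᶠ w ∈ WT TE8.good 0, q ^ lt TE8.good 0 w) =
    (([0, 1, 2, 3, 4, 5, 6, 7, 7, 8, 9, 10, 11, 12, 13, 14] : List ℕ).map fun e => q ^ e).sum * ∑ᶠ w ∈ (Wn TE8.good [1, 2, 3, 4, 5, 6, 7] : Set TE8.good.W), q ^ len TE8.good.s w := by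
  rw [← he0]
  exact wt_step TE8.good PE8.hA PE8.hAl (I := [0, 1, 2, 3, 4, 5, 6, 7]) (J := [1, 2, 3, 4, 5, 6, 7]) (j := 0) (show 0 < 8 by decide)
    (by intro i; change _ ↔ i < 8; simp; omega) (by intro i; change _ ↔ i < 8 ∧ _; simp; omega)
    hb0 hRL0 hS0 hnd0 hC10 (fun x hx m hm => Int.even_iff.2 (hC20 x hx m hm)) hC30 q
theorem hmA7 : ∀ m < 8, (∑ k ∈ Finset.range 8, if Nat.testBit 82 k then (PE8.A.getD k []).getD m 0 else 0) % 2 =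
    if Nat.testBit (2 ^ 7) m then 1 else 0 := by decide +kernel
theorem hm7 {F : Type*} [Field F] : hv chevE8 F (cO TE8.MO) (2 ^ 7) ∈ chevE8.diagonalSubgroup F := by
  apply hv_mem TE8.good (u := 82)
  intro m hm
  rw [← hmA7 m hm]
  congr 1
  refine Finset.sum_congr rfl fun k hk => ?_
  rw [Finset.mem_range] at hk
  rw [PE8.hA k hk m hm]
abbrev RL7 := RL0
def C7 : List (List ℤ × List ℕ × ℕ) := [([.ofNat (nat_lit 0), .ofNat (nat_lit 0), .ofNat (nat_lit 0), .ofNat (nat_lit 0), .ofNat (nat_lit 0), .ofNat (nat_lit 0), .ofNat (nat_lit 0), .ofNat (nat_lit 1)], [], nat_lit 0),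
  ([.ofNat (nat_lit 0), .ofNat (nat_lit 0), .ofNat (nat_lit 0), .ofNat (nat_lit 0), .ofNat (nat_lit 0), .ofNat (nat_lit 0), .ofNat (nat_lit 0), .negSucc (nat_lit 0)], [nat_lit 7, nat_lit 6, nat_lit 5, nat_lit 4, nat_lit 3, nat_lit 1, nat_lit 2, nat_lit 0, nat_lit 3, nat_lit 2, nat_lit 4, nat_lit 3, nat_lit 1, nat_lit 5, nat_lit 4, nat_lit 3, nat_lit 2, nat_lit 0, nat_lit 6, nat_lit 5, nat_lit 4, nat_lit 3, nat_lit 1, nat_lit 2, nat_lit 3, nat_lit 4, nat_lit 5, nat_lit 6, nat_lit 7, nat_lit 6, nat_lit 5, nat_lit 4, nat_lit 3, nat_lit 1, nat_lit 2, nat_lit 0, nat_lit 3, nat_lit 2, nat_lit 4, nat_lit 3, nat_lit 1, nat_lit 5, nat_lit 4, nat_lit 3, nat_lit 2, nat_lit 0, nat_lit 6, nat_lit 5, nat_lit 4, nat_lit 3, nat_lit 1, nat_lit 2, nat_lit 3, nat_lit 4, nat_lit 5, nat_lit 6, nat_lit 7], nat_lit 1)]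
theorem hRL7 : ∀ n < 8, ∀ c ∈ RL7.getD n [], c.length ≤ n + 1 ∧ ∃ r < 240, ∀ k < 8, cO TE8.MO r k = c.getD k 0 := hRL0
theorem hb7 : ∀ r < 240, -2 ≤ cO TE8.MO r 7 ∧ cO TE8.MO r 7 ≤ 2 := by decide +kernel
theorem hS7 : srch 7 RL7 (C7.map Prod.fst) 8 [] = true := by decide +kernel
theorem hnd7 : (C7.map Prod.fst).Nodup := by decide +kernel
theorem hC17 : ∀ x ∈ C7, (∀ i ∈ x.2.1, i < 8) ∧ x.2.1.foldl (fun c i => pact PE8.A i c) (punit 8 7) = x.1 := by decide +kernel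
theorem hC27 : ∀ x ∈ C7, ∀ m < 8, (x.1.getD m 0 - (if m = 7 then 1 else 0)) % 2 = 0 := by decide +kernel
theorem hC37 : ∀ x ∈ C7, ((List.range' 120 120).filter fun r => decide (cO TE8.MO r 7 % 2 = 0) &&
      decide ((∑ m ∈ Finset.range 8, cO TE8.MO r m * x.1.getD m 0) < 0)).length = x.2.2 := by decide +kernel
theorem hE7 : ((List.range' 120 120).filter fun r => decide (cO TE8.MO r 7 % 2 = 0)).length = 64 := by decide +kernel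
theorem he7 : C7.map (fun x => x.2.2) = [0, 1] := by decide +kernel
theorem wt7 {R : Type*} [CommRing R] (q : R) : (∑ᶠ w ∈ WT TE8.good 7, q ^ lt TE8.good 7 w) =
    (([0, 1] : List ℕ).map fun e => q ^ e).sum * ∑ᶠ w ∈ (Wn TE8.good [0, 1, 2, 3, 4, 5, 6] : Set TE8.good.W), q ^ len TE8.good.s w := by
  rw [← he7]
  exact wt_step TE8.good PE8.hA PE8.hAl (I := [0, 1, 2, 3, 4, 5, 6, 7]) (J := [0, 1, 2, 3, 4, 5, 6]) (j := 7) (show 7 < 8 by decide)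
    (by intro i; change _ ↔ i < 8; simp; omega) (by intro i; change _ ↔ i < 8 ∧ _; simp; omega)
    hb7 hRL7 hS7 hnd7 hC17 (fun x hx m hm => Int.even_iff.2 (hC27 x hx m hm)) hC37 q
def T0 : List (List (List ℤ)) := [[[.ofNat (nat_lit 0), .ofNat (nat_lit 0), .ofNat (nat_lit 0), .ofNat (nat_lit 0), .ofNat (nat_lit 0), .ofNat (nat_lit 0), .ofNat (nat_lit 0), .ofNat (nat_lit 1)]],
  [[.ofNat (nat_lit 0), .ofNat (nat_lit 0), .ofNat (nat_lit 0), .ofNat (nat_lit 0), .ofNat (nat_lit 0), .ofNat (nat_lit 0), .ofNat (nat_lit 1), .negSucc (nat_lit 0)]],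
  [[.ofNat (nat_lit 0), .ofNat (nat_lit 0), .ofNat (nat_lit 0), .ofNat (nat_lit 0), .ofNat (nat_lit 0), .ofNat (nat_lit 1), .negSucc (nat_lit 0), .ofNat (nat_lit 0)]],
  [[.ofNat (nat_lit 0), .ofNat (nat_lit 0), .ofNat (nat_lit 0), .ofNat (nat_lit 0), .ofNat (nat_lit 1), .negSucc (nat_lit 0), .ofNat (nat_lit 0), .ofNat (nat_lit 0)]],
  [[.ofNat (nat_lit 0), .ofNat (nat_lit 0), .ofNat (nat_lit 0), .ofNat (nat_lit 1), .negSucc (nat_lit 0), .ofNat (nat_lit 0), .ofNat (nat_lit 0), .ofNat (nat_lit 0)]],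
  [[.ofNat (nat_lit 0), .ofNat (nat_lit 1), .ofNat (nat_lit 1), .negSucc (nat_lit 0), .ofNat (nat_lit 0), .ofNat (nat_lit 0), .ofNat (nat_lit 0), .ofNat (nat_lit 0)]],
  [[.ofNat (nat_lit 0), .negSucc (nat_lit 0), .ofNat (nat_lit 1), .ofNat (nat_lit 0), .ofNat (nat_lit 0), .ofNat (nat_lit 0), .ofNat (nat_lit 0), .ofNat (nat_lit 0)], [.ofNat (nat_lit 1), .ofNat (nat_lit 1), .negSucc (nat_lit 0), .ofNat (nat_lit 0), .ofNat (nat_lit 0), .ofNat (nat_lit 0), .ofNat (nat_lit 0), .ofNat (nat_lit 0)]],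
  [[.ofNat (nat_lit 1), .negSucc (nat_lit 0), .negSucc (nat_lit 0), .ofNat (nat_lit 1), .ofNat (nat_lit 0), .ofNat (nat_lit 0), .ofNat (nat_lit 0), .ofNat (nat_lit 0)]],
  [[.ofNat (nat_lit 1), .ofNat (nat_lit 0), .ofNat (nat_lit 0), .negSucc (nat_lit 0), .ofNat (nat_lit 1), .ofNat (nat_lit 0), .ofNat (nat_lit 0), .ofNat (nat_lit 0)]],
  [[.ofNat (nat_lit 1), .ofNat (nat_lit 0), .ofNat (nat_lit 0), .ofNat (nat_lit 0), .negSucc (nat_lit 0), .ofNat (nat_lit 1), .ofNat (nat_lit 0), .ofNat (nat_lit 0)]],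
  [[.ofNat (nat_lit 1), .ofNat (nat_lit 0), .ofNat (nat_lit 0), .ofNat (nat_lit 0), .ofNat (nat_lit 0), .negSucc (nat_lit 0), .ofNat (nat_lit 1), .ofNat (nat_lit 0)]],
  [[.ofNat (nat_lit 1), .ofNat (nat_lit 0), .ofNat (nat_lit 0), .ofNat (nat_lit 0), .ofNat (nat_lit 0), .ofNat (nat_lit 0), .negSucc (nat_lit 0), .ofNat (nat_lit 1)]],
  [[.ofNat (nat_lit 1), .ofNat (nat_lit 0), .ofNat (nat_lit 0), .ofNat (nat_lit 0), .ofNat (nat_lit 0), .ofNat (nat_lit 0), .ofNat (nat_lit 0), .negSucc (nat_lit 0)]]]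
theorem c0 : pchk PE8.A 8 7 [1, 2, 3, 4, 5, 6, 7] T0 = true := by decide +kernel
theorem l0 : T0.map List.length = [1, 1, 1, 1, 1, 1, 2, 1, 1, 1, 1, 1, 1] := by decide +kernel
theorem f0 {R : Type*} [CommRing R] (q : R) :
    (∑ᶠ w ∈ (Wn TE8.good [1, 2, 3, 4, 5, 6, 7] : Set TE8.good.W), q ^ len TE8.good.s w) =
      hor q [1, 1, 1, 1, 1, 1, 2, 1, 1, 1, 1, 1, 1] * ∑ᶠ w ∈ (Wn TE8.good [1, 2, 3, 4, 5, 6] : Set TE8.good.W), q ^ len TE8.good.s w := by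
  rw [← l0]
  exact poinc_step TE8.good PE8.hA PE8.hAl (by decide) (by decide) (by decide) (by first | (simp; done) | (simp; omega)) c0 q
def T1 : List (List (List ℤ)) := [[[.ofNat (nat_lit 0), .ofNat (nat_lit 0), .ofNat (nat_lit 0), .ofNat (nat_lit 0), .ofNat (nat_lit 0), .ofNat (nat_lit 0), .ofNat (nat_lit 1), .ofNat (nat_lit 0)]],
  [[.ofNat (nat_lit 0), .ofNat (nat_lit 0), .ofNat (nat_lit 0), .ofNat (nat_lit 0), .ofNat (nat_lit 0), .ofNat (nat_lit 1), .negSucc (nat_lit 0), .ofNat (nat_lit 1)]],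
  [[.ofNat (nat_lit 0), .ofNat (nat_lit 0), .ofNat (nat_lit 0), .ofNat (nat_lit 0), .ofNat (nat_lit 1), .negSucc (nat_lit 0), .ofNat (nat_lit 0), .ofNat (nat_lit 1)]],
  [[.ofNat (nat_lit 0), .ofNat (nat_lit 0), .ofNat (nat_lit 0), .ofNat (nat_lit 1), .negSucc (nat_lit 0), .ofNat (nat_lit 0), .ofNat (nat_lit 0), .ofNat (nat_lit 1)]],
  [[.ofNat (nat_lit 0), .ofNat (nat_lit 1), .ofNat (nat_lit 1), .negSucc (nat_lit 0), .ofNat (nat_lit 0), .ofNat (nat_lit 0), .ofNat (nat_lit 0), .ofNat (nat_lit 1)]],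
  [[.ofNat (nat_lit 0), .negSucc (nat_lit 0), .ofNat (nat_lit 1), .ofNat (nat_lit 0), .ofNat (nat_lit 0), .ofNat (nat_lit 0), .ofNat (nat_lit 0), .ofNat (nat_lit 1)], [.ofNat (nat_lit 1), .ofNat (nat_lit 1), .negSucc (nat_lit 0), .ofNat (nat_lit 0), .ofNat (nat_lit 0), .ofNat (nat_lit 0), .ofNat (nat_lit 0), .ofNat (nat_lit 1)]],
  [[.ofNat (nat_lit 1), .negSucc (nat_lit 0), .negSucc (nat_lit 0), .ofNat (nat_lit 1), .ofNat (nat_lit 0), .ofNat (nat_lit 0), .ofNat (nat_lit 0), .ofNat (nat_lit 1)]],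
  [[.ofNat (nat_lit 1), .ofNat (nat_lit 0), .ofNat (nat_lit 0), .negSucc (nat_lit 0), .ofNat (nat_lit 1), .ofNat (nat_lit 0), .ofNat (nat_lit 0), .ofNat (nat_lit 1)]],
  [[.ofNat (nat_lit 1), .ofNat (nat_lit 0), .ofNat (nat_lit 0), .ofNat (nat_lit 0), .negSucc (nat_lit 0), .ofNat (nat_lit 1), .ofNat (nat_lit 0), .ofNat (nat_lit 1)]],
  [[.ofNat (nat_lit 1), .ofNat (nat_lit 0), .ofNat (nat_lit 0), .ofNat (nat_lit 0), .ofNat (nat_lit 0), .negSucc (nat_lit 0), .ofNat (nat_lit 1), .ofNat (nat_lit 1)]],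
  [[.ofNat (nat_lit 1), .ofNat (nat_lit 0), .ofNat (nat_lit 0), .ofNat (nat_lit 0), .ofNat (nat_lit 0), .ofNat (nat_lit 0), .negSucc (nat_lit 0), .ofNat (nat_lit 2)]]]
theorem c1 : pchk PE8.A 8 6 [1, 2, 3, 4, 5, 6] T1 = true := by decide +kernel
theorem l1 : T1.map List.length = [1, 1, 1, 1, 1, 2, 1, 1, 1, 1, 1] := by decide +kernel
theorem f1 {R : Type*} [CommRing R] (q : R) :
    (∑ᶠ w ∈ (Wn TE8.good [1, 2, 3, 4, 5, 6] : Set TE8.good.W), q ^ len TE8.good.s w) =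
      hor q [1, 1, 1, 1, 1, 2, 1, 1, 1, 1, 1] * ∑ᶠ w ∈ (Wn TE8.good [1, 2, 3, 4, 5] : Set TE8.good.W), q ^ len TE8.good.s w := by
  rw [← l1]
  exact poinc_step TE8.good PE8.hA PE8.hAl (by decide) (by decide) (by decide) (by first | (simp; done) | (simp; omega)) c1 q
def T2 : List (List (List ℤ)) := [[[.ofNat (nat_lit 0), .ofNat (nat_lit 0), .ofNat (nat_lit 0), .ofNat (nat_lit 0), .ofNat (nat_lit 0), .ofNat (nat_lit 1), .ofNat (nat_lit 0), .ofNat (nat_lit 0)]],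
  [[.ofNat (nat_lit 0), .ofNat (nat_lit 0), .ofNat (nat_lit 0), .ofNat (nat_lit 0), .ofNat (nat_lit 1), .negSucc (nat_lit 0), .ofNat (nat_lit 1), .ofNat (nat_lit 0)]],
  [[.ofNat (nat_lit 0), .ofNat (nat_lit 0), .ofNat (nat_lit 0), .ofNat (nat_lit 1), .negSucc (nat_lit 0), .ofNat (nat_lit 0), .ofNat (nat_lit 1), .ofNat (nat_lit 0)]],
  [[.ofNat (nat_lit 0), .ofNat (nat_lit 1), .ofNat (nat_lit 1), .negSucc (nat_lit 0), .ofNat (nat_lit 0), .ofNat (nat_lit 0), .ofNat (nat_lit 1), .ofNat (nat_lit 0)]],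
  [[.ofNat (nat_lit 0), .negSucc (nat_lit 0), .ofNat (nat_lit 1), .ofNat (nat_lit 0), .ofNat (nat_lit 0), .ofNat (nat_lit 0), .ofNat (nat_lit 1), .ofNat (nat_lit 0)], [.ofNat (nat_lit 1), .ofNat (nat_lit 1), .negSucc (nat_lit 0), .ofNat (nat_lit 0), .ofNat (nat_lit 0), .ofNat (nat_lit 0), .ofNat (nat_lit 1), .ofNat (nat_lit 0)]],
  [[.ofNat (nat_lit 1), .negSucc (nat_lit 0), .negSucc (nat_lit 0), .ofNat (nat_lit 1), .ofNat (nat_lit 0), .ofNat (nat_lit 0), .ofNat (nat_lit 1), .ofNat (nat_lit 0)]],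
  [[.ofNat (nat_lit 1), .ofNat (nat_lit 0), .ofNat (nat_lit 0), .negSucc (nat_lit 0), .ofNat (nat_lit 1), .ofNat (nat_lit 0), .ofNat (nat_lit 1), .ofNat (nat_lit 0)]],
  [[.ofNat (nat_lit 1), .ofNat (nat_lit 0), .ofNat (nat_lit 0), .ofNat (nat_lit 0), .negSucc (nat_lit 0), .ofNat (nat_lit 1), .ofNat (nat_lit 1), .ofNat (nat_lit 0)]],
  [[.ofNat (nat_lit 1), .ofNat (nat_lit 0), .ofNat (nat_lit 0), .ofNat (nat_lit 0), .ofNat (nat_lit 0), .negSucc (nat_lit 0), .ofNat (nat_lit 2), .ofNat (nat_lit 0)]]]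
theorem c2 : pchk PE8.A 8 5 [1, 2, 3, 4, 5] T2 = true := by decide +kernel
theorem l2 : T2.map List.length = [1, 1, 1, 1, 2, 1, 1, 1, 1] := by decide +kernel
theorem f2 {R : Type*} [CommRing R] (q : R) :
    (∑ᶠ w ∈ (Wn TE8.good [1, 2, 3, 4, 5] : Set TE8.good.W), q ^ len TE8.good.s w) =
      hor q [1, 1, 1, 1, 2, 1, 1, 1, 1] * ∑ᶠ w ∈ (Wn TE8.good [1, 2, 3, 4] : Set TE8.good.W), q ^ len TE8.good.s w := by
  rw [← l2]
  exact poinc_step TE8.good PE8.hA PE8.hAl (by decide) (by decide) (by decide) (by first | (simp; done) | (simp; omega)) c2 q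

end OE8
end Cfsg.Agent.H15.OInv
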