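import Mathlib
import Cfsg.Agent.H15.StemRed
import Cfsg.Agent.H15.MathCode

/-! # Tools for Schur multipliers of permutation groups -/

set_option autoImplicit false

namespace Cfsg.Agent.H15.SchTool

open Cfsg Cfsg.Agent.H7 Cfsg.Agent.H8 Cfsg.Agent.H15.MathCode Cfsg.Agent.H15.PExtN

/-- product of codes -/
def wl : List ℕ → ℕ
  | [] => idc
  | c :: w => pmul c (wl w)

theorem wl_spec (w : List ℕ) (h : w.all isPermCode = true) :
    isPermCode (wl w) = true ∧ (w.map mkPerm).prod = mkPerm (wl w) := by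
  induction w with
  | nil => exact ⟨idc_perm, mkPerm_idc.symm⟩
  | cons c w ih =>
    rw [List.all_cons, Bool.and_eq_true] at h
    obtain ⟨h1, h2⟩ := ih h.2
    refine ⟨isPermCode_pmul h.1 h1, ?_⟩
    rw [List.map_cons, List.prod_cons, h2, wl, mkPerm_pmul h.1 h1 (isPermCode_pmul h.1 h1)]

/-- equality of words, checked on codes -/
theorem weq (u v : List ℕ) (hu : u.all isPermCode = true) (hv : v.all isPermCode = true)
    (h : Nat.beq (wl u) (wl v) = true) : (u.map mkPerm).prod = (v.map mkPerm).prod := by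
  rw [(wl_spec u hu).2, (wl_spec v hv).2, Nat.eq_of_beq_eq_true h]

/-- complement from orders -/
theorem compl_of_cards {E G : Type*} [Group E] [Group G] [Finite E] (τ : E →* G) (K : Subgroup E)
    (n : ℕ) (hup : Nat.card K ≤ n) (hlow : n ≤ Nat.card (K.map τ)) :
    (∀ k ∈ K, τ k = 1 → k = 1) ∧ Nat.card (K.map τ) = n := by
  have h1 : Function.Surjective (τ.subgroupMap K) := τ.subgroupMap_surjective K
  have h2 : Nat.card (K.map τ) ≤ Nat.card K := Nat.card_le_card_of_surjective _ h1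
  have h3 : Nat.card K = Nat.card (K.map τ) := by omega
  have hfin : Finite (K.map τ) := Finite.of_surjective _ h1
  have h4 : Function.Bijective (τ.subgroupMap K) :=
    (Nat.bijective_iff_surjective_and_card _).mpr ⟨h1, h3⟩
  refine ⟨?_, by omega⟩
  intro k hk hk1
  have h5 : τ.subgroupMap K ⟨k, hk⟩ = τ.subgroupMap K 1 := by
    apply Subtype.ext
    show τ k = τ 1
    rw [hk1, map_one]
  exact congrArg Subtype.val (h4.1 h5)

theorem index_coprime {G : Type*} [Group G] [Finite G] (P : Subgroup G) (n m p : ℕ) (h1 : Nat.card P = n)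
    (h2 : Nat.card G = n * m) (hn : 0 < n) (h3 : m.Coprime p) : P.index.Coprime p := by
  have h4 := P.card_mul_index
  rw [h1, h2] at h4
  rw [Nat.eq_of_mul_eq_mul_left hn h4]
  exact h3

/-- groups generated by two elements, exponent three -/
theorem card_le_27 {K : Type*} [Group K] (x y : K) (hx : x ^ 3 = 1) (hy : y ^ 3 = 1)
    (hxy : (x * y) ^ 3 = 1) (hxy' : (x * y⁻¹) ^ 3 = 1) :
    Finite (Subgroup.closure {x, y}) ∧ Nat.card (Subgroup.closure {x, y}) ≤ 27 := by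
  have aux : ∀ x y : K, x ^ 3 = 1 → y ^ 3 = 1 → (x * y) ^ 3 = 1 → (x * y⁻¹) ^ 3 = 1 →
      x * (y⁻¹ * x * y) = (y⁻¹ * x * y) * x := by
    intro x y hx hy h1 h2
    have e1 : y * x * y = x⁻¹ * y⁻¹ * x⁻¹ := by
      have : x * (y * x * y) * (x * y) = 1 := by
        rw [← h1]; simp only [pow_succ, pow_zero, one_mul, mul_assoc]
      calc y * x * y = x⁻¹ * (x * (y * x * y) * (x * y)) * (x * y)⁻¹ := by group
        _ = x⁻¹ * y⁻¹ * x⁻¹ := by rw [this]; group
    have e2 : y⁻¹ * x * y⁻¹ = x⁻¹ * y * x⁻¹ := by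
      have : x * (y⁻¹ * x * y⁻¹) * (x * y⁻¹) = 1 := by
        rw [← h2]; simp only [pow_succ, pow_zero, one_mul, mul_assoc]
      calc y⁻¹ * x * y⁻¹ = x⁻¹ * (x * (y⁻¹ * x * y⁻¹) * (x * y⁻¹)) * (x * y⁻¹)⁻¹ := by group
        _ = x⁻¹ * y * x⁻¹ := by rw [this]; group
    have y2 : y * y = y⁻¹ := by
      rw [eq_inv_iff_mul_eq_one]
      rw [← hy]; simp only [pow_succ, pow_zero, one_mul]
    have f1 : y⁻¹ * x * y = x⁻¹ * y * x⁻¹ * y⁻¹ := by
      calc y⁻¹ * x * y = y⁻¹ * x * y⁻¹ * (y * y) := by group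
        _ = x⁻¹ * y * x⁻¹ * y⁻¹ := by rw [e2, y2]
    have f2 : y⁻¹ * x * y = y * x⁻¹ * y⁻¹ * x⁻¹ := by
      calc y⁻¹ * x * y = (y * y) * x * y := by rw [y2]
        _ = y * (y * x * y) := by group
        _ = y * x⁻¹ * y⁻¹ * x⁻¹ := by rw [e1]; group
    calc x * (y⁻¹ * x * y) = y * x⁻¹ * y⁻¹ := by rw [f1]; group
      _ = (y⁻¹ * x * y) * x := by rw [f2]; group
  have g1 := aux x y hx hy hxy hxy'
  have hyx : (y * x) ^ 3 = 1 := by
    have : y * x = x⁻¹ * (x * y) * x⁻¹⁻¹ := by group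
    rw [this, conj_pow, hxy]; group
  have hyx' : (y * x⁻¹) ^ 3 = 1 := by
    have : y * x⁻¹ = (x * y⁻¹)⁻¹ := by group
    rw [this, inv_pow, hxy', inv_one]
  have g2 := aux y x hy hx hyx hyx'
  obtain ⟨c, hc⟩ : ∃ c, c = x⁻¹ * y⁻¹ * x * y := ⟨_, rfl⟩
  have cx : Commute c x := by
    show c * x = x * c
    rw [hc]
    calc x⁻¹ * y⁻¹ * x * y * x = x⁻¹ * ((y⁻¹ * x * y) * x) := by group
      _ = x * (x⁻¹ * y⁻¹ * x * y) := by rw [← g1]; group
  have cy : Commute c y := by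
    show c * y = y * c
    rw [hc]
    have g2' : (x⁻¹ * y⁻¹ * x) * y = y * (x⁻¹ * y⁻¹ * x) := by
      have : Commute y (x⁻¹ * y * x) := g2
      have h3 := this.inv_right
      rw [show (x⁻¹ * y * x)⁻¹ = x⁻¹ * y⁻¹ * x by group] at h3
      exact h3.symm
    calc x⁻¹ * y⁻¹ * x * y * y = (x⁻¹ * y⁻¹ * x) * y * y := by group
      _ = y * (x⁻¹ * y⁻¹ * x) * y := by rw [g2']
      _ = y * (x⁻¹ * y⁻¹ * x * y) := by group
  have hyxc : ∀ j : ℤ, y ^ j * x = x * y ^ j * c ^ (-j) := by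
    have h0 : y * x = x * y * c⁻¹ := by
      rw [hc]; group
    have h0' : y⁻¹ * x = x * y⁻¹ * c := by
      have : x⁻¹ * y * x = y * c⁻¹ := by
        calc x⁻¹ * y * x = x⁻¹ * (y * x) := by group
          _ = y * c⁻¹ := by rw [h0]; group
      have h4 : x⁻¹ * y⁻¹ * x = y⁻¹ * c := by
        calc x⁻¹ * y⁻¹ * x = (x⁻¹ * y * x)⁻¹ := by group
          _ = c * y⁻¹ := by rw [this]; group
          _ = y⁻¹ * c := (cy.inv_right).eq
      calc y⁻¹ * x = x * (x⁻¹ * y⁻¹ * x) := by group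
        _ = x * y⁻¹ * c := by rw [h4]; group
    intro j
    induction j using Int.induction_on with
    | zero => simp
    | succ j ih =>
      calc y ^ ((j : ℤ) + 1) * x = y ^ (j : ℤ) * (y * x) := by rw [zpow_add_one]; group
        _ = (y ^ (j : ℤ) * x) * (y * c⁻¹) := by rw [h0]; group
        _ = x * y ^ (j : ℤ) * (c ^ (-(j : ℤ)) * y) * c⁻¹ := by rw [ih]; group
        _ = x * y ^ (j : ℤ) * (y * c ^ (-(j : ℤ))) * c⁻¹ := by
            rw [((cy.zpow_left (-(j : ℤ))).eq)]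
        _ = x * y ^ ((j : ℤ) + 1) * c ^ (-((j : ℤ) + 1)) := by
            rw [zpow_add_one, neg_add, zpow_add, zpow_neg_one]; group
    | pred j ih =>
      calc y ^ (-(j : ℤ) - 1) * x = y ^ (-(j : ℤ)) * (y⁻¹ * x) := by rw [zpow_sub_one]; group
        _ = (y ^ (-(j : ℤ)) * x) * (y⁻¹ * c) := by rw [h0']; group
        _ = x * y ^ (-(j : ℤ)) * (c ^ (-(-(j : ℤ))) * y⁻¹) * c := by rw [ih]; group
        _ = x * y ^ (-(j : ℤ)) * (y⁻¹ * c ^ (-(-(j : ℤ)))) * c := by
            rw [((cy.inv_right.zpow_left (-(-(j : ℤ)))).eq)]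
        _ = x * y ^ (-(j : ℤ) - 1) * c ^ (-(-(j : ℤ) - 1)) := by
            rw [zpow_sub_one, show -(-(j : ℤ) - 1) = -(-(j : ℤ)) + 1 by ring, zpow_add_one]; group
  have hc3 : c ^ (3 : ℤ) = 1 := by
    have h5 := hyxc 3
    have h6 : y ^ (3 : ℤ) = 1 := by exact_mod_cast hy
    rw [h6, one_mul, mul_one] at h5
    have h7 : c ^ (-3 : ℤ) = 1 := (mul_eq_left.mp h5.symm)
    rw [zpow_neg, inv_eq_one] at h7
    exact h7
  have hform : ∀ g ∈ Subgroup.closure {x, y}, ∃ i j k : ℤ, g = x ^ i * y ^ j * c ^ k := by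
    intro g hg
    induction hg using Subgroup.closure_induction_right with
    | one => exact ⟨0, 0, 0, by simp⟩
    | mul_right a ha s hs ih =>
      obtain ⟨i, j, k, rfl⟩ := ih
      rcases hs with rfl | rfl
      · refine ⟨i + 1, j, k - j, ?_⟩
        calc s ^ i * y ^ j * c ^ k * s = s ^ i * y ^ j * (c ^ k * s) := by group
          _ = s ^ i * (y ^ j * s) * c ^ k := by rw [(cx.zpow_left k).eq]; group
          _ = _ := by
            rw [hyxc, zpow_add_one, sub_eq_neg_add, zpow_add]; group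
      · refine ⟨i, j + 1, k, ?_⟩
        calc x ^ i * s ^ j * c ^ k * s = x ^ i * s ^ j * (c ^ k * s) := by group
          _ = _ := by rw [(cy.zpow_left k).eq, zpow_add_one]; group
    | mul_inv_cancel a ha s hs ih =>
      obtain ⟨i, j, k, rfl⟩ := ih
      rcases hs with rfl | rfl
      · refine ⟨i - 1, j, k + j, ?_⟩
        have h8 : y ^ j * s⁻¹ = s⁻¹ * y ^ j * c ^ j := by
          have h9 := hyxc j
          have h10 : s⁻¹ * (y ^ j * s) = y ^ j * c ^ (-j) := by rw [h9]; group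
          calc y ^ j * s⁻¹ = s⁻¹ * (s * y ^ j * c ^ (-j)) * c ^ j * s⁻¹ := by group
            _ = s⁻¹ * (y ^ j * s) * (c ^ j * s⁻¹) := by rw [← h9]; group
            _ = s⁻¹ * (y ^ j * s) * (s⁻¹ * c ^ j) := by rw [(cx.inv_right.zpow_left j).eq]
            _ = _ := by group
        calc s ^ i * y ^ j * c ^ k * s⁻¹ = s ^ i * y ^ j * (c ^ k * s⁻¹) := by group
          _ = s ^ i * (y ^ j * s⁻¹) * c ^ k := by rw [(cx.inv_right.zpow_left k).eq]; group
          _ = _ := by rw [h8, zpow_sub_one, add_comm k j, zpow_add]; group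
      · refine ⟨i, j - 1, k, ?_⟩
        calc x ^ i * s ^ j * c ^ k * s⁻¹ = x ^ i * s ^ j * (c ^ k * s⁻¹) := by group
          _ = _ := by rw [(cy.inv_right.zpow_left k).eq, zpow_sub_one]; group
  let f : Fin 3 × Fin 3 × Fin 3 → K := fun t => x ^ (t.1 : ℤ) * y ^ (t.2.1 : ℤ) * c ^ (t.2.2 : ℤ)
  have hmod : ∀ (g : K), g ^ (3 : ℤ) = 1 → ∀ i : ℤ, ∃ r : Fin 3, g ^ i = g ^ (r : ℤ) := by
    intro g hg i
    refine ⟨⟨(i % 3).toNat, by omega⟩, ?_⟩
    have h11 : ((⟨(i % 3).toNat, by omega⟩ : Fin 3) : ℤ) = i % 3 := by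
      show (((i % 3).toNat : ℕ) : ℤ) = _
      omega
    rw [h11]
    conv_lhs => rw [← Int.emod_add_mul_ediv i 3, zpow_add, zpow_mul, hg, one_zpow, mul_one]
  have hsub : ((Subgroup.closure {x, y} : Subgroup K) : Set K) ⊆ Set.range f := by
    intro g hg
    obtain ⟨i, j, k, rfl⟩ := hform g hg
    obtain ⟨i', hi⟩ := hmod x (by exact_mod_cast hx) i
    obtain ⟨j', hj⟩ := hmod y (by exact_mod_cast hy) j
    obtain ⟨k', hk⟩ := hmod c hc3 k
    exact ⟨(i', j', k'), by rw [hi, hj, hk]⟩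
  have hfin : (Set.range f).Finite := Set.finite_range f
  refine ⟨(hfin.subset hsub), ?_⟩
  calc Nat.card (Subgroup.closure {x, y}) = ((Subgroup.closure {x, y} : Subgroup K) : Set K).ncard := rfl
    _ ≤ (Set.range f).ncard := Set.ncard_le_ncard hsub hfin
    _ ≤ Nat.card (Fin 3 × Fin 3 × Fin 3) := by
        rw [← Nat.card_coe_set_eq]
        exact Finite.card_range_le f
    _ = 27 := by simp

/-- groups generated by two commuting elements of order three -/
theorem card_le_9 {K : Type*} [Group K] (x y : K) (hx : x ^ 3 = 1) (hy : y ^ 3 = 1)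
    (hxy : x * y = y * x) :
    Finite (Subgroup.closure {x, y}) ∧ Nat.card (Subgroup.closure {x, y}) ≤ 9 := by
  have hc : Commute x y := hxy
  have hform : ∀ g ∈ Subgroup.closure {x, y}, ∃ i j : ℤ, g = x ^ i * y ^ j := by
    intro g hg
    induction hg using Subgroup.closure_induction_right with
    | one => exact ⟨0, 0, by simp⟩
    | mul_right a ha s hs ih =>
      obtain ⟨i, j, rfl⟩ := ih
      rcases hs with rfl | rfl
      · refine ⟨i + 1, j, ?_⟩
        rw [mul_assoc, ← (hc.zpow_right j).eq, zpow_add_one, mul_assoc]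
      · exact ⟨i, j + 1, by rw [zpow_add_one, mul_assoc]⟩
    | mul_inv_cancel a ha s hs ih =>
      obtain ⟨i, j, rfl⟩ := ih
      rcases hs with rfl | rfl
      · refine ⟨i - 1, j, ?_⟩
        rw [mul_assoc, ← (hc.inv_left.zpow_right j).eq, zpow_sub_one, mul_assoc]
      · exact ⟨i, j - 1, by rw [zpow_sub_one, mul_assoc]⟩
  let f : Fin 3 × Fin 3 → K := fun t => x ^ (t.1 : ℤ) * y ^ (t.2 : ℤ)
  have hmod : ∀ (g : K), g ^ (3 : ℤ) = 1 → ∀ i : ℤ, ∃ r : Fin 3, g ^ i = g ^ (r : ℤ) := by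
    intro g hg i
    refine ⟨⟨(i % 3).toNat, by omega⟩, ?_⟩
    have h11 : ((⟨(i % 3).toNat, by omega⟩ : Fin 3) : ℤ) = i % 3 := by
      show (((i % 3).toNat : ℕ) : ℤ) = _
      omega
    rw [h11]
    conv_lhs => rw [← Int.emod_add_mul_ediv i 3, zpow_add, zpow_mul, hg, one_zpow, mul_one]
  have hsub : ((Subgroup.closure {x, y} : Subgroup K) : Set K) ⊆ Set.range f := by
    intro g hg
    obtain ⟨i, j, rfl⟩ := hform g hg
    obtain ⟨i', hi⟩ := hmod x (by exact_mod_cast hx) i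
    obtain ⟨j', hj⟩ := hmod y (by exact_mod_cast hy) j
    exact ⟨(i', j'), by rw [hi, hj]⟩
  have hfin : (Set.range f).Finite := Set.finite_range f
  refine ⟨(hfin.subset hsub), ?_⟩
  calc Nat.card (Subgroup.closure {x, y}) = ((Subgroup.closure {x, y} : Subgroup K) : Set K).ncard := rfl
    _ ≤ (Set.range f).ncard := Set.ncard_le_ncard hsub hfin
    _ ≤ Nat.card (Fin 3 × Fin 3) := by
        rw [← Nat.card_coe_set_eq]
        exact Finite.card_range_le f
    _ = 9 := by simp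

/-- lower bound for the order of the image -/
theorem card_map_subtype {G : Subgroup (Equiv.Perm GolayPt)} (P : Subgroup G) (n : ℕ)
    (h : n ≤ Nat.card (P.map G.subtype)) : n ≤ Nat.card P := by
  rw [Nat.card_congr (Subgroup.equivMapOfInjective P G.subtype G.subtype_injective).toEquiv]
  exact h

theorem two_or_three {N a b m p : ℕ} (hN : N = 2 ^ a * 3 ^ b * m) (hm0 : 0 < m) (hm' : m < 10000)
    (hm : ∀ p < 100, 2 ≤ p → ¬ p * p ∣ m) (hp : p.Prime) (hd : p ^ 2 ∣ N) : p = 2 ∨ p = 3 := by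
  by_contra hcon
  push Not at hcon
  have h2 : (p ^ 2).Coprime (2 ^ a) := by
    apply Nat.Coprime.pow
    exact (Nat.coprime_primes hp Nat.prime_two).mpr hcon.1
  have h3 : (p ^ 2).Coprime (3 ^ b) := by
    apply Nat.Coprime.pow
    exact (Nat.coprime_primes hp Nat.prime_three).mpr hcon.2
  rw [hN] at hd
  have h4 := (Nat.Coprime.mul_right h2 h3).dvd_of_dvd_mul_left hd
  have h5 := Nat.le_of_dvd hm0 h4
  have h6 : p < 100 := by
    by_contra h7
    have : 100 ^ 2 ≤ p ^ 2 := Nat.pow_le_pow_left (by omega) 2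
    omega
  exact hm p h6 hp.two_le (by rw [← pow_two]; exact h4)

end Cfsg.Agent.H15.SchTool
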