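import Mathlib
import Cfsg.Agent.H15.SchTool

/-! # More tools for Schur multipliers -/

set_option autoImplicit false

namespace Cfsg.Agent.H15.SchTool

open Cfsg Cfsg.Agent.H15.PExtN

/-- commutators in a generated subgroup -/
theorem comm_closure_le {E : Type*} [Group E] (S : Set E) (N : Subgroup E)
    (hN : ∀ s ∈ S, ∀ n ∈ N, s * n * s⁻¹ ∈ N ∧ s⁻¹ * n * s ∈ N)
    (hc : ∀ s ∈ S, ∀ t ∈ S, s * t * s⁻¹ * t⁻¹ ∈ N) :
    ⁅Subgroup.closure S, Subgroup.closure S⁆ ≤ N := by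
  have h1 : ∀ g ∈ Subgroup.closure S, ∀ n ∈ N, g * n * g⁻¹ ∈ N ∧ g⁻¹ * n * g ∈ N := by
    intro g hg
    induction hg using Subgroup.closure_induction with
    | mem s hs => exact hN s hs
    | one => intro n hn; simpa using hn
    | mul a b _ _ ha hb =>
      intro n hn
      constructor
      · have := (ha _ (hb n hn).1).1
        rwa [show a * (b * n * b⁻¹) * a⁻¹ = a * b * n * (a * b)⁻¹ by group] at this
      · have := (hb _ (ha n hn).2).2
        rwa [show b⁻¹ * (a⁻¹ * n * a) * b = (a * b)⁻¹ * n * (a * b) by group] at this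
    | inv a _ ha =>
      intro n hn
      rw [inv_inv]
      exact (ha n hn).symm
  have h2 : ∀ t ∈ S, ∀ g ∈ Subgroup.closure S, g * t * g⁻¹ * t⁻¹ ∈ N := by
    intro t ht g hg
    induction hg using Subgroup.closure_induction with
    | mem s hs => exact hc s hs t ht
    | one => simpa using N.one_mem
    | mul a b ha' _ ha hb =>
      have := N.mul_mem (h1 a ha' _ hb).1 ha
      rwa [show a * (b * t * b⁻¹ * t⁻¹) * a⁻¹ * (a * t * a⁻¹ * t⁻¹) = a * b * t * (a * b)⁻¹ * t⁻¹ by group]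
        at this
    | inv a ha' ha =>
      have := (h1 a ha' _ (N.inv_mem ha)).2
      rwa [show a⁻¹ * (a * t * a⁻¹ * t⁻¹)⁻¹ * a = a⁻¹ * t * a⁻¹⁻¹ * t⁻¹ by group] at this
  rw [Subgroup.commutator_le]
  intro g hg t ht
  rw [commutatorElement_def]
  induction ht using Subgroup.closure_induction with
  | mem s hs => exact h2 s hs g hg
  | one => simpa using N.one_mem
  | mul a b ha' _ ha hb =>
    have := N.mul_mem ha (h1 a ha' _ hb).1
    rwa [show g * a * g⁻¹ * a⁻¹ * (a * (g * b * g⁻¹ * b⁻¹) * a⁻¹) = g * (a * b) * g⁻¹ * (a * b)⁻¹ by group]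
      at this
  | inv a ha' ha =>
    have := (h1 a ha' _ (N.inv_mem ha)).2
    rwa [show a⁻¹ * (g * a * g⁻¹ * a⁻¹)⁻¹ * a = g * a⁻¹ * g⁻¹ * a⁻¹⁻¹ by group] at this

theorem not_mem_of_comm_closure {E G : Type*} [Group E] [Group G] [Finite E] {p : ℕ} {τ : E →* G} {z : E}
    (h : PExt p τ z) (hp : p.Prime) (S : Set E) (N : Subgroup E)
    (hN : ∀ s ∈ S, ∀ n ∈ N, s * n * s⁻¹ ∈ N ∧ s⁻¹ * n * s ∈ N)
    (hc : ∀ s ∈ S, ∀ t ∈ S, s * t * s⁻¹ * t⁻¹ ∈ N) (hz : z ∉ N)
    (hi : ((Subgroup.closure S).map τ).index.Coprime p) : z ∉ commutator E := by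
  intro hzc
  have h1 := h.mem_comm_of_index hp hzc (((Subgroup.closure S).map τ).comap τ) (by
    rw [Subgroup.index_comap_of_surjective _ h.surj]; exact hi)
  have h2 : ⁅((Subgroup.closure S).map τ).comap τ, ((Subgroup.closure S).map τ).comap τ⁆ ≤ N := by
    rw [Subgroup.commutator_le]
    rintro x ⟨k, hk, hkx⟩ y ⟨l, hl, hly⟩
    rw [commutatorElement_def, h.comm_congr hkx.symm hly.symm]
    exact comm_closure_le S N hN hc (Subgroup.commutator_mem_commutator hk hl)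
  exact hz (h2 h1)

/-- metacyclic groups are small -/
theorem card_le_meta {K : Type*} [Group K] (s r : K) (m n : ℕ) (hm : 0 < m) (hn : 0 < n)
    (hs : s ^ m = 1) (hr : r ^ n = 1)
    (h1 : s * r * s⁻¹ ∈ Subgroup.zpowers r) (h2 : s⁻¹ * r * s ∈ Subgroup.zpowers r) :
    Finite (Subgroup.closure {s, r}) ∧ Nat.card (Subgroup.closure {s, r}) ≤ m * n := by
  have hc1 : ∀ i : ℤ, s * r ^ i * s⁻¹ ∈ Subgroup.zpowers r := by
    intro i
    rw [← conj_zpow]
    exact (Subgroup.zpowers r).zpow_mem h1 i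
  have hc2 : ∀ i : ℤ, s⁻¹ * r ^ i * s ∈ Subgroup.zpowers r := by
    intro i
    have : s⁻¹ * r ^ i * s = (s⁻¹ * r * s) ^ i := by
      have h3 := conj_zpow (i := i) (a := s⁻¹) (b := r)
      rw [inv_inv] at h3
      exact h3.symm
    rw [this]
    exact (Subgroup.zpowers r).zpow_mem h2 i
  have hform : ∀ g ∈ Subgroup.closure {s, r}, ∃ i j : ℤ, g = s ^ i * r ^ j := by
    intro g hg
    induction hg using Subgroup.closure_induction_right with
    | one => exact ⟨0, 0, by simp⟩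
    | mul_right a ha t ht ih =>
      obtain ⟨i, j, rfl⟩ := ih
      rcases ht with rfl | rfl
      · obtain ⟨k, hk⟩ := hc2 j
        refine ⟨i + 1, k, ?_⟩
        have hk' : r ^ k = t⁻¹ * r ^ j * t := hk
        rw [hk', zpow_add_one]; group
      · exact ⟨i, j + 1, by rw [zpow_add_one, mul_assoc]⟩
    | mul_inv_cancel a ha t ht ih =>
      obtain ⟨i, j, rfl⟩ := ih
      rcases ht with rfl | rfl
      · obtain ⟨k, hk⟩ := hc1 j
        refine ⟨i - 1, k, ?_⟩
        have hk' : r ^ k = t * r ^ j * t⁻¹ := hk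
        rw [hk', zpow_sub_one]; group
      · exact ⟨i, j - 1, by rw [zpow_sub_one, mul_assoc]⟩
  have : NeZero m := ⟨hm.ne'⟩
  have : NeZero n := ⟨hn.ne'⟩
  let f : Fin m × Fin n → K := fun t => s ^ (t.1 : ℕ) * r ^ (t.2 : ℕ)
  have hmod : ∀ (g : K) (n : ℕ) (_ : 0 < n), g ^ n = 1 → ∀ i : ℤ, ∃ k : Fin n, g ^ i = g ^ (k : ℕ) := by
    intro g n hn hg i
    have h5 : (0 : ℤ) < n := by exact_mod_cast hn
    have h3 := Int.emod_nonneg i h5.ne'
    have h4 := Int.emod_lt_of_pos i h5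
    refine ⟨⟨(i % n).toNat, by omega⟩, ?_⟩
    have h11 : g ^ ((⟨(i % n).toNat, by omega⟩ : Fin n) : ℕ) = g ^ (i % n) := by
      rw [← zpow_natCast]
      congr 1
      exact Int.toNat_of_nonneg h3
    rw [h11]
    conv_lhs => rw [← Int.emod_add_mul_ediv i n, zpow_add, zpow_mul, zpow_natCast, hg, one_zpow, mul_one]
  have hsub : ((Subgroup.closure {s, r} : Subgroup K) : Set K) ⊆ Set.range f := by
    intro g hg
    obtain ⟨i, j, rfl⟩ := hform g hg
    obtain ⟨i', hi⟩ := hmod s m hm hs i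
    obtain ⟨j', hj⟩ := hmod r n hn hr j
    exact ⟨(i', j'), by rw [hi, hj]⟩
  have hfin : (Set.range f).Finite := Set.finite_range f
  refine ⟨(hfin.subset hsub), ?_⟩
  calc Nat.card (Subgroup.closure {s, r}) = ((Subgroup.closure {s, r} : Subgroup K) : Set K).ncard := rfl
    _ ≤ (Set.range f).ncard := Set.ncard_le_ncard hsub hfin
    _ ≤ Nat.card (Fin m × Fin n) := by
        rw [← Nat.card_coe_set_eq]
        exact Finite.card_range_le f
    _ = m * n := by simp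

/-- commuting elements of odd order, one of them inverted -/
theorem comm_of_inv {E G : Type*} [Group E] [Group G] {p : ℕ} {τ : E →* G} {z : E}
    (h : PExt p τ z) (hp : p.Prime) (hp2 : p ≠ 2) {x y v : E} (hxy : τ x * τ y = τ y * τ x)
    (e1 : τ (v * x * v⁻¹) = τ x) (e2 : τ (v * y * v⁻¹) = τ y⁻¹) : x * y = y * x := by
  obtain ⟨m, hm⟩ : ∃ m : ℤ, x * y * x⁻¹ * y⁻¹ = z ^ m := by
    apply h.eq_zpow
    rw [map_mul, map_mul, map_mul, map_inv, map_inv, hxy]; group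
  have e3 := h.comm_congr e1 e2
  have e4 : v * x * v⁻¹ * (v * y * v⁻¹) * (v * x * v⁻¹)⁻¹ * (v * y * v⁻¹)⁻¹ = z ^ m := by
    calc _ = v * (x * y * x⁻¹ * y⁻¹) * v⁻¹ := by group
      _ = z ^ m := by rw [hm, h.centz m v]; group
  have e5 : x * y⁻¹ * x⁻¹ * y⁻¹⁻¹ = z ^ (-m) := by
    have e6 : x * y * x⁻¹ = z ^ m * y := by rw [← hm]; group
    calc x * y⁻¹ * x⁻¹ * y⁻¹⁻¹ = (x * y * x⁻¹)⁻¹ * y := by group
      _ = y⁻¹ * z ^ (-m) * y := by rw [e6]; group
      _ = z ^ (-m) := by rw [h.centz (-m) y⁻¹]; group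
  rw [e4, e5] at e3
  have e7 : z ^ (2 * m) = 1 := by
    rw [two_mul, zpow_add]
    nth_rewrite 1 [e3]
    rw [← zpow_add]; simp
  rw [h.zpow_eq_one_iff] at e7
  have e8 : (p : ℤ) ∣ m := by
    have : IsCoprime (p : ℤ) (2 : ℤ) := by
      have h5 : Nat.Coprime p 2 := (Nat.coprime_primes hp Nat.prime_two).mpr hp2
      exact_mod_cast Nat.isCoprime_iff_coprime.mpr h5
    exact this.dvd_of_dvd_mul_left e7
  rw [← h.zpow_eq_one_iff] at e8
  rw [e8, mul_inv_eq_one, mul_inv_eq_iff_eq_mul] at hm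
  exact hm

end Cfsg.Agent.H15.SchTool
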