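import Mathlib
import Cfsg.Agent.H15.SchTool2
import Cfsg.Agent.H28.MathieuBase

/-! # Coded elements of subgroups of M24 -/

set_option autoImplicit false

namespace Cfsg.Agent.H15.SchTool

open Cfsg Cfsg.Agent.H7 Cfsg.Agent.H15.MathCode

variable {G : Subgroup (Equiv.Perm GolayPt)}

/-- coded elements -/
abbrev Cd (G : Subgroup (Equiv.Perm GolayPt)) : Type := {c : ℕ // isPermCode c = true ∧ mkPerm c ∈ G}

/-- element of a code -/
noncomputable def toG (c : Cd G) : G := ⟨mkPerm c.1, c.2.2⟩

/-- product without trailing one -/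
def prd {M : Type*} [Monoid M] : List M → M
  | [] => 1
  | [a] => a
  | a :: b :: l => a * prd (b :: l)

theorem prd_eq {M : Type*} [Monoid M] (l : List M) : prd l = l.prod := by
  induction l with
  | nil => rfl
  | cons a l ih =>
    cases l with
    | nil => simp [prd]
    | cons b l => rw [prd, ih, List.prod_cons (a := a)]

theorem toG_prod (w : List (Cd G)) : ((w.map toG).prod : Equiv.Perm GolayPt) = mkPerm (wl (w.map Subtype.val)) := by
  have e : ((w.map toG).prod : Equiv.Perm GolayPt) = ((w.map Subtype.val).map mkPerm).prod := by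
    induction w with
    | nil => rfl
    | cons c w ih =>
      rw [List.map_cons, List.prod_cons, List.map_cons, List.map_cons, List.prod_cons, ← ih]; rfl
  have hp : (w.map Subtype.val).all isPermCode = true := by
    rw [List.all_eq_true]
    intro c hc
    obtain ⟨d, -, rfl⟩ := List.mem_map.1 hc
    exact d.2.1
  rw [e, (wl_spec _ hp).2]

theorem wqG (u v : List (Cd G))
    (h : Nat.beq (wl (u.map Subtype.val)) (wl (v.map Subtype.val)) = true) :
    prd (u.map toG) = prd (v.map toG) := by
  rw [prd_eq, prd_eq]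
  apply Subtype.ext
  rw [toG_prod, toG_prod, Nat.eq_of_beq_eq_true h]

theorem pwG (c : Cd G) (n : ℕ) (h : Nat.beq (wl (List.replicate n c.1)) idc = true) :
    (toG c) ^ n = 1 := by
  apply Subtype.ext
  have h1 := toG_prod (List.replicate n c)
  rw [List.map_replicate, List.prod_replicate, List.map_replicate, Nat.eq_of_beq_eq_true h, mkPerm_idc] at h1
  exact h1

theorem toG_ne {c d : Cd G} (i : ℕ) (hi : i < 24) (h : papp c.1 i ≠ papp d.1 i) : toG c ≠ toG d := by
  intro h0
  exact h (papp_eq_of_mkPerm c.2.1 d.2.1 (congrArg Subtype.val h0) hi)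

/-- checker for M12 -/
def ck12 (c : ℕ) : Bool := okPerm c && Nat.beq (pimg c H28.sqMask) H28.sqMask
/-- checker for M11 -/
def ck11 (c : ℕ) : Bool := ck12 c && Nat.beq (papp c 0) 0

theorem cd12_aux {c : ℕ} (h : ck12 c = true) : isPermCode c = true ∧ mkPerm c ∈ Spor.M12 := by
  unfold ck12 at h
  rw [Bool.and_eq_true] at h
  have hp := okPerm_isPerm h.1
  exact ⟨hp, mkPerm_mem_M24 h.1, H28.stab_sq hp h.2⟩

theorem cd11_aux {c : ℕ} (h : ck11 c = true) : isPermCode c = true ∧ mkPerm c ∈ Spor.M11 := by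
  unfold ck11 at h
  rw [Bool.and_eq_true] at h
  obtain ⟨h1, h2⟩ := cd12_aux h.1
  refine ⟨h1, h2, ?_⟩
  have := H28.stab_gpt h1 (i := 0) (by norm_num) h.2
  exact this

/-- coded element of M12 -/
def cd12 (c : ℕ) (h : ck12 c = true) : Cd Spor.M12 := ⟨c, cd12_aux h⟩
/-- coded element of M11 -/
def cd11 (c : ℕ) (h : ck11 c = true) : Cd Spor.M11 := ⟨c, cd11_aux h⟩

end Cfsg.Agent.H15.SchTool
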