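import Mathlib
import Cfsg.Agent.H15.SchTool3

/-! # Automorphisms preserving a class of point stabilisers are inner -/

set_option autoImplicit false

namespace Cfsg.Agent.H15.OutRig

open Cfsg Cfsg.Agent.H7 Cfsg.Agent.H15.SchTool Cfsg.Agent.H15.MathCode
open scoped Pointwise

/-- chain of elements whose fixed points pin down the points one by one -/
def ckc (ck : ℕ → Bool) (SL F0 : List ℕ) : List ℕ → List (ℕ × ℕ) → Bool
  | F, [] => SL.all fun s => F.contains s
  | F, (c, x) :: l => ck c && ((F0.all fun i => F.contains (papp c i)) && (SL.contains x &&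
      (Nat.beq (papp c x) x &&
      ((SL.all fun s => !(Nat.beq (papp c s) s) || (Nat.beq s x || F.contains s)) && ckc ck SL F0 (x :: F) l))))

variable {G : Subgroup (Equiv.Perm GolayPt)}

theorem ap_inv (k : Equiv.Perm GolayPt) (x : GolayPt) : k (k⁻¹ x) = x := by simp
theorem inv_ap (k : Equiv.Perm GolayPt) (x : GolayPt) : k⁻¹ (k x) = x := by simp

theorem chain_spec {ck : ℕ → Bool} (hck : ∀ c, ck c = true → isPermCode c = true ∧ mkPerm c ∈ G)
    {SL F0 : List ℕ} (hSL : ∀ i ∈ SL, i < 24) (β : G →* G) (π : GolayPt → GolayPt)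
    (hπS : ∀ x, gidx x ∈ SL → gidx (π x) ∈ SL)
    (hinj : ∀ x, gidx x ∈ SL → ∀ y, gidx y ∈ SL → π x = π y → x = y)
    (hint : ∀ g : G, ∀ x, gidx x ∈ SL → π ((g : Equiv.Perm GolayPt) x) = (β g : Equiv.Perm GolayPt) (π x))
    (hbase : ∀ g ∈ G, (∀ i ∈ F0, g (gpt i) = gpt i) → g = 1) :
    ∀ (l : List (ℕ × ℕ)) (F : List ℕ), (∀ i ∈ F0, i ∈ F) → (∀ i ∈ F, i ∈ SL) →
      (∀ i ∈ F, π (gpt i) = gpt i) → ckc ck SL F0 F l = true → ∀ x, gidx x ∈ SL → π x = x := by
  intro l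
  induction l with
  | nil =>
    intro F _ _ hπ h x hx
    unfold ckc at h
    rw [List.all_eq_true] at h
    have h1 := h _ hx
    rw [List.contains_iff_mem] at h1
    have h2 := hπ _ h1
    rwa [gpt_gidx] at h2
  | cons p l ih =>
    obtain ⟨c, x⟩ := p
    intro F hF0 hFS hπ h
    unfold ckc at h
    rw [Bool.and_eq_true, Bool.and_eq_true, Bool.and_eq_true, Bool.and_eq_true, Bool.and_eq_true] at h
    obtain ⟨h1, h2, h3, h4, h5, h6⟩ := h
    obtain ⟨hp, hm⟩ := hck c h1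
    rw [List.contains_iff_mem] at h3
    have hx24 := hSL x h3
    have hgx : gidx (gpt x) ∈ SL := by rw [gidx_gpt hx24]; exact h3
    rw [List.all_eq_true] at h2
    have hβ : β ⟨mkPerm c, hm⟩ = ⟨mkPerm c, hm⟩ := by
      have h7 : ((β ⟨mkPerm c, hm⟩ : G) : Equiv.Perm GolayPt)⁻¹ * mkPerm c = 1 := by
        apply hbase _ (G.mul_mem (G.inv_mem (β ⟨mkPerm c, hm⟩).2) hm)
        intro i hi
        have hiF := hF0 i hi
        have hi24 := hSL i (hFS i hiF)
        have h8 := h2 i hi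
        rw [List.contains_iff_mem] at h8
        rw [Equiv.Perm.mul_apply, Equiv.Perm.inv_eq_iff_eq]
        have h9 := hint ⟨mkPerm c, hm⟩ (gpt i) (by rw [gidx_gpt hi24]; exact hFS i hiF)
        have h10 : π (mkPerm c (gpt i)) = mkPerm c (gpt i) := by
          rw [mkPerm_gpt hp hi24]; exact hπ _ h8
        rw [hπ i hiF] at h9
        rw [← h9]
        exact h10.symm
      apply Subtype.ext
      exact (inv_mul_eq_one.mp h7)
    have hx : π (gpt x) = gpt x := by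
      have h9 := hint ⟨mkPerm c, hm⟩ (gpt x) hgx
      rw [hβ] at h9
      have h10 : mkPerm c (gpt x) = gpt x := by rw [mkPerm_gpt hp hx24, Nat.eq_of_beq_eq_true h4]
      have h11 : mkPerm c (π (gpt x)) = π (gpt x) := by
        have h12 : π (mkPerm c (gpt x)) = mkPerm c (π (gpt x)) := h9
        rw [← h12, h10]
      have hs := hπS _ hgx
      rw [List.all_eq_true] at h5
      have h13 := h5 _ hs
      rw [Bool.or_eq_true, Bool.or_eq_true, Bool.not_eq_true'] at h13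
      have h14 : papp c (gidx (π (gpt x))) = gidx (π (gpt x)) := by
        have h15 := mkPerm_gpt hp (gidx_lt (π (gpt x)))
        rw [gpt_gidx, h11] at h15
        have h16 := congrArg gidx h15
        rw [gidx_gpt (papp_lt hp (gidx_lt _))] at h16
        exact h16.symm
      rcases h13 with h13 | h13 | h13
      · exfalso
        rw [h14] at h13
        exact Bool.noConfusion (h13.symm.trans (Nat.beq_refl _))
      · have h15 := Nat.eq_of_beq_eq_true h13
        rw [← gpt_gidx (π (gpt x)), h15]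
      · rw [List.contains_iff_mem] at h13
        have h15 := hπ _ h13
        rw [gpt_gidx] at h15
        exact hinj _ hs _ hgx h15
    apply ih (x :: F) (fun i hi => List.mem_cons_of_mem _ (hF0 i hi)) _ _ h6
    · intro i hi
      rw [List.mem_cons] at hi
      rcases hi with rfl | hi
      · exact h3
      · exact hFS i hi
    · intro i hi
      rw [List.mem_cons] at hi
      rcases hi with rfl | hi
      · exact hx
      · exact hπ i hi

theorem inner_of_stab {ck : ℕ → Bool} (hck : ∀ c, ck c = true → isPermCode c = true ∧ mkPerm c ∈ G)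
    {SL F0 : List ℕ} (hSL : ∀ i ∈ SL, i < 24) (hF0 : ∀ i ∈ F0, i ∈ SL)
    (hGS : ∀ g ∈ G, ∀ x, gidx x ∈ SL → gidx (g x) ∈ SL)
    (hbase : ∀ g ∈ G, (∀ i ∈ F0, g (gpt i) = gpt i) → g = 1)
    (x0 : GolayPt) (htr : ∀ x, gidx x ∈ SL → ∃ g ∈ G, g x0 = x)
    (hntr : ∀ f : GolayPt → GolayPt, (∀ x, gidx x ∈ SL → gidx (f x) ∈ SL) →
      (∀ x, gidx x ∈ SL → ∀ y, gidx y ∈ SL → f x = f y → x = y) →
      ∃ k ∈ G, ∀ i ∈ F0, k (gpt i) = f (gpt i))
    (l : List (ℕ × ℕ)) (hl : ckc ck SL F0 F0 l = true)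
    (α : G ≃* G) (y : GolayPt) (hy : gidx y ∈ SL)
    (hα : ∀ g : G, (g : Equiv.Perm GolayPt) x0 = x0 ↔ (α g : Equiv.Perm GolayPt) y = y) :
    ∃ k ∈ G, ∀ g : G, k * (g : Equiv.Perm GolayPt) * k⁻¹ = α g := by
  classical
  choose! t htG ht using htr
  let π : GolayPt → GolayPt := fun x =>
    if h : gidx x ∈ SL then (α ⟨t x, htG x h⟩ : Equiv.Perm GolayPt) y else x
  have hπ : ∀ x (h : gidx x ∈ SL), π x = (α ⟨t x, htG x h⟩ : Equiv.Perm GolayPt) y :=
    fun x h => dif_pos h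
  have hπS : ∀ x, gidx x ∈ SL → gidx (π x) ∈ SL := by
    intro x hx
    rw [hπ x hx]
    exact hGS _ (α ⟨t x, htG x hx⟩).2 _ hy
  have hkey : ∀ g g' : G, (g : Equiv.Perm GolayPt) x0 = (g' : Equiv.Perm GolayPt) x0 ↔
      (α g : Equiv.Perm GolayPt) y = (α g' : Equiv.Perm GolayPt) y := by
    intro g g'
    have h1 := hα (g'⁻¹ * g)
    rw [map_mul, map_inv, Subgroup.coe_mul, Subgroup.coe_mul, Subgroup.coe_inv, Subgroup.coe_inv,
      Equiv.Perm.mul_apply, Equiv.Perm.mul_apply, Equiv.Perm.inv_eq_iff_eq, Equiv.Perm.inv_eq_iff_eq] at h1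
    exact h1
  have hinj : ∀ x, gidx x ∈ SL → ∀ y, gidx y ∈ SL → π x = π y → x = y := by
    intro x hx z hz h
    rw [hπ x hx, hπ z hz] at h
    have h1 := (hkey ⟨t x, htG x hx⟩ ⟨t z, htG z hz⟩).mpr h
    have h2 : t x x0 = t z x0 := h1
    rwa [ht x hx, ht z hz] at h2
  have hint : ∀ g : G, ∀ x, gidx x ∈ SL →
      π ((g : Equiv.Perm GolayPt) x) = (α g : Equiv.Perm GolayPt) (π x) := by
    intro g x hx
    have hgx := hGS _ g.2 x hx
    rw [hπ _ hgx, hπ x hx, ← Equiv.Perm.mul_apply, ← Subgroup.coe_mul, ← map_mul]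
    apply (hkey _ _).mp
    show t ((g : Equiv.Perm GolayPt) x) x0 = (g : Equiv.Perm GolayPt) (t x x0)
    rw [ht _ hgx, ht x hx]
  obtain ⟨k, hk, hkf⟩ := hntr π hπS hinj
  let kG : G := ⟨k, hk⟩
  let β : G →* G := ((MulAut.conj kG⁻¹).toMonoidHom).comp α.toMonoidHom
  have hβ : ∀ g : G, (β g : Equiv.Perm GolayPt) = k⁻¹ * (α g : Equiv.Perm GolayPt) * k := by
    intro g
    show ((kG⁻¹ * α g * (kG⁻¹)⁻¹ : G) : Equiv.Perm GolayPt) = _
    rw [inv_inv]; rfl
  have hall := chain_spec hck hSL β (fun x => k⁻¹ (π x)) (fun x hx => hGS _ (G.inv_mem hk) _ (hπS x hx))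
    (fun x hx z hz h => hinj x hx z hz (k⁻¹.injective h))
    (fun g x hx => by
      show k⁻¹ (π ((g : Equiv.Perm GolayPt) x)) = (β g : Equiv.Perm GolayPt) (k⁻¹ (π x))
      rw [hβ, hint g x hx, Equiv.Perm.mul_apply, Equiv.Perm.mul_apply, ap_inv])
    hbase l F0 (fun i hi => hi) hF0
    (fun i hi => by
      show k⁻¹ (π (gpt i)) = gpt i
      rw [← hkf i hi, inv_ap]) hl
  have hπk : ∀ x, gidx x ∈ SL → π x = k x := by
    intro x hx
    have h1 : k⁻¹ (π x) = x := hall x hx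
    rw [Equiv.Perm.inv_eq_iff_eq] at h1
    exact h1
  refine ⟨k, hk, fun g => ?_⟩
  have h1 : (k * (g : Equiv.Perm GolayPt) * k⁻¹)⁻¹ * (α g : Equiv.Perm GolayPt) = 1 := by
    have h2 : k⁻¹ * ((k * (g : Equiv.Perm GolayPt) * k⁻¹)⁻¹ * (α g : Equiv.Perm GolayPt)) * k = 1 := by
      apply hbase _ (G.mul_mem (G.mul_mem (G.inv_mem hk) (G.mul_mem (G.inv_mem (G.mul_mem (G.mul_mem hk g.2)
        (G.inv_mem hk))) (α g).2)) hk)
      intro i hi
      have hi' := hF0 i hi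
      have hgi : gidx (gpt i) ∈ SL := by rw [gidx_gpt (hSL i hi')]; exact hi'
      have h3 := hint g (gpt i) hgi
      rw [hπk _ (hGS _ g.2 _ hgi), hπk _ hgi] at h3
      rw [show k⁻¹ * ((k * (g : Equiv.Perm GolayPt) * k⁻¹)⁻¹ * (α g : Equiv.Perm GolayPt)) * k =
        (g : Equiv.Perm GolayPt)⁻¹ * k⁻¹ * ((α g : Equiv.Perm GolayPt) * k) by group,
        Equiv.Perm.mul_apply, Equiv.Perm.mul_apply, Equiv.Perm.mul_apply, ← h3]
      simp
    have h4 : (k * (g : Equiv.Perm GolayPt) * k⁻¹)⁻¹ * (α g : Equiv.Perm GolayPt) =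
      k * (k⁻¹ * ((k * (g : Equiv.Perm GolayPt) * k⁻¹)⁻¹ * (α g : Equiv.Perm GolayPt)) * k) * k⁻¹ := by group
    rw [h4, h2]; group
  exact inv_mul_eq_one.mp h1

end Cfsg.Agent.H15.OutRig
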