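import Mathlib
import Cfsg.Agent.H15.SchTool3
import Cfsg.Agent.H15.T.M12s

/-! # The Sylow 2-subgroup of M12 and elements of order eight -/

set_option autoImplicit false

namespace Cfsg.Agent.H15.Out12

open Cfsg Cfsg.Agent.H7 Cfsg.Agent.H15.SchTool Cfsg.Agent.H15.MathCode
open scoped Pointwise

theorem PL_cl : (PL.all fun c => PL.all fun d => PL.contains (pmul c d)) = true := by decide +kernel
theorem PL_ck : (PL.all fun c => ck12 c && Nat.ble (c + 1) (2 ^ 120)) = true := by decide +kernel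
theorem PL_inv : (PL.all fun c => PL.any fun d => Nat.beq (pmul c d) idc) = true := by decide +kernel
theorem PL_nodup : PL.Nodup := by decide +kernel
theorem PL_one : PL.contains idc = true := by decide +kernel
theorem PL_fix : (PL.all fun c => Nat.beq (pmul (pmul c c) (pmul c c)) idc ||
    ((List.range 24).any fun i => Nat.beq (papp c i) i)) = true := by decide +kernel

theorem PL_mem {c : ℕ} (hc : c ∈ PL) : isPermCode c = true ∧ mkPerm c ∈ Spor.M12 ∧ c < 2 ^ 120 := by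
  have h := PL_ck
  rw [List.all_eq_true] at h
  have h1 := h c hc
  rw [Bool.and_eq_true] at h1
  obtain ⟨h2, h3⟩ := cd12_aux h1.1
  exact ⟨h2, h3, Nat.le_of_ble_eq_true h1.2⟩

/-- the Sylow subgroup -/
noncomputable def P : Subgroup Spor.M12 where
  carrier := {g | ∃ c ∈ PL, (g : Equiv.Perm GolayPt) = mkPerm c}
  mul_mem' := by
    rintro a b ⟨c, hc, ha⟩ ⟨d, hd, hb⟩
    refine ⟨pmul c d, ?_, ?_⟩
    · have h := PL_cl
      rw [List.all_eq_true] at h
      have h1 := h c hc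
      rw [List.all_eq_true] at h1
      have h2 := h1 d hd
      rwa [List.contains_iff_mem] at h2
    · have h1 := (PL_mem hc).1
      have h2 := (PL_mem hd).1
      rw [mkPerm_pmul h1 h2 (isPermCode_pmul h1 h2), ← ha, ← hb]; rfl
  one_mem' := ⟨idc, by have := PL_one; rwa [List.contains_iff_mem] at this, mkPerm_idc.symm⟩
  inv_mem' := by
    rintro a ⟨c, hc, ha⟩
    have h := PL_inv
    rw [List.all_eq_true] at h
    have h1 := h c hc
    rw [List.any_eq_true] at h1
    obtain ⟨d, hd, h2⟩ := h1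
    refine ⟨d, hd, ?_⟩
    have h3 := (PL_mem hc).1
    have h4 := (PL_mem hd).1
    show (a : Equiv.Perm GolayPt)⁻¹ = _
    rw [inv_eq_iff_mul_eq_one, ha, ← mkPerm_pmul h3 h4 (isPermCode_pmul h3 h4), Nat.eq_of_beq_eq_true h2,
      mkPerm_idc]

theorem card_P : Nat.card P = 64 := by
  have h1 : PL.toFinset.card = 64 := by
    rw [List.toFinset_card_of_nodup PL_nodup]; decide +kernel
  rw [← h1, ← Fintype.card_coe, ← Nat.card_eq_fintype_card]
  symm
  refine Nat.card_congr (Equiv.ofBijective (fun c : {c // c ∈ PL.toFinset} =>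
    (⟨⟨mkPerm c.1, (PL_mem (List.mem_toFinset.1 c.2)).2.1⟩, c.1, List.mem_toFinset.1 c.2, rfl⟩ : P)) ⟨?_, ?_⟩)
  · intro c d h
    have h2 : mkPerm c.1 = mkPerm d.1 := congrArg (fun x : P => ((x : Spor.M12) : Equiv.Perm GolayPt)) h
    obtain ⟨c1, -, c3⟩ := PL_mem (List.mem_toFinset.1 c.2)
    obtain ⟨d1, -, d3⟩ := PL_mem (List.mem_toFinset.1 d.2)
    exact Subtype.ext (mkPerm_inj c1 d1 c3 d3 h2)
  · rintro ⟨⟨g, hg⟩, c, hc, h⟩
    refine ⟨⟨c, List.mem_toFinset.2 hc⟩, ?_⟩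
    apply Subtype.ext
    apply Subtype.ext
    exact h.symm

/-- elements of order eight of M12 fix a point -/
theorem fix_of_eight (x : Spor.M12) (h8 : x ^ 8 = 1) (h4 : x ^ 4 ≠ 1) :
    ∃ q, (x : Equiv.Perm GolayPt) q = q := by
  have f2 : Fact (Nat.Prime 2) := ⟨Nat.prime_two⟩
  have hidx : P.index = 1485 := by
    have h := P.card_mul_index
    rw [card_P, H28.card_M12] at h
    omega
  have hP : IsPGroup 2 P := IsPGroup.of_card (n := 6) (by rw [card_P]; norm_num)
  let S : Sylow 2 Spor.M12 := hP.toSylow (by rw [hidx]; norm_num)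
  have hx : IsPGroup 2 (Subgroup.zpowers x) := by
    rw [IsPGroup.iff_card] 
    rw [Nat.card_zpowers]
    obtain ⟨k, -, hk⟩ := (Nat.dvd_prime_pow Nat.prime_two).1 (orderOf_dvd_of_pow_eq_one (n := 2 ^ 3) h8)
    exact ⟨k, hk⟩
  obtain ⟨Q, hQ⟩ := hx.exists_le_sylow
  obtain ⟨g, hg⟩ := MulAction.exists_smul_eq (Spor.M12) Q S
  have h1 : g * x * g⁻¹ ∈ (S : Subgroup Spor.M12) := by
    rw [← hg, Sylow.coe_subgroup_smul, Subgroup.mem_pointwise_smul_iff_inv_smul_mem, ← map_inv, MulAut.smul_def,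
      MulAut.conj_apply, inv_inv]
    have : g⁻¹ * (g * x * g⁻¹) * g = x := by group
    rw [this]
    exact hQ (Subgroup.mem_zpowers x)
  obtain ⟨c, hc, h2⟩ : ∃ c ∈ PL, ((g * x * g⁻¹ : Spor.M12) : Equiv.Perm GolayPt) = mkPerm c := h1
  have h3 := PL_fix
  rw [List.all_eq_true] at h3
  have h5 := h3 c hc
  rw [Bool.or_eq_true] at h5
  obtain ⟨p1, p2, p3⟩ := PL_mem hc
  rcases h5 with h5 | h5
  · exfalso
    apply h4
    have q2 := isPermCode_pmul p1 p1
    have e1 : mkPerm c ^ 4 = 1 := by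
      have : mkPerm c ^ 4 = (mkPerm c * mkPerm c) * (mkPerm c * mkPerm c) := by
        simp only [pow_succ, pow_zero, one_mul, mul_assoc]
      rw [this, ← mkPerm_pmul p1 p1 q2, ← mkPerm_pmul q2 q2 (isPermCode_pmul q2 q2),
        Nat.eq_of_beq_eq_true h5, mkPerm_idc]
    have e2 : (g * x * g⁻¹) ^ 4 = 1 := Subtype.ext (by
      rw [Subgroup.coe_pow, h2, e1]; rfl)
    rw [conj_pow] at e2
    have : x ^ 4 = g⁻¹ * (g * x ^ 4 * g⁻¹) * g := by group
    rw [this, e2]; group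
  · rw [List.any_eq_true] at h5
    obtain ⟨i, hi, h6⟩ := h5
    rw [List.mem_range] at hi
    have h7 : mkPerm c (gpt i) = gpt i := by rw [mkPerm_gpt p1 hi, Nat.eq_of_beq_eq_true h6]
    refine ⟨(g : Equiv.Perm GolayPt)⁻¹ (gpt i), ?_⟩
    rw [← h2] at h7
    have h8 : (g : Equiv.Perm GolayPt) ((x : Equiv.Perm GolayPt) ((g : Equiv.Perm GolayPt)⁻¹ (gpt i))) = gpt i := h7
    rw [Equiv.Perm.eq_inv_iff_eq, h8]

end Cfsg.Agent.H15.Out12
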