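import Mathlib
import Cfsg.Agent.H15.OutRig
import Cfsg.Agent.H15.Syl12
import Cfsg.Agent.H15.MathieuOut3
import Cfsg.Agent.H29.M24Orb2
import Cfsg.Prelude.Def_KGroupFacts

/-! # The outer automorphism group of M12 -/

set_option autoImplicit false

namespace Cfsg.Agent.H15.Out12

open Cfsg Cfsg.Agent.H7 Cfsg.Agent.H15.SchTool Cfsg.Agent.H15.MathCode Cfsg.Agent.H15.MathieuOut
open Cfsg.Agent.H15.OutRig
open scoped Pointwise

/-- the dodecad -/
def DL : List ℕ := [0, 1, 2, 3, 4, 6, 8, 9, 12, 13, 16, 18]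
/-- the complement -/
def EL : List ℕ := [5, 7, 10, 11, 14, 15, 17, 19, 20, 21, 22, 23]

theorem mem_DL (x : GolayPt) : x ∈ Spor.squareDodecad ↔ gidx x ∈ DL := by
  have h1 : gidx x < 24 := gidx_lt x
  have h2 : x ∈ Spor.squareDodecad ↔ H28.sqMask.testBit (gidx x) = true := by
    rw [H28.squareDodecad_eq]
    conv_lhs => rw [← gpt_gidx x, gpt_mem_toSet h1]
  rw [h2]
  have : ∀ i < 24, H28.sqMask.testBit i = true ↔ i ∈ DL := by decide +kernel
  exact this _ h1

theorem mem_EL (x : GolayPt) (hx : x ∉ Spor.squareDodecad) : gidx x ∈ EL := by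
  have h1 : gidx x < 24 := gidx_lt x
  rw [mem_DL] at hx
  have : ∀ i < 24, i ∉ DL → i ∈ EL := by decide +kernel
  exact this _ h1 hx

theorem M12_sm {g : Equiv.Perm GolayPt} (hg : g ∈ Spor.M12) : g • Spor.squareDodecad = Spor.squareDodecad := hg.2

theorem M12_mem {g : Equiv.Perm GolayPt} (hg : g ∈ Spor.M12) (x : GolayPt) :
    g x ∈ Spor.squareDodecad ↔ x ∈ Spor.squareDodecad := by
  have h := M12_sm hg
  have h2 := Finset.smul_mem_smul_finset_iff (a := g) (b := x) (s := Spor.squareDodecad)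
  rw [h] at h2
  exact h2

theorem card_sq : Spor.squareDodecad.card = 12 := H28.squareDodecad_mem.2

/-- a subgroup of order 7920 with an element of order eight fixes a point -/
theorem fix_pt {H : Subgroup (Equiv.Perm GolayPt)} (hH : H ≤ Spor.M12) (hc : Nat.card H = 7920)
    {x : Equiv.Perm GolayPt} (hx : x ∈ H) (h8 : x ^ 8 = 1) (h4 : x ^ 4 ≠ 1) :
    ∃ a, ∀ h ∈ H, h a = a := by
  have f11 : Fact (Nat.Prime 11) := ⟨by norm_num⟩
  obtain ⟨y, hy, hy1, hyp⟩ := exists_order (H := H) (p := 11) (by rw [hc]; norm_num)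
  obtain ⟨q, hq⟩ := fix_of_eight ⟨x, hH hx⟩ (Subtype.ext h8) (fun h => h4 (congrArg Subtype.val h))
  have hq' : x q = q := hq
  -- the stable set containing `q`
  obtain ⟨T, hTq, hTc, hTs⟩ : ∃ T : Finset GolayPt, q ∈ T ∧ T.card = 12 ∧ ∀ g ∈ H, ∀ t ∈ T, g t ∈ T := by
    by_cases h : q ∈ Spor.squareDodecad
    · exact ⟨_, h, card_sq, fun g hg t ht => (M12_mem (hH hg) t).2 ht⟩
    · refine ⟨Spor.squareDodecadᶜ, Finset.mem_compl.2 h, ?_, fun g hg t ht => ?_⟩
      · rw [Finset.card_compl, card_sq, card_pt]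
      · rw [Finset.mem_compl] at ht ⊢
        exact fun h2 => ht ((M12_mem (hH hg) t).1 h2)
  have hM : y ∈ M24 := (hH hy).1
  have h1 := AutPerm.card_fix_mod hyp T (hTs y hy)
  have h2 : (T.filter fun x => y x = x).card ≤ 8 := by
    refine le_trans (Finset.card_le_card ?_) (fx_le hM hy1)
    intro t ht
    exact mem_fx.2 (Finset.mem_filter.1 ht).2
  rw [hTc] at h1
  have h3 : (T.filter fun x => y x = x).card = 1 := by unfold Nat.ModEq at h1; omega
  obtain ⟨a, ha⟩ := Finset.card_eq_one.1 h3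
  have haT : a ∈ T ∧ y a = a := by
    have : a ∈ T.filter fun x => y x = x := by rw [ha]; exact Finset.mem_singleton_self a
    rw [Finset.mem_filter] at this
    exact this
  refine ⟨a, orb_one ?_⟩
  have hsub : orb H a ⊆ T := by
    intro b hb
    obtain ⟨h, hh, rfl⟩ := mem_orb.1 hb
    exact hTs h hh a haT.1
  have h5 := orb_mod hy hyp a
  have h6 : ((orb H a).filter fun q => y q = q).card = 1 := by
    rw [Finset.card_eq_one]
    refine ⟨a, ?_⟩
    apply Finset.Subset.antisymm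
    · rw [← ha]; exact Finset.filter_subset_filter _ hsub
    · rw [Finset.singleton_subset_iff]
      exact Finset.mem_filter.2 ⟨self_mem_orb H a, haT.2⟩
  rw [h6] at h5
  have h7 : (orb H a).card ≤ 12 := by rw [← hTc]; exact Finset.card_le_card hsub
  have h9 : (orb H a).card = 1 ∨ (orb H a).card = 12 := by
    have h10 : 0 < (orb H a).card := Finset.card_pos.2 ⟨a, self_mem_orb H a⟩
    unfold Nat.ModEq at h5; omega
  rcases h9 with h9 | h9
  · exact h9
  · exfalso
    have h10 : orb H a = T := Finset.eq_of_subset_of_card_le hsub (by rw [hTc, h9])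
    have h11 : q ∈ orb H a := by rw [h10]; exact hTq
    obtain ⟨k, hk, hka⟩ := mem_orb.1 h11
    have h12 := card_orb H a
    rw [hc, h9] at h12
    -- the element of order eight in the stabiliser of a
    have h13 : k⁻¹ * x * k ∈ stb H a := by
      rw [mem_stb]
      refine ⟨H.mul_mem (H.mul_mem (H.inv_mem hk) hx) hk, ?_⟩
      rw [Equiv.Perm.mul_apply, Equiv.Perm.mul_apply, hka, hq', ← hka, inv_ap]
    have h14 : orderOf (⟨k⁻¹ * x * k, h13⟩ : stb H a) = 2 ^ (2 + 1) := by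
      apply orderOf_eq_prime_pow
      · intro h0
        have h15 : (k⁻¹ * x * k) ^ 2 ^ 2 = 1 := congrArg Subtype.val h0
        have h16 : (k⁻¹ * x * k) ^ 2 ^ 2 = k⁻¹ * x ^ 4 * k := by
          have := conj_pow (i := 4) (a := k⁻¹) (b := x)
          rw [inv_inv] at this
          exact this
        rw [h16] at h15
        apply h4
        have : x ^ 4 = k * (k⁻¹ * x ^ 4 * k) * k⁻¹ := by group
        rw [this, h15]; group
      · apply Subtype.ext
        show (k⁻¹ * x * k) ^ 8 = 1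
        have := conj_pow (i := 8) (a := k⁻¹) (b := x)
        rw [inv_inv] at this
        rw [this, h8]; group
    have h15 := orderOf_dvd_natCard (⟨k⁻¹ * x * k, h13⟩ : stb H a)
    rw [h14] at h15
    omega

/-- an element of order eight of M11 -/
def c8 : ℕ := 0x5ba35b25e2b964851d81a1a636c080

theorem c8_ck : ck12 c8 = true := by decide +kernel
theorem c8_0 : papp c8 0 = 0 := by decide +kernel
theorem c8_E : ∀ i ∈ EL, papp c8 i ≠ i := by decide +kernel
theorem c8_4 : Nat.beq (wl [c8, c8, c8, c8]) idc = false := by decide +kernel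

/-- the element -/
noncomputable def X8 : Cd Spor.M12 := cd12 c8 c8_ck

theorem X8_8 : (toG X8) ^ 8 = 1 := pwG X8 8 (by decide +kernel)
theorem X8_4 : (toG X8) ^ 4 ≠ 1 := by
  intro h
  have h2 := congrArg Subtype.val h
  rw [Subgroup.coe_pow] at h2
  have h3 : ((toG X8 : Spor.M12) : Equiv.Perm GolayPt) = mkPerm c8 := rfl
  rw [h3] at h2
  have p1 := (cd12_aux c8_ck).1
  have p2 := isPermCode_pmul p1 p1
  have e1 : mkPerm c8 ^ 4 = mkPerm (pmul (pmul c8 c8) (pmul c8 c8)) := by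
    rw [mkPerm_pmul p2 p2 (isPermCode_pmul p2 p2), mkPerm_pmul p1 p1 p2]
    simp only [pow_succ, pow_zero, one_mul, mul_assoc]
  rw [e1] at h2
  have e2 : mkPerm (pmul (pmul c8 c8) (pmul c8 c8)) = mkPerm idc := by rw [h2, mkPerm_idc]; rfl
  have e3 : ∀ i < 24, papp (pmul (pmul c8 c8) (pmul c8 c8)) i = papp idc i := fun i hi =>
    papp_eq_of_mkPerm (isPermCode_pmul p2 p2) idc_perm e2 hi
  have : ∃ i < 24, papp (pmul (pmul c8 c8) (pmul c8 c8)) i ≠ papp idc i := by decide +kernel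
  obtain ⟨i, hi, h⟩ := this
  exact h (e3 i hi)

/-- the base chain -/
def ch : List (ℕ × ℕ) := [(0x5d9d49a2292d4ccb9e12535e320820, 12), (0x7c56ebc0a9ada419a8c83b68c20c40, 8),
  (0xb2dd3a4ae92bcc489da8542a260c20, 18), (0x2be955ca26b39a49a9093c2ec18440, 13),
  (0x5c5ee2a6f0acda2b1d0654a8c20c20, 16), (0x7cdd4b1a30bd50c2a92d3c96320440, 9),
  (0xbdab49ca307b9ac5a928398a418820, 6)]

theorem ch12 : ckc ck12 DL [0, 1, 2, 3, 4] [0, 1, 2, 3, 4] ch = true := by decide +kernel

theorem DL_lt : ∀ i ∈ DL, i < 24 := by decide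

theorem gpt_DL {i : ℕ} (hi : i ∈ DL) : gpt i ∈ Spor.squareDodecad := by
  rw [mem_DL, gidx_gpt (DL_lt i hi)]; exact hi

theorem trans12 {x y : GolayPt} (hx : x ∈ Spor.squareDodecad) (hy : y ∈ Spor.squareDodecad) :
    ∃ g ∈ Spor.M12, g x = y := by
  obtain ⟨g, hg, h1, h2⟩ := dodecad_mapn (n := 1) (by norm_num) ![x] ![y]
    (Function.injective_of_subsingleton _) (Function.injective_of_subsingleton _)
    H28.squareDodecad_mem H28.squareDodecad_mem (fun i => by fin_cases i; exact hx)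
    (fun i => by fin_cases i; exact hy)
  exact ⟨g, ⟨hg, h2⟩, h1 0⟩

theorem base12 : ∀ g ∈ Spor.M12, (∀ i ∈ [0, 1, 2, 3, 4], g (gpt i) = gpt i) → g = 1 := by
  intro g hg h
  apply H28.M12_fix hg (fun i : Fin 5 => (i : ℕ)) (fun i => by omega) Fin.val_injective
  · decide +kernel
  · intro i
    apply h
    have : ∀ i : Fin 5, (i : ℕ) ∈ [0, 1, 2, 3, 4] := by decide
    exact this i

theorem ntr12 (f : GolayPt → GolayPt) (h1 : ∀ x, gidx x ∈ DL → gidx (f x) ∈ DL)
    (h2 : ∀ x, gidx x ∈ DL → ∀ y, gidx y ∈ DL → f x = f y → x = y) :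
    ∃ k ∈ Spor.M12, ∀ i ∈ [0, 1, 2, 3, 4], k (gpt i) = f (gpt i) := by
  have hin : ∀ i : Fin 5, (i : ℕ) ∈ DL := by decide
  have hg : ∀ i : Fin 5, gidx (gpt i) ∈ DL := by
    intro i; rw [gidx_gpt (DL_lt _ (hin i))]; exact hin i
  have hinj : Function.Injective fun i : Fin 5 => gpt (i : ℕ) := by
    intro i j hij
    have h3 := congrArg gidx hij
    simp only [gidx_gpt (DL_lt _ (hin i)), gidx_gpt (DL_lt _ (hin j))] at h3
    exact Fin.ext h3
  obtain ⟨k, hk, h3, h4⟩ := dodecad_mapn (n := 5) (by norm_num) (fun i : Fin 5 => gpt (i : ℕ))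
    (fun i : Fin 5 => f (gpt (i : ℕ))) hinj (fun i j hij => hinj (h2 _ (hg i) _ (hg j) hij))
    H28.squareDodecad_mem H28.squareDodecad_mem (fun i => gpt_DL (hin i))
    (fun i => (mem_DL _).2 (h1 _ (hg i)))
  refine ⟨k, ⟨hk, h4⟩, ?_⟩
  intro i hi
  have : i < 5 := by
    revert i; decide
  exact h3 ⟨i, this⟩

theorem card_M11' : Nat.card (MulAction.stabilizer Spor.M12 (gpt 0)) = 7920 := by
  rw [← H28.card_inf_eq, ← H28.card_M11, H28.gpt0]; rfl

/-- inner automorphisms from stabilisers -/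
theorem inner_D (α : MulAut Spor.M12) (y : GolayPt) (hy : y ∈ Spor.squareDodecad)
    (hα : ∀ g : Spor.M12, (g : Equiv.Perm GolayPt) (gpt 0) = gpt 0 ↔ (α g : Equiv.Perm GolayPt) y = y) :
    α ∈ Cfsg.Inn ↥Cfsg.Spor.M12 := by
  obtain ⟨k, hk, h⟩ := inner_of_stab (G := Spor.M12) (ck := ck12) (fun c hc => cd12_aux hc) (SL := DL)
    (F0 := [0, 1, 2, 3, 4]) DL_lt (by decide) (fun g hg x hx => by
      rw [← mem_DL] at hx ⊢; exact (M12_mem hg x).2 hx) base12 (gpt 0)
    (fun x hx => trans12 (gpt_DL (i := 0) (by decide)) ((mem_DL x).2 hx)) ntr12 ch ch12 α y ((mem_DL y).1 hy) hα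
  refine ⟨⟨k, hk⟩, ?_⟩
  ext1 g
  exact Subtype.ext (h g)

/-- the image of a point stabiliser fixes a point -/
theorem exists_pt (α : MulAut Spor.M12) :
    ∃ y, ∀ g : Spor.M12, (g : Equiv.Perm GolayPt) (gpt 0) = gpt 0 ↔ (α g : Equiv.Perm GolayPt) y = y := by
  let H : Subgroup (Equiv.Perm GolayPt) :=
    ((MulAction.stabilizer Spor.M12 (gpt 0)).map α.toMonoidHom).map Spor.M12.subtype
  have hHG : H ≤ Spor.M12 := Subgroup.map_subtype_le _
  have hcard : Nat.card H = 7920 := by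
    rw [← card_M11', Subgroup.card_map_of_injective Spor.M12.subtype_injective,
      Subgroup.card_map_of_injective α.injective]
  have hx : ((α (toG X8) : Spor.M12) : Equiv.Perm GolayPt) ∈ H := by
    refine ⟨α (toG X8), ⟨toG X8, ?_, rfl⟩, rfl⟩
    show mkPerm c8 (gpt 0) = gpt 0
    rw [mkPerm_gpt (cd12_aux c8_ck).1 (by norm_num), c8_0]
  obtain ⟨y, hy⟩ := fix_pt hHG hcard hx (by
    rw [← Subgroup.coe_pow, ← map_pow, X8_8, map_one]; rfl) (by
    rw [← Subgroup.coe_pow, ← map_pow]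
    intro h
    apply X8_4
    apply α.injective
    rw [map_one]
    exact Subtype.ext h)
  refine ⟨y, ?_⟩
  have hle : (MulAction.stabilizer Spor.M12 (gpt 0)).map α.toMonoidHom ≤ MulAction.stabilizer Spor.M12 y := by
    intro g hg
    exact hy g ⟨g, hg, rfl⟩
  have hcy : Nat.card (MulAction.stabilizer Spor.M12 y) ≤ 7920 := by
    -- the orbit has at least twelve elements
    rw [card_stb]
    have h1 := card_orb Spor.M12 y
    rw [H28.card_M12] at h1
    have h2 : 12 ≤ (orb Spor.M12 y).card := by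
      by_cases hyD : y ∈ Spor.squareDodecad
      · rw [← card_sq]
        apply Finset.card_le_card
        intro z hz
        exact mem_orb.2 (trans12 hyD hz)
      · have hc : Spor.squareDodecadᶜ.card = 12 := by rw [Finset.card_compl, card_sq, card_pt]
        rw [← hc]
        apply Finset.card_le_card
        intro z hz
        obtain ⟨g, hg, h1, h2⟩ := dodecad_mapn (n := 1) (by norm_num) ![y] ![z]
          (Function.injective_of_subsingleton _) (Function.injective_of_subsingleton _)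
          (H29.compl_dodecad H28.squareDodecad_mem) (H29.compl_dodecad H28.squareDodecad_mem)
          (fun i => by fin_cases i; exact Finset.mem_compl.2 hyD) (fun i => by fin_cases i; exact hz)
        refine mem_orb.2 ⟨g, ⟨hg, ?_⟩, h1 0⟩
        show g • Spor.squareDodecad = Spor.squareDodecad
        have h3 : (g • Spor.squareDodecad)ᶜ = Spor.squareDodecadᶜ := by
          rw [← h2]
          ext q
          rw [Finset.mem_compl, ← Finset.inv_smul_mem_iff, ← Finset.inv_smul_mem_iff (s := Spor.squareDodecadᶜ),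
            Finset.mem_compl]
        exact compl_injective h3
    by_contra hcon
    push Not at hcon
    have : 12 * 7921 ≤ (orb Spor.M12 y).card * Nat.card (stb Spor.M12 y) := Nat.mul_le_mul h2 hcon
    omega
  have heq : (MulAction.stabilizer Spor.M12 (gpt 0)).map α.toMonoidHom = MulAction.stabilizer Spor.M12 y := by
    apply Subgroup.eq_of_le_of_card_ge hle
    rw [Subgroup.card_map_of_injective α.injective, card_M11']
    exact hcy
  intro g
  have h1 : α g ∈ (MulAction.stabilizer Spor.M12 (gpt 0)).map α.toMonoidHom ↔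
      g ∈ MulAction.stabilizer Spor.M12 (gpt 0) := by
    constructor
    · rintro ⟨k, hk, hkg⟩
      have : k = g := α.injective hkg
      rw [← this]; exact hk
    · intro hg; exact ⟨g, hg, rfl⟩
  rw [heq] at h1
  exact h1.symm

/-- an element of M24 interchanging the dodecad and its complement -/
theorem exists_swap : ∃ t ∈ M24, ∀ x, t x ∈ Spor.squareDodecad ↔ x ∉ Spor.squareDodecad := by
  obtain ⟨z, hz⟩ : ∃ z, z ∉ Spor.squareDodecad := exists_avoid _ (by rw [card_sq]; norm_num)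
  obtain ⟨g, hg, h1, h2⟩ := dodecad_mapn (n := 1) (by norm_num) ![gpt 0] ![z]
    (Function.injective_of_subsingleton _) (Function.injective_of_subsingleton _)
    H28.squareDodecad_mem (H29.compl_dodecad H28.squareDodecad_mem)
    (fun i => by fin_cases i; exact gpt_DL (i := 0) (by decide)) (fun i => by fin_cases i; exact Finset.mem_compl.2 hz)
  refine ⟨g, hg, fun x => ?_⟩
  have h3 := Finset.smul_mem_smul_finset_iff (a := g) (b := x) (s := Spor.squareDodecad)
  rw [h2, Finset.mem_compl] at h3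
  rw [← h3, Equiv.Perm.smul_def, not_not]

theorem conj12 {t : Equiv.Perm GolayPt} (ht : t ∈ M24)
    (hs : ∀ x, t x ∈ Spor.squareDodecad ↔ x ∉ Spor.squareDodecad) {g : Equiv.Perm GolayPt}
    (hg : g ∈ Spor.M12) : t * g * t⁻¹ ∈ Spor.M12 := by
  refine ⟨M24.mul_mem (M24.mul_mem ht hg.1) (M24.inv_mem ht), ?_⟩
  show (t * g * t⁻¹) • Spor.squareDodecad = Spor.squareDodecad
  ext q
  rw [← Finset.inv_smul_mem_iff, Equiv.Perm.smul_def]
  have e : (t * g * t⁻¹)⁻¹ q = t (g⁻¹ (t⁻¹ q)) := by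
    rw [show (t * g * t⁻¹)⁻¹ = t * (g⁻¹ * t⁻¹) by group]; rfl
  rw [e, hs, M12_mem (Spor.M12.inv_mem hg)]
  have h1 := hs (t⁻¹ q)
  rw [ap_inv] at h1
  exact h1.symm

theorem out12 : Nat.card (Cfsg.Out ↥Cfsg.Spor.M12) = 2 := by
  rw [← Subgroup.index_eq_card, Subgroup.index_eq_two_iff]
  obtain ⟨t, ht, hs⟩ := exists_swap
  have hs' : ∀ x, t⁻¹ x ∈ Spor.squareDodecad ↔ x ∉ Spor.squareDodecad := by
    intro x
    have h1 := hs (t⁻¹ x)
    rw [ap_inv] at h1
    tauto
  let γ : MulAut Spor.M12 :=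
    { toFun := fun g => ⟨t * g * t⁻¹, conj12 ht hs g.2⟩
      invFun := fun g => ⟨t⁻¹ * g * t⁻¹⁻¹, conj12 (M24.inv_mem ht) hs' g.2⟩
      left_inv := fun g => Subtype.ext (by
        show t⁻¹ * (t * (g : Equiv.Perm GolayPt) * t⁻¹) * t⁻¹⁻¹ = g
        group)
      right_inv := fun g => Subtype.ext (by
        show t * (t⁻¹ * (g : Equiv.Perm GolayPt) * t⁻¹⁻¹) * t⁻¹ = g
        group)
      map_mul' := fun g h => Subtype.ext (by
        show t * ((g : Equiv.Perm GolayPt) * h) * t⁻¹ = t * g * t⁻¹ * (t * h * t⁻¹)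
        group) }
  have hγ : ∀ g : Spor.M12, ((γ g : Spor.M12) : Equiv.Perm GolayPt) = t * g * t⁻¹ := fun g => rfl
  have hγn : γ ∉ Cfsg.Inn ↥Cfsg.Spor.M12 := by
    rintro ⟨k, hk⟩
    have h1 : ((γ (toG X8) : Spor.M12) : Equiv.Perm GolayPt) = k * mkPerm c8 * (k : Equiv.Perm GolayPt)⁻¹ := by
      rw [← hk]; rfl
    rw [hγ] at h1
    have h0 : mkPerm c8 (gpt 0) = gpt 0 := by
      rw [mkPerm_gpt (cd12_aux c8_ck).1 (by norm_num), c8_0]
    have h2 : mkPerm c8 ((k : Equiv.Perm GolayPt)⁻¹ (t (gpt 0))) = (k : Equiv.Perm GolayPt)⁻¹ (t (gpt 0)) := by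
      have h3 := congrArg (fun p : Equiv.Perm GolayPt => (k : Equiv.Perm GolayPt)⁻¹ (p (t (gpt 0)))) h1
      have h4 : (t * ((toG X8 : Spor.M12) : Equiv.Perm GolayPt) * t⁻¹) (t (gpt 0)) = t (gpt 0) := by
        show t (mkPerm c8 (t⁻¹ (t (gpt 0)))) = t (gpt 0)
        rw [inv_ap, h0]
      have h5 : (k : Equiv.Perm GolayPt)⁻¹ (((k : Equiv.Perm GolayPt) * mkPerm c8 *
          (k : Equiv.Perm GolayPt)⁻¹) (t (gpt 0))) = mkPerm c8 ((k : Equiv.Perm GolayPt)⁻¹ (t (gpt 0))) := by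
        show (k : Equiv.Perm GolayPt)⁻¹ ((k : Equiv.Perm GolayPt) (mkPerm c8 _)) = _
        rw [inv_ap]
      have h3' : (k : Equiv.Perm GolayPt)⁻¹ ((t * ((toG X8 : Spor.M12) : Equiv.Perm GolayPt) * t⁻¹) (t (gpt 0))) =
        (k : Equiv.Perm GolayPt)⁻¹ (((k : Equiv.Perm GolayPt) * mkPerm c8 *
          (k : Equiv.Perm GolayPt)⁻¹) (t (gpt 0))) := h3
      rw [h4, h5] at h3'
      exact h3'.symm
    have h6 : (k : Equiv.Perm GolayPt)⁻¹ (t (gpt 0)) ∉ Spor.squareDodecad := by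
      rw [M12_mem (Spor.M12.inv_mem k.2), hs, not_not]
      exact gpt_DL (i := 0) (by decide)
    have h7 := mem_EL _ h6
    have h8 := c8_E _ h7
    apply h8
    rw [← gpt_gidx ((k : Equiv.Perm GolayPt)⁻¹ (t (gpt 0))), mkPerm_gpt (cd12_aux c8_ck).1 (gidx_lt _)] at h2
    have h9 := congrArg gidx h2
    rw [gidx_gpt (papp_lt (cd12_aux c8_ck).1 (gidx_lt _)), gidx_gpt (gidx_lt _)] at h9
    exact h9
  refine ⟨γ, fun b => ?_⟩
  have hnor : (Cfsg.Inn ↥Cfsg.Spor.M12).Normal := inferInstance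
  obtain ⟨y, hy⟩ := exists_pt b
  by_cases hyD : y ∈ Spor.squareDodecad
  · right
    have hb := inner_D b y hyD hy
    refine ⟨hb, fun h => hγn ?_⟩
    have := (Cfsg.Inn ↥Cfsg.Spor.M12).mul_mem ((Cfsg.Inn ↥Cfsg.Spor.M12).inv_mem hb) h
    rwa [inv_mul_cancel_left] at this
  · left
    have hgb : γ * b ∈ Cfsg.Inn ↥Cfsg.Spor.M12 := by
      refine inner_D (γ * b) (t y) ((hs y).2 hyD) (fun g => ?_)
      rw [hy g]
      show _ ↔ (t * ((b g : Spor.M12) : Equiv.Perm GolayPt) * t⁻¹) (t y) = t y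
      rw [Equiv.Perm.mul_apply, Equiv.Perm.mul_apply, inv_ap]
      exact (t.injective.eq_iff).symm
    constructor
    · have h1 := hnor.conj_mem _ hgb b
      have h2 : b * (γ * b) * b⁻¹ = b * γ := by group
      rwa [h2] at h1
    · intro hb
      apply hγn
      have h1 := (Cfsg.Inn ↥Cfsg.Spor.M12).mul_mem hgb ((Cfsg.Inn ↥Cfsg.Spor.M12).inv_mem hb)
      rwa [mul_inv_cancel_right] at h1

end Cfsg.Agent.H15.Out12
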