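import Mathlib
import Cfsg.Agent.H15.Out12

/-! # The outer automorphism group of M11 -/

set_option autoImplicit false

namespace Cfsg.Agent.H15.Out11

open Cfsg Cfsg.Agent.H7 Cfsg.Agent.H15.SchTool Cfsg.Agent.H15.MathCode Cfsg.Agent.H15.MathieuOut
open Cfsg.Agent.H15.OutRig Cfsg.Agent.H15.Out12
open scoped Pointwise

/-- the eleven points -/
def SL : List ℕ := [1, 2, 3, 4, 6, 8, 9, 12, 13, 16, 18]

theorem SL_lt : ∀ i ∈ SL, i < 24 := by decide

/-- the eleven points as a finset -/
def ST : Finset GolayPt := Spor.squareDodecad.erase (gpt 0)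

theorem mem_SL (x : GolayPt) : x ∈ ST ↔ gidx x ∈ SL := by
  unfold ST
  rw [Finset.mem_erase, mem_DL]
  have h1 : x ≠ gpt 0 ↔ gidx x ≠ 0 := by
    constructor
    · intro h h0; apply h; rw [← gpt_gidx x, h0]
    · rintro h rfl; exact h (gidx_gpt (by norm_num))
  rw [h1]
  have : ∀ i < 24, (i ≠ 0 ∧ i ∈ DL) ↔ i ∈ SL := by decide +kernel
  exact this _ (gidx_lt x)

theorem card_ST : ST.card = 11 := by
  unfold ST
  rw [Finset.card_erase_of_mem (gpt_DL (by decide)), card_sq]

theorem M11_0 {g : Equiv.Perm GolayPt} (hg : g ∈ Spor.M11) : g (gpt 0) = gpt 0 := by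
  have := hg.2
  rw [H28.gpt0]
  exact this

theorem M11_le {g : Equiv.Perm GolayPt} (hg : g ∈ Spor.M11) : g ∈ Spor.M12 := hg.1

theorem M11_ST {g : Equiv.Perm GolayPt} (hg : g ∈ Spor.M11) {x : GolayPt} (hx : x ∈ ST) : g x ∈ ST := by
  unfold ST at hx ⊢
  rw [Finset.mem_erase] at hx ⊢
  refine ⟨?_, (M12_mem (M11_le hg) x).2 hx.2⟩
  intro h
  apply hx.1
  apply g.injective
  rw [h, M11_0 hg]

theorem mem_M11 {g : Equiv.Perm GolayPt} (h1 : g ∈ Spor.M12) (h2 : g (gpt 0) = gpt 0) : g ∈ Spor.M11 := by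
  rw [H28.gpt0] at h2
  exact ⟨h1, h2⟩

theorem ch11 : ckc ck11 SL [1, 2, 3, 4] [1, 2, 3, 4] ch = true := by decide +kernel

theorem base11 : ∀ g ∈ Spor.M11, (∀ i ∈ [1, 2, 3, 4], g (gpt i) = gpt i) → g = 1 := by
  intro g hg h
  apply base12 g (M11_le hg)
  intro i hi
  by_cases h0 : i = 0
  · rw [h0]; exact M11_0 hg
  · apply h
    revert h0
    revert i
    decide

/-- extension of `n`-transitivity -/
theorem mapn11 {n : ℕ} (hn : n + 1 ≤ 5) (x y : Fin n → GolayPt) (hx : Function.Injective x)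
    (hy : Function.Injective y) (hxS : ∀ i, x i ∈ ST) (hyS : ∀ i, y i ∈ ST) :
    ∃ g ∈ Spor.M11, ∀ i, g (x i) = y i := by
  have key : ∀ (z : Fin n → GolayPt), Function.Injective z → (∀ i, z i ∈ ST) →
      Function.Injective (Fin.cons (gpt 0) z : Fin (n + 1) → GolayPt) := by
    intro z hz hzS
    rw [Fin.cons_injective_iff]
    refine ⟨?_, hz⟩
    rintro ⟨i, hi⟩
    have := hzS i
    unfold ST at this
    rw [Finset.mem_erase] at this
    exact this.1 hi
  have key2 : ∀ (z : Fin n → GolayPt), (∀ i, z i ∈ ST) →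
      ∀ i, (Fin.cons (gpt 0) z : Fin (n + 1) → GolayPt) i ∈ Spor.squareDodecad := by
    intro z hzS i
    refine Fin.cases ?_ (fun j => ?_) i
    · exact gpt_DL (i := 0) (by decide)
    · rw [Fin.cons_succ]
      have := hzS j
      unfold ST at this
      exact Finset.mem_of_mem_erase this
  obtain ⟨g, hg, h1, h2⟩ := dodecad_mapn (n := n + 1) hn _ _ (key x hx hxS) (key y hy hyS)
    H28.squareDodecad_mem H28.squareDodecad_mem (key2 x hxS) (key2 y hyS)
  refine ⟨g, mem_M11 ⟨hg, h2⟩ (h1 0), fun i => ?_⟩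
  have := h1 i.succ
  rwa [Fin.cons_succ, Fin.cons_succ] at this

theorem trans11 {x y : GolayPt} (hx : x ∈ ST) (hy : y ∈ ST) : ∃ g ∈ Spor.M11, g x = y := by
  obtain ⟨g, hg, h⟩ := mapn11 (n := 1) (by norm_num) ![x] ![y] (Function.injective_of_subsingleton _)
    (Function.injective_of_subsingleton _) (fun i => by fin_cases i; exact hx) (fun i => by fin_cases i; exact hy)
  exact ⟨g, hg, h 0⟩

theorem ntr11 (f : GolayPt → GolayPt) (h1 : ∀ x, gidx x ∈ SL → gidx (f x) ∈ SL)
    (h2 : ∀ x, gidx x ∈ SL → ∀ y, gidx y ∈ SL → f x = f y → x = y) :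
    ∃ k ∈ Spor.M11, ∀ i ∈ [1, 2, 3, 4], k (gpt i) = f (gpt i) := by
  have hin : ∀ i : Fin 4, (i : ℕ) + 1 ∈ SL := by decide
  have hg : ∀ i : Fin 4, gidx (gpt ((i : ℕ) + 1)) ∈ SL := by
    intro i; rw [gidx_gpt (SL_lt _ (hin i))]; exact hin i
  have hinj : Function.Injective fun i : Fin 4 => gpt ((i : ℕ) + 1) := by
    intro i j hij
    have h3 := congrArg gidx hij
    simp only [gidx_gpt (SL_lt _ (hin i)), gidx_gpt (SL_lt _ (hin j))] at h3
    exact Fin.ext (by omega)
  obtain ⟨k, hk, h3⟩ := mapn11 (n := 4) (by norm_num) (fun i : Fin 4 => gpt ((i : ℕ) + 1))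
    (fun i : Fin 4 => f (gpt ((i : ℕ) + 1))) hinj (fun i j hij => hinj (h2 _ (hg i) _ (hg j) hij))
    (fun i => (mem_SL _).2 (hg i)) (fun i => (mem_SL _).2 (h1 _ (hg i)))
  refine ⟨k, hk, ?_⟩
  intro i hi
  have h4 : 1 ≤ i ∧ i < 5 := by
    revert i; decide
  have h5 := h3 ⟨i - 1, by omega⟩
  have h6 : i - 1 + 1 = i := by omega
  simp only [h6] at h5
  exact h5

theorem card_stab11 {x : GolayPt} (hx : x ∈ ST) : Nat.card (MulAction.stabilizer Spor.M11 x) = 720 := by
  rw [card_stb]
  have h1 := card_orb Spor.M11 x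
  have h2 : orb Spor.M11 x = ST := by
    ext q
    rw [mem_orb]
    constructor
    · rintro ⟨g, hg, rfl⟩; exact M11_ST hg hx
    · intro hq; exact trans11 hx hq
  rw [h2, card_ST, H28.card_M11] at h1
  omega

/-- subgroups of index eleven fix a point -/
theorem fix11 {H : Subgroup (Equiv.Perm GolayPt)} (hH : H ≤ Spor.M11) (hc : Nat.card H = 720) :
    ∃ a ∈ ST, ∀ h ∈ H, h a = a := by
  have f5 : Fact (Nat.Prime 5) := ⟨by norm_num⟩
  obtain ⟨y, hy, hy1, hyp⟩ := exists_order (H := H) (p := 5) (by rw [hc]; norm_num)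
  have hM : y ∈ M24 := (M11_le (hH hy)).1
  have h1 := AutPerm.card_fix_mod hyp ST (fun x hx => M11_ST (hH hy) hx)
  have hfx := fx_card hM hy1 hyp (by norm_num)
  norm_num at hfx
  have h2 : (ST.filter fun x => y x = x).card ≤ 4 := by
    rw [← hfx]
    refine Finset.card_le_card ?_
    intro t ht
    rw [Finset.mem_filter] at ht
    exact mem_fx.2 ht.2
  rw [card_ST] at h1
  have h3 : (ST.filter fun x => y x = x).card = 1 := by unfold Nat.ModEq at h1; omega
  obtain ⟨a, ha⟩ := Finset.card_eq_one.1 h3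
  have haT : a ∈ ST ∧ y a = a := by
    have : a ∈ ST.filter fun x => y x = x := by rw [ha]; exact Finset.mem_singleton_self a
    rw [Finset.mem_filter] at this
    exact this
  refine ⟨a, haT.1, orb_one ?_⟩
  have hsub : orb H a ⊆ ST := by
    intro b hb
    obtain ⟨h, hh, rfl⟩ := mem_orb.1 hb
    exact M11_ST (hH hh) haT.1
  have h5 := orb_mod hy hyp a
  have h6 : ((orb H a).filter fun q => y q = q).card = 1 := by
    rw [Finset.card_eq_one]
    refine ⟨a, ?_⟩
    apply Finset.Subset.antisymm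
    · rw [← ha]; exact Finset.filter_subset_filter _ hsub
    · rw [Finset.singleton_subset_iff]
      exact Finset.mem_filter.2 ⟨self_mem_orb H a, haT.2⟩
  rw [h6] at h5
  have h7 : (orb H a).card ≤ 11 := by rw [← card_ST]; exact Finset.card_le_card hsub
  have h9 : (orb H a).card = 1 ∨ (orb H a).card = 6 ∨ (orb H a).card = 11 := by
    have h10 : 0 < (orb H a).card := Finset.card_pos.2 ⟨a, self_mem_orb H a⟩
    unfold Nat.ModEq at h5; omega
  have h12 := card_orb H a
  rw [hc] at h12
  rcases h9 with h9 | h9 | h9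
  · exact h9
  · exfalso
    -- the five remaining points
    have hT : (ST \ orb H a).card = 5 := by
      rw [Finset.card_sdiff_of_subset hsub, card_ST, h9]
    have hTs : ∀ h ∈ H, ∀ t ∈ ST \ orb H a, h t ∈ ST \ orb H a := by
      intro h hh t ht
      rw [Finset.mem_sdiff] at ht ⊢
      refine ⟨M11_ST (hH hh) ht.1, fun h' => ht.2 ?_⟩
      obtain ⟨k, hk, hka⟩ := mem_orb.1 h'
      refine mem_orb.2 ⟨h⁻¹ * k, H.mul_mem (H.inv_mem hh) hk, ?_⟩
      rw [Equiv.Perm.mul_apply, hka, inv_ap]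
    let T := ST \ orb H a
    -- the action on the five points
    let act : H → (T → T) := fun h t => ⟨(h : Equiv.Perm GolayPt) t, hTs h h.2 t t.2⟩
    have hinjf : ∀ h, Function.Injective (act h) := by
      intro h s t hst
      exact Subtype.ext ((h : Equiv.Perm GolayPt).injective (congrArg Subtype.val hst))
    let F : H → Equiv.Perm T := fun h => Equiv.ofBijective (act h) (Finite.injective_iff_bijective.1 (hinjf h))
    have hF : Function.Injective F := by
      intro h k hhk
      have e1 : ∀ t ∈ T, (h : Equiv.Perm GolayPt) t = (k : Equiv.Perm GolayPt) t := by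
        intro t ht
        have := congrArg (fun p : Equiv.Perm T => ((p ⟨t, ht⟩ : T) : GolayPt)) hhk
        exact this
      obtain ⟨e⟩ : Nonempty (Fin 5 ≃ T) :=
        Fintype.card_eq.1 (by rw [Fintype.card_fin, Fintype.card_coe]; exact hT.symm)
      have e2 : (k : Equiv.Perm GolayPt)⁻¹ * (h : Equiv.Perm GolayPt) = 1 := by
        have hm : (k : Equiv.Perm GolayPt)⁻¹ * (h : Equiv.Perm GolayPt) ∈ Spor.M12 :=
          Spor.M12.mul_mem (Spor.M12.inv_mem (M11_le (hH k.2))) (M11_le (hH h.2))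
        refine dodecad_fix H28.squareDodecad_mem (fun i => (e i : GolayPt)) ?_ ?_ hm.1 ?_ hm.2
        · intro i j hij; exact e.injective (Subtype.ext hij)
        · intro i
          have := (Finset.mem_sdiff.1 (e i).2).1
          unfold ST at this
          exact Finset.mem_of_mem_erase this
        · intro i
          rw [Equiv.Perm.mul_apply, e1 _ (e i).2, inv_ap]
      exact Subtype.ext (inv_mul_eq_one.1 e2).symm
    have h13 := Nat.card_le_card_of_injective F hF
    rw [hc, Nat.card_eq_fintype_card, Fintype.card_perm, Fintype.card_coe] at h13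
    have h14 : T.card = 5 := hT
    rw [h14] at h13
    revert h13; decide
  · exfalso
    rw [h9] at h12; omega

theorem out11 : Nat.card (Cfsg.Out ↥Cfsg.Spor.M11) = 1 := by
  have h : Cfsg.Inn ↥Cfsg.Spor.M11 = ⊤ := by
    rw [eq_top_iff]
    intro α _
    have hx1 : gpt 1 ∈ ST := by rw [mem_SL, gidx_gpt (by norm_num)]; decide
    obtain ⟨y, hyS, hy⟩ : ∃ y ∈ ST, ∀ g : Spor.M11,
        (g : Equiv.Perm GolayPt) (gpt 1) = gpt 1 ↔ (α g : Equiv.Perm GolayPt) y = y := by
      let H : Subgroup (Equiv.Perm GolayPt) :=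
        ((MulAction.stabilizer Spor.M11 (gpt 1)).map α.toMonoidHom).map Spor.M11.subtype
      have hHG : H ≤ Spor.M11 := Subgroup.map_subtype_le _
      have hcard : Nat.card H = 720 := by
        rw [← card_stab11 hx1, Subgroup.card_map_of_injective Spor.M11.subtype_injective,
          Subgroup.card_map_of_injective α.injective]
      obtain ⟨y, hyS, hfix⟩ := fix11 hHG hcard
      refine ⟨y, hyS, ?_⟩
      have hle : (MulAction.stabilizer Spor.M11 (gpt 1)).map α.toMonoidHom ≤
          MulAction.stabilizer Spor.M11 y := by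
        intro g hg
        exact hfix g ⟨g, hg, rfl⟩
      have heq : (MulAction.stabilizer Spor.M11 (gpt 1)).map α.toMonoidHom =
          MulAction.stabilizer Spor.M11 y := by
        apply Subgroup.eq_of_le_of_card_ge hle
        rw [Subgroup.card_map_of_injective α.injective, card_stab11 hx1, card_stab11 hyS]
      intro g
      have h1 : α g ∈ (MulAction.stabilizer Spor.M11 (gpt 1)).map α.toMonoidHom ↔
          g ∈ MulAction.stabilizer Spor.M11 (gpt 1) := by
        constructor
        · rintro ⟨k, hk, hkg⟩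
          have : k = g := α.injective hkg
          rw [← this]; exact hk
        · intro hg; exact ⟨g, hg, rfl⟩
      rw [heq] at h1
      exact h1.symm
    obtain ⟨k, hk, h⟩ := inner_of_stab (G := Spor.M11) (ck := ck11) (fun c hc => cd11_aux hc) (SL := SL)
      (F0 := [1, 2, 3, 4]) SL_lt (by decide) (fun g hg x hx => by
        rw [← mem_SL] at hx ⊢; exact M11_ST hg hx) base11 (gpt 1)
      (fun x hx => trans11 hx1 ((mem_SL x).2 hx)) ntr11 ch ch11 α y ((mem_SL y).1 hyS) hy
    refine ⟨⟨k, hk⟩, ?_⟩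
    ext1 g
    exact Subtype.ext (h g)
  rw [← Subgroup.index_eq_card, h, Subgroup.index_top]

end Cfsg.Agent.H15.Out11
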