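import Mathlib

set_option autoImplicit false

namespace Cfsg.Agent.H15.PC

open Finset

theorem count_id {G Ω : Type*} [Group G] [Finite G] [Finite Ω] [MulAction G Ω]
    (h2 : ∀ x y x' y' : Ω, x ≠ y → x' ≠ y' → ∃ g : G, g • x = x' ∧ g • y = y')
    (h1 : ∀ x x' : Ω, ∃ g : G, g • x = x')
    (hN : 2 ≤ Nat.card Ω) (a b : G) (f : ℕ)
    (hf : ∀ g : G, Nat.card {x : Ω // (a * (g * b * g⁻¹)) • x = x} = f) :
    ((Nat.card Ω : ℤ) - 1) * ((f : ℤ) - 1) =
      ((Nat.card {x : Ω // a • x = x} : ℤ) - 1) * ((Nat.card {x : Ω // b • x = x} : ℤ) - 1) := by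
  classical
  haveI := Fintype.ofFinite G
  haveI := Fintype.ofFinite Ω
  set N : ℤ := (Nat.card Ω : ℤ) with hNd
  set Fa : ℤ := (Nat.card {x : Ω // a • x = x} : ℤ) with hFa
  set Fb : ℤ := (Nat.card {x : Ω // b • x = x} : ℤ) with hFb
  let T : Ω → Ω → ℤ := fun x y => ∑ g : G, if (g * b * g⁻¹) • x = y then (1 : ℤ) else 0
  have hinv : ∀ (h : G) (x y : Ω), T (h • x) (h • y) = T x y := by
    intro h x y
    show (∑ g : G, if (g * b * g⁻¹) • h • x = h • y then (1 : ℤ) else 0) =
      ∑ g : G, if (g * b * g⁻¹) • x = y then (1 : ℤ) else 0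
    symm
    apply Fintype.sum_equiv (Equiv.mulLeft h)
    intro g
    have : ((h * g) * b * (h * g)⁻¹) • h • x = h • ((g * b * g⁻¹) • x) := by
      rw [← mul_smul, ← mul_smul]
      congr 1
      group
    show (if (g * b * g⁻¹) • x = y then (1 : ℤ) else 0) =
      if ((h * g) * b * (h * g)⁻¹) • h • x = h • y then (1 : ℤ) else 0
    rw [this]
    by_cases hc : (g * b * g⁻¹) • x = y
    · simp [hc]
    · rw [if_neg hc, if_neg]
      intro h'
      exact hc (smul_left_cancel h h')
  have hcardpos : 2 ≤ Fintype.card Ω := by rwa [← Nat.card_eq_fintype_card]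
  obtain ⟨x0, y0, hxy0⟩ := Fintype.exists_pair_of_one_lt_card (by omega : 1 < Fintype.card Ω)
  set t1 := T x0 x0 with ht1
  set t2 := T x0 y0 with ht2
  have hT1 : ∀ x, T x x = t1 := by
    intro x
    obtain ⟨g, hg⟩ := h1 x0 x
    rw [← hg, hinv]
  have hT2 : ∀ x y, x ≠ y → T x y = t2 := by
    intro x y hxy
    obtain ⟨g, hg, hg'⟩ := h2 x0 y0 x y hxy0 hxy
    rw [← hg, ← hg', hinv]
  have hcard : ∀ (c : G), (∑ x : Ω, if c • x = x then (1 : ℤ) else 0) =
      (Nat.card {x : Ω // c • x = x} : ℤ) := by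
    intro c
    rw [Finset.sum_boole, Nat.card_eq_fintype_card, Fintype.card_subtype]
  have e1 : N * t1 = (Nat.card G : ℤ) * Fb := by
    have h := (Finset.sum_congr rfl (fun x _ => hT1 x) : ∑ x : Ω, T x x = ∑ x : Ω, t1)
    rw [Finset.sum_const, Finset.card_univ, nsmul_eq_mul] at h
    rw [hNd, Nat.card_eq_fintype_card, ← h]
    show ∑ x : Ω, ∑ g : G, (if (g * b * g⁻¹) • x = x then (1 : ℤ) else 0) = _
    rw [Finset.sum_comm]
    have : ∀ g : G, (∑ x : Ω, if (g * b * g⁻¹) • x = x then (1 : ℤ) else 0) = Fb := by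
      intro g
      rw [hFb, ← hcard b]
      symm
      apply Fintype.sum_equiv (MulAction.toPerm g)
      intro x
      simp only [MulAction.toPerm_apply]
      have h3 : (g * b * g⁻¹) • g • x = g • (b • x) := by
        rw [← mul_smul, ← mul_smul]
        congr 1
        group
      rw [h3]
      by_cases hc : b • x = x
      · simp [hc]
      · rw [if_neg hc, if_neg]
        intro h'
        exact hc (smul_left_cancel g h')
    rw [Finset.sum_congr rfl (fun g _ => this g), Finset.sum_const, Finset.card_univ,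
      nsmul_eq_mul, Nat.card_eq_fintype_card]
  have e2 : t1 + (N - 1) * t2 = (Nat.card G : ℤ) := by
    have h : ∑ y : Ω, T x0 y = (Nat.card G : ℤ) := by
      show ∑ y : Ω, ∑ g : G, (if (g * b * g⁻¹) • x0 = y then (1 : ℤ) else 0) = _
      rw [Finset.sum_comm]
      simp [Nat.card_eq_fintype_card]
    rw [← h, ← Finset.add_sum_erase _ _ (Finset.mem_univ x0)]
    congr 1
    rw [Finset.sum_congr rfl (fun y hy => hT2 x0 y (Finset.ne_of_mem_erase hy).symm),
      Finset.sum_const, Finset.card_erase_of_mem (Finset.mem_univ _), Finset.card_univ,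
      nsmul_eq_mul, hNd, Nat.card_eq_fintype_card, Nat.cast_sub (by omega)]
    push_cast
    ring
  have e3 : Fa * t1 + (N - Fa) * t2 = (Nat.card G : ℤ) * f := by
    have h : ∑ x : Ω, T x (a⁻¹ • x) = (Nat.card G : ℤ) * f := by
      show ∑ x : Ω, ∑ g : G, (if (g * b * g⁻¹) • x = a⁻¹ • x then (1 : ℤ) else 0) = _
      rw [Finset.sum_comm]
      have : ∀ g : G, (∑ x : Ω, if (g * b * g⁻¹) • x = a⁻¹ • x then (1 : ℤ) else 0) = f := by
        intro g
        rw [← hf g, ← hcard]
        apply Finset.sum_congr rfl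
        intro x _
        have : (g * b * g⁻¹) • x = a⁻¹ • x ↔ (a * (g * b * g⁻¹)) • x = x := by
          rw [eq_inv_smul_iff, ← mul_smul]
        simp only [this]
      rw [Finset.sum_congr rfl (fun g _ => this g), Finset.sum_const, Finset.card_univ,
        nsmul_eq_mul, Nat.card_eq_fintype_card]
    rw [← h]
    have h4 : ∀ x : Ω, T x (a⁻¹ • x) = (if a • x = x then (1 : ℤ) else 0) * t1 +
        (1 - (if a • x = x then (1 : ℤ) else 0)) * t2 := by
      intro x
      by_cases hc : a • x = x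
      · have : a⁻¹ • x = x := by rw [inv_smul_eq_iff, hc]
        rw [this, hT1]
        simp [hc]
      · have : x ≠ a⁻¹ • x := by
          intro h5
          apply hc
          rw [eq_inv_smul_iff] at h5
          exact h5
        rw [hT2 _ _ this]
        simp [hc]
    rw [Finset.sum_congr rfl (fun x _ => h4 x), Finset.sum_add_distrib, ← Finset.sum_mul,
      ← Finset.sum_mul, Finset.sum_sub_distrib, hcard a, Finset.sum_const, Finset.card_univ,
      nsmul_eq_mul, hNd, Nat.card_eq_fintype_card, mul_one]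
  have hGpos : (0 : ℤ) < (Nat.card G : ℤ) := by exact_mod_cast Nat.card_pos
  have hNpos : (0 : ℤ) < N := by rw [hNd]; exact_mod_cast (by omega : 0 < Nat.card Ω)
  have key : ((Nat.card G : ℤ) * N) * ((N - 1) * ((f : ℤ) - 1)) =
      ((Nat.card G : ℤ) * N) * ((Fa - 1) * (Fb - 1)) := by
    have e3' : N * (N - 1) * ((Nat.card G : ℤ) * f) =
        (N - 1) * Fa * (N * t1) + (N - Fa) * N * ((N - 1) * t2) := by
      rw [← e3]; ring
    have e2' : (N - 1) * t2 = (Nat.card G : ℤ) - t1 := by linarith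
    rw [e2'] at e3'
    have e3'' : N * (N - 1) * ((Nat.card G : ℤ) * f) =
        (N - 1) * Fa * ((Nat.card G : ℤ) * Fb) + (N - Fa) * (N * (Nat.card G : ℤ) - (Nat.card G : ℤ) * Fb) := by
      rw [e3', ← e1]; ring
    linear_combination e3''
  exact mul_left_cancel₀ (by positivity) key

end Cfsg.Agent.H15.PC
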