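import Mathlib

set_option autoImplicit false

namespace Cfsg.Agent.H15.PC

open Matrix

variable {F : Type*} [Field F] {d : ℕ}

theorem move {k : ℕ} (v w : Fin (k + 1) → (Fin d → F)) (hv : LinearIndependent F v)
    (hw : LinearIndependent F w) :
    ∃ (X : Matrix.SpecialLinearGroup (Fin d) F) (c : F), c ≠ 0 ∧ (X : Matrix (Fin d) (Fin d) F) *ᵥ w 0 = c • v 0 ∧
      ∀ i, i ≠ 0 → (X : Matrix (Fin d) (Fin d) F) *ᵥ w i = v i := by
  classical
  let f := hw.linearCombinationEquiv.symm ≪≫ₗ hv.linearCombinationEquiv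
  haveI : FiniteDimensional F (Submodule.span F (Set.range w)) := inferInstance
  obtain ⟨g, hg⟩ := Submodule.exists_linearEquiv_restrict_eq f
  have hgw : ∀ i, g (w i) = v i := by
    intro i
    have h1 : hw.linearCombinationEquiv (Finsupp.single i 1) =
        (⟨w i, Submodule.subset_span ⟨i, rfl⟩⟩ : Submodule.span F (Set.range w)) := by
      ext1; simp
    have h2 := hg ⟨w i, Submodule.subset_span ⟨i, rfl⟩⟩
    rw [← h1] at h2
    simp [f] at h2
    exact h2.symm
  obtain ⟨φ, hφ⟩ := LinearMap.exists_extend ((Finsupp.lapply (0 : Fin (k+1)) : (Fin (k+1) →₀ F) →ₗ[F] F) ∘ₗ hv.repr)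
  have hφ' : ∀ i, φ (v i) = (Finsupp.single i (1 : F)) 0 := by
    intro i
    have h1 := LinearMap.congr_fun hφ ⟨v i, Submodule.subset_span ⟨i, rfl⟩⟩
    simp only [LinearMap.comp_apply, Submodule.subtype_apply, Finsupp.lapply_apply] at h1
    rw [h1, hv.repr_eq_single i _ rfl]
  have hdet : LinearMap.det (g : (Fin d → F) →ₗ[F] (Fin d → F)) ≠ 0 := (LinearEquiv.isUnit_det' g).ne_zero
  set a : F := (LinearMap.det (g : (Fin d → F) →ₗ[F] (Fin d → F)))⁻¹ with ha
  have ha0 : a ≠ 0 := inv_ne_zero hdet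
  let D : (Fin d → F) →ₗ[F] (Fin d → F) := LinearMap.transvection φ ((a - 1) • v 0)
  have hD : LinearMap.det D = a := by
    rw [LinearMap.transvection.det, map_smul, hφ']
    simp
  refine ⟨⟨LinearMap.toMatrix' (D ∘ₗ (g : (Fin d → F) →ₗ[F] (Fin d → F))), ?_⟩, a, ha0, ?_, ?_⟩
  · rw [LinearMap.det_toMatrix', LinearMap.det_comp, hD, ha, inv_mul_cancel₀ hdet]
  · show LinearMap.toMatrix' (D ∘ₗ (g : (Fin d → F) →ₗ[F] (Fin d → F))) *ᵥ w 0 = _
    rw [LinearMap.toMatrix'_mulVec, LinearMap.comp_apply, LinearEquiv.coe_coe, hgw,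
      LinearMap.transvection.apply, hφ']
    simp only [Finsupp.single_eq_same, one_smul]
    module
  · intro i hi
    show LinearMap.toMatrix' (D ∘ₗ (g : (Fin d → F) →ₗ[F] (Fin d → F))) *ᵥ w i = _
    rw [LinearMap.toMatrix'_mulVec, LinearMap.comp_apply, LinearEquiv.coe_coe, hgw,
      LinearMap.transvection.apply, hφ', Finsupp.single_eq_of_ne (Ne.symm hi)]
    simp

end Cfsg.Agent.H15.PC
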