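import Cfsg.Agent.H15.PCb

set_option autoImplicit false

namespace Cfsg.Agent.H15.PC

open Matrix

variable {F : Type*} [Field F] {d : ℕ}

def Eig (M : Matrix.SpecialLinearGroup (Fin d) F) (v : Fin d → F) : Prop :=
  v ≠ 0 ∧ ∃ μ : F, M.1 *ᵥ v = μ • v

theorem inv_mulVec (X : Matrix.SpecialLinearGroup (Fin d) F) (v w : Fin d → F)
    (h : X.1 *ᵥ w = v) : (X⁻¹).1 *ᵥ v = w := by
  rw [← h, Matrix.mulVec_mulVec, ← Matrix.SpecialLinearGroup.coe_mul, inv_mul_cancel]
  simp

theorem mul_ne {X : Matrix.SpecialLinearGroup (Fin d) F} {v : Fin d → F} (hv : v ≠ 0) :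
    X.1 *ᵥ v ≠ 0 := by
  intro h
  apply hv
  have := inv_mulVec X _ _ h
  rw [← this]; simp

/-- if X w = s A u and X B w = t u then A u is an eigenvector -/
theorem eig_of (A B X : Matrix.SpecialLinearGroup (Fin d) F) (u w : Fin d → F) (s t : F) (hs : s ≠ 0)
    (hu : u ≠ 0) (h1 : X.1 *ᵥ w = s • (A.1 *ᵥ u)) (h2 : X.1 *ᵥ (B.1 *ᵥ w) = t • u) :
    Eig (A * (X * B * X⁻¹)) (A.1 *ᵥ u) := by
  refine ⟨mul_ne hu, s⁻¹ * t, ?_⟩
  have h3 : (X⁻¹).1 *ᵥ (A.1 *ᵥ u) = s⁻¹ • w := by
    apply inv_mulVec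
    rw [Matrix.mulVec_smul, h1, smul_smul, inv_mul_cancel₀ hs, one_smul]
  have : (A * (X * B * X⁻¹)).1 = A.1 * (X.1 * (B.1 * (X⁻¹).1)) := by
    simp only [Matrix.SpecialLinearGroup.coe_mul, Matrix.mul_assoc]
  rw [this, ← Matrix.mulVec_mulVec, ← Matrix.mulVec_mulVec, ← Matrix.mulVec_mulVec, h3,
    Matrix.mulVec_smul, Matrix.mulVec_smul, h2, smul_smul, Matrix.mulVec_smul]

/-- common eigenvector -/
theorem eig_common (A B X : Matrix.SpecialLinearGroup (Fin d) F) (u w : Fin d → F) (s : F) (hs : s ≠ 0)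
    (hu : u ≠ 0) (h1 : X.1 *ᵥ w = s • u) (l m : F) (hA : A.1 *ᵥ u = l • u) (hB : B.1 *ᵥ w = m • w) :
    (A * (X * B * X⁻¹)).1 *ᵥ u = (l * m) • u := by
  have h3 : (X⁻¹).1 *ᵥ u = s⁻¹ • w := by
    apply inv_mulVec
    rw [Matrix.mulVec_smul, h1, smul_smul, inv_mul_cancel₀ hs, one_smul]
  have : (A * (X * B * X⁻¹)).1 = A.1 * (X.1 * (B.1 * (X⁻¹).1)) := by
    simp only [Matrix.SpecialLinearGroup.coe_mul, Matrix.mul_assoc]
  rw [this, ← Matrix.mulVec_mulVec, ← Matrix.mulVec_mulVec, ← Matrix.mulVec_mulVec, h3]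
  simp only [Matrix.mulVec_smul, hB, h1, hA, smul_smul]
  congr 1
  field_simp

/-- nonscalar -/
theorem exists_indep (M : Matrix.SpecialLinearGroup (Fin d) F)
    (hM : M ∉ Subgroup.center (Matrix.SpecialLinearGroup (Fin d) F)) :
    ∃ u : Fin d → F, LinearIndependent F ![u, M.1 *ᵥ u] := by
  by_contra hcon
  push Not at hcon
  apply hM
  obtain ⟨a, ha⟩ := (Matrix.toLin' M.1).exists_eq_smul_id_of_forall_notLinearIndependent
    (fun v => by simpa using hcon v)
  rw [Matrix.SpecialLinearGroup.mem_center_iff]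
  have hscalar : M.1 = Matrix.scalar (Fin d) a := calc
      M.1 = LinearMap.toMatrix' (Matrix.toLin' M.1) := by
        rw [LinearMap.toMatrix'_toLin']
      _ = (algebraMap F (Module.End F (Fin d → F)) a).toMatrix' := congrArg LinearMap.toMatrix' ha
      _ = Matrix.scalar (Fin d) a := LinearMap.toMatrix'_algebraMap a
  exact ⟨a, by simpa [hscalar] using M.2, hscalar.symm⟩

theorem one_eig (A B : Matrix.SpecialLinearGroup (Fin d) F)
    (hA : A ∉ Subgroup.center (Matrix.SpecialLinearGroup (Fin d) F))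
    (hB : B ∉ Subgroup.center (Matrix.SpecialLinearGroup (Fin d) F)) :
    ∃ X v, Eig (A * (X * B * X⁻¹)) v := by
  obtain ⟨u, hu⟩ := exists_indep A hA
  obtain ⟨w, hw⟩ := exists_indep B hB
  have hu' : LinearIndependent F ![A.1 *ᵥ u, u] := by
    rw [LinearIndependent.pair_symm_iff]; exact hu
  obtain ⟨X, c, hc, h0, h1⟩ := move _ _ hu' hw
  have h2 := h1 1 (by decide)
  have h0' : X.1 *ᵥ w = c • (A.1 *ᵥ u) := by simpa only using! h0
  have h2' : X.1 *ᵥ (B.1 *ᵥ w) = u := by simpa only using! h2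
  refine ⟨X, A.1 *ᵥ u, eig_of A B X u w c 1 hc ?_ h0' (by rw [one_smul]; exact h2')⟩
  have := hu.ne_zero 0
  simpa using this

theorem exists_notMem2 (hd : 3 ≤ d) (x y : Fin d → F) : ∃ z : Fin d → F, z ∉ Submodule.span F ({x, y} : Set (Fin d → F)) := by
  classical
  by_contra hcon
  push Not at hcon
  have h1 : Submodule.span F ({x, y} : Set (Fin d → F)) = ⊤ := by
    rw [eq_top_iff]; intro z _; exact hcon z
  have h2 := finrank_span_finset_le_card (R := F) ({x, y} : Finset (Fin d → F))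
  rw [Finset.coe_insert, Finset.coe_singleton, Set.finrank, h1, finrank_top] at h2
  simp at h2
  have h3 : ({x, y} : Finset (Fin d → F)).card ≤ 2 := Finset.card_le_two
  omega

/-- the case of an eigenvector for both -/
theorem exists_triple (hd : 3 ≤ d) (M : Matrix.SpecialLinearGroup (Fin d) F)
    (hM : M ∉ Subgroup.center (Matrix.SpecialLinearGroup (Fin d) F)) (e : Fin d → F) (he : Eig M e) :
    ∃ u0 u1, Eig M u0 ∧ LinearIndependent F ![u0, u1, M.1 *ᵥ u1] := by
  by_contra hcon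
  push Not at hcon
  -- for every eigenvector, scalar modulo it
  have key : ∀ u0, Eig M u0 → ∃ ν : F, ∀ x, ∃ y : F, M.1 *ᵥ x - ν • x = y • u0 := by
    intro u0 hu0
    obtain ⟨hu0', μ, hμ⟩ := hu0
    set W : Submodule F (Fin d → F) := Submodule.span F {u0} with hW
    have hWM : W ≤ W.comap (Matrix.toLin' M.1) := by
      rw [hW, Submodule.span_le, Set.singleton_subset_iff]
      show Matrix.toLin' M.1 u0 ∈ Submodule.span F {u0}
      rw [Matrix.toLin'_apply, hμ]
      exact Submodule.smul_mem _ _ (Submodule.mem_span_singleton_self u0)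
    obtain ⟨ν, hν⟩ := (W.mapQ W (Matrix.toLin' M.1) hWM).exists_eq_smul_id_of_forall_notLinearIndependent
      (by
        intro v
        obtain ⟨x, rfl⟩ := W.mkQ_surjective v
        intro hli
        apply hcon u0 x ⟨hu0', μ, hμ⟩
        rw [Fintype.linearIndependent_iff]
        intro g hg
        rw [Fin.sum_univ_three] at hg
        change g 0 • u0 + g 1 • x + g 2 • (M.1 *ᵥ x) = 0 at hg
        rw [LinearIndependent.pair_iff] at hli
        have h5 := hli (g 1) (g 2) (by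
          have h6 := congrArg W.mkQ hg
          rw [map_add, map_add, map_smul, map_smul, map_smul, map_zero] at h6
          have h7 : W.mkQ u0 = 0 := by
            rw [Submodule.mkQ_apply, Submodule.Quotient.mk_eq_zero]
            exact Submodule.mem_span_singleton_self u0
          rw [h7, smul_zero, zero_add] at h6
          exact h6)
        rw [h5.1, h5.2, zero_smul, zero_smul, add_zero, add_zero, smul_eq_zero] at hg
        intro i
        fin_cases i
        · exact hg.resolve_right hu0'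
        · exact h5.1
        · exact h5.2)
    refine ⟨ν, fun x => ?_⟩
    have h1 := LinearMap.congr_fun hν (W.mkQ x)
    have h2 : M.1 *ᵥ x - ν • x ∈ W := by
      rw [← Submodule.Quotient.mk_eq_zero, Submodule.Quotient.mk_sub, sub_eq_zero]
      simpa using h1
    rw [hW, Submodule.mem_span_singleton] at h2
    obtain ⟨y, hy⟩ := h2
    exact ⟨y, hy.symm⟩
  obtain ⟨ν, hν⟩ := key e he
  obtain ⟨x, hx⟩ := exists_notMem2 hd e e
  obtain ⟨x', hx'⟩ := exists_notMem2 hd e x
  have hz : ∃ z, z ∉ Submodule.span F ({e} : Set (Fin d → F)) ∧ M.1 *ᵥ z = ν • z := by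
    obtain ⟨y, hy⟩ := hν x
    obtain ⟨y', hy'⟩ := hν x'
    by_cases h0 : y = 0
    · refine ⟨x, by simpa using hx, ?_⟩
      rw [h0, zero_smul, sub_eq_zero] at hy
      exact hy
    · refine ⟨y' • x - y • x', ?_, ?_⟩
      · intro h1
        apply hx'
        have h2 : x' = y⁻¹ • (y' • x - (y' • x - y • x')) := by
          rw [sub_sub_cancel, smul_smul, inv_mul_cancel₀ h0, one_smul]
        rw [h2]
        apply Submodule.smul_mem
        apply Submodule.sub_mem
        · exact Submodule.smul_mem _ _ (Submodule.subset_span (by simp))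
        · exact Submodule.span_mono (by simp) h1
      · rw [Matrix.mulVec_sub, Matrix.mulVec_smul, Matrix.mulVec_smul, sub_eq_iff_eq_add.mp hy,
          sub_eq_iff_eq_add.mp hy']
        module
  obtain ⟨z, hz1, hz2⟩ := hz
  have hz0 : z ≠ 0 := by
    rintro rfl
    exact hz1 (Submodule.zero_mem _)
  obtain ⟨ν', hν'⟩ := key z ⟨hz0, ν, hz2⟩
  have hez : LinearIndependent F ![e, z] := by
    rw [LinearIndependent.pair_iff' he.1]
    intro a ha
    exact hz1 (by rw [← ha]; exact Submodule.smul_mem _ _ (Submodule.mem_span_singleton_self e))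
  have hνν : ν' = ν := by
    by_contra hne
    obtain ⟨t, ht⟩ := exists_notMem2 hd e z
    apply ht
    obtain ⟨y, hy⟩ := hν t
    obtain ⟨y', hy'⟩ := hν' t
    have h1 : (ν' - ν) • t = y • e - y' • z := by
      rw [← hy, ← hy']; module
    have h2 : t = (ν' - ν)⁻¹ • (y • e - y' • z) := by
      rw [← h1, smul_smul, inv_mul_cancel₀ (sub_ne_zero.mpr hne), one_smul]
    rw [h2]
    apply Submodule.smul_mem
    apply Submodule.sub_mem
    · exact Submodule.smul_mem _ _ (Submodule.subset_span (by simp))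
    · exact Submodule.smul_mem _ _ (Submodule.subset_span (by simp))
  obtain ⟨u, hu⟩ := exists_indep M hM
  obtain ⟨y, hy⟩ := hν u
  obtain ⟨y', hy'⟩ := hν' u
  rw [hνν] at hy'
  rw [LinearIndependent.pair_iff] at hez hu
  have h3 := hez y (-y') (by rw [← hy, neg_smul, ← hy']; simp)
  rw [h3.1, zero_smul, sub_eq_zero] at hy
  have h4 := hu (-ν) 1 (by rw [hy]; module)
  exact one_ne_zero h4.2

theorem two_eig (hd : 3 ≤ d) (A B : Matrix.SpecialLinearGroup (Fin d) F)
    (hA : A ∉ Subgroup.center (Matrix.SpecialLinearGroup (Fin d) F))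
    (hB : B ∉ Subgroup.center (Matrix.SpecialLinearGroup (Fin d) F))
    (a b : Fin d → F) (ha : Eig A a) (hb : Eig B b) :
    ∃ X v1 v2, Eig (A * (X * B * X⁻¹)) v1 ∧ Eig (A * (X * B * X⁻¹)) v2 ∧
      LinearIndependent F ![v1, v2] := by
  obtain ⟨u0, u1, ⟨hu00, l, hl⟩, hu1⟩ := exists_triple hd A hA a ha
  obtain ⟨w0, w1, ⟨hw00, m, hm⟩, hw1⟩ := exists_triple hd B hB b hb
  have hu2 : LinearIndependent F ![u0, A.1 *ᵥ u1, u1] := by
    rw [Fintype.linearIndependent_iff] at hu1 ⊢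
    intro g hg
    rw [Fin.sum_univ_three] at hg
    change g 0 • u0 + g 1 • (A.1 *ᵥ u1) + g 2 • u1 = 0 at hg
    have h1 := hu1 ![g 0, g 2, g 1] (by
      rw [Fin.sum_univ_three]
      change g 0 • u0 + g 2 • u1 + g 1 • (A.1 *ᵥ u1) = 0
      rw [← hg]; abel)
    intro i
    fin_cases i
    · exact h1 0
    · exact h1 2
    · exact h1 1
  obtain ⟨X, c, hc, h0, h1⟩ := move _ _ hu2 hw1
  have h0' : X.1 *ᵥ w0 = c • u0 := by simpa only using! h0
  have h1' : X.1 *ᵥ w1 = A.1 *ᵥ u1 := by simpa only using! h1 1 (by decide)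
  have h2' : X.1 *ᵥ (B.1 *ᵥ w1) = u1 := by simpa only using! h1 2 (by decide)
  have hu10 : u1 ≠ 0 := by simpa only using! hu1.ne_zero 1
  refine ⟨X, u0, A.1 *ᵥ u1, ⟨hu00, _, eig_common A B X u0 w0 c hc hu00 h0' l m hl hm⟩,
    eig_of A B X u1 w1 1 1 one_ne_zero hu10 (by rw [one_smul]; exact h1')
      (by rw [one_smul]; exact h2'), ?_⟩
  rw [LinearIndependent.pair_iff]
  rw [Fintype.linearIndependent_iff] at hu2
  intro s t hst
  have h5 := hu2 ![s, t, 0] (by
    rw [Fin.sum_univ_three]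
    change s • u0 + t • (A.1 *ᵥ u1) + (0 : F) • u1 = 0
    rw [hst, zero_smul, add_zero])
  exact ⟨h5 0, h5 1⟩

end Cfsg.Agent.H15.PC
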