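import Cfsg.Agent.H15.PCc

set_option autoImplicit false

namespace Cfsg.Agent.H15.PC

open Matrix

variable {F : Type*} [Field F] {d : ℕ}

theorem exists_notMem3 (hd : 4 ≤ d) (x y t : Fin d → F) : ∃ z : Fin d → F, z ∉ Submodule.span F ({x, y, t} : Set (Fin d → F)) := by
  classical
  by_contra hcon
  push Not at hcon
  have h1 : Submodule.span F ({x, y, t} : Set (Fin d → F)) = ⊤ := by
    rw [eq_top_iff]; intro z _; exact hcon z
  have h2 := finrank_span_finset_le_card (R := F) ({x, y, t} : Finset (Fin d → F))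
  rw [Finset.coe_insert, Finset.coe_insert, Finset.coe_singleton, Set.finrank, h1, finrank_top] at h2
  simp at h2
  have h3 : ({x, y, t} : Finset (Fin d → F)).card ≤ 3 := Finset.card_le_three
  omega

theorem dep_quot (M : Matrix.SpecialLinearGroup (Fin d) F) (w1 : Fin d → F)
    (hw : LinearIndependent F ![w1, M.1 *ᵥ w1])
    (hcon : ∀ w2, ¬ LinearIndependent F ![w1, M.1 *ᵥ w1, w2, M.1 *ᵥ w2]) (w2 : Fin d → F) :
    ¬ LinearIndependent F ![(Submodule.span F ({w1, M.1 *ᵥ w1} : Set (Fin d → F))).mkQ w2,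
      (Submodule.span F ({w1, M.1 *ᵥ w1} : Set (Fin d → F))).mkQ (M.1 *ᵥ w2)] := by
  intro hli
  apply hcon w2
  rw [Fintype.linearIndependent_iff]
  intro g hg
  rw [Fin.sum_univ_four] at hg
  change g 0 • w1 + g 1 • (M.1 *ᵥ w1) + g 2 • w2 + g 3 • (M.1 *ᵥ w2) = 0 at hg
  rw [LinearIndependent.pair_iff] at hli hw
  set W := Submodule.span F ({w1, M.1 *ᵥ w1} : Set (Fin d → F)) with hW
  have h5 := hli (g 2) (g 3) (by
    have h6 := congrArg W.mkQ hg
    rw [map_add, map_add, map_add, map_smul, map_smul, map_smul, map_smul, map_zero] at h6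
    have h7 : W.mkQ w1 = 0 := by
      rw [Submodule.mkQ_apply, Submodule.Quotient.mk_eq_zero]
      exact Submodule.subset_span (by simp)
    have h8 : W.mkQ (M.1 *ᵥ w1) = 0 := by
      rw [Submodule.mkQ_apply, Submodule.Quotient.mk_eq_zero]
      exact Submodule.subset_span (by simp)
    rw [h7, h8, smul_zero, smul_zero, zero_add, zero_add] at h6
    exact h6)
  rw [h5.1, h5.2, zero_smul, zero_smul, add_zero, add_zero] at hg
  have h9 := hw _ _ hg
  intro i
  fin_cases i
  · exact h9.1
  · exact h9.2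
  · exact h5.1
  · exact h5.2

/-- quadruple -/
theorem quad (hd : 4 ≤ d) (M : Matrix.SpecialLinearGroup (Fin d) F)
    (hM : M ∉ Subgroup.center (Matrix.SpecialLinearGroup (Fin d) F))
    (h1 : ∀ v v', Eig M v → Eig M v' → ¬ LinearIndependent F ![v, v']) :
    ∃ w1 w2, LinearIndependent F ![w1, M.1 *ᵥ w1, w2, M.1 *ᵥ w2] := by
  obtain ⟨w1, hw⟩ := exists_indep M hM
  by_contra hcon
  push Not at hcon
  have hdep := dep_quot M w1 hw (hcon w1)
  set W := Submodule.span F ({w1, M.1 *ᵥ w1} : Set (Fin d → F)) with hW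
  by_cases hinv : M.1 *ᵥ (M.1 *ᵥ w1) ∈ W
  · have hWM : W ≤ W.comap (Matrix.toLin' M.1) := by
      rw [hW, Submodule.span_le]
      intro x hx
      rcases hx with rfl | hx
      · show Matrix.toLin' M.1 x ∈ W
        rw [Matrix.toLin'_apply]
        exact Submodule.subset_span (by simp)
      · rw [Set.mem_singleton_iff] at hx
        subst hx
        show Matrix.toLin' M.1 _ ∈ W
        rw [Matrix.toLin'_apply]
        exact hinv
    obtain ⟨ν, hν⟩ := (W.mapQ W (Matrix.toLin' M.1) hWM).exists_eq_smul_id_of_forall_notLinearIndependent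
      (by
        intro v
        obtain ⟨x, rfl⟩ := W.mkQ_surjective v
        exact hdep x)
    have hr : LinearMap.range (Matrix.toLin' M.1 - ν • LinearMap.id) ≤ W := by
      rintro _ ⟨x, rfl⟩
      have h3 := LinearMap.congr_fun hν (W.mkQ x)
      rw [← Submodule.Quotient.mk_eq_zero, LinearMap.sub_apply, Submodule.Quotient.mk_sub, sub_eq_zero]
      simpa using h3
    have h4 := LinearMap.finrank_range_add_finrank_ker (Matrix.toLin' M.1 - ν • LinearMap.id)
    have h5 := Submodule.finrank_mono hr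
    have h6 : Module.finrank F W ≤ 2 := by
      classical
      have h7 := finrank_span_finset_le_card (R := F) ({w1, M.1 *ᵥ w1} : Finset (Fin d → F))
      rw [Finset.coe_insert, Finset.coe_singleton, Set.finrank] at h7
      exact h7.trans Finset.card_le_two
    have h8 : Module.finrank F (Fin d → F) = d := by simp
    have h9 : 1 < Module.finrank F (LinearMap.ker (Matrix.toLin' M.1 - ν • LinearMap.id)) := by omega
    haveI : Nontrivial (LinearMap.ker (Matrix.toLin' M.1 - ν • LinearMap.id)) :=
      Module.nontrivial_of_finrank_pos (R := F) (by omega)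
    obtain ⟨x, hx⟩ := exists_ne (0 : LinearMap.ker (Matrix.toLin' M.1 - ν • LinearMap.id))
    obtain ⟨y, hy⟩ := exists_linearIndependent_pair_of_one_lt_finrank h9 hx
    have hy' : LinearIndependent F ![(x : Fin d → F), (y : Fin d → F)] := by
      rw [LinearIndependent.pair_iff] at hy ⊢
      intro s t hst
      apply hy s t
      ext1
      simpa using! hst
    have hE : ∀ z : LinearMap.ker (Matrix.toLin' M.1 - ν • LinearMap.id), (z : Fin d → F) ≠ 0 →
        Eig M z := by
      intro z hz
      refine ⟨hz, ν, ?_⟩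
      have h3 := z.2
      rw [LinearMap.mem_ker, LinearMap.sub_apply, sub_eq_zero] at h3
      simpa using h3
    exact h1 _ _ (hE x (by simpa only using! hy'.ne_zero 0)) (hE y (by simpa only using! hy'.ne_zero 1)) hy'
  · obtain ⟨u, hu⟩ := exists_notMem3 hd w1 (M.1 *ᵥ w1) (M.1 *ᵥ (M.1 *ᵥ w1))
    set v := M.1 *ᵥ (M.1 *ᵥ w1) with hv
    have hind : ∀ s t : F, s • W.mkQ u + t • W.mkQ v = 0 → s = 0 ∧ t = 0 := by
      intro s t hst
      have h2 : s • u + t • v ∈ W := by
        rw [← map_smul, ← map_smul, ← map_add, Submodule.mkQ_apply, Submodule.Quotient.mk_eq_zero] at hst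
        exact hst
      have hs : s = 0 := by
        by_contra hs
        apply hu
        have h3 : u = s⁻¹ • ((s • u + t • v) - t • v) := by
          rw [add_sub_cancel_right, smul_smul, inv_mul_cancel₀ hs, one_smul]
        rw [h3]
        apply Submodule.smul_mem
        apply Submodule.sub_mem
        · refine Submodule.span_mono ?_ h2
          intro z hz
          rcases hz with rfl | hz
          · simp
          · rw [Set.mem_singleton_iff] at hz
            rw [hz]; simp
        · exact Submodule.smul_mem _ _ (Submodule.subset_span (by simp))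
      refine ⟨hs, ?_⟩
      rw [hs, zero_smul, zero_add] at h2
      by_contra ht
      apply hinv
      have := Submodule.smul_mem W t⁻¹ h2
      rwa [smul_smul, inv_mul_cancel₀ ht, one_smul] at this
    have hdep' : ∀ w, W.mkQ w ≠ 0 → ∃ l : F, l • W.mkQ w = W.mkQ (M.1 *ᵥ w) := by
      intro w hw0
      have h3 := hdep w
      rw [LinearIndependent.pair_iff' hw0] at h3
      push Not at h3
      exact h3
    have hv0 : W.mkQ v ≠ 0 := by
      intro h; have := (hind 0 1 (by rw [h]; simp)).2; exact one_ne_zero this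
    have hu0 : W.mkQ u ≠ 0 := by
      intro h; have := (hind 1 0 (by rw [h]; simp)).1; exact one_ne_zero this
    have huv0 : W.mkQ (u + v) ≠ 0 := by
      intro h; rw [map_add] at h; have := (hind 1 1 (by rw [one_smul, one_smul]; exact h)).1; exact one_ne_zero this
    have h7 : W.mkQ (M.1 *ᵥ w1) = 0 := by
      rw [Submodule.mkQ_apply, Submodule.Quotient.mk_eq_zero]
      exact Submodule.subset_span (by simp)
    have huvw0 : W.mkQ (u + v + M.1 *ᵥ w1) ≠ 0 := by
      rw [map_add, h7, add_zero]; exact huv0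
    obtain ⟨lu, hlu⟩ := hdep' u hu0
    obtain ⟨lv, hlv⟩ := hdep' v hv0
    obtain ⟨l1, hl1⟩ := hdep' _ huv0
    obtain ⟨l2, hl2⟩ := hdep' _ huvw0
    rw [Matrix.mulVec_add, map_add, map_add, ← hlu, ← hlv] at hl1
    rw [Matrix.mulVec_add, Matrix.mulVec_add, ← hv, map_add, map_add, map_add, map_add, h7, add_zero, ← hlu, ← hlv] at hl2
    have e1 := hind (l1 - lu) (l1 - lv) (by
      have := sub_eq_zero.mpr hl1
      rw [← this]; module)
    have e2 := hind (l2 - lu) (l2 - lv - 1) (by
      have := sub_eq_zero.mpr hl2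
      rw [← this]; module)
    have : (1 : F) = 0 := by linear_combination e2.1 + e1.2 - e1.1 - e2.2
    exact one_ne_zero this

/-- cyclic triple, d = 3, no eigenvectors -/
theorem triA (hd : d = 3) (M : Matrix.SpecialLinearGroup (Fin d) F)
    (hM : M ∉ Subgroup.center (Matrix.SpecialLinearGroup (Fin d) F))
    (h1 : ∀ v, ¬ Eig M v) :
    ∃ w, LinearIndependent F ![w, M.1 *ᵥ w, M.1 *ᵥ (M.1 *ᵥ w)] := by
  obtain ⟨w, hw⟩ := exists_indep M hM
  refine ⟨w, ?_⟩
  by_contra hcon
  set W := Submodule.span F ({w, M.1 *ᵥ w} : Set (Fin d → F)) with hW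
  have hinv : M.1 *ᵥ (M.1 *ᵥ w) ∈ W := by
    by_contra hnot
    apply hcon
    rw [Fintype.linearIndependent_iff]
    rw [LinearIndependent.pair_iff] at hw
    intro g hg
    rw [Fin.sum_univ_three] at hg
    change g 0 • w + g 1 • (M.1 *ᵥ w) + g 2 • (M.1 *ᵥ (M.1 *ᵥ w)) = 0 at hg
    have h2 : g 2 = 0 := by
      by_contra h2
      apply hnot
      have h3 : M.1 *ᵥ (M.1 *ᵥ w) = (g 2)⁻¹ • ((g 0 • w + g 1 • (M.1 *ᵥ w) + g 2 • (M.1 *ᵥ (M.1 *ᵥ w))) - (g 0 • w + g 1 • (M.1 *ᵥ w))) := by
        rw [add_sub_cancel_left, smul_smul, inv_mul_cancel₀ h2, one_smul]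
      rw [h3, hg, zero_sub]
      apply Submodule.smul_mem
      apply Submodule.neg_mem
      apply Submodule.add_mem
      · exact Submodule.smul_mem _ _ (Submodule.subset_span (by simp))
      · exact Submodule.smul_mem _ _ (Submodule.subset_span (by simp))
    rw [h2, zero_smul, add_zero] at hg
    have h4 := hw _ _ hg
    intro i
    fin_cases i
    · exact h4.1
    · exact h4.2
    · exact h2
  have hWM : W ≤ W.comap (Matrix.toLin' M.1) := by
    rw [hW, Submodule.span_le]
    intro x hx
    rcases hx with rfl | hx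
    · show Matrix.toLin' M.1 x ∈ W
      rw [Matrix.toLin'_apply]
      exact Submodule.subset_span (by simp)
    · rw [Set.mem_singleton_iff] at hx
      subst hx
      show Matrix.toLin' M.1 _ ∈ W
      rw [Matrix.toLin'_apply]
      exact hinv
  have h6 : Module.finrank F W ≤ 2 := by
    classical
    have h7 := finrank_span_finset_le_card (R := F) ({w, M.1 *ᵥ w} : Finset (Fin d → F))
    rw [Finset.coe_insert, Finset.coe_singleton, Set.finrank] at h7
    exact h7.trans Finset.card_le_two
  have h6' : 2 ≤ Module.finrank F W := by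
    have h8 := hw.fintype_card_le_finrank
    have h9 : LinearIndependent F (![⟨w, Submodule.subset_span (by simp)⟩, ⟨M.1 *ᵥ w, Submodule.subset_span (by simp)⟩] : Fin 2 → W) := by
      rw [LinearIndependent.pair_iff] at hw ⊢
      intro s t hst
      apply hw s t
      have := congrArg Subtype.val hst
      simpa using this
    have := h9.fintype_card_le_finrank
    simpa using this
  have h10 : Module.finrank F ((Fin d → F) ⧸ W) = 1 := by
    have := Submodule.finrank_quotient_add_finrank W
    have h8 : Module.finrank F (Fin d → F) = d := by simp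
    omega
  obtain ⟨ν, hν⟩ := (W.mapQ W (Matrix.toLin' M.1) hWM).exists_eq_smul_id_of_forall_notLinearIndependent
    (by
      intro v hli
      have := hli.fintype_card_le_finrank
      rw [h10] at this
      simp at this)
  have hr : LinearMap.range (Matrix.toLin' M.1 - ν • LinearMap.id) ≤ W := by
    rintro _ ⟨x, rfl⟩
    have h3 := LinearMap.congr_fun hν (W.mkQ x)
    rw [← Submodule.Quotient.mk_eq_zero, LinearMap.sub_apply, Submodule.Quotient.mk_sub, sub_eq_zero]
    simpa using h3
  have h4 := LinearMap.finrank_range_add_finrank_ker (Matrix.toLin' M.1 - ν • LinearMap.id)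
  have h5 := Submodule.finrank_mono hr
  have h8 : Module.finrank F (Fin d → F) = d := by simp
  haveI : Nontrivial (LinearMap.ker (Matrix.toLin' M.1 - ν • LinearMap.id)) :=
    Module.nontrivial_of_finrank_pos (R := F) (by omega)
  obtain ⟨x, hx⟩ := exists_ne (0 : LinearMap.ker (Matrix.toLin' M.1 - ν • LinearMap.id))
  apply h1 x
  refine ⟨fun h => hx (Subtype.ext h), ν, ?_⟩
  have h3 := x.2
  rw [LinearMap.mem_ker, LinearMap.sub_apply, sub_eq_zero] at h3
  simpa using h3

/-- cyclic triple, d = 3, one eigenline -/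
theorem triB (hd : d = 3) (M : Matrix.SpecialLinearGroup (Fin d) F)
    (hM : M ∉ Subgroup.center (Matrix.SpecialLinearGroup (Fin d) F)) (e : Fin d → F) (he : Eig M e)
    (h1 : ∀ v v', Eig M v → Eig M v' → ¬ LinearIndependent F ![v, v']) :
    ∃ w, LinearIndependent F ![w, M.1 *ᵥ w, M.1 *ᵥ (M.1 *ᵥ w)] := by
  obtain ⟨w0, w1, hw0, hli⟩ := exists_triple hd.ge M hM e he
  obtain ⟨hw00, β, hβ⟩ := hw0
  have hspan : ∃ x y z : F, M.1 *ᵥ (M.1 *ᵥ w1) = x • w0 + y • w1 + z • (M.1 *ᵥ w1) := by
    have h2 : Submodule.span F (Set.range ![w0, w1, M.1 *ᵥ w1]) = ⊤ := by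
      apply LinearIndependent.span_eq_top_of_card_eq_finrank' hli
      simp [hd]
    have h3 : M.1 *ᵥ (M.1 *ᵥ w1) ∈ Submodule.span F (Set.range ![w0, w1, M.1 *ᵥ w1]) := by
      rw [h2]; trivial
    rw [Submodule.mem_span_range_iff_exists_fun] at h3
    obtain ⟨c, hc⟩ := h3
    rw [Fin.sum_univ_three] at hc
    exact ⟨c 0, c 1, c 2, hc.symm⟩
  obtain ⟨x, y, z, hxyz⟩ := hspan
  rw [Fintype.linearIndependent_iff] at hli
  have hli' : ∀ p q r : F, p • w0 + q • w1 + r • (M.1 *ᵥ w1) = 0 → p = 0 ∧ q = 0 ∧ r = 0 := by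
    intro p q r h
    have := hli ![p, q, r] (by rw [Fin.sum_univ_three]; exact h)
    exact ⟨this 0, this 1, this 2⟩
  by_cases hx : x = 0
  · refine ⟨w0 + w1, ?_⟩
    rw [hx, zero_smul, zero_add] at hxyz
    have hdet : β ^ 2 - z * β - y ≠ 0 := by
      intro h0
      -- u = M w1 - (z - β) w1 is an eigenvector
      apply h1 w0 (M.1 *ᵥ w1 - (z - β) • w1) ⟨hw00, β, hβ⟩ ⟨?_, β, ?_⟩
      · rw [LinearIndependent.pair_iff]
        intro s t hst
        have := hli' s (- (t * (z - β))) t (by rw [← hst]; module)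
        exact ⟨this.1, this.2.2⟩
      · intro h
        have := hli' 0 (-(z - β)) 1 (by rw [← h]; module)
        exact one_ne_zero this.2.2
      · rw [Matrix.mulVec_sub, Matrix.mulVec_smul, hxyz]
        have hy : y = β ^ 2 - z * β := by linear_combination -h0
        rw [hy]
        module
    rw [Fintype.linearIndependent_iff]
    intro g hg
    rw [Fin.sum_univ_three] at hg
    change g 0 • (w0 + w1) + g 1 • (M.1 *ᵥ (w0 + w1)) + g 2 • (M.1 *ᵥ (M.1 *ᵥ (w0 + w1))) = 0 at hg
    rw [Matrix.mulVec_add, Matrix.mulVec_add, hβ, Matrix.mulVec_smul, hβ, hxyz] at hg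
    have h3 := hli' (g 0 + g 1 * β + g 2 * β ^ 2) (g 0 + g 2 * y) (g 1 + g 2 * z) (by
      rw [← hg]; module)
    have h4 : g 2 * (β ^ 2 - z * β - y) = 0 := by
      linear_combination h3.1 - h3.2.1 - β * h3.2.2
    have h5 : g 2 = 0 := (mul_eq_zero.mp h4).resolve_right hdet
    intro i
    fin_cases i
    · have := h3.2.1
      rw [h5] at this
      simpa using this
    · have := h3.2.2
      rw [h5] at this
      simpa using this
    · exact h5
  · refine ⟨w1, ?_⟩
    rw [Fintype.linearIndependent_iff]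
    intro g hg
    rw [Fin.sum_univ_three] at hg
    change g 0 • w1 + g 1 • (M.1 *ᵥ w1) + g 2 • (M.1 *ᵥ (M.1 *ᵥ w1)) = 0 at hg
    rw [hxyz] at hg
    have h3 := hli' (g 2 * x) (g 0 + g 2 * y) (g 1 + g 2 * z) (by
      rw [← hg]; module)
    have h5 : g 2 = 0 := (mul_eq_zero.mp h3.1).resolve_right hx
    intro i
    fin_cases i
    · have := h3.2.1
      rw [h5] at this
      simpa using this
    · have := h3.2.2
      rw [h5] at this
      simpa using this
    · exact h5

end Cfsg.Agent.H15.PC
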