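import Cfsg.Agent.H15.PCd

set_option autoImplicit false

namespace Cfsg.Agent.H15.PC

open Matrix

variable {F : Type*} [Field F] {d : ℕ}

theorem two_cyc (A B : Matrix.SpecialLinearGroup (Fin d) F)
    (hA : ∃ w, LinearIndependent F ![w, A.1 *ᵥ w, A.1 *ᵥ (A.1 *ᵥ w)])
    (hB : ∃ w, LinearIndependent F ![w, B.1 *ᵥ w, B.1 *ᵥ (B.1 *ᵥ w)]) :
    ∃ X v1 v2, Eig (A * (X * B * X⁻¹)) v1 ∧ Eig (A * (X * B * X⁻¹)) v2 ∧
      LinearIndependent F ![v1, v2] := by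
  obtain ⟨u, hu⟩ := hA
  obtain ⟨w, hw⟩ := hB
  have hu2 : LinearIndependent F ![A.1 *ᵥ (A.1 *ᵥ u), A.1 *ᵥ u, u] := by
    rw [Fintype.linearIndependent_iff] at hu ⊢
    intro g hg
    rw [Fin.sum_univ_three] at hg
    change g 0 • (A.1 *ᵥ (A.1 *ᵥ u)) + g 1 • (A.1 *ᵥ u) + g 2 • u = 0 at hg
    have h1 := hu ![g 2, g 1, g 0] (by
      rw [Fin.sum_univ_three]
      change g 2 • u + g 1 • (A.1 *ᵥ u) + g 0 • (A.1 *ᵥ (A.1 *ᵥ u)) = 0
      rw [← hg]; abel)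
    intro i
    fin_cases i
    · exact h1 2
    · exact h1 1
    · exact h1 0
  obtain ⟨X, c, hc, h0, h1⟩ := move _ _ hu2 hw
  have h0' : X.1 *ᵥ w = c • (A.1 *ᵥ (A.1 *ᵥ u)) := by simpa only using! h0
  have h1' : X.1 *ᵥ (B.1 *ᵥ w) = A.1 *ᵥ u := by simpa only using! h1 1 (by decide)
  have h2' : X.1 *ᵥ (B.1 *ᵥ (B.1 *ᵥ w)) = u := by simpa only using! h1 2 (by decide)
  have hu0 : u ≠ 0 := by simpa only using! hu.ne_zero 0
  refine ⟨X, A.1 *ᵥ u, A.1 *ᵥ (A.1 *ᵥ u),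
    eig_of A B X u (B.1 *ᵥ w) 1 1 one_ne_zero hu0 (by rw [one_smul]; exact h1')
      (by rw [one_smul]; exact h2'),
    eig_of A B X (A.1 *ᵥ u) w c 1 hc (mul_ne hu0) h0' (by rw [one_smul]; exact h1'), ?_⟩
  rw [LinearIndependent.pair_iff]
  rw [Fintype.linearIndependent_iff] at hu2
  intro s t hst
  have h5 := hu2 ![t, s, 0] (by
    rw [Fin.sum_univ_three]
    change t • (A.1 *ᵥ (A.1 *ᵥ u)) + s • (A.1 *ᵥ u) + (0 : F) • u = 0
    rw [zero_smul, add_zero, add_comm]; exact hst)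
  exact ⟨h5 1, h5 0⟩

theorem two_quad (A B : Matrix.SpecialLinearGroup (Fin d) F)
    (hA : ∃ w1 w2, LinearIndependent F ![w1, A.1 *ᵥ w1, w2, A.1 *ᵥ w2])
    (hB : ∃ w1 w2, LinearIndependent F ![w1, B.1 *ᵥ w1, w2, B.1 *ᵥ w2]) :
    ∃ X v1 v2, Eig (A * (X * B * X⁻¹)) v1 ∧ Eig (A * (X * B * X⁻¹)) v2 ∧
      LinearIndependent F ![v1, v2] := by
  obtain ⟨u1, u2, hu⟩ := hA
  obtain ⟨w1, w2, hw⟩ := hB
  have hu2 : LinearIndependent F ![A.1 *ᵥ u1, u1, A.1 *ᵥ u2, u2] := by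
    rw [Fintype.linearIndependent_iff] at hu ⊢
    intro g hg
    rw [Fin.sum_univ_four] at hg
    change g 0 • (A.1 *ᵥ u1) + g 1 • u1 + g 2 • (A.1 *ᵥ u2) + g 3 • u2 = 0 at hg
    have h1 := hu ![g 1, g 0, g 3, g 2] (by
      rw [Fin.sum_univ_four]
      change g 1 • u1 + g 0 • (A.1 *ᵥ u1) + g 3 • u2 + g 2 • (A.1 *ᵥ u2) = 0
      rw [← hg]; abel)
    intro i
    fin_cases i
    · exact h1 1
    · exact h1 0
    · exact h1 3
    · exact h1 2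
  obtain ⟨X, c, hc, h0, h1⟩ := move _ _ hu2 hw
  have h0' : X.1 *ᵥ w1 = c • (A.1 *ᵥ u1) := by simpa only using! h0
  have h1' : X.1 *ᵥ (B.1 *ᵥ w1) = u1 := by simpa only using! h1 1 (by decide)
  have h2' : X.1 *ᵥ w2 = A.1 *ᵥ u2 := by simpa only using! h1 2 (by decide)
  have h3' : X.1 *ᵥ (B.1 *ᵥ w2) = u2 := by simpa only using! h1 3 (by decide)
  have hu10 : u1 ≠ 0 := by simpa only using! hu.ne_zero 0
  have hu20 : u2 ≠ 0 := by simpa only using! hu.ne_zero 2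
  refine ⟨X, A.1 *ᵥ u1, A.1 *ᵥ u2,
    eig_of A B X u1 w1 c 1 hc hu10 h0' (by rw [one_smul]; exact h1'),
    eig_of A B X u2 w2 1 1 one_ne_zero hu20 (by rw [one_smul]; exact h2')
      (by rw [one_smul]; exact h3'), ?_⟩
  rw [LinearIndependent.pair_iff]
  rw [Fintype.linearIndependent_iff] at hu2
  intro s t hst
  have h5 := hu2 ![s, 0, t, 0] (by
    rw [Fin.sum_univ_four]
    change s • (A.1 *ᵥ u1) + (0 : F) • u1 + t • (A.1 *ᵥ u2) + (0 : F) • u2 = 0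
    rw [zero_smul, zero_smul, add_zero, add_zero]; exact hst)
  exact ⟨h5 0, h5 2⟩

theorem two_mixed (hd : 3 ≤ d) (A B : Matrix.SpecialLinearGroup (Fin d) F)
    (hA : A ∉ Subgroup.center (Matrix.SpecialLinearGroup (Fin d) F))
    (hB : B ∉ Subgroup.center (Matrix.SpecialLinearGroup (Fin d) F))
    (h : ((∀ v, ¬ Eig A v) ∧ (∃ v, Eig B v) ∧
        (∀ v v', Eig B v → Eig B v' → ¬ LinearIndependent F ![v, v'])) ∨
      ((∀ v, ¬ Eig B v) ∧ (∃ v, Eig A v) ∧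
        (∀ v v', Eig A v → Eig A v' → ¬ LinearIndependent F ![v, v']))) :
    ∃ X v1 v2, Eig (A * (X * B * X⁻¹)) v1 ∧ Eig (A * (X * B * X⁻¹)) v2 ∧
      LinearIndependent F ![v1, v2] := by
  rcases Nat.lt_or_ge d 4 with h3 | h4
  · have hd3 : d = 3 := by omega
    rcases h with ⟨h1, ⟨e, he⟩, h2⟩ | ⟨h1, ⟨e, he⟩, h2⟩
    · exact two_cyc A B (triA hd3 A hA h1) (triB hd3 B hB e he h2)
    · exact two_cyc A B (triB hd3 A hA e he h2) (triA hd3 B hB h1)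
  · rcases h with ⟨h1, ⟨e, he⟩, h2⟩ | ⟨h1, ⟨e, he⟩, h2⟩
    · exact two_quad A B (quad h4 A hA (fun v v' hv _ => absurd hv (h1 v))) (quad h4 B hB h2)
    · exact two_quad A B (quad h4 A hA h2) (quad h4 B hB (fun v v' hv _ => absurd hv (h1 v)))

/-- nested eigenvectors -/
theorem nested (A B : Matrix.SpecialLinearGroup (Fin d) F) (l m : F) {k : ℕ}
    (v w : Fin (k + 1) → (Fin d → F)) (hv : LinearIndependent F v) (hw : LinearIndependent F w)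
    (hvA : ∀ i, A.1 *ᵥ v i = l • v i) (hwB : ∀ i, B.1 *ᵥ w i = m • w i) :
    ∃ X, ∀ x ∈ Submodule.span F (Set.range v), (A * (X * B * X⁻¹)).1 *ᵥ x = (l * m) • x := by
  obtain ⟨X, c, hc, h0, h1⟩ := move v w hv hw
  refine ⟨X, fun x hx => ?_⟩
  induction hx using Submodule.span_induction with
  | mem x hx =>
    obtain ⟨i, rfl⟩ := hx
    by_cases hi : i = 0
    · subst hi
      exact eig_common A B X (v 0) (w 0) c hc (hv.ne_zero 0) h0 l m (hvA 0) (hwB 0)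
    · exact eig_common A B X (v i) (w i) 1 one_ne_zero (hv.ne_zero i)
        (by rw [one_smul]; exact h1 i hi) l m (hvA i) (hwB i)
  | zero => simp
  | add x y _ _ hx hy => rw [Matrix.mulVec_add, hx, hy, smul_add]
  | smul a x _ hx => rw [Matrix.mulVec_smul, hx, smul_comm]

end Cfsg.Agent.H15.PC
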