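import Cfsg.Agent.H15.PCe

set_option autoImplicit false

namespace Cfsg.Agent.H15.PC

open Matrix
open scoped LinearAlgebra.Projectivization

variable {F : Type*} [Field F] {d : ℕ}

noncomputable def fx (M : Matrix.SpecialLinearGroup (Fin d) F) : ℕ :=
  Nat.card {x : ℙ F (Fin d → F) // M • x = x}

theorem fixed_iff (M : Matrix.SpecialLinearGroup (Fin d) F) (v : Fin d → F) (hv : v ≠ 0) :
    M • Projectivization.mk F v hv = Projectivization.mk F v hv ↔ Eig M v := by
  rw [Projectivization.smul_mk, Projectivization.mk_eq_mk_iff']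
  constructor
  · rintro ⟨a, ha⟩
    exact ⟨hv, a, ha.symm⟩
  · rintro ⟨_, a, ha⟩
    exact ⟨a, ha.symm⟩

theorem Eig.smul {M : Matrix.SpecialLinearGroup (Fin d) F} {v : Fin d → F} (h : Eig M v) (u : Fˣ) :
    Eig M (u • v) := by
  obtain ⟨h0, μ, hμ⟩ := h
  refine ⟨?_, μ, ?_⟩
  · intro h
    apply h0
    have := congrArg (fun z => u⁻¹ • z) h
    simpa using this
  · rw [Units.smul_def, Matrix.mulVec_smul, hμ, smul_comm]

theorem card_eig (M : Matrix.SpecialLinearGroup (Fin d) F) :
    Nat.card {v : Fin d → F // Eig M v} = fx M * (Nat.card F - 1) := by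
  rw [fx, ← Nat.card_units, ← Nat.card_prod]
  symm
  have hrep : ∀ x : {x : ℙ F (Fin d → F) // M • x = x}, Eig M x.1.rep := by
    intro x
    rw [← fixed_iff M x.1.rep (Projectivization.rep_nonzero _), Projectivization.mk_rep]
    exact x.2
  apply Nat.card_congr
  refine Equiv.ofBijective (fun p : {x : ℙ F (Fin d → F) // M • x = x} × Fˣ =>
    (⟨p.2 • p.1.1.rep, (hrep p.1).smul p.2⟩ : {v : Fin d → F // Eig M v})) ⟨?_, ?_⟩
  · rintro ⟨⟨x, hx⟩, u⟩ ⟨⟨x', hx'⟩, u'⟩ h
    have h1 : u • x.rep = u' • x'.rep := congrArg Subtype.val h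
    have h2 : x = x' := by
      rw [← Projectivization.mk_rep x, ← Projectivization.mk_rep x', Projectivization.mk_eq_mk_iff]
      refine ⟨u⁻¹ * u', ?_⟩
      rw [mul_smul, ← h1, smul_smul, inv_mul_cancel, one_smul]
    subst h2
    have h3 : (u : F) • x.rep = (u' : F) • x.rep := h1
    have h4 := smul_left_injective F (Projectivization.rep_nonzero x) h3
    rw [Units.ext h4]
  · rintro ⟨v, hv⟩
    obtain ⟨a, ha⟩ := Projectivization.exists_smul_eq_mk_rep F v hv.1
    refine ⟨⟨⟨Projectivization.mk F v hv.1, (fixed_iff M v hv.1).mpr hv⟩, a⁻¹⟩, ?_⟩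
    ext1
    show a⁻¹ • (Projectivization.mk F v hv.1).rep = v
    rw [← ha, smul_smul, inv_mul_cancel, one_smul]

theorem fx_pos [Finite F] {M : Matrix.SpecialLinearGroup (Fin d) F} {v : Fin d → F} (h : Eig M v) :
    1 ≤ fx M := by
  haveI : Nonempty {x : ℙ F (Fin d → F) // M • x = x} := ⟨⟨_, (fixed_iff M v h.1).mpr h⟩⟩
  exact Nat.card_pos

theorem exists_of_fx [Finite F] {M : Matrix.SpecialLinearGroup (Fin d) F} (h : 1 ≤ fx M) :
    ∃ v, Eig M v := by
  have : Nonempty {x : ℙ F (Fin d → F) // M • x = x} := by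
    by_contra hne
    rw [not_nonempty_iff] at hne
    rw [fx, Nat.card_eq_zero.mpr (Or.inl hne)] at h
    omega
  obtain ⟨x, hx⟩ := this
  refine ⟨x.rep, ?_⟩
  rw [← fixed_iff M x.rep (Projectivization.rep_nonzero _), Projectivization.mk_rep]
  exact hx

theorem fx_two [Finite F] {M : Matrix.SpecialLinearGroup (Fin d) F} {v v' : Fin d → F} (h : Eig M v)
    (h' : Eig M v') (hli : LinearIndependent F ![v, v']) : 2 ≤ fx M := by
  haveI : Nontrivial {x : ℙ F (Fin d → F) // M • x = x} := by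
    refine ⟨⟨_, (fixed_iff M v h.1).mpr h⟩, ⟨_, (fixed_iff M v' h'.1).mpr h'⟩, ?_⟩
    intro heq
    have h1 := congrArg Subtype.val heq
    simp only at h1
    rw [Projectivization.mk_eq_mk_iff'] at h1
    obtain ⟨a, ha⟩ := h1
    rw [LinearIndependent.pair_iff] at hli
    have := hli 1 (-a) (by rw [one_smul, ← ha]; module)
    exact one_ne_zero this.1
  exact Finite.one_lt_card

theorem card_ne_zero' {V : Type*} [AddCommGroup V] [Finite V] :
    Nat.card {v : V // v ≠ 0} = Nat.card V - 1 := by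
  classical
  haveI := Fintype.ofFinite V
  rw [Nat.card_eq_fintype_card, Nat.card_eq_fintype_card, Fintype.card_subtype_compl]
  simp

/-- B1 -/
theorem bound1 [Finite F] (hd : 2 ≤ d) (M : Matrix.SpecialLinearGroup (Fin d) F)
    (hM : M ∉ Subgroup.center (Matrix.SpecialLinearGroup (Fin d) F)) (e : Fin d → F) (he : Eig M e) :
    Nat.card {v : Fin d → F // Eig M v} ≤ (Nat.card F ^ (d - 1) - 1) + (Nat.card F - 1) := by
  classical
  obtain ⟨he0, l, hl⟩ := he
  set S := LinearMap.ker (Matrix.toLin' M.1 - l • LinearMap.id) with hS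
  have hmS : ∀ v, v ∈ S ↔ M.1 *ᵥ v = l • v := by
    intro v
    rw [hS, LinearMap.mem_ker, LinearMap.sub_apply, sub_eq_zero]
    simp
  have hfin : Finite ((Fin d → F) ⧸ S) := Finite.of_surjective _ S.mkQ_surjective
  have h1 : Nat.card {v : Fin d → F // Eig M v} ≤
      Nat.card ({v : S // v ≠ 0} ⊕ {y : (Fin d → F) ⧸ S // y ≠ 0}) := by
    let φ : {v : Fin d → F // Eig M v} → ({v : S // v ≠ 0} ⊕ {y : (Fin d → F) ⧸ S // y ≠ 0}) :=
      fun v => if h : v.1 ∈ S then Sum.inl ⟨⟨v.1, h⟩, fun h' => v.2.1 (congrArg Subtype.val h')⟩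
        else Sum.inr ⟨S.mkQ v.1, fun h' => h ((Submodule.Quotient.mk_eq_zero S).mp h')⟩
    apply Nat.card_le_card_of_injective φ
    rintro ⟨v, hv⟩ ⟨v', hv'⟩ heq
    simp only [φ] at heq
    by_cases h : v ∈ S <;> by_cases h' : v' ∈ S
    · rw [dif_pos h, dif_pos h'] at heq
      have := Sum.inl.inj heq
      simp only [Subtype.mk.injEq] at this
      exact Subtype.ext this
    · rw [dif_pos h, dif_neg h'] at heq
      exact absurd heq (by simp)
    · rw [dif_neg h, dif_pos h'] at heq
      exact absurd heq (by simp)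
    · rw [dif_neg h, dif_neg h'] at heq
      have h2 := Sum.inr.inj heq
      simp only [Subtype.mk.injEq] at h2
      have h3 : v - v' ∈ S := by
        rw [← Submodule.Quotient.mk_eq_zero, Submodule.Quotient.mk_sub, sub_eq_zero]
        exact h2
      obtain ⟨_, ν, hν⟩ := hv
      obtain ⟨_, ν', hν'⟩ := hv'
      rw [hmS, Matrix.mulVec_sub, hν, hν'] at h3
      have hne : ν ≠ l := by
        rintro rfl
        exact h ((hmS v).mpr hν)
      have hnn : ν' = ν := by
        by_contra hnn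
        apply h'
        -- (ν - l) (v - v') = (ν' - ν) v'
        have h5 : v' = (ν' - ν)⁻¹ • ((ν - l) • (v - v')) := by
          have h6 : (ν - l) • (v - v') = (ν' - ν) • v' := by
            have h7 := sub_eq_zero.mpr h3
            rw [← sub_eq_zero, ← h7]; module
          rw [h6, smul_smul, inv_mul_cancel₀ (sub_ne_zero.mpr hnn), one_smul]
        rw [h5]
        apply Submodule.smul_mem
        apply Submodule.smul_mem
        rw [hmS, Matrix.mulVec_sub, hν, hν', h3]
      subst hnn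
      have h8 : (ν' - l) • (v - v') = 0 := by
        rw [sub_smul, smul_sub, h3, sub_self]
      rw [smul_eq_zero] at h8
      exact Subtype.ext (sub_eq_zero.mp (h8.resolve_left (sub_ne_zero.mpr hne)))
  rw [Nat.card_sum, card_ne_zero', card_ne_zero', Module.natCard_eq_pow_finrank (K := F) (V := S),
    Module.natCard_eq_pow_finrank (K := F) (V := (Fin d → F) ⧸ S)] at h1
  have h2 := Submodule.finrank_quotient_add_finrank S
  have h8 : Module.finrank F (Fin d → F) = d := by simp
  rw [h8] at h2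
  have hpos : 1 ≤ Module.finrank F S := by
    haveI : Nontrivial S := ⟨⟨⟨e, (hmS e).mpr hl⟩, 0, fun h => he0 (congrArg Subtype.val h)⟩⟩
    exact Module.finrank_pos
  have hlt : 1 ≤ Module.finrank F ((Fin d → F) ⧸ S) := by
    obtain ⟨u, hu⟩ := exists_indep M hM
    have hu' : u ∉ S := by
      intro h
      rw [hmS] at h
      rw [LinearIndependent.pair_iff] at hu
      have := hu (-l) 1 (by rw [h]; module)
      exact one_ne_zero this.2
    haveI : Nontrivial ((Fin d → F) ⧸ S) := ⟨⟨S.mkQ u, 0, fun h => hu' ((Submodule.Quotient.mk_eq_zero S).mp h)⟩⟩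
    exact Module.finrank_pos
  set a := Module.finrank F S
  set b := Module.finrank F ((Fin d → F) ⧸ S)
  set q := Nat.card F with hq
  have hq2 : 2 ≤ q := Finite.one_lt_card
  have hqa : q ≤ q ^ a := by calc q = q ^ 1 := (pow_one q).symm
      _ ≤ q ^ a := Nat.pow_le_pow_right (by omega) hpos
  have hqb : q ≤ q ^ b := by calc q = q ^ 1 := (pow_one q).symm
      _ ≤ q ^ b := Nat.pow_le_pow_right (by omega) hlt
  have hd1 : q * q ^ (d - 1) = q ^ b * q ^ a := by
    rw [← pow_add, h2, ← pow_succ']; congr 1; omega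
  have hmain : q ^ a + q ^ b ≤ q ^ (d - 1) + q := by
    have : q * (q ^ a + q ^ b) ≤ q * (q ^ (d - 1) + q) := by
      obtain ⟨x, hx⟩ := Nat.exists_eq_add_of_le hqa
      obtain ⟨y, hy⟩ := Nat.exists_eq_add_of_le hqb
      rw [mul_add, mul_add, hd1, hx, hy]
      nlinarith [Nat.zero_le (x * y)]
    exact Nat.le_of_mul_le_mul_left this (by omega)
  have : 1 ≤ q ^ (d - 1) := Nat.one_le_pow _ _ (by omega)
  omega

/-- B2 -/
theorem bound2 [Finite F] (M : Matrix.SpecialLinearGroup (Fin d) F) (k : ℕ)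
    (hk : ∀ l : F, Module.finrank F (LinearMap.ker (Matrix.toLin' M.1 - l • LinearMap.id)) ≤ k) :
    Nat.card {v : Fin d → F // Eig M v} ≤ (Nat.card F - 1) * (Nat.card F ^ k - 1) := by
  classical
  have h1 : Nat.card {v : Fin d → F // Eig M v} ≤
      Nat.card (Σ l : Fˣ, {v : LinearMap.ker (Matrix.toLin' M.1 - (l : F) • LinearMap.id) // v ≠ 0}) := by
    have hex : ∀ v : {v : Fin d → F // Eig M v}, ∃ l : Fˣ, M.1 *ᵥ v.1 = (l : F) • v.1 := by
      rintro ⟨v, hv0, μ, hμ⟩
      have : μ ≠ 0 := by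
        rintro rfl
        rw [zero_smul] at hμ
        exact mul_ne hv0 hμ
      exact ⟨Units.mk0 μ this, hμ⟩
    choose L hL using hex
    have hmem : ∀ v : {v : Fin d → F // Eig M v}, v.1 ∈ LinearMap.ker (Matrix.toLin' M.1 - (L v : F) • LinearMap.id) := by
      intro v
      rw [LinearMap.mem_ker, LinearMap.sub_apply, sub_eq_zero]
      simpa using hL v
    apply Nat.card_le_card_of_injective (fun v => (⟨L v, ⟨⟨v.1, hmem v⟩, fun h => v.2.1 (congrArg Subtype.val h)⟩⟩ :
      Σ l : Fˣ, {v : LinearMap.ker (Matrix.toLin' M.1 - (l : F) • LinearMap.id) // v ≠ 0}))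
    intro v v' h
    have := congrArg (fun z : (Σ l : Fˣ, {v : LinearMap.ker (Matrix.toLin' M.1 - (l : F) • LinearMap.id) // v ≠ 0}) => (z.2.1.1)) h
    exact Subtype.ext this
  refine h1.trans ?_
  haveI := Fintype.ofFinite Fˣ
  rw [Nat.card_sigma]
  have h2 : ∀ l : Fˣ, Nat.card {v : LinearMap.ker (Matrix.toLin' M.1 - (l : F) • LinearMap.id) // v ≠ 0} ≤
      Nat.card F ^ k - 1 := by
    intro l
    rw [card_ne_zero', Module.natCard_eq_pow_finrank (K := F)]
    have := Nat.pow_le_pow_right (n := Nat.card F) Nat.card_pos (hk l)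
    omega
  refine (Finset.sum_le_sum (fun l _ => h2 l)).trans ?_
  rw [Finset.sum_const, Finset.card_univ, smul_eq_mul, ← Nat.card_eq_fintype_card, Nat.card_units]

/-- B3 -/
theorem bound3 [Finite F] (M : Matrix.SpecialLinearGroup (Fin d) F) {k : ℕ} (v : Fin k → (Fin d → F))
    (hv : LinearIndependent F v) (l : F) (h : ∀ x ∈ Submodule.span F (Set.range v), M.1 *ᵥ x = l • x) :
    Nat.card F ^ k - 1 ≤ Nat.card {v : Fin d → F // Eig M v} := by
  have h1 : Nat.card {x : Submodule.span F (Set.range v) // x ≠ 0} = Nat.card F ^ k - 1 := by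
    rw [card_ne_zero', Module.natCard_eq_pow_finrank (K := F), finrank_span_eq_card hv, Fintype.card_fin]
  rw [← h1]
  apply Nat.card_le_card_of_injective (fun x : {x : Submodule.span F (Set.range v) // x ≠ 0} =>
    (⟨x.1.1, fun h => x.2 (Subtype.ext h), l, h _ x.1.2⟩ : {v : Fin d → F // Eig M v}))
  intro x x' hxx
  have := congrArg Subtype.val hxx
  exact Subtype.ext (Subtype.ext this)

end Cfsg.Agent.H15.PC
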