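import Cfsg.Agent.H15.PCa
import Cfsg.Agent.H15.PCf

set_option autoImplicit false

namespace Cfsg.Agent.H15.PC

open Matrix
open scoped LinearAlgebra.Projectivization

theorem numeric (q k f F1 F2 N : ℤ) (Q : ℤ) (hq : 2 ≤ q) (hQ : Q = q ^ k.toNat) (hk1 : k = 1 ∨ q ^ 2 ≤ Q)
    (hf : 2 ≤ f) (hfQ : Q - 1 ≤ (q - 1) * f) (h1 : F1 ≤ Q - 1) (hF1 : 1 ≤ F1)
    (h2 : q * (F2 - 1) ≤ N - 1) (hN : 2 ≤ N) (hid : (N - 1) * (f - 1) = (F1 - 1) * (F2 - 1))
    (hQ1 : k = 1 → Q = q) : False := by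
  have h3 : q * ((N - 1) * (f - 1)) ≤ (N - 1) * (F1 - 1) := by
    rw [hid]
    nlinarith
  have h4 : q * (f - 1) ≤ F1 - 1 := by
    have : (N - 1) * (q * (f - 1)) ≤ (N - 1) * (F1 - 1) := by linarith
    exact le_of_mul_le_mul_left this (by linarith)
  have h5 : f ≤ q - 1 := by nlinarith
  rcases hk1 with hk | hk
  · have := hQ1 hk
    nlinarith
  · nlinarith

variable {F : Type*} [Field F] {d : ℕ}

theorem exists_max_eig [Finite F] (M : Matrix.SpecialLinearGroup (Fin d) F) :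
    ∃ l : F, ∀ l' : F, Module.finrank F (LinearMap.ker (Matrix.toLin' M.1 - l' • LinearMap.id)) ≤
      Module.finrank F (LinearMap.ker (Matrix.toLin' M.1 - l • LinearMap.id)) :=
  Finite.exists_max _

theorem exists_fam {S : Submodule F (Fin d → F)} {k : ℕ} (hk : k ≤ Module.finrank F S) :
    ∃ v : Fin k → (Fin d → F), LinearIndependent F v ∧ ∀ i, v i ∈ S := by
  obtain ⟨f, hf⟩ := exists_linearIndependent_of_le_finrank hk
  exact ⟨fun i => (f i : Fin d → F), hf.map' S.subtype (Submodule.ker_subtype S), fun i => (f i).2⟩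

theorem mem_ker_iff (M : Matrix.SpecialLinearGroup (Fin d) F) (l : F) (v : Fin d → F) :
    v ∈ LinearMap.ker (Matrix.toLin' M.1 - l • LinearMap.id) ↔ M.1 *ᵥ v = l • v := by
  rw [LinearMap.mem_ker, LinearMap.sub_apply, sub_eq_zero]
  simp

/-- lower bound for k ≤ both -/
theorem lower [Finite F] (A B : Matrix.SpecialLinearGroup (Fin d) F) (f : ℕ)
    (hf : ∀ X, fx (A * (X * B * X⁻¹)) = f) (l m : F) (k : ℕ)
    (hkA : k + 1 ≤ Module.finrank F (LinearMap.ker (Matrix.toLin' A.1 - l • LinearMap.id)))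
    (hkB : k + 1 ≤ Module.finrank F (LinearMap.ker (Matrix.toLin' B.1 - m • LinearMap.id))) :
    Nat.card F ^ (k + 1) - 1 ≤ f * (Nat.card F - 1) := by
  obtain ⟨v, hv, hvA⟩ := exists_fam hkA
  obtain ⟨w, hw, hwB⟩ := exists_fam hkB
  obtain ⟨X, hX⟩ := nested A B l m v w hv hw (fun i => (mem_ker_iff A l _).mp (hvA i))
    (fun i => (mem_ker_iff B m _).mp (hwB i))
  have := bound3 _ v hv (l * m) hX
  rwa [card_eig, hf X] at this

theorem upper1 [Finite F] (hd : 2 ≤ d) (M : Matrix.SpecialLinearGroup (Fin d) F)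
    (hM : M ∉ Subgroup.center (Matrix.SpecialLinearGroup (Fin d) F)) (h : 1 ≤ fx M) :
    (Nat.card F : ℤ) * ((fx M : ℤ) - 1) ≤ (Nat.card (ℙ F (Fin d → F)) : ℤ) - 1 := by
  obtain ⟨e, he⟩ := exists_of_fx h
  have h1 := bound1 hd M hM e he
  rw [card_eig] at h1
  have h2 := Projectivization.card F (Fin d → F)
  have hcV : Nat.card (Fin d → F) = Nat.card F ^ d := by
      rw [Module.natCard_eq_pow_finrank (K := F), Module.finrank_fin_fun]
  rw [hcV] at h2
  set q := Nat.card F with hq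
  have hq2 : 2 ≤ q := Finite.one_lt_card
  have h3 : 1 ≤ q ^ (d - 1) := Nat.one_le_pow _ _ (by omega)
  have h4 : q ^ d = q * q ^ (d - 1) := by rw [← pow_succ']; congr 1; omega
  have h5 : 1 ≤ q ^ d := Nat.one_le_pow _ _ (by omega)
  zify [h3, h5, (by omega : 1 ≤ q)] at h1 h2
  have h4' : (q : ℤ) ^ d = q * q ^ (d - 1) := by exact_mod_cast h4
  set Q : ℤ := (q : ℤ) ^ (d - 1)
  have hq' : (2 : ℤ) ≤ q := by exact_mod_cast hq2
  have h6 : ((q : ℤ) - 1) * ((q : ℤ) * ((fx M : ℤ) - 1)) ≤ ((q : ℤ) - 1) * ((Nat.card (ℙ F (Fin d → F)) : ℤ) - 1) := by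
    have : ((q : ℤ) - 1) * ((Nat.card (ℙ F (Fin d → F)) : ℤ) - 1) = q * Q - 1 - (q - 1) := by
      rw [← h4', h2]; ring
    rw [this]
    have h7 : (fx M : ℤ) * (q - 1) ≤ (Q - 1) + (q - 1) := h1
    nlinarith
  exact le_of_mul_le_mul_left h6 (by linarith)

theorem core [Finite F] (hd : 3 ≤ d) (A B : Matrix.SpecialLinearGroup (Fin d) F)
    (hA : A ∉ Subgroup.center (Matrix.SpecialLinearGroup (Fin d) F))
    (hB : B ∉ Subgroup.center (Matrix.SpecialLinearGroup (Fin d) F)) (f : ℕ)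
    (hf : ∀ X, fx (A * (X * B * X⁻¹)) = f) (N : ℤ) (hNd : N = (Nat.card (ℙ F (Fin d → F)) : ℤ))
    (hid : (N - 1) * ((f : ℤ) - 1) = ((fx A : ℤ) - 1) * ((fx B : ℤ) - 1)) : False := by
  -- N ≥ 3
  set q := Nat.card F with hq
  have hq2 : 2 ≤ q := Finite.one_lt_card
  have hq' : (2 : ℤ) ≤ q := by exact_mod_cast hq2
  have hN3 : 3 ≤ N := by
    have h2 := Projectivization.card F (Fin d → F)
    have hcV : Nat.card (Fin d → F) = Nat.card F ^ d := by
      rw [Module.natCard_eq_pow_finrank (K := F), Module.finrank_fin_fun]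
    rw [hcV] at h2
    have h5 : q ^ 3 ≤ q ^ d := Nat.pow_le_pow_right (by omega) hd
    have h6 : 1 ≤ q ^ d := Nat.one_le_pow _ _ (by omega)
    rw [← hq] at h2
    zify [h6, (by omega : 1 ≤ q)] at h2 h5
    rw [← hNd] at h2
    by_contra hcon
    push Not at hcon
    have h7 : N * ((q : ℤ) - 1) ≤ 2 * (q - 1) := by nlinarith
    have h8 : (q : ℤ) ^ 3 - 1 ≤ 2 * (q - 1) := by linarith
    nlinarith [sq_nonneg ((q : ℤ) - 2)]
  have hf1 : 1 ≤ f := by
    obtain ⟨X, v, hv⟩ := one_eig A B hA hB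
    rw [← hf X]
    exact fx_pos hv
  have two_of : (∃ X v1 v2, Eig (A * (X * B * X⁻¹)) v1 ∧ Eig (A * (X * B * X⁻¹)) v2 ∧
      LinearIndependent F ![v1, v2]) → 2 ≤ f := by
    rintro ⟨X, v1, v2, h1, h2, h3⟩
    rw [← hf X]
    exact fx_two h1 h2 h3
  have none_of : ∀ M : Matrix.SpecialLinearGroup (Fin d) F, fx M = 0 → ∀ v, ¬ Eig M v := by
    intro M h v hv
    have := fx_pos hv
    omega
  have one_of : ∀ M : Matrix.SpecialLinearGroup (Fin d) F, fx M = 1 → (∃ v, Eig M v) ∧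
        (∀ v v', Eig M v → Eig M v' → ¬ LinearIndependent F ![v, v']) := by
    intro M h
    refine ⟨exists_of_fx h.ge, fun v v' hv hv' hli => ?_⟩
    have := fx_two hv hv' hli
    omega
  have hf1' : (1 : ℤ) ≤ f := by exact_mod_cast hf1
  rcases Nat.eq_zero_or_pos (fx A) with ha | ha
  · rw [ha] at hid
    have hb : fx B ≤ 1 := by
      by_contra hcon
      push Not at hcon
      have : (2 : ℤ) ≤ fx B := by exact_mod_cast hcon
      push_cast at hid
      nlinarith
    interval_cases hfb : fx B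
    · push_cast at hid
      have : (N - 1) * ((f : ℤ) - 1) = 1 := by linarith
      have h2 : N - 1 ∣ 1 := ⟨_, this.symm⟩
      have := Int.le_of_dvd one_pos h2
      linarith
    · have h2 := two_of (two_mixed hd A B hA hB (Or.inl ⟨none_of A ha, one_of B hfb⟩))
      have : (2 : ℤ) ≤ f := by exact_mod_cast h2
      push_cast at hid
      nlinarith
  rcases Nat.eq_zero_or_pos (fx B) with hb | hb
  · rw [hb] at hid
    have ha1 : fx A ≤ 1 := by
      by_contra hcon
      push Not at hcon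
      have : (2 : ℤ) ≤ fx A := by exact_mod_cast hcon
      push_cast at hid
      nlinarith
    have ha1' : fx A = 1 := by omega
    have h2 := two_of (two_mixed hd A B hA hB (Or.inr ⟨none_of B hb, one_of A ha1'⟩))
    have : (2 : ℤ) ≤ f := by exact_mod_cast h2
    rw [ha1'] at hid
    push_cast at hid
    nlinarith
  -- both have eigenvectors
  obtain ⟨ea, hea⟩ := exists_of_fx ha
  obtain ⟨eb, heb⟩ := exists_of_fx hb
  have hf2 : 2 ≤ f := two_of (two_eig hd A B hA hB ea eb hea heb)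
  have hf2' : (2 : ℤ) ≤ f := by exact_mod_cast hf2
  obtain ⟨l, hl⟩ := exists_max_eig A
  obtain ⟨m, hm⟩ := exists_max_eig B
  have posdim : ∀ (M : Matrix.SpecialLinearGroup (Fin d) F) (l : F) (e : Fin d → F), Eig M e →
      (∀ l' : F, Module.finrank F (LinearMap.ker (Matrix.toLin' M.1 - l' • LinearMap.id)) ≤
      Module.finrank F (LinearMap.ker (Matrix.toLin' M.1 - l • LinearMap.id))) →
      1 ≤ Module.finrank F (LinearMap.ker (Matrix.toLin' M.1 - l • LinearMap.id)) := by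
    rintro M l e ⟨he0, μ, hμ⟩ h
    refine le_trans ?_ (h μ)
    have : Nontrivial (LinearMap.ker (Matrix.toLin' M.1 - μ • LinearMap.id)) :=
      ⟨⟨⟨e, (mem_ker_iff M μ e).mpr hμ⟩, 0, fun h => he0 (congrArg Subtype.val h)⟩⟩
    exact Module.finrank_pos
  have hα := posdim A l ea hea hl
  have hβ := posdim B m eb heb hm
  have finish : ∀ (M M' : Matrix.SpecialLinearGroup (Fin d) F) (l : F)
      (hM' : M' ∉ Subgroup.center (Matrix.SpecialLinearGroup (Fin d) F))
      (h1 : 1 ≤ fx M) (h1' : 1 ≤ fx M') (hid : (N - 1) * ((f : ℤ) - 1) = ((fx M : ℤ) - 1) * ((fx M' : ℤ) - 1))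
      (k : ℕ) (hk : ∀ l' : F, Module.finrank F (LinearMap.ker (Matrix.toLin' M.1 - l' • LinearMap.id)) ≤ k + 1)
      (hlow : q ^ (k + 1) - 1 ≤ f * (q - 1)), False := by
    intro M M' l hM' h1 h1' hid k hk hlow
    have hu := upper1 (by omega) M' hM' h1'
    have hb2 := bound2 M (k + 1) hk
    rw [card_eig, ← hq] at hb2
    have hb3 : fx M ≤ q ^ (k + 1) - 1 := by
      have : (q - 1) * fx M ≤ (q - 1) * (q ^ (k + 1) - 1) := by rw [mul_comm]; exact hb2
      exact Nat.le_of_mul_le_mul_left this (by omega)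
    have h6 : 1 ≤ q ^ (k + 1) := Nat.one_le_pow _ _ (by omega)
    zify [h6, (by omega : 1 ≤ q)] at hb3 hlow
    rw [← hNd, ← hq] at hu
    refine numeric q (k + 1) f (fx M) (fx M') N (q ^ (k + 1)) hq' ?_ ?_ hf2' ?_ hb3 ?_ hu (by linarith) hid ?_
    · congr 1
    · rcases Nat.eq_zero_or_pos k with hk0 | hk0
      · left; rw [hk0]; simp
      · right
        exact pow_le_pow_right₀ (by linarith) (by omega)
    · rw [mul_comm]; exact hlow
    · exact_mod_cast h1
    · intro hk0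
      have : k = 0 := by
        have : (k : ℤ) = 0 := by linarith
        exact_mod_cast this
      rw [this]; simp
  rcases le_total (Module.finrank F (LinearMap.ker (Matrix.toLin' A.1 - l • LinearMap.id)))
    (Module.finrank F (LinearMap.ker (Matrix.toLin' B.1 - m • LinearMap.id))) with hle | hle
  · obtain ⟨k, hk⟩ := Nat.exists_eq_add_of_le' hα
    have hlow := lower A B f hf l m k hk.ge (by omega)
    exact finish A B l hB ha hb hid k (fun l' => (hl l').trans hk.le) hlow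
  · obtain ⟨k, hk⟩ := Nat.exists_eq_add_of_le' hβ
    have hlow := lower A B f hf l m k (by omega) hk.ge
    exact finish B A m hA hb ha (by rw [hid]; ring) k (fun l' => (hm l').trans hk.le) hlow

end Cfsg.Agent.H15.PC
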