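import Mathlib

set_option autoImplicit false
set_option linter.unusedSectionVars false

open Equiv MulAction

namespace Cfsg.Agent.H15

variable {α : Type*} [Fintype α] [DecidableEq α]

theorem papp_inv {β : Type*} (f : Perm β) (x : β) : f (f⁻¹ x) = x := Equiv.apply_symm_apply f x
theorem pinv_app {β : Type*} (f : Perm β) (x : β) : f⁻¹ (f x) = x := Equiv.symm_apply_apply f x

/-- a 2-subgroup normalised by the Sylow subgroup `P` lies in `P` -/
theorem le_sylow_of_le_normalizer {G : Type*} [Group G] {p : ℕ} (P : Sylow p G)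
    (C : Subgroup G) (hC : IsPGroup p C) (h : (P : Subgroup G) ≤ Subgroup.normalizer (C : Set G)) :
    C ≤ P := by
  have h1 : IsPGroup p ((P : Subgroup G) ⊔ C : Subgroup G) :=
    IsPGroup.to_sup_of_normal_right' P.isPGroup' hC h
  have h2 := P.is_maximal' h1 le_sup_left
  calc C ≤ (P : Subgroup G) ⊔ C := le_sup_right
    _ = P := h2

theorem isPGroup_zpowers_of_sq {G : Type*} [Group G] (t : G) (ht : t * t = 1) :
    IsPGroup 2 (Subgroup.zpowers t) := by
  intro g
  obtain ⟨g, hg⟩ := g
  obtain ⟨k, rfl⟩ := Subgroup.mem_zpowers_iff.mp hg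
  refine ⟨1, ?_⟩
  ext
  simp only [pow_one, Subgroup.coe_one, SubmonoidClass.mk_pow]
  rw [pow_two, ← zpow_add, ← two_mul, zpow_mul]
  have : t ^ (2 : ℤ) = 1 := by
    rw [show (2 : ℤ) = 1 + 1 from rfl, zpow_add, zpow_one, ht]
  rw [this, one_zpow]

/-- an element of 2-power order normalising the Sylow 2-subgroup `P` lies in it. -/
theorem mem_sylow_of_sq_of_mem_normalizer {G : Type*} [Group G] (P : Sylow 2 G) (t : G)
    (ht : t * t = 1) (hn : ∀ p ∈ P, p * t * p⁻¹ = t) : t ∈ P := by
  have := le_sylow_of_le_normalizer P (Subgroup.zpowers t) (isPGroup_zpowers_of_sq t ht) ?_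
  · exact this (Subgroup.mem_zpowers t)
  · rw [Subgroup.le_normalizer_iff]
    intro h hh k hk
    obtain ⟨j, rfl⟩ := Subgroup.mem_zpowers_iff.mp hk
    rw [← conj_zpow, hn h hh]
    exact Subgroup.zpow_mem_zpowers t j

/-- Step 1: a point moved by `P` is moved by a transposition of `P`. -/
theorem exists_swap_mem (P : Sylow 2 (Perm α)) (a : α) (ha : ∃ p ∈ P, p a ≠ a) :
    ∃ b, b ≠ a ∧ swap a b ∈ P := by
  obtain ⟨p, hp, hpa⟩ := ha
  -- the orbit
  let O : Set α := {x | ∃ q ∈ P, q a = x}
  let L : Subgroup (Perm α) := {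
    carrier := {g | ∀ x, g x ∈ O ↔ x ∈ O}
    mul_mem' := by
      intro g h hg hh x
      rw [Perm.mul_apply, hg, hh]
    one_mem' := by intro x; simp
    inv_mem' := by
      intro g hg x
      have := hg (g⁻¹ x)
      rw [papp_inv] at this
      exact this.symm }
  have hPL : (P : Subgroup (Perm α)) ≤ L := by
    intro q hq x
    constructor
    · rintro ⟨r, hr, hrx⟩
      exact ⟨q⁻¹ * r, P.mul_mem (P.inv_mem hq) hr, by rw [Perm.mul_apply, hrx, pinv_app]⟩
    · rintro ⟨r, hr, hrx⟩
      exact ⟨q * r, P.mul_mem hq hr, by rw [Perm.mul_apply, hrx]⟩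
  have haO : a ∈ O := ⟨1, P.one_mem, rfl⟩
  have hcO : p a ∈ O := ⟨p, hp, rfl⟩
  have hs : swap a (p a) ∈ L := by
    intro x
    by_cases h1 : x = a
    · subst h1; rw [swap_apply_left]; exact ⟨fun _ => haO, fun _ => hcO⟩
    · by_cases h2 : x = p a
      · subst h2; rw [swap_apply_right]; exact ⟨fun _ => hcO, fun _ => haO⟩
      · rw [swap_apply_of_ne_of_ne h1 h2]
  let s : L := ⟨swap a (p a), hs⟩
  have hss : s * s = 1 := by
    ext1; simp [s]
  obtain ⟨Q, hQ⟩ := (isPGroup_zpowers_of_sq s hss).exists_le_sylow
  obtain ⟨l, hl⟩ := MulAction.exists_smul_eq L Q (P.subtype hPL)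
  have hsQ : s ∈ Q := hQ (Subgroup.mem_zpowers s)
  have h1 : l * s * l⁻¹ ∈ (P.subtype hPL : Sylow 2 L) := by
    rw [← hl]
    have := Subgroup.smul_mem_pointwise_smul s (MulAut.conj l) (Q : Subgroup L) hsQ
    exact this
  have h2 : (l : Perm α) * swap a (p a) * (l : Perm α)⁻¹ ∈ P := h1
  have h3 : (l : Perm α) * swap a (p a) * (l : Perm α)⁻¹ = swap (l.1 a) (l.1 (p a)) := by
    rw [← Equiv.swap_apply_apply]
  rw [h3] at h2
  obtain ⟨q, hq, hqa⟩ := (l.2 a).mpr haO
  refine ⟨q⁻¹ (l.1 (p a)), ?_, ?_⟩
  · intro h
    have h4 : l.1 (p a) = q a := by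
      have := papp_inv q (l.1 (p a))
      rw [h] at this; exact this.symm
    rw [hqa] at h4
    exact hpa (l.1.injective h4)
  · have h5 : q⁻¹ * swap (l.1 a) (l.1 (p a)) * q⁻¹⁻¹ ∈ P :=
      P.mul_mem (P.mul_mem (P.inv_mem hq) h2) (P.inv_mem (P.inv_mem hq))
    rw [← Equiv.swap_apply_apply] at h5
    rwa [← hqa, pinv_app] at h5

/-- two points fixed by `P` coincide -/
theorem fixed_unique (P : Sylow 2 (Perm α)) (a b : α) (ha : ∀ p ∈ P, p a = a)
    (hb : ∀ p ∈ P, p b = b) : a = b := by
  by_contra hab
  have h1 : swap a b ∈ P := by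
    apply mem_sylow_of_sq_of_mem_normalizer P _ (swap_mul_self a b)
    intro p hp
    rw [← Equiv.swap_apply_apply, ha p hp, hb p hp]
  have := ha _ h1
  rw [swap_apply_left] at this
  exact hab this.symm

/-- a product of two overlapping distinct transpositions is not in a 2-group -/
theorem swap_partner_unique (P : Sylow 2 (Perm α)) (a b c : α) (hab : a ≠ b) (hac : a ≠ c)
    (hb : swap a b ∈ P) (hc : swap a c ∈ P) : b = c := by
  by_contra hbc
  have h3 : (swap a b * swap a c).IsThreeCycle :=
    Equiv.Perm.isThreeCycle_swap_mul_swap_same hab hac hbc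
  have h4 : orderOf (swap a b * swap a c) = 3 := h3.orderOf
  have h5 : swap a b * swap a c ∈ P := P.mul_mem hb hc
  obtain ⟨k, hk⟩ := P.isPGroup' ⟨_, h5⟩
  have h6 : (swap a b * swap a c) ^ (2 ^ k) = 1 := by
    have := congrArg Subtype.val hk
    simpa using this
  have h7 := orderOf_dvd_of_pow_eq_one h6
  rw [h4] at h7
  have h8 : (3 : ℕ) ∣ 2 := Nat.Prime.dvd_of_dvd_pow Nat.prime_three h7
  omega

open Classical in
/-- the partner of a point -/
noncomputable def partner (P : Sylow 2 (Perm α)) (a : α) : α :=
  if h : ∃ b, b ≠ a ∧ swap a b ∈ P then h.choose else a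

theorem partner_mem (P : Sylow 2 (Perm α)) (a : α) : swap a (partner P a) ∈ P := by
  unfold partner
  split_ifs with h
  · exact h.choose_spec.2
  · rw [swap_self]; exact P.one_mem

theorem partner_eq_of_mem (P : Sylow 2 (Perm α)) (a b : α) (hab : b ≠ a) (h : swap a b ∈ P) :
    partner P a = b := by
  have h1 : ∃ b, b ≠ a ∧ swap a b ∈ P := ⟨b, hab, h⟩
  have h2 : partner P a = h1.choose := by unfold partner; rw [dif_pos h1]
  rw [h2]
  exact swap_partner_unique P a _ _ h1.choose_spec.1.symm hab.symm h1.choose_spec.2 h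

theorem partner_ne_iff (P : Sylow 2 (Perm α)) (a : α) :
    partner P a ≠ a ↔ ∃ p ∈ P, p a ≠ a := by
  constructor
  · intro h
    exact ⟨_, partner_mem P a, by rwa [swap_apply_left]⟩
  · intro h
    obtain ⟨b, hb, hm⟩ := exists_swap_mem P a h
    rw [partner_eq_of_mem P a b hb hm]; exact hb

theorem partner_eq_iff (P : Sylow 2 (Perm α)) (a : α) :
    partner P a = a ↔ ∀ p ∈ P, p a = a := by
  have := partner_ne_iff P a
  constructor
  · intro h p hp
    by_contra h1
    exact this.mpr ⟨p, hp, h1⟩ h
  · intro h
    by_contra h1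
    obtain ⟨p, hp, hpa⟩ := this.mp h1
    exact hpa (h p hp)

theorem partner_partner (P : Sylow 2 (Perm α)) (a : α) : partner P (partner P a) = a := by
  by_cases h : partner P a = a
  · rw [h, h]
  · apply partner_eq_of_mem P _ _ (Ne.symm h)
    rw [swap_comm]; exact partner_mem P a

theorem partner_fixed_unique (P : Sylow 2 (Perm α)) (a b : α) (ha : partner P a = a)
    (hb : partner P b = b) : a = b :=
  fixed_unique P a b ((partner_eq_iff P a).mp ha) ((partner_eq_iff P b).mp hb)

theorem partner_conj (P : Sylow 2 (Perm α)) (x : Perm α)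
    (hx : ∀ p ∈ P, x * p * x⁻¹ ∈ P) (a : α) (ha : partner P a ≠ a) :
    partner P (x a) = x (partner P a) := by
  apply partner_eq_of_mem P _ _ (fun h => ha (x.injective h))
  have := hx _ (partner_mem P a)
  rwa [← Equiv.swap_apply_apply] at this

/-- The set of transpositions in `P`. -/
def swapsIn (P : Sylow 2 (Perm α)) : Set (Perm α) := {t | t.IsSwap ∧ t ∈ P}

theorem mem_swapsIn_iff (P : Sylow 2 (Perm α)) (t : Perm α) :
    t ∈ swapsIn P ↔ ∃ a, partner P a ≠ a ∧ t = swap a (partner P a) := by
  constructor
  · rintro ⟨⟨a, b, hab, rfl⟩, hP⟩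
    refine ⟨a, ?_, ?_⟩
    · rw [partner_eq_of_mem P a b hab.symm hP]; exact hab.symm
    · rw [partner_eq_of_mem P a b hab.symm hP]
  · rintro ⟨a, ha, rfl⟩
    exact ⟨⟨a, partner P a, ha.symm, rfl⟩, partner_mem P a⟩

theorem swap_eq_swap_imp {a b c d : α} (hab : a ≠ b) (h : swap a b = swap c d) :
    (a = c ∧ b = d) ∨ (a = d ∧ b = c) := by
  have h1 : swap c d a = b := by rw [← h, swap_apply_left]
  have h2 : swap c d b = a := by rw [← h, swap_apply_right]
  by_cases hac : a = c
  · subst hac
    rw [swap_apply_left] at h1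
    exact Or.inl ⟨rfl, h1.symm⟩
  · by_cases had : a = d
    · subst had
      rw [swap_apply_right] at h1
      exact Or.inr ⟨rfl, h1.symm⟩
    · rw [swap_apply_of_ne_of_ne hac had] at h1
      exact absurd h1 hab

/-- the centralizer of the transpositions of `P` has exponent 2 -/
theorem sq_eq_one_of_commute (P : Sylow 2 (Perm α)) (x : Perm α)
    (hx : ∀ t ∈ swapsIn P, x * t * x⁻¹ = t) : x * x = 1 := by
  have key : ∀ a, partner P a ≠ a → (x a = a ∨ x a = partner P a) := by
    intro a ha
    have h1 := hx _ ((mem_swapsIn_iff P _).mpr ⟨a, ha, rfl⟩)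
    rw [← Equiv.swap_apply_apply] at h1
    rcases swap_eq_swap_imp (fun h => ha (x.injective h).symm) h1 with h | h
    · exact Or.inl h.1
    · exact Or.inr h.1
  ext a
  rw [Perm.mul_apply, Perm.one_apply]
  by_cases ha : partner P a = a
  · have : x a = a := by
      by_contra hxa
      have h2 : partner P (x a) ≠ x a := by
        intro h3
        exact hxa (partner_fixed_unique P _ _ h3 ha)
      -- t = swap (x a) (partner (x a)) commutes with x
      have h1 := hx _ ((mem_swapsIn_iff P _).mpr ⟨x a, h2, rfl⟩)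
      have h4 : x * swap a (x⁻¹ (partner P (x a))) * x⁻¹ = swap (x a) (partner P (x a)) := by
        rw [← Equiv.swap_apply_apply, papp_inv]
      have h5 : swap (x a) (partner P (x a)) = swap a (x⁻¹ (partner P (x a))) := by
        rw [← h4] at h1
        have : swap (x a) (partner P (x a)) = x⁻¹ * (x * swap (x a) (partner P (x a)) * x⁻¹) * x := by
          group
        rw [h4] at h1
        rw [this, h1, ← h4]; group
      have h6 : swap (x a) (partner P (x a)) ∈ P := partner_mem P _
      have h7 : ∀ p ∈ P, p a = a := (partner_eq_iff P a).mp ha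
      have h8 := h7 _ h6
      rw [h5, swap_apply_left] at h8
      have h9 : partner P (x a) = x a := by
        rw [← papp_inv x (partner P (x a)), h8]
      exact h2 h9
    rw [this, this]
  · rcases key a ha with h | h
    · rw [h, h]
    · have h2 : partner P (partner P a) ≠ partner P a := by
        rw [partner_partner]; exact fun h => ha h.symm
      rcases key _ h2 with h3 | h3
      · rw [h] 
        rw [h3]
        exact absurd (x.injective (h3.trans h.symm)) ha
      · rw [h, h3, partner_partner]

theorem swapsIn_conj_mem (P : Sylow 2 (Perm α)) (x : Perm α)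
    (hx : ∀ p ∈ P, x * p * x⁻¹ ∈ P) (t : Perm α) (ht : t ∈ swapsIn P) :
    x * t * x⁻¹ ∈ swapsIn P := by
  refine ⟨?_, hx t ht.2⟩
  obtain ⟨a, b, hab, rfl⟩ := ht.1
  exact ⟨x a, x b, fun h => hab (x.injective h), by rw [← Equiv.swap_apply_apply]⟩

/-- the stabilizer of the set of transpositions of `P`, acting on it by conjugation -/
def conjSwaps (P : Sylow 2 (Perm α)) :
    ↥(Subgroup.normalizer (swapsIn P)) →* Perm ↥(swapsIn P) where
  toFun x := {
    toFun := fun t => ⟨x.1 * t.1 * x.1⁻¹, (Subgroup.mem_set_normalizer_iff.mp x.2 t.1).mp t.2⟩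
    invFun := fun t => ⟨x.1⁻¹ * t.1 * x.1, by
      have := (Subgroup.mem_set_normalizer_iff.mp x.2 (x.1⁻¹ * t.1 * x.1)).mpr
      apply this
      have h : x.1 * (x.1⁻¹ * t.1 * x.1) * x.1⁻¹ = t.1 := by group
      rw [h]; exact t.2⟩
    left_inv := fun t => by ext1; simp [mul_assoc]
    right_inv := fun t => by ext1; simp [mul_assoc] }
  map_one' := by ext t : 2; simp
  map_mul' x y := by ext t : 2; simp [mul_assoc]

theorem conjSwaps_apply (P : Sylow 2 (Perm α)) (x : ↥(Subgroup.normalizer (swapsIn P)))
    (t : ↥(swapsIn P)) : ((conjSwaps P x t : ↥(swapsIn P)) : Perm α) = x.1 * t.1 * x.1⁻¹ := rfl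

theorem conjSwaps_ker (P : Sylow 2 (Perm α)) : IsPGroup 2 (conjSwaps P).ker := by
  rintro ⟨x, hx⟩
  refine ⟨1, ?_⟩
  ext1
  simp only [pow_one, SubmonoidClass.mk_pow, Subgroup.coe_one]
  ext1
  rw [pow_two]
  apply sq_eq_one_of_commute P x.1
  intro t ht
  rw [MonoidHom.mem_ker] at hx
  have : conjSwaps P x ⟨t, ht⟩ = ⟨t, ht⟩ := by rw [hx]; rfl
  have h2 := congrArg Subtype.val this
  rwa [conjSwaps_apply] at h2

theorem disjoint_partner (P : Sylow 2 (Perm α)) (a c : α) (h1 : c ≠ a) (h2 : c ≠ partner P a) :
    partner P c ≠ a ∧ partner P c ≠ partner P a := by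
  constructor
  · intro h; apply h2; rw [← h, partner_partner]
  · intro h; apply h1
    rw [← partner_partner P c, h, partner_partner]

/-- conjugating by the product of transpositions interchanging two pairs -/
theorem exchange_pairs (P : Sylow 2 (Perm α)) (a c : α)
    (ha : partner P a ≠ a) (hc : partner P c ≠ c)
    (hca : c ≠ a) (hcb : c ≠ partner P a) :
    (swap a c * swap (partner P a) (partner P c)) a = c ∧
    (swap a c * swap (partner P a) (partner P c)) (partner P a) = partner P c ∧
    (swap a c * swap (partner P a) (partner P c)) c = a ∧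
    (swap a c * swap (partner P a) (partner P c)) (partner P c) = partner P a ∧
    (∀ e, e ≠ a → e ≠ partner P a → e ≠ c → e ≠ partner P c →
      (swap a c * swap (partner P a) (partner P c)) e = e) ∧
    (∀ e, partner P ((swap a c * swap (partner P a) (partner P c)) e) =
      (swap a c * swap (partner P a) (partner P c)) (partner P e)) := by
  obtain ⟨h3, h4⟩ := disjoint_partner P a c hca hcb
  have hpb := partner_partner P a
  have hpd := partner_partner P c
  set b := partner P a
  set d := partner P c
  have e1 : (swap a c * swap b d) a = c := by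
    rw [Perm.mul_apply, swap_apply_of_ne_of_ne ha.symm h3.symm, swap_apply_left]
  have e2 : (swap a c * swap b d) b = d := by
    rw [Perm.mul_apply, swap_apply_left, swap_apply_of_ne_of_ne h3 hc]
  have e3 : (swap a c * swap b d) c = a := by
    rw [Perm.mul_apply, swap_apply_of_ne_of_ne hcb hc.symm, swap_apply_right]
  have e4 : (swap a c * swap b d) d = b := by
    rw [Perm.mul_apply, swap_apply_right, swap_apply_of_ne_of_ne ha hcb.symm]
  have e5 : ∀ e, e ≠ a → e ≠ b → e ≠ c → e ≠ d → (swap a c * swap b d) e = e := by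
    intro e h1 h2 h5 h6
    rw [Perm.mul_apply, swap_apply_of_ne_of_ne h2 h6, swap_apply_of_ne_of_ne h1 h5]
  refine ⟨e1, e2, e3, e4, e5, ?_⟩
  intro e
  by_cases ea : e = a
  · subst ea; rw [e1, e2]
  by_cases eb : e = b
  · rw [eb, e2, hpd, hpb, e1]
  by_cases ec : e = c
  · rw [ec, e3, e4]
  by_cases ed : e = d
  · rw [ed, e4, hpb, hpd, e3]
  rw [e5 e ea eb ec ed, e5 (partner P e)]
  · intro h; apply eb; rw [← partner_partner P e, h]
  · intro h; apply ea; rw [← partner_partner P e, h]; exact hpb
  · intro h; apply ed; rw [← partner_partner P e, h]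
  · intro h; apply ec; rw [← partner_partner P e, h]; exact hpd

theorem mem_normalizer_swapsIn (P : Sylow 2 (Perm α)) (y : Perm α)
    (hy : ∀ e, partner P (y e) = y (partner P e)) : y ∈ Subgroup.normalizer (swapsIn P) := by
  have key : ∀ y : Perm α, (∀ e, partner P (y e) = y (partner P e)) → ∀ t ∈ swapsIn P,
      y * t * y⁻¹ ∈ swapsIn P := by
    intro y hy t ht
    obtain ⟨a, ha, rfl⟩ := (mem_swapsIn_iff P t).mp ht
    rw [← Equiv.swap_apply_apply]
    refine (mem_swapsIn_iff P _).mpr ⟨y a, ?_, by rw [hy]⟩
    rw [hy]; exact fun h => ha (y.injective h)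
  rw [Subgroup.mem_set_normalizer_iff]
  intro t
  constructor
  · exact key y hy t
  · intro h
    have h2 := key y⁻¹ (fun e => by
      apply y.injective
      rw [← hy, papp_inv, papp_inv]) _ h
    have h3 : y⁻¹ * (y * t * y⁻¹) * y⁻¹⁻¹ = t := by group
    rwa [h3] at h2

theorem sylow_le_normalizer_swapsIn (P : Sylow 2 (Perm α)) :
    (P : Subgroup (Perm α)) ≤ Subgroup.normalizer (swapsIn P) := by
  rw [Subgroup.le_set_normalizer_iff]
  intro h hh g hg
  exact swapsIn_conj_mem P h (fun p hp => P.mul_mem (P.mul_mem hh hp) (P.inv_mem hh)) g hg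

theorem normalizer_le_normalizer_swapsIn (P : Sylow 2 (Perm α)) :
    Subgroup.normalizer ((P : Subgroup (Perm α)) : Set (Perm α)) ≤
      Subgroup.normalizer (swapsIn P) := by
  rw [Subgroup.le_set_normalizer_iff]
  intro h hh g hg
  exact swapsIn_conj_mem P h (fun p hp => (Subgroup.mem_normalizer_iff.mp hh p).mp hp) g hg

theorem conjSwaps_surjective (P : Sylow 2 (Perm α)) : Function.Surjective (conjSwaps P) := by
  classical
  rw [← MonoidHom.range_eq_top, eq_top_iff, ← Equiv.Perm.closure_isSwap, Subgroup.closure_le]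
  rintro _ ⟨t1, t2, h12, rfl⟩
  obtain ⟨a, ha, hta⟩ := (mem_swapsIn_iff P _).mp t1.2
  obtain ⟨c, hc, htc⟩ := (mem_swapsIn_iff P _).mp t2.2
  have hca : c ≠ a := by
    rintro rfl; apply h12; ext1; rw [hta, htc]
  have hcb : c ≠ partner P a := by
    rintro rfl; apply h12; ext1; rw [hta, htc, partner_partner, swap_comm]
  obtain ⟨e1, e2, e3, e4, e5, e6⟩ := exchange_pairs P a c ha hc hca hcb
  refine ⟨⟨_, mem_normalizer_swapsIn P _ e6⟩, ?_⟩
  ext t : 2
  rw [conjSwaps_apply]
  by_cases h1 : t = t1
  · subst h1
    rw [swap_apply_left, hta, htc]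
    show _ * swap a (partner P a) * _ = _
    rw [← Equiv.swap_apply_apply, e1, e2]
  by_cases h2 : t = t2
  · subst h2
    rw [swap_apply_right, hta, htc]
    show _ * swap c (partner P c) * _ = _
    rw [← Equiv.swap_apply_apply, e3, e4]
  rw [swap_apply_of_ne_of_ne h1 h2]
  obtain ⟨e, he, hte⟩ := (mem_swapsIn_iff P _).mp t.2
  rw [hte]
  show _ * swap e (partner P e) * _ = _
  have k1 : e ≠ a := by rintro rfl; exact h1 (Subtype.ext (hte.trans hta.symm))
  have k2 : e ≠ partner P a := by
    rintro rfl
    exact h1 (Subtype.ext (by rw [hte, hta, partner_partner, swap_comm]))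
  have k3 : e ≠ c := by rintro rfl; exact h2 (Subtype.ext (hte.trans htc.symm))
  have k4 : e ≠ partner P c := by
    rintro rfl
    exact h2 (Subtype.ext (by rw [hte, htc, partner_partner, swap_comm]))
  rw [← Equiv.swap_apply_apply, ← e6, e5 e k1 k2 k3 k4]

theorem card_swapsIn_lt (P : Sylow 2 (Perm α)) [Nonempty α] :
    Nat.card ↥(swapsIn P) < Fintype.card α := by
  classical
  rw [Nat.card_eq_fintype_card]
  by_cases hne : (swapsIn P).Nonempty
  · have hch : ∀ t : ↥(swapsIn P), ∃ a, partner P a ≠ a ∧ t.1 = swap a (partner P a) :=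
      fun t => (mem_swapsIn_iff P _).mp t.2
    choose f hf1 hf2 using hch
    have hinj : Function.Injective f := by
      intro t1 t2 h
      ext1
      rw [hf2 t1, hf2 t2, h]
    obtain ⟨t, ht⟩ := hne
    refine Fintype.card_lt_of_injective_of_notMem f hinj (b := partner P (f ⟨t, ht⟩)) ?_
    rintro ⟨t', h'⟩
    have h1 : t'.1 = t := by
      rw [hf2 t', h', partner_partner, swap_comm, ← hf2 ⟨t, ht⟩]
    have h2 : t' = ⟨t, ht⟩ := Subtype.ext h1
    rw [h2] at h'
    exact hf1 ⟨t, ht⟩ h'.symm
  · have : IsEmpty ↥(swapsIn P) := by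
      rw [Set.isEmpty_coe_sort]; exact Set.not_nonempty_iff_eq_empty.mp hne
    rw [Fintype.card_eq_zero]
    exact Fintype.card_pos

/-- Sylow 2-subgroups of symmetric groups are self-normalising (auxiliary form). -/
theorem normalizer_sylow_perm_aux (n : ℕ) : ∀ (β : Type _) [Fintype β] [DecidableEq β],
    Fintype.card β = n → ∀ P : Sylow 2 (Perm β), ∀ x : Perm β,
      x ∈ Subgroup.normalizer ((P : Subgroup (Perm β)) : Set (Perm β)) → x ∈ P := by
  induction n using Nat.strong_induction_on with
  | _ n ih =>
  intro β _ _ hn P x hx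
  classical
  rcases isEmpty_or_nonempty β with hβ | hβ
  · have : x = 1 := Subsingleton.elim _ _
    rw [this]; exact P.one_mem
  -- the Sylow subgroup upstairs
  have hPK := sylow_le_normalizer_swapsIn P
  let P' : Subgroup ↥(Subgroup.normalizer (swapsIn P)) :=
    (P : Subgroup (Perm β)).subgroupOf (Subgroup.normalizer (swapsIn P))
  have hP'2 : IsPGroup 2 (P'.map (conjSwaps P)) := by
    apply IsPGroup.map
    exact IsPGroup.comap_subtype P.isPGroup'
  obtain ⟨Q, hQ⟩ := hP'2.exists_le_sylow
  -- pull back Q
  have hQ2 : IsPGroup 2 ((Q : Subgroup (Perm ↥(swapsIn P))).comap (conjSwaps P)) :=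
    Q.isPGroup'.comap_of_ker_isPGroup _ (conjSwaps_ker P)
  have hQ3 : IsPGroup 2 (((Q : Subgroup (Perm ↥(swapsIn P))).comap (conjSwaps P)).map
      (Subgroup.normalizer (swapsIn P)).subtype) := hQ2.map _
  have hle : (P : Subgroup (Perm β)) ≤
      ((Q : Subgroup (Perm ↥(swapsIn P))).comap (conjSwaps P)).map
      (Subgroup.normalizer (swapsIn P)).subtype := by
    intro p hp
    refine ⟨⟨p, hPK hp⟩, ?_, rfl⟩
    apply hQ
    exact ⟨⟨p, hPK hp⟩, hp, rfl⟩
  have heq := P.is_maximal' hQ3 hle
  have hmem : ∀ y : ↥(Subgroup.normalizer (swapsIn P)), conjSwaps P y ∈ Q → y.1 ∈ P := by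
    intro y hy
    have : y.1 ∈ ((Q : Subgroup (Perm ↥(swapsIn P))).comap (conjSwaps P)).map
      (Subgroup.normalizer (swapsIn P)).subtype := ⟨y, hy, rfl⟩
    rw [heq] at this
    exact this
  have hxK := normalizer_le_normalizer_swapsIn P hx
  apply hmem ⟨x, hxK⟩
  have hlt : Fintype.card ↥(swapsIn P) < n := by
    rw [← hn, ← Nat.card_eq_fintype_card]; exact card_swapsIn_lt P
  apply ih _ hlt ↥(swapsIn P) rfl Q
  rw [Subgroup.mem_normalizer_iff]
  intro q
  obtain ⟨y, rfl⟩ := conjSwaps_surjective P q
  constructor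
  · intro hq
    have hy := hmem y hq
    have h1 : x * y.1 * x⁻¹ ∈ P := (Subgroup.mem_normalizer_iff.mp hx y.1).mp hy
    have h2 : conjSwaps P (⟨x, hxK⟩ * y * ⟨x, hxK⟩⁻¹) ∈ Q := by
      apply hQ
      exact ⟨_, h1, rfl⟩
    rwa [map_mul, map_mul, map_inv] at h2
  · intro hq
    rw [← map_inv, ← map_mul, ← map_mul] at hq
    have h1 := hmem _ hq
    have h2 : y.1 ∈ P := (Subgroup.mem_normalizer_iff.mp hx y.1).mpr h1
    apply hQ
    exact ⟨_, h2, rfl⟩

/-- Sylow 2-subgroups of symmetric groups are self-normalising. -/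
theorem normalizer_sylow_perm (P : Sylow 2 (Perm α)) :
    Subgroup.normalizer ((P : Subgroup (Perm α)) : Set (Perm α)) = P := by
  apply le_antisymm
  · intro x hx
    exact normalizer_sylow_perm_aux _ α rfl P x hx
  · exact Subgroup.le_normalizer

/-- No `3`-cycle normalises `P ⊓ Alt` in degree at least six. -/
theorem no_threeCycle_normalizes (P : Sylow 2 (Perm α)) (h6 : 6 ≤ Fintype.card α)
    (a b d : α) (hab : a ≠ b) (had : a ≠ d) (hbd : b ≠ d) (c : Perm α)
    (hca : c a = b) (hcb : c b = d) (hcd : c d = a) (hce : ∀ e, e ≠ a → e ≠ b → e ≠ d → c e = e)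
    (hn : ∀ p ∈ P, p ∈ alternatingGroup α → c * p * c⁻¹ ∈ P) : False := by
  classical
  -- general fact: no pair of `P` disjoint from {a,b,d}
  have hsw : ∀ x y : α, partner P x ≠ x → partner P y ≠ y →
      swap x (partner P x) * swap y (partner P y) ∈ alternatingGroup α := by
    intro x y hx hy
    rw [Equiv.Perm.mem_alternatingGroup, map_mul, Perm.sign_swap hx.symm, Perm.sign_swap hy.symm]
    rfl
  -- if a pair is disjoint from the 3-cycle, then conjugating any pair gives a pair
  have key1 : ∀ y : α, partner P y ≠ y → y ≠ a → y ≠ b → y ≠ d →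
      partner P y ≠ a → partner P y ≠ b → partner P y ≠ d →
      ∀ x, partner P x ≠ x → partner P (c x) = c (partner P x) := by
    intro y hy ya yb yd ya' yb' yd' x hx
    have h1 := hn _ (P.mul_mem (partner_mem P x) (partner_mem P y)) (hsw x y hx hy)
    have h2 : c * (swap x (partner P x) * swap y (partner P y)) * c⁻¹ =
        (c * swap x (partner P x) * c⁻¹) * (c * swap y (partner P y) * c⁻¹) := by group
    rw [h2, ← Equiv.swap_apply_apply, ← Equiv.swap_apply_apply, hce y ya yb yd,
      hce _ ya' yb' yd'] at h1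
    have h3 : swap (c x) (c (partner P x)) ∈ P := by
      have := P.mul_mem h1 (P.inv_mem (partner_mem P y))
      rwa [mul_assoc, mul_inv_cancel, mul_one] at this
    exact partner_eq_of_mem P _ _ (fun h => hx (c.injective h)) h3
  have key2 : ∀ y : α, partner P y ≠ y → y ≠ a → y ≠ b → y ≠ d →
      partner P y ≠ a → partner P y ≠ b → partner P y ≠ d → False := by
    intro y hy ya yb yd ya' yb' yd'
    have h1 := key1 y hy ya yb yd ya' yb' yd'
    -- at least one of a, b is not fixed
    -- general: if `u` is nonfixed and in {a,b,d} contradiction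
    have h2 : ∀ u v w : α, u ≠ v → u ≠ w → v ≠ w → c u = v → c v = w → c w = u →
        (∀ e, e ≠ u → e ≠ v → e ≠ w → c e = e) → partner P u ≠ u → False := by
      intro u v w huv huw hvw cu cv cw ce hu
      have h3 := h1 u hu
      rw [cu] at h3
      by_cases e1 : partner P u = v
      · rw [e1, cv] at h3
        have : partner P v = u := by rw [← e1, partner_partner]
        rw [this] at h3; exact huw h3
      by_cases e2 : partner P u = w
      · rw [e2, cw] at h3
        have : v = partner P u := by rw [← h3, partner_partner]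
        exact e1 this.symm
      · have h4 : c (partner P u) = partner P u := ce _ hu e1 e2
        rw [h4] at h3
        have : v = u := by rw [← partner_partner P v, h3, partner_partner]
        exact huv this.symm
    by_cases ha : partner P a = a
    · have hb : partner P b ≠ b := fun hb => hab (partner_fixed_unique P a b ha hb)
      exact h2 b d a hbd hab.symm had.symm hcb hcd hca (fun e e1 e2 e3 => hce e e3 e1 e2) hb
    · exact h2 a b d hab had hbd hca hcb hcd hce ha
  -- so every nonfixed point meets {a,b,d}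
  have key3 : ∀ y : α, partner P y = y ∨ y ∈ ({a, b, d, partner P a, partner P b, partner P d} : Finset α) := by
    intro y
    by_contra hy
    push Not at hy
    obtain ⟨h1, h2⟩ := hy
    simp only [Finset.mem_insert, Finset.mem_singleton, not_or] at h2
    obtain ⟨q1, q2, q3, q4, q5, q6⟩ := h2
    refine key2 y h1 q1 q2 q3 ?_ ?_ ?_
    · intro h; apply q4; rw [← h, partner_partner]
    · intro h; apply q5; rw [← h, partner_partner]
    · intro h; apply q6; rw [← h, partner_partner]
  -- auxiliary cardinality contradiction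
  have card5 : ∀ s : Finset α, s.card ≤ 4 → (∀ y, partner P y = y ∨ y ∈ s) → False := by
    intro s hs hy
    by_cases hf : ∃ f, partner P f = f
    · obtain ⟨f, hf⟩ := hf
      have : (Finset.univ : Finset α) ⊆ insert f s := by
        intro y _
        rcases hy y with h | h
        · rw [partner_fixed_unique P y f h hf]; exact Finset.mem_insert_self _ _
        · exact Finset.mem_insert_of_mem h
      have h1 := Finset.card_le_card this
      have h2 := Finset.card_insert_le f s
      rw [Finset.card_univ] at h1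
      omega
    · push Not at hf
      have : (Finset.univ : Finset α) ⊆ s := by
        intro y _
        rcases hy y with h | h
        · exact absurd h (hf y)
        · exact h
      have h1 := Finset.card_le_card this
      rw [Finset.card_univ] at h1
      omega
  have card5' : ∀ s : Finset α, s.card ≤ 5 → (∀ y, y ∈ s) → False := by
    intro s hs hy
    have : (Finset.univ : Finset α) ⊆ s := fun y _ => hy y
    have h1 := Finset.card_le_card this
    rw [Finset.card_univ] at h1
    omega
  have key4 : ∀ y : α, partner P y ≠ y → ((y = a ∨ y = b ∨ y = d) ∨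
      (partner P y = a ∨ partner P y = b ∨ partner P y = d)) := by
    intro y hy
    rcases key3 y with h | h
    · exact absurd h hy
    · simp only [Finset.mem_insert, Finset.mem_singleton] at h
      rcases h with h | h | h | h | h | h
      · exact Or.inl (Or.inl h)
      · exact Or.inl (Or.inr (Or.inl h))
      · exact Or.inl (Or.inr (Or.inr h))
      · right; left; rw [h, partner_partner]
      · right; right; left; rw [h, partner_partner]
      · right; right; right; rw [h, partner_partner]
  -- no one of a, b, d is fixed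
  have nofix : ∀ u v w : α, (∀ y, (y = a ∨ y = b ∨ y = d) → (y = u ∨ y = v ∨ y = w)) →
      partner P u ≠ u := by
    intro u v w huvw hu
    apply card5' ({u, v, w, partner P v, partner P w} : Finset α)
    · exact Finset.card_le_five
    · intro y
      simp only [Finset.mem_insert, Finset.mem_singleton]
      by_cases hy : partner P y = y
      · left; exact partner_fixed_unique P y u hy hu
      · rcases key4 y hy with h | h
        · rcases huvw y h with h | h | h
          · left; exact h
          · right; left; exact h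
          · right; right; left; exact h
        · rcases huvw _ h with h | h | h
          · left; rw [← partner_partner P y, h, hu]
          · right; right; right; left; rw [← h, partner_partner]
          · right; right; right; right; rw [← h, partner_partner]
  have nopair : ∀ u v w : α, (∀ y, (y = a ∨ y = b ∨ y = d) → (y = u ∨ y = v ∨ y = w)) →
      partner P u ≠ v := by
    intro u v w huvw hu
    apply card5 ({u, v, w, partner P w} : Finset α)
    · exact Finset.card_le_four
    · intro y
      simp only [Finset.mem_insert, Finset.mem_singleton]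
      by_cases hy : partner P y = y
      · left; exact hy
      · right
        rcases key4 y hy with h | h
        · rcases huvw y h with h | h | h
          · left; exact h
          · right; left; exact h
          · right; right; left; exact h
        · rcases huvw _ h with h | h | h
          · right; left; rw [← partner_partner P y, h, hu]
          · left; rw [← partner_partner P y, h, ← hu, partner_partner]
          · right; right; right; rw [← h, partner_partner]
  have ha := nofix a b d (fun y h => h)
  have hb := nofix b a d (fun y h => by rcases h with h | h | h <;> simp [h])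
  have nab := nopair a b d (fun y h => h)
  have nad := nopair a d b (fun y h => by rcases h with h | h | h <;> simp [h])
  have nba := nopair b a d (fun y h => by rcases h with h | h | h <;> simp [h])
  have nbd := nopair b d a (fun y h => by rcases h with h | h | h <;> simp [h])
  -- case (iii)
  have h1 := hn _ (P.mul_mem (partner_mem P a) (partner_mem P b)) (hsw a b ha hb)
  have h2 : c * (swap a (partner P a) * swap b (partner P b)) * c⁻¹ =
        (c * swap a (partner P a) * c⁻¹) * (c * swap b (partner P b) * c⁻¹) := by group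
  rw [h2, ← Equiv.swap_apply_apply, ← Equiv.swap_apply_apply, hca, hcb, hce _ ha nab nad,
    hce _ nba hb nbd] at h1
  -- u = (b a')(d b') ∈ P
  have h3 := P.mul_mem (P.mul_mem h1 (partner_mem P b)) (P.inv_mem h1)
  rw [← Equiv.swap_apply_apply] at h3
  have hb'a' : partner P b ≠ partner P a := by
    intro h; apply hab; rw [← partner_partner P a, ← h, partner_partner]
  have q1 : (swap b (partner P a) * swap d (partner P b)) b = partner P a := by
    rw [Perm.mul_apply, swap_apply_of_ne_of_ne hbd hb.symm, swap_apply_left]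
  have q2 : (swap b (partner P a) * swap d (partner P b)) (partner P b) = d := by
    rw [Perm.mul_apply, swap_apply_right, swap_apply_of_ne_of_ne hbd.symm nad.symm]
  rw [q1, q2] at h3
  have h4 := partner_eq_of_mem P _ _ nad.symm h3
  rw [partner_partner] at h4
  exact had h4

/-- A Sylow 2-subgroup of the alternating group is the intersection of it with a Sylow 2-subgroup
of the symmetric group. -/
theorem exists_sylow_perm (S : Sylow 2 (alternatingGroup α)) :
    ∃ P : Sylow 2 (Perm α), ∀ g : alternatingGroup α, g ∈ S ↔ g.1 ∈ P := by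
  have h1 : IsPGroup 2 ((S : Subgroup (alternatingGroup α)).map (alternatingGroup α).subtype) :=
    S.isPGroup'.map _
  obtain ⟨P, hP⟩ := h1.exists_le_sylow
  refine ⟨P, ?_⟩
  have h2 : IsPGroup 2 ((P : Subgroup (Perm α)).subgroupOf (alternatingGroup α)) :=
    IsPGroup.comap_subtype P.isPGroup'
  have h3 := S.is_maximal' h2 (by
    intro g hg
    exact hP ⟨g, hg, rfl⟩)
  intro g
  have h4 : g ∈ (P : Subgroup (Perm α)).subgroupOf (alternatingGroup α) ↔ g ∈ S := by
    rw [h3]; rfl
  rw [← h4]; rfl

/-- Every swap-conjugate commutator trick: Sylow 2-subgroups of alternating groups of degree at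
least six are self-normalising. -/
theorem normalizer_sylow_alternating (h6 : 6 ≤ Fintype.card α) (S : Sylow 2 (alternatingGroup α)) :
    Subgroup.normalizer ((S : Subgroup (alternatingGroup α)) : Set (alternatingGroup α)) = S := by
  classical
  apply le_antisymm _ Subgroup.le_normalizer
  intro x hx
  obtain ⟨P, hP⟩ := exists_sylow_perm S
  have hxn : ∀ p ∈ P, p ∈ alternatingGroup α → x.1 * p * x.1⁻¹ ∈ P := by
    intro p hp hpa
    have h1 := (Subgroup.mem_normalizer_iff.mp hx ⟨p, hpa⟩).mp ((hP ⟨p, hpa⟩).mpr hp)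
    exact (hP _).mp h1
  show x ∈ S
  rw [hP]
  -- a nonfixed point
  have hex : ∃ a, partner P a ≠ a := by
    by_contra hcon
    push Not at hcon
    have : Fintype.card α ≤ 1 := Fintype.card_le_one_iff.mpr
      (fun a b => partner_fixed_unique P a b (hcon a) (hcon b))
    omega
  obtain ⟨a, ha⟩ := hex
  set b := partner P a with hb
  set t := swap a b with ht
  have htP : t ∈ P := partner_mem P a
  have htt : t * t = 1 := swap_mul_self a b
  have htn : t⁻¹ = t := swap_inv a b
  -- y = x t x⁻¹ t
  have hsgn : ∀ p : Perm α, Perm.sign p = -1 → Perm.sign (p * t) = 1 := by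
    intro p hp
    rw [map_mul, hp, Perm.sign_swap ha.symm]; rfl
  have hxt : x.1 * t * x.1⁻¹ ∈ P := by
    set t' := x.1 * t * x.1⁻¹ with ht'
    have ht'2 : t' = swap (x.1 a) (x.1 b) := by rw [ht', ht, ← Equiv.swap_apply_apply]
    have ht's : Perm.sign t' = -1 := by
      rw [ht'2, Perm.sign_swap (fun h => ha (x.1.injective h).symm)]
    have hyA : t' * t ∈ alternatingGroup α := Equiv.Perm.mem_alternatingGroup.mpr (hsgn t' ht's)
    have hyn : ∀ p ∈ P, p ∈ alternatingGroup α → (t' * t) * p * (t' * t)⁻¹ ∈ P := by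
      intro p hp hpa
      have h1 : x.1⁻¹ * (t * p * t⁻¹) * x.1 ∈ P ∧ x.1⁻¹ * (t * p * t⁻¹) * x.1 ∈ alternatingGroup α := by
        have hq : t * p * t⁻¹ ∈ P := P.mul_mem (P.mul_mem htP hp) (P.inv_mem htP)
        have hqa : t * p * t⁻¹ ∈ alternatingGroup α :=
          (inferInstance : (alternatingGroup α).Normal).conj_mem p hpa t
        have hxi := Subgroup.inv_mem _ hx
        have h2 := (Subgroup.mem_normalizer_iff.mp hxi ⟨_, hqa⟩).mp ((hP ⟨_, hqa⟩).mpr hq)
        have h3 := (hP _).mp h2
        have h4 := (x⁻¹ * (⟨_, hqa⟩ : alternatingGroup α) * x⁻¹⁻¹).2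
        simp only [Subgroup.coe_mul, Subgroup.coe_inv, inv_inv] at h3 h4
        exact ⟨h3, h4⟩
      have h5 : t * (x.1⁻¹ * (t * p * t⁻¹) * x.1) * t⁻¹ ∈ P :=
        P.mul_mem (P.mul_mem htP h1.1) (P.inv_mem htP)
      have h6 : t * (x.1⁻¹ * (t * p * t⁻¹) * x.1) * t⁻¹ ∈ alternatingGroup α :=
        (inferInstance : (alternatingGroup α).Normal).conj_mem _ h1.2 t
      have h7 := hxn _ h5 h6
      have h8 : x.1 * (t * (x.1⁻¹ * (t * p * t⁻¹) * x.1) * t⁻¹) * x.1⁻¹ =
          (t' * t) * p * (t' * t)⁻¹ := by
        rw [ht']; simp only [mul_inv_rev, inv_inv, htn]; group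
      rwa [h8] at h7
    -- now three cases
    have hsq : (t' * t) * (t' * t) = 1 → t' ∈ P := by
      intro hsq
      have h1 : (⟨t' * t, hyA⟩ : alternatingGroup α) ∈ S := by
        have h2 : IsPGroup 2 (Subgroup.zpowers (⟨t' * t, hyA⟩ : alternatingGroup α)) :=
          isPGroup_zpowers_of_sq _ (Subtype.ext hsq)
        have h3 : Subgroup.zpowers (⟨t' * t, hyA⟩ : alternatingGroup α) ≤
            Subgroup.normalizer ((S : Subgroup (alternatingGroup α)) : Set (alternatingGroup α)) := by
          rw [Subgroup.zpowers_le, Subgroup.mem_normalizer_iff]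
          intro p
          constructor
          · intro hp
            exact (hP _).mpr (hyn p.1 ((hP p).mp hp) p.2)
          · intro hp
            have h4 := hyn _ ((hP _).mp hp) (Subtype.prop _)
            simp only [Subgroup.coe_mul, Subgroup.coe_inv] at h4
            refine (hP p).mpr ?_
            have hinv : (t' * t)⁻¹ = t' * t := inv_eq_of_mul_eq_one_left hsq
            rw [hinv] at h4
            have h5 : t' * t * (t' * t * p.1 * (t' * t)) * (t' * t) =
              ((t' * t) * (t' * t)) * p.1 * ((t' * t) * (t' * t)) := by group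
            rw [h5, hsq, one_mul, mul_one] at h4
            exact h4
        have h4 := IsPGroup.to_sup_of_normal_left' S.isPGroup' h2 h3
        have h5 := S.is_maximal' h4 le_sup_left
        have h6 : (⟨t' * t, hyA⟩ : alternatingGroup α) ∈
            (S : Subgroup (alternatingGroup α)) ⊔ Subgroup.zpowers (⟨t' * t, hyA⟩ : alternatingGroup α) :=
          Subgroup.mem_sup_right (Subgroup.mem_zpowers _)
        rw [h5] at h6
        exact h6
      have h2 : t' * t ∈ P := (hP _).mp h1
      have h3 := P.mul_mem h2 htP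
      rwa [mul_assoc, htt, mul_one] at h3
    set a' := x.1 a with ha'
    set b' := x.1 b with hb'
    have hab' : a' ≠ b' := fun h => ha (x.1.injective h).symm
    rw [ht'2] at hsq hyn hyA ⊢
    -- overlapping configuration gives a 3-cycle
    have hcyc : ∀ u v w : α, u ≠ v → u ≠ w → v ≠ w → swap u v * swap u w = swap a' b' * t → False := by
      intro u v w huv huw hvw heq
      rw [← heq] at hyn
      refine no_threeCycle_normalizes P h6 u w v huw huv hvw.symm (swap u v * swap u w)
        ?_ ?_ ?_ ?_ hyn
      · rw [Perm.mul_apply, swap_apply_left, swap_apply_of_ne_of_ne huw.symm hvw.symm]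
      · rw [Perm.mul_apply, swap_apply_right, swap_apply_left]
      · rw [Perm.mul_apply, swap_apply_of_ne_of_ne huv.symm hvw, swap_apply_right]
      · intro e e1 e2 e3
        rw [Perm.mul_apply, swap_apply_of_ne_of_ne e1 e2, swap_apply_of_ne_of_ne e1 e3]
    by_cases c1 : a' = a
    · by_cases c2 : b' = b
      · apply hsq; rw [c1, c2]; rw [show swap a b * t = 1 from htt]; simp
      · exact (hcyc a b' b (c1 ▸ hab') ha.symm c2 (by rw [c1])).elim
    by_cases c2 : a' = b
    · by_cases c3 : b' = a
      · apply hsq; rw [c2, c3, swap_comm b a]; rw [show swap a b * t = 1 from htt]; simp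
      · exact (hcyc b b' a (c2 ▸ hab') ha c3 (by rw [c2, ht, swap_comm a b])).elim
    by_cases c3 : b' = a
    · exact (hcyc a a' b (Ne.symm c1) ha.symm c2 (by rw [c3, swap_comm a' a])).elim
    by_cases c4 : b' = b
    · exact (hcyc b a' a (Ne.symm c2) ha c1 (by rw [c4, swap_comm a' b, ht, swap_comm a b])).elim
    apply hsq
    have hdis : Commute (swap a' b') t := by
      rw [ht]
      apply Equiv.Perm.Disjoint.commute
      intro z
      by_cases z1 : z = a'
      · right; rw [z1]; exact swap_apply_of_ne_of_ne c1 c2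
      by_cases z2 : z = b'
      · right; rw [z2]; exact swap_apply_of_ne_of_ne c3 c4
      left; exact swap_apply_of_ne_of_ne z1 z2
    calc swap a' b' * t * (swap a' b' * t) = swap a' b' * (t * swap a' b') * t := by group
      _ = swap a' b' * (swap a' b' * t) * t := by rw [hdis.eq]
      _ = (swap a' b' * swap a' b') * (t * t) := by group
      _ = 1 := by rw [swap_mul_self, htt, one_mul]
  -- conclude
  have hmem : x.1 ∈ Subgroup.normalizer ((P : Subgroup (Perm α)) : Set (Perm α)) := by
    have key : ∀ p ∈ P, x.1 * p * x.1⁻¹ ∈ P := by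
      intro p hp
      rcases Int.units_eq_one_or (Perm.sign p) with h | h
      · exact hxn p hp (Equiv.Perm.mem_alternatingGroup.mpr h)
      · have h1 : p * t ∈ P := P.mul_mem hp htP
        have h2 := hxn _ h1 (Equiv.Perm.mem_alternatingGroup.mpr (hsgn p h))
        have h3 := P.mul_mem h2 hxt
        have h4 : x.1 * (p * t) * x.1⁻¹ * (x.1 * t * x.1⁻¹) = x.1 * (p * (t * t)) * x.1⁻¹ := by group
        rwa [h4, htt, mul_one] at h3
    have hle : (P : Subgroup (Perm α)).map (MulAut.conj x.1).toMonoidHom ≤ P := by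
      rintro _ ⟨p, hp, rfl⟩
      exact key p hp
    rw [Subgroup.mem_normalizer_iff_map_conj_eq]
    apply Subgroup.eq_of_le_of_card_ge hle
    rw [Subgroup.card_map_of_injective (MulAut.conj x.1).injective]
  rw [normalizer_sylow_perm] at hmem
  exact hmem

end Cfsg.Agent.H15
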