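import Mathlib
import Cfsg.Agent.H15.SylowSym

set_option autoImplicit false
set_option linter.unusedSectionVars false

open Equiv MulAction

namespace Cfsg.Agent.H15

/-- The Klein four group on `{0,1,2,3}` in degree five, as a list. -/
def klein5List : List (Perm (Fin 5)) :=
  [1, swap 0 1 * swap 2 3, swap 0 2 * swap 1 3, swap 0 3 * swap 1 2]

/-- the 3-cycle `(0 1 2)` -/
def cyc5 : Perm (Fin 5) := swap 0 1 * swap 1 2

theorem klein5_mul : ∀ x ∈ klein5List, ∀ y ∈ klein5List, x * y ∈ klein5List := by decide +kernel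
theorem klein5_inv : ∀ x ∈ klein5List, x⁻¹ ∈ klein5List := by decide +kernel
theorem klein5_sign : ∀ x ∈ klein5List, Perm.sign x = 1 := by decide +kernel
theorem cyc5_sign : Perm.sign cyc5 = 1 := by decide +kernel

theorem klein5_gen : ∀ h : Perm (Fin 5), Perm.sign h = 1 → h ∈ klein5List ∨
    (∃ v ∈ klein5List, h * v = cyc5) ∨ (∃ v ∈ klein5List, h * h * v = cyc5) ∨
    (∃ v ∈ klein5List, ∃ w ∈ klein5List, h * v * (h * h) * w = cyc5) ∨
    (∃ v ∈ klein5List, ∃ w ∈ klein5List, (h * h) * v * h * w = cyc5) ∨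
    (∃ v ∈ klein5List, ∃ w ∈ klein5List, ∃ u ∈ klein5List, h * v * h * w * h * u = cyc5) := by
  decide +kernel

theorem klein5_norm : ∀ h : Perm (Fin 5), Perm.sign h = 1 → h 4 = 4 → h ∈ klein5List ∨
    (∃ v ∈ klein5List, h = cyc5 * v) ∨ (∃ v ∈ klein5List, h = cyc5 * cyc5 * v) := by
  decide +kernel

theorem klein5_fix : ∀ x : Fin 5, (∀ v ∈ klein5List, v x = x) → x = 4 := by decide +kernel

theorem klein5_fix4 : ∀ v ∈ klein5List, v 4 = 4 := by decide +kernel

/-- The Klein four subgroup of `Alt 5`. -/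
def klein5 : Subgroup (alternatingGroup (Fin 5)) where
  carrier := {g | g.1 ∈ klein5List}
  mul_mem' := fun {a b} ha hb => klein5_mul a.1 ha b.1 hb
  one_mem' := by
    show (1 : Perm (Fin 5)) ∈ klein5List
    simp [klein5List]
  inv_mem' := fun {a} ha => klein5_inv a.1 ha

theorem mem_klein5 (g : alternatingGroup (Fin 5)) : g ∈ klein5 ↔ g.1 ∈ klein5List := Iff.rfl

theorem card_klein5 : Nat.card klein5 = 4 := by
  have e : klein5 ≃ {x : Perm (Fin 5) // x ∈ klein5List.toFinset} :=
    { toFun := fun g => ⟨g.1.1, List.mem_toFinset.mpr g.2⟩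
      invFun := fun x => ⟨⟨x.1, Equiv.Perm.mem_alternatingGroup.mpr
        (klein5_sign x.1 (List.mem_toFinset.mp x.2))⟩, List.mem_toFinset.mp x.2⟩
      left_inv := fun g => rfl
      right_inv := fun x => rfl }
  rw [Nat.card_congr e, Nat.card_eq_fintype_card, Fintype.card_coe]
  decide +kernel

theorem card_alt5 : Nat.card (alternatingGroup (Fin 5)) = 60 := by
  rw [nat_card_alternatingGroup]; simp [Nat.card_eq_fintype_card]; rfl

/-- The Klein four subgroup is a Sylow subgroup of `Alt 5`. -/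
noncomputable def klein5Sylow : Sylow 2 (alternatingGroup (Fin 5)) :=
  (IsPGroup.of_card (p := 2) (n := 2) (G := klein5) (by rw [card_klein5]; norm_num)).toSylow (by
    have h1 := Subgroup.card_mul_index klein5
    rw [card_klein5, card_alt5] at h1
    have h2 : klein5.index = 15 := by omega
    rw [h2]; norm_num)

theorem mem_klein5Sylow (g : alternatingGroup (Fin 5)) : g ∈ klein5Sylow ↔ g.1 ∈ klein5List := Iff.rfl

theorem normalizer_klein5_le (H : Subgroup (alternatingGroup (Fin 5))) (hS : klein5 ≤ H)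
    (hne : H ≠ klein5) : Subgroup.normalizer (klein5 : Set (alternatingGroup (Fin 5))) ≤ H := by
  -- an element outside
  have hex : ∃ h ∈ H, h ∉ klein5 := by
    by_contra hcon
    push Not at hcon
    exact hne (le_antisymm hcon hS)
  obtain ⟨h, hh, hn⟩ := hex
  have hin : ∀ v, (hv : v ∈ klein5List) → ∀ s, (⟨v, s⟩ : alternatingGroup (Fin 5)) ∈ H :=
    fun v hv s => hS hv
  have hc : (⟨cyc5, Equiv.Perm.mem_alternatingGroup.mpr cyc5_sign⟩ : alternatingGroup (Fin 5)) ∈ H := by
    have hsg : ∀ v ∈ klein5List, v ∈ alternatingGroup (Fin 5) :=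
      fun v hv => Equiv.Perm.mem_alternatingGroup.mpr (klein5_sign v hv)
    rcases klein5_gen h.1 (Equiv.Perm.mem_alternatingGroup.mp h.2) with
      h0 | ⟨v, hv, e⟩ | ⟨v, hv, e⟩ | ⟨v, hv, w, hw, e⟩ | ⟨v, hv, w, hw, e⟩ | ⟨v, hv, w, hw, u, hu, e⟩
    · exact absurd h0 hn
    · have := H.mul_mem hh (hin v hv (hsg v hv))
      convert this using 1
      exact Subtype.ext e.symm
    · have := H.mul_mem (H.mul_mem hh hh) (hin v hv (hsg v hv))
      convert this using 1
      exact Subtype.ext e.symm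
    · have := H.mul_mem (H.mul_mem (H.mul_mem hh (hin v hv (hsg v hv))) (H.mul_mem hh hh))
        (hin w hw (hsg w hw))
      convert this using 1
      exact Subtype.ext e.symm
    · have := H.mul_mem (H.mul_mem (H.mul_mem (H.mul_mem hh hh) (hin v hv (hsg v hv))) hh)
        (hin w hw (hsg w hw))
      convert this using 1
      exact Subtype.ext e.symm
    · have := H.mul_mem (H.mul_mem (H.mul_mem (H.mul_mem (H.mul_mem hh (hin v hv (hsg v hv))) hh)
        (hin w hw (hsg w hw))) hh) (hin u hu (hsg u hu))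
      convert this using 1
      exact Subtype.ext e.symm
  intro x hx
  have hx4 : x.1 4 = 4 := by
    apply klein5_fix
    intro v hv
    have hsg : v ∈ alternatingGroup (Fin 5) := Equiv.Perm.mem_alternatingGroup.mpr (klein5_sign v hv)
    have h1 : x⁻¹ * (⟨v, hsg⟩ : alternatingGroup (Fin 5)) * x⁻¹⁻¹ ∈ klein5 :=
      (Subgroup.mem_normalizer_iff.mp (Subgroup.inv_mem _ hx) _).mp hv
    have h2 := klein5_fix4 _ h1
    simp only [Subgroup.coe_mul, Subgroup.coe_inv, inv_inv, Perm.mul_apply] at h2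
    have h3 := congrArg x.1 h2
    rwa [papp_inv] at h3
  have hsg : ∀ v ∈ klein5List, v ∈ alternatingGroup (Fin 5) :=
      fun v hv => Equiv.Perm.mem_alternatingGroup.mpr (klein5_sign v hv)
  rcases klein5_norm x.1 (Equiv.Perm.mem_alternatingGroup.mp x.2) hx4 with
    h0 | ⟨v, hv, e⟩ | ⟨v, hv, e⟩
  · exact hS h0
  · have := H.mul_mem hc (hin v hv (hsg v hv))
    convert this using 1
    exact Subtype.ext e
  · have := H.mul_mem (H.mul_mem hc hc) (hin v hv (hsg v hv))
    convert this using 1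
    exact Subtype.ext e

/-- For a Sylow 2-subgroup `S ≤ H ≤ Alt 5`, the normaliser of `S` normalises `H`. -/
theorem normalizer_sylow_alt5_le (S : Sylow 2 (alternatingGroup (Fin 5)))
    (H : Subgroup (alternatingGroup (Fin 5))) (hS : (S : Subgroup _) ≤ H) :
    Subgroup.normalizer ((S : Subgroup (alternatingGroup (Fin 5))) : Set (alternatingGroup (Fin 5))) ≤
      Subgroup.normalizer (H : Set (alternatingGroup (Fin 5))) := by
  by_cases hne : H = S
  · rw [hne]
  obtain ⟨g, hg⟩ := MulAction.exists_smul_eq (alternatingGroup (Fin 5)) klein5Sylow S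
  refine le_trans ?_ Subgroup.le_normalizer
  have hSmem : ∀ v, v ∈ S ↔ g⁻¹ * v * g ∈ klein5 := by
    intro v
    rw [← hg]
    constructor
    · intro hv
      obtain ⟨w, hw, rfl⟩ := hv
      have : g⁻¹ * (MulAut.conj g w) * g = w := by
        simp [MulAut.conj_apply, mul_assoc]
      show g⁻¹ * (MulAut.conj g w) * g ∈ klein5
      rw [this]; exact hw
    · intro hv
      refine ⟨g⁻¹ * v * g, hv, ?_⟩
      show MulAut.conj g (g⁻¹ * v * g) = v
      simp [MulAut.conj_apply, mul_assoc]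
  -- move to klein5
  let H' : Subgroup (alternatingGroup (Fin 5)) := H.comap (MulAut.conj g).toMonoidHom
  have hmem : ∀ x, x ∈ H' ↔ g * x * g⁻¹ ∈ H := fun x => Iff.rfl
  have h1 : klein5 ≤ H' := by
    intro v hv
    rw [hmem]
    apply hS
    show g * v * g⁻¹ ∈ S
    rw [hSmem]
    have : g⁻¹ * (g * v * g⁻¹) * g = v := by group
    rwa [this]
  have h2 : H' ≠ klein5 := by
    intro h
    apply hne
    apply le_antisymm _ hS
    intro x hx
    show x ∈ S
    rw [hSmem, ← h, hmem]
    have : g * (g⁻¹ * x * g) * g⁻¹ = x := by group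
    rwa [this]
  have h3 := normalizer_klein5_le H' h1 h2
  intro x hx
  have h4 : g⁻¹ * x * g ∈ Subgroup.normalizer (klein5 : Set (alternatingGroup (Fin 5))) := by
    rw [Subgroup.mem_normalizer_iff]
    intro v
    have h5 := Subgroup.mem_normalizer_iff.mp hx (g * v * g⁻¹)
    have h6 : (g * v * g⁻¹ ∈ (S : Subgroup (alternatingGroup (Fin 5)))) ↔ v ∈ klein5 := by
      show g * v * g⁻¹ ∈ S ↔ _
      rw [hSmem]
      have : g⁻¹ * (g * v * g⁻¹) * g = v := by group
      rw [this]
    have h7 : (x * (g * v * g⁻¹) * x⁻¹ ∈ (S : Subgroup (alternatingGroup (Fin 5)))) ↔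
        g⁻¹ * x * g * v * (g⁻¹ * x * g)⁻¹ ∈ klein5 := by
      show x * (g * v * g⁻¹) * x⁻¹ ∈ S ↔ _
      rw [hSmem]
      have : g⁻¹ * (x * (g * v * g⁻¹) * x⁻¹) * g = g⁻¹ * x * g * v * (g⁻¹ * x * g)⁻¹ := by group
      rw [this]
    rw [← h6, ← h7]; exact h5
  have h8 := h3 h4
  rw [hmem] at h8
  have : g * (g⁻¹ * x * g) * g⁻¹ = x := by group
  rwa [this] at h8

end Cfsg.Agent.H15
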