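import Mathlib
import Cfsg.Agent.H15.SzPart
import Cfsg.Agent.H15.SzElem
import Cfsg.Agent.H15.SzLie

/-! # Suzuki groups: nilpotent covers -/

set_option autoImplicit false

open scoped Pointwise commutatorElement

namespace Cfsg.Agent.H15.Suz

open Cfsg.Agent.H15.IrrLin

/-- finite cover by proper subgroups -/
def IsCov {G : Type*} [Group G] (A : Finset (Subgroup G)) : Prop :=
  (∀ H ∈ A, H ≠ ⊤) ∧ (∀ g : G, ∃ H ∈ A, g ∈ H)

/-- there is a nilpotent minimal cover -/
def HasNMC (G : Type*) [Group G] : Prop :=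
  ∃ A : Finset (Subgroup G), IsCov A ∧ (∀ B : Finset (Subgroup G), IsCov B → A.card ≤ B.card) ∧
    (∀ H ∈ A, Group.IsNilpotent H)

theorem isCov_map {G H : Type*} [Group G] [Group H] (e : G ≃* H) {A : Finset (Subgroup G)}
    (hA : IsCov A) : IsCov (A.map e.mapSubgroup.toEquiv.toEmbedding) := by
  constructor
  · intro K hK
    obtain ⟨L, hL, rfl⟩ := Finset.mem_map.mp hK
    intro h
    apply hA.1 L hL
    have h1 : e.mapSubgroup L = ⊤ := h
    rw [map_eq_top_iff] at h1
    exact h1
  · intro g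
    obtain ⟨L, hL, hg⟩ := hA.2 (e.symm g)
    refine ⟨e.mapSubgroup L, Finset.mem_map.mpr ⟨L, hL, rfl⟩, ?_⟩
    exact ⟨e.symm g, hg, e.apply_symm_apply g⟩

theorem hasNMC_congr {G H : Type*} [Group G] [Group H] (e : G ≃* H) (h : HasNMC H) :
    HasNMC G := by
  obtain ⟨A, hA, hmin, hnil⟩ := h
  refine ⟨A.map e.symm.mapSubgroup.toEquiv.toEmbedding, isCov_map e.symm hA, ?_, ?_⟩
  · intro B hB
    rw [Finset.card_map]
    have h1 := hmin _ (isCov_map e hB)
    rwa [Finset.card_map] at h1
  · intro K hK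
    obtain ⟨L, hL, rfl⟩ := Finset.mem_map.mp hK
    have h1 := hnil L hL
    exact Group.nilpotent_of_mulEquiv (e.symm.subgroupMap L)

section

variable {F : Type*} [Field F] [Fintype F] (m : ℕ) [hS : SzF F m]

theorem nil_le_of_cent {A C : Subgroup (Sg F m)} (hA : Group.IsNilpotent A) {g : Sg F m}
    (hg : g ∈ A) (hg1 : g ≠ 1)
    (h : ∀ z : Sg F m, z ≠ 1 → z * g = g * z → ∀ x : Sg F m, x * z = z * x → x ∈ C) : A ≤ C := by
  have : Nontrivial A := ⟨⟨⟨g, hg⟩, 1, fun h => hg1 (congrArg Subtype.val h)⟩⟩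
  have h1 := Group.IsNilpotent.center_ne_bot (G := A)
  obtain ⟨⟨z, hz⟩, hz1⟩ := (Subgroup.ne_bot_iff_exists_ne_one).mp h1
  have hz2 : (z : Sg F m) ≠ 1 := fun h => hz1 (Subtype.ext (Subtype.ext h))
  intro x hx
  rw [Subgroup.mem_center_iff] at hz
  exact h z hz2 (congrArg Subtype.val (hz ⟨g, hg⟩)).symm x (congrArg Subtype.val (hz ⟨x, hx⟩))

/-- unipotent subgroup at a point -/
def Up (p : Om F m) : Set (Sg F m) := {u | ∃ x : Sg F m, x • oinf F m = p ∧ x⁻¹ * u * x ∈ UU F m}

theorem Up_fix {p : Om F m} {u : Sg F m} (hu : u ∈ Up m p) (hu1 : u ≠ 1) {q : Om F m}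
    (hq : u • q = q) : q = p := by
  obtain ⟨x, rfl, a, b, hab⟩ := hu
  have h1 : u = x * t m a b * x⁻¹ := by rw [← hab]; group
  have hne : t m a b ≠ 1 := by
    intro h; apply hu1; rw [h1, h]; group
  rw [h1] at hq
  exact (conj_t_fix' m x hne).mp hq
where
  conj_t_fix' (m : ℕ) [SzF F m] (x : Sg F m) {a b : F} (hab : t m a b ≠ 1) {p : Om F m} :
      (x * t m a b * x⁻¹) • p = p ↔ p = x • oinf F m := by
    constructor
    · intro h
      have h1 : t m a b • (x⁻¹ • p) = x⁻¹ • p := by
        rw [mul_smul, mul_smul] at h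
        rw [eq_inv_smul_iff]; exact h
      have h2 := fix_t m hab h1
      rw [← h2, smul_inv_smul]
    · rintro rfl
      rw [mul_smul, mul_smul, inv_smul_smul, t_oinf]

theorem no_nmc : ¬ HasNMC (Sg F m) := by
  classical
  rintro ⟨A, hA, hmin, hnil⟩
  have : Finite (Om F m) := Finite.of_equiv _ (omEquiv (F := F) m)
  have : Fintype (Om F m) := Fintype.ofFinite _
  have : Fintype (Sg F m) := Fintype.ofFinite _
  have : Fintype (Subgroup (Sg F m)) := Fintype.ofFinite _
  -- tori belong to A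
  have htor : ∀ g : Sg F m, g ≠ 1 → IsCyclic (Cg m g) → TorOrd F m (Nat.card (Cg m g)) →
      Cg m g ∈ A := by
    intro g hg hc ht
    obtain ⟨⟨y, hy⟩, hgen⟩ := hc.exists_generator
    have hy1 : y ≠ 1 := by
      rintro rfl
      obtain ⟨n, hn⟩ := Subgroup.mem_zpowers_iff.mp (hgen ⟨g, mem_cent_self m g⟩)
      have h1 : (1 : Sg F m) ^ n = g := congrArg Subtype.val hn
      rw [one_zpow] at h1
      exact hg h1.symm
    have hcy : Cg m g = Cg m y := eq_cent_of_tor m hy1 hc ht hy
    obtain ⟨H, hH, hyH⟩ := hA.2 y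
    have h1 : H ≤ Cg m y := by
      apply nil_le_of_cent m (hnil H hH) hyH hy1
      intro z hz1 hz x hx
      have hz2 : z ∈ Cg m y := mem_centralizer_iff_comm.mpr hz
      have h2 : Cg m y = Cg m z := by
        apply eq_cent_of_tor m hz1 _ _ hz2
        · rw [← hcy]; exact hc
        · rw [← hcy]; exact ht
      rw [h2]
      exact mem_centralizer_iff_comm.mpr hx
    have h2 : Cg m g ≤ H := by
      intro c hc'
      obtain ⟨n, hn⟩ := Subgroup.mem_zpowers_iff.mp (hgen ⟨c, hc'⟩)
      have h1 : y ^ n = c := congrArg Subtype.val hn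
      rw [← h1]; exact H.zpow_mem hyH n
    rw [le_antisymm h2 (by rw [hcy]; exact h1)]
    exact hH
  -- a member for each point
  have hpt : ∀ p : Om F m, ∃ H ∈ A, H ≠ ⊥ ∧ (H : Set (Sg F m)) ⊆ Up m p := by
    intro p
    obtain ⟨x, rfl⟩ := exists_to_inf m p
    have hne : t m (1 : F) 0 ≠ 1 := by
      rw [← t_zero m]; intro h; exact one_ne_zero (t_inj m h).1
    have hu1 : x * t m 1 0 * x⁻¹ ≠ 1 := by
      intro h; apply hne
      rw [show t m (1 : F) 0 = x⁻¹ * (x * t m 1 0 * x⁻¹) * x by group, h]; group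
    obtain ⟨H, hH, hyH⟩ := hA.2 (x * t m 1 0 * x⁻¹)
    refine ⟨H, hH, ?_, ?_⟩
    · rintro rfl
      exact hu1 (Subgroup.mem_bot.mp hyH)
    · have h1 : H ≤ (UU F m).map (MulAut.conj x).toMonoidHom := by
        apply nil_le_of_cent m (hnil H hH) hyH hu1
        intro z hz1 hz y hy
        have h2 : (x⁻¹ * z * x) ∈ UU F m := by
          apply cent_t m hne
          calc (x⁻¹ * z * x) * t m 1 0 = x⁻¹ * (z * (x * t m 1 0 * x⁻¹)) * x := by group
            _ = x⁻¹ * ((x * t m 1 0 * x⁻¹) * z) * x := by rw [hz]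
            _ = _ := by group
        obtain ⟨a, b, hab⟩ := h2
        have hne2 : t m a b ≠ 1 := by
          rw [← hab]; intro h; apply hz1
          rw [show z = x * (x⁻¹ * z * x) * x⁻¹ by group, h]; group
        have h3 : (x⁻¹ * y * x) ∈ UU F m := by
          apply cent_t m hne2
          rw [← hab]
          calc (x⁻¹ * y * x) * (x⁻¹ * z * x) = x⁻¹ * (y * z) * x := by group
            _ = x⁻¹ * (z * y) * x := by rw [hy]
            _ = _ := by group
        refine ⟨x⁻¹ * y * x, h3, ?_⟩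
        show x * (x⁻¹ * y * x) * x⁻¹ = y
        group
      intro y hy
      obtain ⟨u, hu, huy⟩ := h1 hy
      refine ⟨x, rfl, ?_⟩
      have h4 : x * u * x⁻¹ = y := huy
      rw [← h4, show x⁻¹ * (x * u * x⁻¹) * x = u by group]
      exact hu
  choose Ap hAp1 hAp2 hAp3 using hpt
  -- injectivity
  have hinj : Function.Injective Ap := by
    intro p q hpq
    obtain ⟨⟨u, hu⟩, hu1⟩ := (Subgroup.ne_bot_iff_exists_ne_one).mp (hAp2 p)
    have hu2 : u ≠ 1 := fun h => hu1 (Subtype.ext h)
    have h1 : u ∈ Up m p := hAp3 p hu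
    have h2 : u ∈ Up m q := hAp3 q (by rw [← hpq]; exact hu)
    have h3 : u • q = q := by
      obtain ⟨x, rfl, a, b, hab⟩ := h2
      rw [show u = x * (x⁻¹ * u * x) * x⁻¹ by group, hab, mul_smul, mul_smul, inv_smul_smul, t_oinf]
    exact (Up_fix m h1 hu2 h3).symm
  let A1 : Finset (Subgroup (Sg F m)) := Finset.univ.image Ap
  let B2 : Finset (Subgroup (Sg F m)) := (Finset.univ.filter (fun g => g ∈ R0 F m)).image (Cg m)
  let B1 : Finset (Subgroup (Sg F m)) :=
    Finset.univ.image (fun p : Om F m => MulAction.stabilizer (Sg F m) p)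
  have hA1 : A1.card = Fintype.card (Om F m) := by
    rw [Finset.card_image_of_injective _ hinj, Finset.card_univ]
  have hB1 : B1.card ≤ Fintype.card (Om F m) := by
    refine Finset.card_image_le.trans ?_
    rw [Finset.card_univ]
  obtain ⟨k, hk⟩ := exists_ne_one (F := F) m
  have hD1 : Cg m (dd m k) = DD F m := by
    have h1 := cent_conj_dd m 1 hk
    rw [one_mul, inv_one, mul_one] at h1
    rw [h1]
    ext g
    rw [mem_map_conj]; simp
  have hDfix : ∀ g ∈ DD F m, g • oinf F m = oinf F m := fun g hg => DD_le_BB m hg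
  have hDA : DD F m ∈ A := by
    rw [← hD1]
    apply htor _ (dd_ne_one m hk)
    · rw [hD1]; infer_instance
    · rw [hD1, card_DD]; exact Or.inl rfl
  -- disjointness
  have hdisj1 : Disjoint A1 B2 := by
    rw [Finset.disjoint_left]
    intro H h1 h2
    obtain ⟨p, -, rfl⟩ := Finset.mem_image.mp h1
    obtain ⟨g, hg, hgH⟩ := Finset.mem_image.mp h2
    have hg0 := (Finset.mem_filter.mp hg).2
    obtain ⟨x, hx, hx2⟩ := hAp3 p (show g ∈ Ap p by rw [← hgH]; exact mem_cent_self m g)
    obtain ⟨a, b, hab⟩ := hx2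
    apply hg0 p
    rw [← hx, show g = x * (x⁻¹ * g * x) * x⁻¹ by group, hab, mul_smul, mul_smul, inv_smul_smul,
      t_oinf]
  have hdisj2 : DD F m ∉ A1 ∪ B2 := by
    intro h
    rcases Finset.mem_union.mp h with h1 | h1
    · obtain ⟨p, -, hp⟩ := Finset.mem_image.mp h1
      have h2 : dd m k ∈ Ap p := by rw [hp]; exact (mem_DD m).mpr ⟨k, rfl⟩
      have h3 := hAp3 p h2
      have h4 := Up_fix m h3 (dd_ne_one m hk) (dd_oinf m k)
      have h5 := Up_fix m h3 (dd_ne_one m hk) (q := op m (0 : F) 0) (by rw [dd_op]; simp)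
      exact op_ne_oinf m (0 : F) 0 (h5.trans h4.symm)
    · obtain ⟨g, hg, hgH⟩ := Finset.mem_image.mp h1
      have hg0 := (Finset.mem_filter.mp hg).2
      apply hg0 (oinf F m)
      apply hDfix
      rw [← hgH]; exact mem_cent_self m g
  have hsub : insert (DD F m) (A1 ∪ B2) ⊆ A := by
    intro H hH
    rcases Finset.mem_insert.mp hH with rfl | hH
    · exact hDA
    rcases Finset.mem_union.mp hH with h1 | h1
    · obtain ⟨p, -, rfl⟩ := Finset.mem_image.mp h1
      exact hAp1 p
    · obtain ⟨g, hg, rfl⟩ := Finset.mem_image.mp h1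
      have hg0 := (Finset.mem_filter.mp hg).2
      apply htor g (ne_one_of_R0 m hg0) (cent_cyclic m hg0)
      rcases card_cent m hg0 with h | h
      · exact Or.inr (Or.inl h)
      · exact Or.inr (Or.inr h)
  have hcardA : Fintype.card (Om F m) + B2.card + 1 ≤ A.card := by
    have h1 := Finset.card_le_card hsub
    rw [Finset.card_insert_of_notMem hdisj2, Finset.card_union_of_disjoint hdisj1, hA1] at h1
    exact h1
  -- the better cover
  have hB : IsCov (B1 ∪ B2) := by
    constructor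
    · intro H hH
      rcases Finset.mem_union.mp hH with h1 | h1
      · obtain ⟨p, -, rfl⟩ := Finset.mem_image.mp h1
        intro h
        obtain ⟨x, rfl⟩ := exists_to_inf m p
        obtain ⟨g, hg⟩ := exists_to_inf m (x • op m (0 : F) 0)
        have h2 : g * x⁻¹ ∈ MulAction.stabilizer (Sg F m) (x • oinf F m) := by rw [h]; trivial
        rw [MulAction.mem_stabilizer_iff, mul_smul, inv_smul_smul, hg] at h2
        exact op_ne_oinf m _ _ (MulAction.injective x h2)
      · obtain ⟨g, hg, rfl⟩ := Finset.mem_image.mp h1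
        have hg0 := (Finset.mem_filter.mp hg).2
        intro h
        have h2 := cent_cyclic m hg0
        have h3 : Group.IsSolvable (Cg m g) := by
          let := IsCyclic.commGroup (α := Cg m g)
          infer_instance
        have h4 : Group.IsSolvable (⊤ : Subgroup (Sg F m)) := by rw [← h]; exact h3
        have h5 : Group.IsSolvable (Sg F m) :=
          Group.isSolvable_of_surjective (f := (Subgroup.topEquiv (G := Sg F m)).toMonoidHom)
            (Subgroup.topEquiv (G := Sg F m)).surjective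
        have hs := simple_Sg (F := F) m
        have : Nontrivial (Sg F m) := hs.toNontrivial
        have h6 := Group.IsSolvable.commutator_lt_top_of_nontrivial (Sg F m)
        exact h6.ne (perfect m)
    · intro g
      by_cases hg : g ∈ R0 F m
      · exact ⟨Cg m g, Finset.mem_union_right _ (Finset.mem_image.mpr
          ⟨g, Finset.mem_filter.mpr ⟨Finset.mem_univ _, hg⟩, rfl⟩), mem_cent_self m g⟩
      · rw [mem_R0] at hg
        push Not at hg
        obtain ⟨p, hp⟩ := hg
        exact ⟨MulAction.stabilizer (Sg F m) p, Finset.mem_union_left _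
          (Finset.mem_image.mpr ⟨p, Finset.mem_univ _, rfl⟩), hp⟩
  have h1 := hmin _ hB
  have h2 := Finset.card_union_le B1 B2
  omega

end

end Cfsg.Agent.H15.Suz
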