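import Mathlib
import Cfsg.Agent.H15.SzSol1

/-! # Suzuki groups: 2-elements normalizing tori -/

set_option autoImplicit false

open scoped Pointwise

namespace Cfsg.Agent.H15.Suz

open Cfsg Cfsg.Agent.H3 Cfsg.Agent.H15.IrrLin Cfsg.Agent.H15.TorI

variable {F : Type*} [Field F] [Fintype F] {m : ℕ} [hS : SzF F m]

theorem no_common_fix {t u : Sg F m} (hinv : u * t * u⁻¹ = t⁻¹) (ht : t ^ 4 ≠ 1)
    {p : Om F m} (h1 : t • p = p) (h2 : u • p = p) : False := by
  obtain ⟨x, rfl⟩ := exists_to_inf m p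
  have e1 : x⁻¹ * t * x ∈ BB F m := by
    rw [mem_BB, mul_smul, mul_smul, h1, inv_smul_smul]
  have e2 : x⁻¹ * u * x ∈ BB F m := by
    rw [mem_BB, mul_smul, mul_smul, h2, inv_smul_smul]
  let t' : BB F m := ⟨_, e1⟩
  let u' : BB F m := ⟨_, e2⟩
  have e3 : u' * t' * u'⁻¹ = t'⁻¹ := by
    apply Subtype.ext
    show x⁻¹ * u * x * (x⁻¹ * t * x) * (x⁻¹ * u * x)⁻¹ = (x⁻¹ * t * x)⁻¹
    calc x⁻¹ * u * x * (x⁻¹ * t * x) * (x⁻¹ * u * x)⁻¹ = x⁻¹ * (u * t * u⁻¹) * x := by group
      _ = (x⁻¹ * t * x)⁻¹ := by rw [hinv]; group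
  have e4 := congrArg (piB F m) e3
  rw [map_mul, map_mul, map_inv, map_inv, mul_comm (piB F m u'), mul_inv_cancel_right] at e4
  have e5 : piB F m t' = 1 := by
    apply unit_sq_eq_one m
    nth_rewrite 2 [e4]
    exact mul_inv_cancel _
  rw [piB_eq_one] at e5
  obtain ⟨a, b, hab⟩ := (mem_UU m).mp e5
  apply ht
  apply pow_four' m (x := x) (a := a) (b := b)
  rw [← hab]
  show t = x * (x⁻¹ * t * x) * x⁻¹
  group

variable {A : Subgroup (Sg F m)} {w : ℕ}

theorem Tw.cent_eq (h : Tw m A w) {a : Sg F m} (ha : a ∈ A) (ha1 : a ≠ 1) : Cg m a = A := by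
  ext c
  show c ∈ Subgroup.centralizer _ ↔ _
  rw [mem_centralizer_iff_comm]
  exact ⟨h.tor.cent a ha ha1 c, fun hc => h.tor.comm c hc a ha⟩

theorem Tw.odd_card (h : Tw m A w) : Odd (Nat.card A) := tor_odd m h.ord

theorem Tw.exists_sqrt (h : Tw m A w) {c : Sg F m} (hc : c ∈ A) : ∃ s ∈ A, s * s = c := by
  obtain ⟨k, hk⟩ := h.odd_card
  refine ⟨c ^ (k + 1), A.pow_mem hc _, ?_⟩
  have h1 : c ^ Nat.card A = 1 := by
    have : (⟨c, hc⟩ : A) ^ Nat.card A = 1 := pow_card_eq_one'
    exact congrArg Subtype.val this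
  rw [← pow_add, show k + 1 + (k + 1) = Nat.card A + 1 by omega, pow_succ, h1, one_mul]

/-- the involution in the group generated by a 2-element -/
noncomputable def iv (x : Sg F m) : Sg F m := by
  classical exact if x * x = 1 then x else x * x

theorem iv_ne {x : Sg F m} (hx : x ≠ 1) : iv x ≠ 1 := by
  unfold iv
  split_ifs with h
  · exact hx
  · exact h

theorem iv_sq {x : Sg F m} (hx4 : x ^ 4 = 1) : iv x * iv x = 1 := by
  unfold iv
  split_ifs with h
  · exact h
  · have : x ^ 4 = x * x * (x * x) := by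
      have h4 : x ^ (2 * 2) = x * x * (x * x) := by rw [pow_mul, sq x, sq]
      exact h4
    rw [← this, hx4]

theorem iv_mem {x : Sg F m} {H : Subgroup (Sg F m)} (hx : x ∈ H) : iv x ∈ H := by
  unfold iv
  split_ifs with h
  · exact hx
  · exact H.mul_mem hx hx

theorem iv_fix {x : Sg F m} {p : Om F m} (hx : x • p = p) : iv x • p = p := by
  have : iv x ∈ MulAction.stabilizer (Sg F m) p := iv_mem hx
  exact this

theorem iv_comm (x : Sg F m) : x * iv x = iv x * x := by
  unfold iv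
  split_ifs with h
  · rfl
  · rw [mul_assoc]

theorem fix_of_comm_invol {u c : Sg F m} (hu : u ≠ 1) (hu2 : u * u = 1) (hc : c * u = u * c)
    {p : Om F m} (hp : u • p = p) : c • p = p := by
  obtain ⟨p0, hp0⟩ := unique_fix m hu (four_of_sq hu2)
  have h1 : p = p0 := (hp0 p).mp hp
  subst h1
  rw [← hp0, ← mul_smul, ← hc, mul_smul, hp]

/-- number of elements of the normalizer fixing `p` -/
theorem Tw.card_fix (h : Tw m A w) {z : Sg F m} (hz : z ∈ NN A) (hz1 : z ≠ 1) (hz4 : z ^ 4 = 1)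
    {p : Om F m} (hp : z • p = p) :
    Nat.card (NN A ⊓ MulAction.stabilizer (Sg F m) p : Subgroup (Sg F m)) = w := by
  set N0 : Subgroup (Sg F m) := NN A ⊓ MulAction.stabilizer (Sg F m) p with hN0
  have hi1 := iv_ne hz1
  have hi2 := iv_sq hz4
  have hi3 : iv z ∈ NN A := iv_mem hz
  have hi4 : iv z • p = p := iv_fix hp
  have hdisj : ∀ a ∈ A, a • p = p → a = 1 := by
    intro a ha hap
    by_contra ha1
    exact no_common_fix (h.invert hi3 hi1 hi2 ha) (h.not_four ha ha1) hap hi4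
  have hle : Nat.card N0 ≤ w := by
    have h1 : Nat.card (N0 × A) ≤ Nat.card (NN A) := by
      refine Nat.card_le_card_of_injective
        (fun q : N0 × A => (⟨q.1 * q.2, (NN A).mul_mem q.1.2.1 (le_NN q.2.2)⟩ : NN A)) ?_
      rintro ⟨n, a⟩ ⟨n', a'⟩ hh
      have h2 : (n : Sg F m) * a = n' * a' := congrArg Subtype.val hh
      have h3 : (n' : Sg F m)⁻¹ * n = a' * (a : Sg F m)⁻¹ := by
        rw [inv_mul_eq_iff_eq_mul, ← mul_assoc, ← h2, mul_inv_cancel_right]
      have h4 : (n' : Sg F m)⁻¹ * n = 1 := by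
        apply hdisj
        · rw [h3]; exact A.mul_mem a'.2 (A.inv_mem a.2)
        · have : (n' : Sg F m)⁻¹ * n ∈ N0 := N0.mul_mem (N0.inv_mem n'.2) n.2
          exact this.2
      have h5 : (n : Sg F m) = n' := (inv_mul_eq_one.mp h4).symm
      rw [h4] at h3
      have h6 : (a : Sg F m) = a' := (mul_inv_eq_one.mp h3.symm).symm
      exact Prod.ext (Subtype.ext h5) (Subtype.ext h6)
    rw [Nat.card_prod, h.norm] at h1
    exact Nat.le_of_mul_le_mul_right h1 Nat.card_pos
  apply le_antisymm hle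
  rcases h.w24 with rfl | rfl
  · have h1 : Nat.card (Subgroup.zpowers (iv z)) ≤ Nat.card N0 := by
      apply Nat.card_le_card_of_injective (Subgroup.inclusion _) (Subgroup.inclusion_injective _)
      rw [Subgroup.zpowers_le]
      exact ⟨hi3, hi4⟩
    have h2 : orderOf (iv z) = 2 := orderOf_eq_prime (by rw [sq]; exact hi2) hi1
    rw [Nat.card_zpowers, h2] at h1
    exact h1
  · -- an element of order four
    obtain ⟨n, hn, hnA, hn2⟩ : ∃ n ∈ NN A, n ∉ A ∧ n * n ≠ 1 := by
      by_contra hcon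
      push Not at hcon
      have h1 : Nat.card (NN A) ≤ Nat.card (A ⊕ {n : Sg F m // n ∈ NN A ∧ n ≠ 1 ∧ n * n = 1}) := by
        classical
        refine Nat.card_le_card_of_injective (fun n : NN A => if hA : (n : Sg F m) ∈ A then
          Sum.inl ⟨n, hA⟩ else Sum.inr ⟨n, n.2, fun h => hA (h ▸ A.one_mem), hcon n n.2 hA⟩) ?_
        intro a b hab
        simp only at hab
        split_ifs at hab with ha hb hb
        · have := Sum.inl_injective hab
          exact Subtype.ext (Subtype.mk.inj this)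
        · have := Sum.inr_injective hab
          exact Subtype.ext (Subtype.mk.inj this)
      rw [Nat.card_sum, h.card_invol, h.norm] at h1
      have h2 : 0 < Nat.card A := Nat.card_pos
      omega
    have hn4 := h.pow_four hn hnA
    have hnn : (n * n) * (n * n) = 1 := by
      have h4 : n ^ (2 * 2) = n * n * (n * n) := by rw [pow_mul, sq n, sq]
      rw [← h4]; exact hn4
    have hnnN : n * n ∈ NN A := (NN A).mul_mem hn hn
    have hc := h.invol_mul hi3 hi1 hi2 hnnN hn2 hnn
    obtain ⟨s, hs, hss⟩ := h.exists_sqrt (A.inv_mem hc)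
    have hinv1 := h.invert hnnN hn2 hnn hs
    have hsq : s⁻¹ * n * s * (s⁻¹ * n * s) = iv z := by
      have h1 : s⁻¹ * n * s * (s⁻¹ * n * s) = s⁻¹ * (n * n) * s := by group
      have h2 : s⁻¹ * (n * n) = (n * n) * s := by rw [← hinv1]; group
      rw [h1, h2, mul_assoc, hss, mul_inv_rev, ← mul_assoc, mul_inv_cancel, one_mul]
      exact inv_eq_of_mul_eq_one_right hi2
    set n' := s⁻¹ * n * s with hn'
    have hn'N : n' ∈ NN A := (NN A).mul_mem ((NN A).mul_mem ((NN A).inv_mem (le_NN hs)) hn) (le_NN hs)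
    have hn'p : n' • p = p := by
      apply fix_of_comm_invol hi1 hi2 _ hi4
      have hgen : ∀ y : Sg F m, y * (y * y) = y * y * y := fun y => (mul_assoc y y y).symm
      rw [← hsq]
      exact hgen n'
    have h1 : Nat.card (Subgroup.zpowers n') ≤ Nat.card N0 := by
      apply Nat.card_le_card_of_injective (Subgroup.inclusion _) (Subgroup.inclusion_injective _)
      rw [Subgroup.zpowers_le]
      exact ⟨hn'N, hn'p⟩
    have h2 : orderOf n' = 2 ^ 2 := by
      apply orderOf_eq_prime_pow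
      · rw [pow_one, sq, hsq]; exact hi1
      · have h4 : n' ^ (2 * 2) = n' * n' * (n' * n') := by rw [pow_mul, sq n', sq]
        have h5 : n' ^ 2 ^ (1 + 1) = n' ^ (2 * 2) := rfl
        rw [h5, h4, hsq, hi2]
    rw [Nat.card_zpowers, h2] at h1
    exact h1

end Cfsg.Agent.H15.Suz
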