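import Mathlib
import Cfsg.Agent.H15.SzSol2
import Cfsg.Agent.H3.Core4

/-! # Suzuki groups: counting 2-elements normalizing tori -/

set_option autoImplicit false

open scoped Pointwise

namespace Cfsg.Agent.H15.Suz

open Cfsg Cfsg.Agent.H3 Cfsg.Agent.H15.IrrLin Cfsg.Agent.H15.TorI

variable {F : Type*} [Field F] [Fintype F] {m : ℕ} [hS : SzF F m]

/-- conjugate subgroup -/
abbrev cA (g : Sg F m) (A : Subgroup (Sg F m)) : Subgroup (Sg F m) :=
  A.map (MulAut.conj g).toMonoidHom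

variable {A : Subgroup (Sg F m)} {w : ℕ}

theorem mem_NN_cA {g x : Sg F m} : x ∈ NN (cA g A) ↔ g⁻¹ * x * g ∈ NN A := by
  rw [Subgroup.mem_normalizer_iff, Subgroup.mem_normalizer_iff]
  constructor
  · intro h a
    have h1 := h (g * a * g⁻¹)
    rw [mem_map_conj, mem_map_conj] at h1
    rw [show g⁻¹ * (g * a * g⁻¹) * g = a by group] at h1
    rw [h1, show g⁻¹ * (x * (g * a * g⁻¹) * x⁻¹) * g = g⁻¹ * x * g * a * (g⁻¹ * x * g)⁻¹ by group]
  · intro h a
    have h1 := h (g⁻¹ * a * g)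
    rw [mem_map_conj, mem_map_conj, h1,
      show g⁻¹ * x * g * (g⁻¹ * a * g) * (g⁻¹ * x * g)⁻¹ = g⁻¹ * (x * a * x⁻¹) * g by group]

theorem NN_cA (g : Sg F m) : NN (cA g A) = cA g (NN A) := by
  ext x
  rw [mem_NN_cA, mem_map_conj]

theorem Tw.conj (h : Tw m A w) (g : Sg F m) : Tw m (cA g A) w where
  tor :=
    { comm := by
        intro a ha b hb
        rw [mem_map_conj] at ha hb
        have h1 := h.tor.comm _ ha _ hb
        calc a * b = g * ((g⁻¹ * a * g) * (g⁻¹ * b * g)) * g⁻¹ := by group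
          _ = g * ((g⁻¹ * b * g) * (g⁻¹ * a * g)) * g⁻¹ := by rw [h1]
          _ = b * a := by group
      cent := by
        intro a ha ha1 c hc
        rw [mem_map_conj] at ha ⊢
        apply h.tor.cent _ ha
        · intro h0
          apply ha1
          rw [show a = g * (g⁻¹ * a * g) * g⁻¹ by group, h0]; group
        · calc g⁻¹ * c * g * (g⁻¹ * a * g) = g⁻¹ * (c * a) * g := by group
            _ = g⁻¹ * (a * c) * g := by rw [hc]
            _ = g⁻¹ * a * g * (g⁻¹ * c * g) := by group }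
  ord := by rw [card_map_conj]; exact h.ord
  norm := by rw [NN_cA, card_map_conj, card_map_conj]; exact h.norm
  w24 := h.w24

theorem Tw.unique {T T' : Subgroup (Sg F m)} {w' : ℕ} (h : Tw m T w) (h' : Tw m T' w')
    {x y : Sg F m} (hx1 : x ≠ 1) (hx4 : x ^ 4 = 1) {p : Om F m} (hp : x • p = p) (hyp : y • p ≠ p)
    (hx : x ∈ NN T) (hx' : x ∈ NN T') (hy : y ∈ NN T) (hy' : y ∈ NN T') : T = T' := by
  have hy1 : y ≠ 1 := by rintro rfl; exact hyp (one_smul _ _)
  by_cases hyT : y ∈ T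
  · have hy4 := h.not_four hyT hy1
    have hyT' : y ∈ T' := by
      by_contra hcon
      exact hy4 (h'.pow_four hy' hcon)
    rw [← h.cent_eq hyT hy1, ← h'.cent_eq hyT' hy1]
  · have hy4 := h.pow_four hy hyT
    have hi1 := iv_ne hx1
    have hi2 := iv_sq hx4
    have hj1 := iv_ne hy1
    have hj2 := iv_sq hy4
    have e1 : iv x * iv y ∈ T := h.invol_mul (iv_mem hx) hi1 hi2 (iv_mem hy) hj1 hj2
    have e2 : iv x * iv y ∈ T' := h'.invol_mul (iv_mem hx') hi1 hi2 (iv_mem hy') hj1 hj2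
    have e3 : iv x * iv y ≠ 1 := by
      intro h0
      have h1 : iv x = iv y := by
        rw [mul_eq_one_iff_eq_inv.mp h0]
        exact inv_eq_of_mul_eq_one_right hj2
      apply hyp
      apply fix_of_comm_invol hj1 hj2 (iv_comm y)
      rw [← h1]
      exact iv_fix hp
    rw [← h.cent_eq e1 e3, ← h'.cent_eq e2 e3]

open Classical in
theorem card_conj_in [Fintype (Sg F m)] (x : Sg F m) :
    ((Finset.univ.filter fun g : Sg F m => g⁻¹ * x * g ∈ NN A).card : ℕ) =
      Nat.card (Cg m x) * Nat.card {z : Sg F m // z ∈ NN A ∧ IsConj x z} := by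
  have h1 := sum_conj_eq (fun z : Sg F m => if z ∈ NN A then (1 : ℕ) else 0) x
  rw [Finset.card_filter]
  rw [show (∑ g : Sg F m, if g⁻¹ * x * g ∈ NN A then (1 : ℕ) else 0) =
    ∑ g : Sg F m, if g * x * g⁻¹ ∈ NN A then (1 : ℕ) else 0 from
      Fintype.sum_equiv (Equiv.inv _) _ _ (fun g => by simp)]
  rw [h1, smul_eq_mul]
  congr 1
  rw [← Finset.sum_filter, Finset.filter_filter, Finset.sum_const, smul_eq_mul, mul_one,
    Nat.card_eq_fintype_card, Fintype.card_subtype]
  congr 1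
  ext z
  simp only [Finset.mem_filter, Finset.mem_univ, true_and]
  tauto


open Classical in
theorem card_filter_conj {G : Type*} [Group G] [Fintype G] (P : G → Prop) (g : G) :
    (Finset.univ.filter fun y : G => P (g⁻¹ * y * g)).card = Nat.card {z : G // P z} := by
  rw [← Fintype.card_subtype, ← Nat.card_eq_fintype_card]
  exact Nat.card_congr
    { toFun := fun y => ⟨g⁻¹ * y.1 * g, y.2⟩
      invFun := fun z => ⟨g * z.1 * g⁻¹, by
        rw [show g⁻¹ * (g * z.1 * g⁻¹) * g = z.1 by group]; exact z.2⟩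
      left_inv := fun y => Subtype.ext (by
        show g * (g⁻¹ * y.1 * g) * g⁻¹ = y.1
        group)
      right_inv := fun z => Subtype.ext (by
        show g⁻¹ * (g * z.1 * g⁻¹) * g = z.1
        group) }

open Classical in
theorem card_filter_trans {G : Type*} [Group G] [Fintype G] (P : G → Prop) (g : G) :
    (Finset.univ.filter fun y : G => P (g⁻¹ * y)).card = Nat.card {z : G // P z} := by
  rw [← Fintype.card_subtype, ← Nat.card_eq_fintype_card]
  exact Nat.card_congr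
    { toFun := fun y => ⟨g⁻¹ * y.1, y.2⟩
      invFun := fun z => ⟨g * z.1, by
        rw [show g⁻¹ * (g * z.1) = z.1 by group]; exact z.2⟩
      left_inv := fun y => Subtype.ext (by
        show g * (g⁻¹ * y.1) = y.1
        group)
      right_inv := fun z => Subtype.ext (by
        show g⁻¹ * (g * z.1) = z.1
        group) }

theorem conj_smul_iff {g y : Sg F m} {p : Om F m} :
    (g⁻¹ * y * g) • (g⁻¹ • p) = g⁻¹ • p ↔ y • p = p := by
  rw [mul_smul, mul_smul, smul_inv_smul, smul_left_cancel_iff]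

theorem Tw.card_fix' (h : Tw m A w) {z : Sg F m} (hz : z ∈ NN A) (hz1 : z ≠ 1) (hz4 : z ^ 4 = 1)
    {p : Om F m} (hp : z • p = p) :
    Nat.card {y : Sg F m // y ∈ NN A ∧ y • p = p} = w := by
  have h1 := h.card_fix hz hz1 hz4 hp
  have h2 : Nat.card (NN A ⊓ MulAction.stabilizer (Sg F m) p : Subgroup (Sg F m)) =
    Nat.card {y : Sg F m // y ∈ NN A ∧ y • p = p} := by
    refine Nat.card_congr (Equiv.subtypeEquivRight fun z => ?_)
    rw [Subgroup.mem_inf, MulAction.mem_stabilizer_iff]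
  rw [← h2]
  exact h1

theorem NN_conj_mem {g n x : Sg F m} (hn : n ∈ NN A) (hx : g⁻¹ * x * g ∈ NN A) :
    (g * n)⁻¹ * x * (g * n) ∈ NN A := by
  rw [show (g * n)⁻¹ * x * (g * n) = n⁻¹ * (g⁻¹ * x * g) * n by group]
  exact (NN A).mul_mem ((NN A).mul_mem ((NN A).inv_mem hn) hx) hn

theorem mem_NN_of_cA_eq {g₀ g : Sg F m} (h3 : cA g₀ A = cA g A) : g₀⁻¹ * g ∈ NN A := by
  rw [Subgroup.mem_normalizer_iff]
  intro a
  have h4 : g * a * g⁻¹ ∈ cA g₀ A ↔ g * a * g⁻¹ ∈ cA g A := by rw [h3]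
  rw [mem_map_conj, mem_map_conj, show g⁻¹ * (g * a * g⁻¹) * g = a by group] at h4
  rw [← h4, show g₀⁻¹ * g * a * (g₀⁻¹ * g)⁻¹ = g₀⁻¹ * (g * a * g⁻¹) * g₀ by group]

open Classical in
theorem Tw.fiber_g [Fintype (Sg F m)] (h : Tw m A w) {x : Sg F m} (hx1 : x ≠ 1) (hx4 : x ^ 4 = 1)
    {p : Om F m} (hp : x • p = p) {g : Sg F m} (hg : g⁻¹ * x * g ∈ NN A) :
    (Finset.univ.filter fun y : Sg F m => g⁻¹ * y * g ∈ NN A ∧ y • p ≠ p).card =
      w * Nat.card A - w := by
  have hz : g⁻¹ * x * g ≠ 1 := by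
    intro h0; apply hx1
    rw [show x = g * (g⁻¹ * x * g) * g⁻¹ by group, h0]; group
  have hz4 : (g⁻¹ * x * g) ^ 4 = 1 := by
    have := conj_pow (a := g⁻¹) (b := x) (i := 4)
    rw [inv_inv] at this
    rw [this, hx4]; group
  have e1 := h.card_fix' hg hz hz4 (conj_smul_iff.mpr hp)
  have e2 : (Finset.univ.filter fun y : Sg F m => g⁻¹ * y * g ∈ NN A).card = w * Nat.card A := by
    rw [← h.norm]
    exact card_filter_conj (fun z => z ∈ NN A) g
  have e3 : (Finset.univ.filter fun y : Sg F m => g⁻¹ * y * g ∈ NN A ∧ y • p = p).card = w := by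
    have h1 := card_filter_conj (fun z : Sg F m => z ∈ NN A ∧ z • (g⁻¹ • p) = g⁻¹ • p) g
    simp only [conj_smul_iff] at h1
    exact h1.trans e1
  have e4 : (Finset.univ.filter fun y : Sg F m => g⁻¹ * y * g ∈ NN A ∧ y • p ≠ p).card + w =
      w * Nat.card A := by
    have h1 := Finset.card_filter_add_card_filter_not (s := Finset.univ.filter
      fun y : Sg F m => g⁻¹ * y * g ∈ NN A) (p := fun y => y • p = p)
    rw [Finset.filter_filter, Finset.filter_filter, e2, e3] at h1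
    rw [← h1, add_comm]
  omega

open Classical in
theorem Tw.fiber_y [Fintype (Sg F m)] (h : Tw m A w) {x y : Sg F m} (hx1 : x ≠ 1)
    (hx4 : x ^ 4 = 1) {p : Om F m} (hp : x • p = p) (hy : y • p ≠ p) {g₀ : Sg F m}
    (hg1 : g₀⁻¹ * x * g₀ ∈ NN A) (hg2 : g₀⁻¹ * y * g₀ ∈ NN A) :
    (Finset.univ.filter fun g : Sg F m => g⁻¹ * x * g ∈ NN A ∧ g⁻¹ * y * g ∈ NN A).card =
      w * Nat.card A := by
  rw [← h.norm]
  have h1 := card_filter_trans (fun z : Sg F m => z ∈ NN A) g₀
  rw [show Nat.card (NN A) = Nat.card {z : Sg F m // z ∈ NN A} from rfl, ← h1]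
  congr 1
  ext g
  simp only [Finset.mem_filter, Finset.mem_univ, true_and]
  constructor
  · rintro ⟨e1, e2⟩
    apply mem_NN_of_cA_eq
    exact (h.conj g₀).unique (h.conj g) hx1 hx4 hp hy (mem_NN_cA.mpr hg1)
      (mem_NN_cA.mpr e1) (mem_NN_cA.mpr hg2) (mem_NN_cA.mpr e2)
  · intro hn
    have e1 := NN_conj_mem hn hg1
    have e2 := NN_conj_mem hn hg2
    rw [mul_inv_cancel_left] at e1 e2
    exact ⟨e1, e2⟩

open Classical in
/-- the elements generating with `x` a subgroup of a normalizer, not fixing the point -/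
theorem Tw.card_Y (h : Tw m A w) {x : Sg F m} (hx1 : x ≠ 1) (hx4 : x ^ 4 = 1) {p : Om F m}
    (hp : x • p = p) (hn : Nat.card {z : Sg F m // z ∈ NN A ∧ IsConj x z} = Nat.card A) :
    Nat.card {y : Sg F m // y • p ≠ p ∧ ∃ g, g⁻¹ * x * g ∈ NN A ∧ g⁻¹ * y * g ∈ NN A} =
      Nat.card (Cg m x) * (Nat.card A - 1) := by
  have := Fintype.ofFinite (Sg F m)
  have hA : 0 < Nat.card A := Nat.card_pos
  have hw : 0 < w := by rcases h.w24 with rfl | rfl <;> norm_num
  set X := Finset.univ.filter fun g : Sg F m => g⁻¹ * x * g ∈ NN A with hX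
  set t := Finset.univ.filter fun y : Sg F m => y • p ≠ p with ht
  have hdc := Finset.sum_card_bipartiteAbove_eq_sum_card_bipartiteBelow (s := X) (t := t)
    (fun g y : Sg F m => g⁻¹ * y * g ∈ NN A)
  have h1 : ∀ g ∈ X, (t.bipartiteAbove (fun g y : Sg F m => g⁻¹ * y * g ∈ NN A) g).card =
      w * Nat.card A - w := by
    intro g hg
    rw [hX, Finset.mem_filter] at hg
    rw [← h.fiber_g hx1 hx4 hp hg.2]
    refine congrArg Finset.card (Finset.ext fun y => ?_)
    rw [Finset.mem_bipartiteAbove, ht, Finset.mem_filter, Finset.mem_filter]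
    tauto
  set Y := Finset.univ.filter fun y : Sg F m =>
    y • p ≠ p ∧ ∃ g, g⁻¹ * x * g ∈ NN A ∧ g⁻¹ * y * g ∈ NN A with hY
  have hYt : Y ⊆ t := by
    intro y hy
    rw [hY, Finset.mem_filter] at hy
    rw [ht, Finset.mem_filter]
    exact ⟨Finset.mem_univ _, hy.2.1⟩
  have h2 : ∀ y ∈ Y, (X.bipartiteBelow (fun g y : Sg F m => g⁻¹ * y * g ∈ NN A) y).card =
      w * Nat.card A := by
    intro y hyY
    have hy := hYt hyY
    rw [ht, Finset.mem_filter] at hy
    rw [hY, Finset.mem_filter] at hyY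
    obtain ⟨-, -, g₀, hg1, hg2⟩ := hyY
    rw [← h.fiber_y hx1 hx4 hp hy.2 hg1 hg2]
    refine congrArg Finset.card (Finset.ext fun g => ?_)
    rw [Finset.mem_bipartiteBelow, hX, Finset.mem_filter, Finset.mem_filter]
    tauto
  have h2' : ∀ y ∈ t, y ∉ Y → (X.bipartiteBelow (fun g y : Sg F m => g⁻¹ * y * g ∈ NN A) y).card =
      0 := by
    intro y hy hyY
    rw [ht, Finset.mem_filter] at hy
    rw [Finset.card_eq_zero, Finset.eq_empty_iff_forall_notMem]
    intro g hg
    rw [Finset.mem_bipartiteBelow, hX, Finset.mem_filter] at hg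
    replace hg := And.intro hg.1.2 hg.2
    apply hyY
    rw [hY, Finset.mem_filter]
    exact ⟨Finset.mem_univ _, hy.2, g, hg.1, hg.2⟩
  rw [Finset.sum_congr rfl h1, ← Finset.sum_subset hYt h2', Finset.sum_congr rfl h2,
    Finset.sum_const, smul_eq_mul, hX, card_conj_in, hn, Finset.sum_const, smul_eq_mul] at hdc
  have h4 : Nat.card {y : Sg F m // y • p ≠ p ∧ ∃ g, g⁻¹ * x * g ∈ NN A ∧ g⁻¹ * y * g ∈ NN A} =
      Y.card := by
    refine Nat.subtype_card Y fun y => ?_
    rw [hY, Finset.mem_filter]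
    exact ⟨fun h => h.2, fun h => ⟨Finset.mem_univ _, h⟩⟩
  rw [h4]
  have h5 : w * Nat.card A - w = w * (Nat.card A - 1) := by rw [Nat.mul_sub, mul_one]
  rw [h5] at hdc
  have h6 : 0 < w * Nat.card A := Nat.mul_pos hw hA
  apply Nat.eq_of_mul_eq_mul_right h6
  rw [← hdc]
  ring

end Cfsg.Agent.H15.Suz
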