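import Mathlib
import Cfsg.Agent.H15.SzSub1

/-! # Suzuki groups: subgroups, part 2: local analysis at infinity -/

set_option autoImplicit false

open scoped Pointwise commutatorElement

namespace Cfsg.Agent.H15.Suz

open Cfsg.Agent.H15.IrrLin

section

variable {F : Type*} [Field F] [Fintype F] (m : ℕ) [hS : SzF F m]

/-- a subgroup with involutions fixing and moving infinity -/
structure Cfg (M : Subgroup (Sg F m)) : Prop where
  inv0 : ∃ b : F, b ≠ 0 ∧ t m 0 b ∈ M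
  inv1 : ∃ v ∈ M, v ≠ 1 ∧ v * v = 1 ∧ v • oinf F m ≠ oinf F m

/-- torus part of a subgroup -/
noncomputable def K0 (M : Subgroup (Sg F m)) : Subgroup Fˣ := (M.subgroupOf (BB F m)).map (piB F m)

theorem mem_K0 {M : Subgroup (Sg F m)} {k : Fˣ} : k ∈ K0 m M ↔ ∃ a b : F, t m a b * dd m k ∈ M := by
  constructor
  · rintro ⟨g, hg, rfl⟩
    obtain ⟨a, b, h⟩ := piF_spec m g
    have h1 : (g : Sg F m) ∈ M := hg
    rw [h] at h1
    exact ⟨a, b, h1⟩
  · rintro ⟨a, b, h⟩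
    exact ⟨⟨t m a b * dd m k, (mem_BB_iff m).mpr ⟨_, _, _, rfl⟩⟩, h, piB_eq m rfl⟩

/-- central part -/
def E0 (M : Subgroup (Sg F m)) : AddSubgroup F where
  carrier := {b | t m 0 b ∈ M}
  add_mem' := by
    intro a b ha hb
    have h1 := M.mul_mem ha hb
    rw [t_mul] at h1
    simpa using h1
  zero_mem' := by show t m 0 0 ∈ M; rw [t_zero]; exact M.one_mem
  neg_mem' := by
    intro a ha
    rw [neg_eq' m]; exact ha

theorem mem_E0 {M : Subgroup (Sg F m)} {b : F} : b ∈ E0 m M ↔ t m 0 b ∈ M := Iff.rfl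

/-- first coordinates -/
def A0 (M : Subgroup (Sg F m)) : AddSubgroup F where
  carrier := {a | ∃ b, t m a b ∈ M}
  add_mem' := by
    rintro a a' ⟨b, hb⟩ ⟨b', hb'⟩
    exact ⟨b + b' + th F m a * a', by rw [← t_mul]; exact M.mul_mem hb hb'⟩
  zero_mem' := ⟨0, by rw [t_zero]; exact M.one_mem⟩
  neg_mem' := by
    rintro a ⟨b, hb⟩
    rw [neg_eq' m]; exact ⟨b, hb⟩

theorem mem_A0 {M : Subgroup (Sg F m)} {a : F} : a ∈ A0 m M ↔ ∃ b, t m a b ∈ M := Iff.rfl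

theorem td_conj_t0 (a b : F) (k : Fˣ) (c : F) :
    (t m a b * dd m k) * t m 0 c * (t m a b * dd m k)⁻¹ = t m 0 (k * th F m k * c) := by
  rw [show (t m a b * dd m k) * t m 0 c * (t m a b * dd m k)⁻¹ =
    t m a b * (dd m k * t m 0 c * (dd m k)⁻¹) * (t m a b)⁻¹ by group, dd_t_conj, t_conj]
  simp

theorem td_conj_t (a b : F) (k : Fˣ) (c d : F) :
    ∃ e, (t m a b * dd m k) * t m c d * (t m a b * dd m k)⁻¹ = t m (k * c) e := by
  rw [show (t m a b * dd m k) * t m c d * (t m a b * dd m k)⁻¹ =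
    t m a b * (dd m k * t m c d * (dd m k)⁻¹) * (t m a b)⁻¹ by group, dd_t_conj, t_conj]
  exact ⟨_, rfl⟩

theorem E0_smul {M : Subgroup (Sg F m)} {k : Fˣ} (hk : k ∈ K0 m M) {b : F} (hb : b ∈ E0 m M) :
    (k : F) * th F m k * b ∈ E0 m M := by
  obtain ⟨x, y, h⟩ := (mem_K0 m).mp hk
  rw [mem_E0, ← td_conj_t0 m x y]
  exact M.mul_mem (M.mul_mem h hb) (M.inv_mem h)

theorem A0_smul {M : Subgroup (Sg F m)} {k : Fˣ} (hk : k ∈ K0 m M) {a : F} (ha : a ∈ A0 m M) :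
    (k : F) * a ∈ A0 m M := by
  obtain ⟨x, y, h⟩ := (mem_K0 m).mp hk
  obtain ⟨b, hb⟩ := ha
  obtain ⟨e, he⟩ := td_conj_t m x y k a b
  refine ⟨e, ?_⟩
  rw [← he]
  exact M.mul_mem (M.mul_mem h hb) (M.inv_mem h)

theorem A0_norm {M : Subgroup (Sg F m)} {a : F} (ha : a ∈ A0 m M) : a * th F m a ∈ E0 m M := by
  obtain ⟨b, hb⟩ := ha
  rw [mem_E0, mul_comm, ← t_sq m a b]
  exact M.mul_mem hb hb

theorem t0_ne {b : F} (hb : b ≠ 0) : t m 0 b ≠ 1 := by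
  rw [← t_zero m]; intro h; exact hb (t_inj m h).2

theorem t0_sq (b : F) : t m 0 b * t m 0 b = 1 := by rw [t_sq]; simp [t_zero]

/-- fusion of involutions in the point stabiliser -/
theorem E0_trans {M : Subgroup (Sg F m)} (hM : Cfg m M) {b b' : F} (hb : b ∈ E0 m M) (hb0 : b ≠ 0)
    (hb' : b' ∈ E0 m M) (hb0' : b' ≠ 0) : ∃ k ∈ K0 m M, b' = (k : F) * th F m k * b := by
  obtain ⟨v, hv, hv1, hv2, hv3⟩ := hM.inv1
  obtain ⟨q, hq, -⟩ := invol_fix m hv1 hv2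
  have hqi : oinf F m ≠ q := by rintro rfl; exact hv3 hq
  obtain ⟨c, hc, hc2⟩ := invol_conj m M (t0_ne m hb0) (t0_sq m b) hv1 hv2 hb hv
    (t_oinf m 0 b) hq hqi
  obtain ⟨c', hc', hc2'⟩ := invol_conj m M (t0_ne m hb0') (t0_sq m b') hv1 hv2 hb' hv
    (t_oinf m 0 b') hq hqi
  have h1 : (c'⁻¹ * c) * t m 0 b * (c'⁻¹ * c)⁻¹ = t m 0 b' := by
    calc (c'⁻¹ * c) * t m 0 b * (c'⁻¹ * c)⁻¹ = c'⁻¹ * (c * t m 0 b * c⁻¹) * c' := by group
      _ = c'⁻¹ * (c' * t m 0 b' * c'⁻¹) * c' := by rw [hc2, hc2']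
      _ = _ := by group
  have h2 : (c'⁻¹ * c) • oinf F m = oinf F m := by
    apply fix_t m (t0_ne m hb0')
    rw [← h1, mul_smul, mul_smul, inv_smul_smul, t_oinf]
  obtain ⟨x, y, k, hk⟩ := exists_td m h2
  refine ⟨k, (mem_K0 m).mpr ⟨x, y, ?_⟩, ?_⟩
  · rw [← hk]; exact M.mul_mem (M.inv_mem hc') hc
  · rw [hk, td_conj_t0] at h1
    exact (t_inj m h1).2.symm

/-- the norm map preserves subgroups of `Fˣ` -/
theorem norm_mem (K : Subgroup Fˣ) {k : Fˣ} (hk : k ∈ K) :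
    ∃ l ∈ K, (l : F) = (k : F) * th F m k := by
  refine ⟨k ^ (1 + 2 ^ (m + 1)), K.pow_mem hk _, ?_⟩
  rw [pow_add, pow_one, Units.val_mul, Units.val_pow_eq_pow_val, th_apply]

theorem exists_norm_mem (K : Subgroup Fˣ) {l : Fˣ} (hl : l ∈ K) :
    ∃ k ∈ K, (k : F) * th F m k = (l : F) := by
  let f : K → K := fun k => ⟨(k : Fˣ) ^ (1 + 2 ^ (m + 1)), K.pow_mem k.2 _⟩
  have hf : ∀ k : K, ((f k : Fˣ) : F) = ((k : Fˣ) : F) * th F m ((k : Fˣ) : F) := by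
    intro k
    show (((k : Fˣ) ^ (1 + 2 ^ (m + 1)) : Fˣ) : F) = _
    rw [pow_add, pow_one, Units.val_mul, Units.val_pow_eq_pow_val, th_apply]
  have hinj : Function.Injective f := by
    intro a b hab
    have h1 : ((f a : Fˣ) : F) = ((f b : Fˣ) : F) := by rw [hab]
    rw [hf, hf] at h1
    exact Subtype.ext (Units.ext (norm_inj m h1))
  obtain ⟨k, hk⟩ := (Finite.injective_iff_surjective.mp hinj) ⟨l, hl⟩
  refine ⟨k, k.2, ?_⟩
  rw [← hf, hk]

/-- membership in `E0` of multiples of a base point -/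
theorem E0_iff {M : Subgroup (Sg F m)} (hM : Cfg m M) {b : F} (hb : b ∈ E0 m M) (hb0 : b ≠ 0)
    (x : F) : x * b ∈ E0 m M ↔ x = 0 ∨ ∃ k ∈ K0 m M, (k : F) = x := by
  constructor
  · intro h
    by_cases hx : x = 0
    · exact Or.inl hx
    · right
      obtain ⟨k, hk, h1⟩ := E0_trans m hM hb hb0 h (mul_ne_zero hx hb0)
      obtain ⟨l, hl, h2⟩ := norm_mem m _ hk
      exact ⟨l, hl, by rw [h2]; exact (mul_right_cancel₀ hb0 h1).symm⟩
  · rintro (rfl | ⟨k, hk, rfl⟩)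
    · rw [zero_mul]; exact (E0 m M).zero_mem
    · obtain ⟨l, hl, h2⟩ := exists_norm_mem m _ hk
      rw [← h2]; exact E0_smul m hl hb

/-- the subfield attached to `M` -/
noncomputable def FS {M : Subgroup (Sg F m)} (hM : Cfg m M) : Subfield F where
  carrier := {x | x = 0 ∨ ∃ k ∈ K0 m M, (k : F) = x}
  mul_mem' := by
    rintro a b (rfl | ⟨k, hk, rfl⟩) (rfl | ⟨l, hl, rfl⟩)
    · left; ring
    · left; ring
    · left; ring
    · right; exact ⟨k * l, (K0 m M).mul_mem hk hl, rfl⟩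
  one_mem' := Or.inr ⟨1, (K0 m M).one_mem, rfl⟩
  add_mem' := by
    intro x y hx hy
    obtain ⟨b, hb0, hb⟩ := hM.inv0
    rw [Set.mem_ofPred_eq, ← E0_iff m hM hb hb0] at hx hy ⊢
    rw [add_mul]
    exact (E0 m M).add_mem hx hy
  zero_mem' := Or.inl rfl
  neg_mem' := by
    intro x hx
    rw [neg_eq' m]; exact hx
  inv_mem' := by
    rintro a (rfl | ⟨k, hk, rfl⟩)
    · left; exact inv_zero
    · right; exact ⟨k⁻¹, (K0 m M).inv_mem hk, Units.val_inv_eq_inv_val k⟩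

theorem mem_FS {M : Subgroup (Sg F m)} (hM : Cfg m M) {x : F} :
    x ∈ FS m hM ↔ x = 0 ∨ ∃ k ∈ K0 m M, (k : F) = x := Iff.rfl

theorem mem_FS_iff {M : Subgroup (Sg F m)} (hM : Cfg m M) {b : F} (hb : b ∈ E0 m M) (hb0 : b ≠ 0)
    {x : F} : x ∈ FS m hM ↔ x * b ∈ E0 m M := by rw [mem_FS, E0_iff m hM hb hb0]

theorem card_FS {M : Subgroup (Sg F m)} (hM : Cfg m M) :
    Nat.card (FS m hM) = Nat.card (E0 m M) := by
  obtain ⟨b, hb0, hb⟩ := hM.inv0
  exact Nat.card_congr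
    { toFun := fun x => ⟨x.1 * b, (mem_FS_iff m hM hb hb0).mp x.2⟩
      invFun := fun e => ⟨e.1 * b⁻¹, by
        rw [mem_FS_iff m hM hb hb0, inv_mul_cancel_right₀ hb0]; exact e.2⟩
      left_inv := fun x => Subtype.ext (mul_inv_cancel_right₀ hb0 _)
      right_inv := fun e => Subtype.ext (inv_mul_cancel_right₀ hb0 _) }

theorem card_FS' {M : Subgroup (Sg F m)} (hM : Cfg m M) :
    Nat.card (FS m hM) = Nat.card (K0 m M) + 1 := by
  have h1 : Nat.card (FS m hM) = Nat.card (Option (K0 m M)) := by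
    refine (Nat.card_congr (Equiv.ofBijective (fun x : Option (K0 m M) =>
      x.elim (⟨0, Or.inl rfl⟩ : FS m hM) (fun k => ⟨((k : Fˣ) : F), Or.inr ⟨k, k.2, rfl⟩⟩)) ⟨?_, ?_⟩)).symm
    · rintro (_ | a) (_ | b) h
      · rfl
      · exact absurd (congrArg Subtype.val h).symm (Units.ne_zero _)
      · exact absurd (congrArg Subtype.val h) (Units.ne_zero _)
      · congr 1
        exact Subtype.ext (Units.ext (congrArg Subtype.val h))
    · rintro ⟨x, (rfl | ⟨k, hk, rfl⟩)⟩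
      · exact ⟨none, rfl⟩
      · exact ⟨some ⟨k, hk⟩, rfl⟩
  rw [h1, Finite.card_option]

end

end Cfsg.Agent.H15.Suz
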