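import Mathlib
import Cfsg.Agent.H15.SzSol3
import Cfsg.Agent.H15.SzMax
import Cfsg.Agent.H15.SzSub2

/-! # Suzuki groups: solubilizers -/

set_option autoImplicit false

open scoped Pointwise

namespace Cfsg.Agent.H15.Suz

open Cfsg Cfsg.Agent.H3 Cfsg.Agent.H15.IrrLin Cfsg.Agent.H15.TorI

section gen

theorem card_or {α : Type*} [Finite α] {p q : α → Prop} (h : ∀ a, p a → ¬ q a) :
    Nat.card {a // p a ∨ q a} = Nat.card {a // p a} + Nat.card {a // q a} := by
  classical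
  have := Fintype.ofFinite α
  have h1 : Disjoint (Finset.univ.filter p) (Finset.univ.filter q) := by
    rw [Finset.disjoint_left]
    intro a ha hb
    rw [Finset.mem_filter] at ha hb
    exact h a ha.2 hb.2
  rw [Nat.subtype_card (p := p) (Finset.univ.filter p) (by simp),
    Nat.subtype_card (p := q) (Finset.univ.filter q) (by simp),
    Nat.subtype_card (p := fun a => p a ∨ q a) (Finset.univ.filter p ∪ Finset.univ.filter q)
      (by simp), Finset.card_union_of_disjoint h1]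

/-- number of elements of the solubilizer -/
noncomputable def nSol {G : Type*} [Group G] (x : G) : ℕ :=
  Nat.card {y : G // Group.IsSolvable ↥(Subgroup.closure ({x, y} : Set G))}

theorem nSol_equiv {G H : Type*} [Group G] [Group H] (e : G ≃* H) (x : G) :
    nSol (e x) = nSol x := by
  have key : ∀ y : G, Subgroup.closure ({e x, e y} : Set H) =
      (Subgroup.closure ({x, y} : Set G)).map e.toMonoidHom := by
    intro y
    rw [MonoidHom.map_closure, Set.image_pair]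
    rfl
  have key2 : ∀ y : G, Group.IsSolvable ↥(Subgroup.closure ({e x, e y} : Set H)) ↔
      Group.IsSolvable ↥(Subgroup.closure ({x, y} : Set G)) := by
    intro y
    rw [key]
    let f := (Subgroup.closure ({x, y} : Set G)).equivMapOfInjective e.toMonoidHom e.injective
    exact ⟨fun h => Group.isSolvable_of_isSolvable_injective (f := f.toMonoidHom) f.injective,
      fun h => Group.isSolvable_of_isSolvable_injective (f := f.symm.toMonoidHom) f.symm.injective⟩
  unfold nSol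
  exact (Nat.card_congr (Equiv.subtypeEquiv e.toEquiv fun y => (key2 y).symm)).symm

end gen

variable {F : Type*} [Field F] [Fintype F] {m : ℕ} [hS : SzF F m]

variable {A : Subgroup (Sg F m)} {w : ℕ}

theorem isConj_invol {x z : Sg F m} (hx1 : x ≠ 1) (hx2 : x * x = 1) (hz1 : z ≠ 1)
    (hz2 : z * z = 1) : IsConj x z := by
  have key : ∀ y : Sg F m, y ≠ 1 → y * y = 1 → ∃ g b, b ≠ 0 ∧ y = g * t m 0 b * g⁻¹ := by
    intro y hy1 hy2
    obtain ⟨g, a, b, hab, h⟩ := two_elt m hy1 (four_of_sq hy2)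
    have h1 : g⁻¹ * y * g = t m a b := by rw [h]; group
    have h2 : t m a b * t m a b = 1 := by
      rw [← h1]
      calc g⁻¹ * y * g * (g⁻¹ * y * g) = g⁻¹ * (y * y) * g := by group
        _ = 1 := by rw [hy2]; group
    obtain ⟨c, hc⟩ := sq_eq_one_of_BB m (g := t m a b) ((mem_BB m).mpr (t_oinf m a b)) h2
    refine ⟨g, c, ?_, by rw [h, hc]⟩
    rintro rfl
    rw [t_zero] at hc
    exact hab hc
  obtain ⟨g, b, hb, rfl⟩ := key x hx1 hx2
  obtain ⟨k, c, hc, rfl⟩ := key z hz1 hz2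
  have h1 := isConj_t0 m hb hc
  exact ((isConj_iff.mpr ⟨g, rfl⟩ : IsConj (t m 0 b) (g * t m 0 b * g⁻¹)).symm.trans h1).trans
    (isConj_iff.mpr ⟨k, rfl⟩)

theorem sq_ne_iff_conj {x z : Sg F m} (h : IsConj x z) : (x = 1 ↔ z = 1) ∧
    (x * x = 1 ↔ z * z = 1) ∧ (x ^ 4 = 1 ↔ z ^ 4 = 1) := by
  obtain ⟨c, rfl⟩ := isConj_iff.mp h
  refine ⟨?_, ?_, ?_⟩
  · constructor
    · rintro rfl; group
    · intro h1
      rw [show x = c⁻¹ * (c * x * c⁻¹) * c by group, h1]; group
  · have h2 : c * x * c⁻¹ * (c * x * c⁻¹) = c * (x * x) * c⁻¹ := by group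
    rw [h2]
    constructor
    · intro h1; rw [h1]; group
    · intro h1
      rw [show x * x = c⁻¹ * (c * (x * x) * c⁻¹) * c by group, h1]; group
  · rw [conj_pow]
    constructor
    · intro h1; rw [h1]; group
    · intro h1
      rw [show x ^ 4 = c⁻¹ * (c * (x ^ 4) * c⁻¹) * c by group, h1]; group

theorem Tw.card_conj_invol (h : Tw m A w) {x : Sg F m} (hx1 : x ≠ 1) (hx2 : x * x = 1) :
    Nat.card {z : Sg F m // z ∈ NN A ∧ IsConj x z} = Nat.card A := by
  rw [← h.card_invol]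
  refine Nat.card_congr (Equiv.subtypeEquivRight fun z => ?_)
  constructor
  · rintro ⟨h1, h2⟩
    have h3 := sq_ne_iff_conj h2
    exact ⟨h1, fun h => hx1 (h3.1.mpr h), h3.2.1.mp hx2⟩
  · rintro ⟨h1, h2, h3⟩
    exact ⟨h1, isConj_invol hx1 hx2 h2 h3⟩

theorem one_not_hH : (1 : F) ∉ (hH F m).range := by
  rintro ⟨d, hd⟩
  rw [hH_apply] at hd
  have h1 := congrArg (th F m) hd
  rw [map_add, th_th, map_one] at h1
  have hc := charTwo F m
  have h2 : d ^ 2 = d := by
    have : (2 : F) = 0 := CharTwo.two_eq_zero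
    linear_combination h1 - hd
  have h3 : d * (d - 1) = 0 := by linear_combination h2
  rcases mul_eq_zero.mp h3 with h | h
  · rw [h, map_zero, add_zero] at hd
    exact zero_ne_one hd
  · rw [sub_eq_zero.mp h, map_one] at hd
    have : (1 : F) + 1 = 0 := CharTwo.add_self_eq_zero 1
    rw [this] at hd
    exact zero_ne_one hd

theorem four_form {x : Sg F m} (hx4 : x ^ 4 = 1) (hx2 : x * x ≠ 1) :
    ∃ g a b, a ≠ 0 ∧ x = g * t m a b * g⁻¹ := by
  have hx1 : x ≠ 1 := by rintro rfl; exact hx2 (one_mul _)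
  obtain ⟨g, a, b, hab, h⟩ := two_elt m hx1 hx4
  refine ⟨g, a, b, ?_, h⟩
  rintro rfl
  apply hx2
  rw [h]
  calc g * t m 0 b * g⁻¹ * (g * t m 0 b * g⁻¹) = g * (t m 0 b * t m 0 b) * g⁻¹ := by group
    _ = 1 := by rw [t0_sq m]; group

theorem isConj_four {x z : Sg F m} (hx4 : x ^ 4 = 1) (hx2 : x * x ≠ 1) (hz4 : z ^ 4 = 1)
    (hz2 : z * z ≠ 1) : IsConj x z ∨ IsConj x⁻¹ z := by
  obtain ⟨g, a, b, ha, rfl⟩ := four_form hx4 hx2
  obtain ⟨k, c, d, hc, rfl⟩ := four_form hz4 hz2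
  have hta := th_ne_zero m ha
  have htc := th_ne_zero m hc
  have e1 : IsConj (t m a b) (g * t m a b * g⁻¹) := isConj_iff.mpr ⟨g, rfl⟩
  have e2 : IsConj (t m c d) (k * t m c d * k⁻¹) := isConj_iff.mpr ⟨k, rfl⟩
  have e3 : IsConj (t m a b)⁻¹ (g * t m a b * g⁻¹)⁻¹ := isConj_iff.mpr ⟨g, by group⟩
  have hsum : ∀ x y : F, x + y ∈ (hH F m).range ↔ (x ∈ (hH F m).range ↔ y ∈ (hH F m).range) :=
    fun x y => AddSubgroup.add_mem_iff_of_index_two (hH_index (F := F) m)
  have key : ∀ b', d / (c * th F m c) + b' / (a * th F m a) ∈ (hH F m).range →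
      IsConj (t m a b') (t m c d) := by
    intro b' hb'
    obtain ⟨z, hz⟩ := conj_in_UU (F := F) (m := m) (b := b') ha hc hb'
    refine isConj_iff.mpr ⟨z, hz.trans ?_⟩
    congr 1
    have hc' := charTwo F m
    have : (2 : F) = 0 := CharTwo.two_eq_zero
    field_simp
    linear_combination (b' * c * th F m c) * this
  by_cases h0 : d / (c * th F m c) + b / (a * th F m a) ∈ (hH F m).range
  · left
    exact (e1.symm.trans (key b h0)).trans e2
  · right
    have h1 : d / (c * th F m c) + (b + th F m a * a) / (a * th F m a) ∈ (hH F m).range := by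
      have h2 : d / (c * th F m c) + (b + th F m a * a) / (a * th F m a) =
          (d / (c * th F m c) + b / (a * th F m a)) + 1 := by
        field_simp
        ring
      rw [h2, hsum]
      have := one_not_hH (F := F) (m := m)
      tauto
    have h2 := key _ h1
    rw [← t_inv] at h2
    exact (e3.symm.trans h2).trans e2

theorem not_isConj_inv {x : Sg F m} (hx4 : x ^ 4 = 1) (hx2 : x * x ≠ 1) : ¬ IsConj x x⁻¹ := by
  intro hc
  obtain ⟨g, a, b, ha, rfl⟩ := four_form hx4 hx2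
  have e1 : IsConj (t m a b) (g * t m a b * g⁻¹) := isConj_iff.mpr ⟨g, rfl⟩
  have e3 : IsConj (t m a b)⁻¹ (g * t m a b * g⁻¹)⁻¹ := isConj_iff.mpr ⟨g, by group⟩
  have h1 : IsConj (t m a b) (t m a b)⁻¹ := (e1.trans hc).trans e3.symm
  obtain ⟨P, hP⟩ := exists_sylow_UU (F := F) m
  have hne : t m a b ≠ 1 := t_ne_one_of_left m ha b
  have h2 := (real_iff m P (g := t m a b) (by rw [hP]; exact ⟨a, b, rfl⟩) hne).mp h1
  have h3 : t m a b * t m a b = 1 := by rw [← sq, ← h2, pow_orderOf_eq_one]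
  apply hx2
  calc g * t m a b * g⁻¹ * (g * t m a b * g⁻¹) = g * (t m a b * t m a b) * g⁻¹ := by group
    _ = 1 := by rw [h3]; group

/-- number of elements of order four in the normalizer -/
theorem Tw.card_four (h : Tw m A w) :
    Nat.card {z : Sg F m // z ∈ NN A ∧ z ^ 4 = 1 ∧ z * z ≠ 1} + 2 * Nat.card A =
      w * Nat.card A := by
  have e1 : Nat.card (NN A) = Nat.card {z : Sg F m // (z ∈ A ∨ (z ∈ NN A ∧ z ≠ 1 ∧ z * z = 1)) ∨
      (z ∈ NN A ∧ z ^ 4 = 1 ∧ z * z ≠ 1)} := by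
    refine Nat.card_congr (Equiv.subtypeEquivRight fun z => ?_)
    constructor
    · intro hz
      by_cases hzA : z ∈ A
      · exact Or.inl (Or.inl hzA)
      · have h4 := h.pow_four hz hzA
        by_cases h2 : z * z = 1
        · exact Or.inl (Or.inr ⟨hz, fun h0 => hzA (h0 ▸ A.one_mem), h2⟩)
        · exact Or.inr ⟨hz, h4, h2⟩
    · rintro ((hz | hz) | hz)
      · exact le_NN hz
      · exact hz.1
      · exact hz.1
  rw [h.norm] at e1
  rw [e1, card_or, card_or, h.card_invol]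
  · have : Nat.card {a : Sg F m // a ∈ A} = Nat.card A := rfl
    rw [this]; ring
  · rintro z hz ⟨-, h1, h2⟩
    exact h.not_four hz h1 (four_of_sq h2)
  · rintro z (hz | hz) ⟨h1, h2, h3⟩
    · refine h.not_four hz ?_ h2
      rintro rfl; exact h3 (one_mul _)
    · exact h3 hz.2.2

theorem Tw.card_conj_four (h : Tw m A w) {x : Sg F m} (hx4 : x ^ 4 = 1) (hx2 : x * x ≠ 1) :
    2 * Nat.card {z : Sg F m // z ∈ NN A ∧ IsConj x z} + 2 * Nat.card A = w * Nat.card A := by
  rw [← h.card_four]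
  congr 1
  have hinv : x⁻¹ * x⁻¹ = (x * x)⁻¹ := by group
  have hx4' : x⁻¹ ^ 4 = 1 := by rw [inv_pow, hx4, inv_one]
  have hx2' : x⁻¹ * x⁻¹ ≠ 1 := by rw [hinv]; exact inv_ne_one.mpr hx2
  have e1 : Nat.card {z : Sg F m // z ∈ NN A ∧ IsConj x z} =
      Nat.card {z : Sg F m // z ∈ NN A ∧ IsConj x⁻¹ z} := by
    refine Nat.card_congr (Equiv.subtypeEquiv (Equiv.inv _) fun z => ?_)
    have : IsConj x z ↔ IsConj x⁻¹ z⁻¹ := by
      rw [isConj_iff, isConj_iff]
      refine exists_congr fun c => ?_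
      rw [show c * x⁻¹ * c⁻¹ = (c * x * c⁻¹)⁻¹ by group, inv_inj]
    show z ∈ NN A ∧ _ ↔ z⁻¹ ∈ NN A ∧ _
    rw [this, inv_mem_iff]
    rfl
  have e2 : Nat.card {z : Sg F m // z ∈ NN A ∧ z ^ 4 = 1 ∧ z * z ≠ 1} =
      Nat.card {z : Sg F m // (z ∈ NN A ∧ IsConj x z) ∨ (z ∈ NN A ∧ IsConj x⁻¹ z)} := by
    refine Nat.card_congr (Equiv.subtypeEquivRight fun z => ?_)
    constructor
    · rintro ⟨h1, h2, h3⟩
      rcases isConj_four hx4 hx2 h2 h3 with h4 | h4
      · exact Or.inl ⟨h1, h4⟩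
      · exact Or.inr ⟨h1, h4⟩
    · rintro (⟨h1, h2⟩ | ⟨h1, h2⟩)
      · have h3 := sq_ne_iff_conj h2
        exact ⟨h1, h3.2.2.mp hx4, fun h4 => hx2 (h3.2.1.mpr h4)⟩
      · have h3 := sq_ne_iff_conj h2
        exact ⟨h1, h3.2.2.mp hx4', fun h4 => hx2' (h3.2.1.mpr h4)⟩
  rw [e2, card_or, ← e1, two_mul]
  rintro z ⟨-, h1⟩ ⟨-, h2⟩
  exact not_isConj_inv hx4 hx2 (h1.trans h2.symm)

end Cfsg.Agent.H15.Suz
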