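import Mathlib
import Cfsg.Agent.H15.SzSub2

/-! # Suzuki groups: subgroups, part 3: counting involutions -/

set_option autoImplicit false

open scoped Pointwise commutatorElement

namespace Cfsg.Agent.H15.Suz

open Cfsg.Agent.H15.IrrLin

section

variable {F : Type*} [Field F] [Fintype F] (m : ℕ) [hS : SzF F m]

/-- points fixed by involutions of `M` -/
def Dl (M : Subgroup (Sg F m)) : Set (Om F m) :=
  {p | ∃ u ∈ M, u ≠ 1 ∧ u * u = 1 ∧ u • p = p}

theorem mem_Dl {M : Subgroup (Sg F m)} {p : Om F m} :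
    p ∈ Dl m M ↔ ∃ u ∈ M, u ≠ 1 ∧ u * u = 1 ∧ u • p = p := Iff.rfl

theorem oinf_mem_Dl {M : Subgroup (Sg F m)} (hM : Cfg m M) : oinf F m ∈ Dl m M := by
  obtain ⟨b, hb0, hb⟩ := hM.inv0
  exact ⟨_, hb, t0_ne m hb0, t0_sq m b, t_oinf m 0 b⟩

omit [Fintype F] hS in
theorem smul_mem_Dl {M : Subgroup (Sg F m)} {g : Sg F m} (hg : g ∈ M) {p : Om F m}
    (hp : p ∈ Dl m M) : g • p ∈ Dl m M := by
  obtain ⟨u, hu, hu1, hu2, hu3⟩ := hp
  refine ⟨g * u * g⁻¹, M.mul_mem (M.mul_mem hg hu) (M.inv_mem hg), ?_, ?_, ?_⟩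
  · intro h; apply hu1
    rw [show u = g⁻¹ * (g * u * g⁻¹) * g by group, h]; group
  · rw [show g * u * g⁻¹ * (g * u * g⁻¹) = g * (u * u) * g⁻¹ by group, hu2]; group
  · rw [mul_smul, mul_smul, inv_smul_smul, hu3]

/-- `M` is transitive on `Dl` -/
theorem Dl_trans {M : Subgroup (Sg F m)} (hM : Cfg m M) {p : Om F m} (hp : p ∈ Dl m M) :
    ∃ c ∈ M, c • oinf F m = p := by
  by_cases hpi : p = oinf F m
  · exact ⟨1, M.one_mem, by rw [one_smul, hpi]⟩
  · obtain ⟨b, hb0, hb⟩ := hM.inv0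
    obtain ⟨u, hu, hu1, hu2, hu3⟩ := hp
    obtain ⟨c, hc, hc2⟩ := invol_conj m M (t0_ne m hb0) (t0_sq m b) hu1 hu2 hb hu
      (t_oinf m 0 b) hu3 (Ne.symm hpi)
    refine ⟨c, hc, ?_⟩
    obtain ⟨q, -, hq2⟩ := invol_fix m hu1 hu2
    rw [hq2 p hu3]
    apply hq2
    show u • c • oinf F m = c • oinf F m
    rw [← hc2, mul_smul, mul_smul, inv_smul_smul, t_oinf]

/-- number of involutions of `M` fixing a given point of `Dl` -/
theorem card_invol_fix {M : Subgroup (Sg F m)} (hM : Cfg m M) {p : Om F m} (hp : p ∈ Dl m M) :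
    Nat.card {u : Sg F m // u ∈ M ∧ u ≠ 1 ∧ u * u = 1 ∧ u • p = p} = Nat.card (K0 m M) := by
  obtain ⟨c, hc, rfl⟩ := Dl_trans m hM hp
  obtain ⟨b, hb0, hb⟩ := hM.inv0
  symm
  refine Nat.card_congr (Equiv.ofBijective (fun k => ⟨c * t m 0 (((k : Fˣ) : F) * b) * c⁻¹,
    ?_, ?_, ?_, ?_⟩) ⟨?_, ?_⟩)
  · exact M.mul_mem (M.mul_mem hc ((E0_iff m hM hb hb0 _).mpr (Or.inr ⟨k, k.2, rfl⟩)))
      (M.inv_mem hc)
  · intro h
    apply t0_ne m (mul_ne_zero (Units.ne_zero (k : Fˣ)) hb0)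
    rw [show t m 0 (((k : Fˣ) : F) * b) = c⁻¹ * (c * t m 0 (((k : Fˣ) : F) * b) * c⁻¹) * c by
      group, h]; group
  · rw [show c * t m 0 (((k : Fˣ) : F) * b) * c⁻¹ * (c * t m 0 (((k : Fˣ) : F) * b) * c⁻¹) =
      c * (t m 0 (((k : Fˣ) : F) * b) * t m 0 (((k : Fˣ) : F) * b)) * c⁻¹ by group, t0_sq]; group
  · rw [mul_smul, mul_smul, inv_smul_smul, t_oinf]
  · intro k k' h
    have h1 : c * t m 0 (((k : Fˣ) : F) * b) * c⁻¹ = c * t m 0 (((k' : Fˣ) : F) * b) * c⁻¹ :=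
      congrArg Subtype.val h
    have h2 := (t_inj m (mul_left_cancel (mul_right_cancel h1))).2
    exact Subtype.ext (Units.ext (mul_right_cancel₀ hb0 h2))
  · rintro ⟨u, hu, hu1, hu2, hu3⟩
    have h1 : c⁻¹ * u * c ∈ BB F m := by
      rw [mem_BB, mul_smul, mul_smul, hu3, inv_smul_smul]
    obtain ⟨e, he⟩ := sq_eq_one_of_BB m h1 (by
      rw [show c⁻¹ * u * c * (c⁻¹ * u * c) = c⁻¹ * (u * u) * c by group, hu2]; group)
    have he0 : e ≠ 0 := by
      rintro rfl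
      rw [t_zero] at he
      apply hu1
      rw [show u = c * (c⁻¹ * u * c) * c⁻¹ by group, he]; group
    have heM : e ∈ E0 m M := by
      rw [mem_E0, ← he]
      exact M.mul_mem (M.mul_mem (M.inv_mem hc) hu) hc
    have h2 := (E0_iff m hM hb hb0 (e / b)).mp (by rw [div_mul_cancel₀ _ hb0]; exact heM)
    rcases h2 with h2 | ⟨k, hk, h2⟩
    · exact absurd h2 (div_ne_zero he0 hb0)
    · refine ⟨⟨k, hk⟩, Subtype.ext ?_⟩
      show c * t m 0 ((k : F) * b) * c⁻¹ = u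
      rw [h2, div_mul_cancel₀ _ hb0, ← he]; group

theorem card_swap_le {M : Subgroup (Sg F m)} {p : Om F m} (hp : p ≠ oinf F m) {v : Sg F m}
    (hv : v ∈ M) (hv2 : v * v = 1) (hvp : v • oinf F m = p) :
    ∃ f : {u : Sg F m // u ∈ M ∧ u * u = 1 ∧ u • oinf F m = p} → K0 m M, Function.Injective f ∧
      ∀ u, v * u.1 ∈ M ∧ (v * u.1) • oinf F m = oinf F m ∧ (v * u.1) • p = p ∧
        ∃ a b : F, v * u.1 = t m a b * dd m (f u) := by
  have hswap : ∀ u : Sg F m, u * u = 1 → u • oinf F m = p → u • p = oinf F m := by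
    intro u hu2 hup
    rw [← hup, ← mul_smul, hu2, one_smul]
  have h1 : ∀ u : {u : Sg F m // u ∈ M ∧ u * u = 1 ∧ u • oinf F m = p},
      (v * u.1) • oinf F m = oinf F m := by
    intro u
    rw [mul_smul, u.2.2.2, hswap v hv2 hvp]
  have h2 : ∀ u : {u : Sg F m // u ∈ M ∧ u * u = 1 ∧ u • oinf F m = p}, (v * u.1) • p = p := by
    intro u
    rw [mul_smul, hswap u.1 u.2.2.1 u.2.2.2, hvp]
  have h3 : ∀ u : {u : Sg F m // u ∈ M ∧ u * u = 1 ∧ u • oinf F m = p}, ∃ k ∈ K0 m M,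
      ∃ a b : F, v * u.1 = t m a b * dd m k := by
    intro u
    obtain ⟨a, b, k, hk⟩ := exists_td m (h1 u)
    exact ⟨k, (mem_K0 m).mpr ⟨a, b, by rw [← hk]; exact M.mul_mem hv u.2.1⟩, a, b, hk⟩
  choose f hf hf2 using h3
  refine ⟨fun u => ⟨f u, hf u⟩, ?_, fun u => ⟨M.mul_mem hv u.2.1, h1 u, h2 u, hf2 u⟩⟩
  intro u u' h
  have h4 : f u = f u' := congrArg Subtype.val h
  obtain ⟨a, b, hab⟩ := hf2 u
  obtain ⟨a', b', hab'⟩ := hf2 u'
  have h5 : (v * u.1) * (v * u'.1)⁻¹ ∈ UU F m := by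
    rw [hab, hab', h4, show t m a b * dd m (f u') * (t m a' b' * dd m (f u'))⁻¹ =
      t m a b * (t m a' b')⁻¹ by group]
    exact (UU F m).mul_mem (t_mem_UU m _ _) ((UU F m).inv_mem (t_mem_UU m _ _))
  have h6 : ((v * u.1) * (v * u'.1)⁻¹) • p = p := by
    rw [mul_smul, inv_smul_eq_iff.mpr (h2 u').symm, h2]
  obtain ⟨c, d, hcd⟩ := h5
  by_cases h7 : t m c d = 1
  · have h8 : v * u.1 = v * u'.1 := by
      rw [← mul_inv_eq_one, hcd, h7]
    exact Subtype.ext (mul_left_cancel h8)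
  · rw [hcd] at h6
    exact absurd (fix_t m h7 h6) hp

/-- the key counting result: every point of `Dl` other than infinity is swapped with infinity by
exactly `|K0|` involutions -/
theorem card_swap {M : Subgroup (Sg F m)} (hM : Cfg m M) {p : Om F m} (hp : p ∈ Dl m M)
    (hpi : p ≠ oinf F m) :
    Nat.card {u : Sg F m // u ∈ M ∧ u * u = 1 ∧ u • oinf F m = p} = Nat.card (K0 m M) := by
  classical
  have : Finite (Om F m) := Finite.of_equiv _ (omEquiv (F := F) m)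
  have : Fintype (Om F m) := Fintype.ofFinite _
  have : Fintype (Sg F m) := Fintype.ofFinite _
  let D : Finset (Om F m) := Finset.univ.filter (fun q => q ∈ Dl m M ∧ q ≠ oinf F m)
  let J : Finset (Sg F m) := Finset.univ.filter
    (fun u => u ∈ M ∧ u ≠ 1 ∧ u * u = 1 ∧ u • oinf F m ≠ oinf F m)
  let n : Om F m → ℕ := fun q => Nat.card {u : Sg F m // u ∈ M ∧ u * u = 1 ∧ u • oinf F m = q}
  -- first count
  have hJ1 : J.card = ∑ q ∈ D, n q := by
    rw [Finset.card_eq_sum_card_fiberwise (f := fun u => u • oinf F m) (t := D)]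
    · apply Finset.sum_congr rfl
      intro q hq
      have hq' : q ≠ oinf F m := (Finset.mem_filter.mp hq).2.2
      show _ = Nat.card _
      rw [Nat.card_eq_fintype_card, Fintype.card_subtype]
      congr 1
      ext u
      simp only [J, Finset.mem_filter, Finset.mem_univ, true_and]
      constructor
      · rintro ⟨⟨h1, h2, h3, h4⟩, h5⟩
        exact ⟨h1, h3, h5⟩
      · rintro ⟨h1, h3, h5⟩
        refine ⟨⟨h1, ?_, h3, by rw [h5]; exact hq'⟩, h5⟩
        rintro rfl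
        rw [one_smul] at h5
        exact hq' h5.symm
    · intro u hu
      have hu' := (Finset.mem_filter.mp hu).2
      apply Finset.mem_coe.mpr
      apply Finset.mem_filter.mpr
      exact ⟨Finset.mem_univ _, smul_mem_Dl m hu'.1 (oinf_mem_Dl m hM), hu'.2.2.2⟩
  -- second count
  have hJ2 : J.card = ∑ q ∈ D, Nat.card (K0 m M) := by
    have hfix : ∀ u : Sg F m, ∃ q : Om F m, u ∈ J → u • q = q := by
      intro u
      by_cases hu : u ∈ J
      · have hu' := (Finset.mem_filter.mp hu).2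
        obtain ⟨q, hq, -⟩ := invol_fix m hu'.2.1 hu'.2.2.1
        exact ⟨q, fun _ => hq⟩
      · exact ⟨oinf F m, fun h => absurd h hu⟩
    choose fx hfx using hfix
    rw [Finset.card_eq_sum_card_fiberwise (f := fx) (t := D)]
    · apply Finset.sum_congr rfl
      intro q hq
      have hq' := (Finset.mem_filter.mp hq).2
      rw [← card_invol_fix m hM hq'.1, Nat.card_eq_fintype_card, Fintype.card_subtype]
      congr 1
      ext u
      constructor
      · intro h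
        obtain ⟨h1, h2⟩ := Finset.mem_filter.mp h
        have h3 := (Finset.mem_filter.mp h1).2
        have h4 := hfx u h1
        rw [h2] at h4
        exact Finset.mem_filter.mpr ⟨Finset.mem_univ _, h3.1, h3.2.1, h3.2.2.1, h4⟩
      · intro h
        have h1 := (Finset.mem_filter.mp h).2
        obtain ⟨q0, -, hq02⟩ := invol_fix m h1.2.1 h1.2.2.1
        have h2 : u ∈ J := by
          apply Finset.mem_filter.mpr
          refine ⟨Finset.mem_univ _, h1.1, h1.2.1, h1.2.2.1, ?_⟩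
          intro h5
          exact hq'.2 ((hq02 q h1.2.2.2).trans (hq02 _ h5).symm)
        apply Finset.mem_filter.mpr
        exact ⟨h2, (hq02 _ (hfx u h2)).trans (hq02 q h1.2.2.2).symm⟩
    · intro u hu
      have hu' := (Finset.mem_filter.mp hu).2
      have h4 := hfx u hu
      apply Finset.mem_coe.mpr
      apply Finset.mem_filter.mpr
      refine ⟨Finset.mem_univ _, ⟨u, hu'.1, hu'.2.1, hu'.2.2.1, h4⟩, ?_⟩
      intro h5
      rw [h5] at h4
      exact hu'.2.2.2 h4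
  have hle : ∀ q ∈ D, n q ≤ Nat.card (K0 m M) := by
    intro q hq
    have hq' := (Finset.mem_filter.mp hq).2
    by_cases he : Nonempty {u : Sg F m // u ∈ M ∧ u * u = 1 ∧ u • oinf F m = q}
    · obtain ⟨v, hv, hv2, hvp⟩ := he
      obtain ⟨f, hf, -⟩ := card_swap_le m (M := M) hq'.2 hv hv2 hvp
      exact Nat.card_le_card_of_injective f hf
    · rw [not_nonempty_iff] at he
      show Nat.card _ ≤ _
      rw [Nat.card_of_isEmpty]
      exact Nat.zero_le _
  have heq : ∑ q ∈ D, n q = ∑ q ∈ D, Nat.card (K0 m M) := hJ1.symm.trans hJ2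
  have h1 := (Finset.sum_eq_sum_iff_of_le hle).mp heq
  exact h1 p (Finset.mem_filter.mpr ⟨Finset.mem_univ _, hp, hpi⟩)

/-- torus elements fixing two points of `Dl` -/
theorem exists_two_fix {M : Subgroup (Sg F m)} (hM : Cfg m M) {p : Om F m} (hp : p ∈ Dl m M)
    (hpi : p ≠ oinf F m) : (∃ v ∈ M, v * v = 1 ∧ v • oinf F m = p) ∧ ∀ k ∈ K0 m M,
      ∃ g ∈ M, g • oinf F m = oinf F m ∧ g • p = p ∧ ∃ a b : F, g = t m a b * dd m k := by
  have h1 := card_swap m hM hp hpi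
  have h2 : 0 < Nat.card (K0 m M) := Nat.card_pos
  rw [← h1] at h2
  have hne := (Nat.card_pos_iff.mp h2).1
  obtain ⟨v, hv, hv2, hvp⟩ := hne
  refine ⟨⟨v, hv, hv2, hvp⟩, ?_⟩
  obtain ⟨f, hf, hf2⟩ := card_swap_le m (M := M) hpi hv hv2 hvp
  have hbij : Function.Bijective f := by
    have : Finite (Sg F m) := inferInstance
    rw [Nat.bijective_iff_injective_and_card]
    exact ⟨hf, h1⟩
  intro k hk
  obtain ⟨u, hu⟩ := hbij.2 ⟨k, hk⟩
  obtain ⟨h3, h4, h5, h6⟩ := hf2 u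
  rw [hu] at h6
  exact ⟨_, h3, h4, h5, h6⟩

/-- transitivity of the unipotent part -/
theorem Q_trans {M : Subgroup (Sg F m)} (hM : Cfg m M) (hk : ∃ k ∈ K0 m M, k ≠ 1)
    {p p' : Om F m} (hp : p ∈ Dl m M) (hpi : p ≠ oinf F m) (hp' : p' ∈ Dl m M)
    (hpi' : p' ≠ oinf F m) : ∃ u ∈ M, u ∈ UU F m ∧ u • p = p' := by
  obtain ⟨k, hk, hk1⟩ := hk
  obtain ⟨g, hg, hg1, hg2, a, b, hab⟩ := (exists_two_fix m hM hp hpi).2 k hk
  obtain ⟨g', hg', hg1', hg2', a', b', hab'⟩ := (exists_two_fix m hM hp' hpi').2 k hk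
  have hg'1 : g' ≠ 1 := by
    intro h
    rw [h, ← t_zero m] at hab'
    have h0 : t m (0 : F) 0 = t m 0 0 * dd m 1 := by rw [dd_one, mul_one]
    rw [h0] at hab'
    exact hk1 (td_inj m hab').2.2.symm
  -- the commutator map on Q
  let Q : Subgroup (Sg F m) := M ⊓ UU F m
  have hmem : ∀ u ∈ Q, u * g * u⁻¹ * g⁻¹ ∈ Q := by
    intro u hu
    refine Subgroup.mem_inf.mpr ⟨?_, ?_⟩
    · exact M.mul_mem (M.mul_mem (M.mul_mem hu.1 hg) (M.inv_mem hu.1)) (M.inv_mem hg)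
    · have h1 : g * u⁻¹ * g⁻¹ ∈ UU F m := BB_normal_UU m hg1 ((UU F m).inv_mem hu.2)
      rw [show u * g * u⁻¹ * g⁻¹ = u * (g * u⁻¹ * g⁻¹) by group]
      exact (UU F m).mul_mem hu.2 h1
  let φ : Q → Q := fun u => ⟨u.1 * g * u.1⁻¹ * g⁻¹, hmem u.1 u.2⟩
  have hφ : Function.Injective φ := by
    intro u u' h
    have h1 : u.1 * g * u.1⁻¹ * g⁻¹ = u'.1 * g * u'.1⁻¹ * g⁻¹ := congrArg Subtype.val h
    have h2 : u.1 * g * u.1⁻¹ = u'.1 * g * u'.1⁻¹ := mul_right_cancel h1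
    -- u'⁻¹ u commutes with g
    have h3 : g * (u'.1⁻¹ * u.1) = (u'.1⁻¹ * u.1) * g := by
      calc g * (u'.1⁻¹ * u.1) = u'.1⁻¹ * (u'.1 * g * u'.1⁻¹) * u.1 := by group
        _ = u'.1⁻¹ * (u.1 * g * u.1⁻¹) * u.1 := by rw [h2]
        _ = _ := by group
    obtain ⟨c, d, hcd⟩ := (UU F m).mul_mem ((UU F m).inv_mem u'.2.2) u.2.2
    by_cases h4 : t m c d = 1
    · have h5 : u'.1⁻¹ * u.1 = 1 := by rw [hcd, h4]
      exact (Subtype.ext (inv_mul_eq_one.mp h5)).symm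
    · exfalso
      rw [hcd] at h3
      obtain ⟨e, f, hef⟩ := cent_t m h4 h3
      rw [hab] at hef
      have h0 : t m e f = t m e f * dd m 1 := by rw [dd_one, mul_one]
      rw [h0] at hef
      exact hk1 (td_inj m hef).2.2
  have hsurj := Finite.injective_iff_surjective.mp hφ
  have hgg : g' * g⁻¹ ∈ Q := by
    refine Subgroup.mem_inf.mpr ⟨M.mul_mem hg' (M.inv_mem hg), ?_⟩
    rw [hab, hab', show t m a' b' * dd m k * (t m a b * dd m k)⁻¹ =
      t m a' b' * (t m a b)⁻¹ by group]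
    exact (UU F m).mul_mem (t_mem_UU m _ _) ((UU F m).inv_mem (t_mem_UU m _ _))
  obtain ⟨u, hu⟩ := hsurj ⟨g' * g⁻¹, hgg⟩
  have h1 : u.1 * g * u.1⁻¹ * g⁻¹ = g' * g⁻¹ := congrArg Subtype.val hu
  have h2 : u.1 * g * u.1⁻¹ = g' := mul_right_cancel h1
  refine ⟨u.1, u.2.1, u.2.2, ?_⟩
  by_contra hne
  apply hg'1
  have h3 : g' • (u.1 • p) = u.1 • p := by
    rw [← h2, mul_smul, mul_smul, inv_smul_smul, hg2]
  have h4 : u.1 • p ≠ oinf F m := by
    intro h5
    obtain ⟨c, d, hcd⟩ := u.2.2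
    rw [hcd] at h5
    apply hpi
    have : t m c d • p = t m c d • oinf F m := by rw [h5, t_oinf]
    exact MulAction.injective _ this
  exact three_points m hpi'.symm (Ne.symm hne) h4.symm hg1' hg2' h3

end

end Cfsg.Agent.H15.Suz
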