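import Mathlib
import Cfsg.Agent.H15.SzSub3

/-! # Suzuki groups: subgroups, part 4: normal position -/

set_option autoImplicit false

open scoped Pointwise commutatorElement

namespace Cfsg.Agent.H15.Suz

open Cfsg.Agent.H15.IrrLin

section

variable {F : Type*} [Field F] [Fintype F] (m : ℕ) [hS : SzF F m]

theorem three_not_dvd : ¬ 3 ∣ Nat.card (Sg F m) := by
  rw [card_Sg, hS.card]
  have h1 : 2 ^ (2 * m + 1) % 3 = 2 := by
    rw [pow_succ, pow_mul, Nat.mul_mod, Nat.pow_mod]; norm_num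
  have h2 : (2 ^ (2 * m + 1)) ^ 2 % 3 = 1 := by rw [Nat.pow_mod, h1]
  generalize 2 ^ (2 * m + 1) = q at *
  generalize hr : q ^ 2 = r at *
  rw [Nat.prime_three.dvd_mul, Nat.prime_three.dvd_mul]
  rintro ((h | h) | h) <;> omega

theorem card_E0_pow (M : Subgroup (Sg F m)) : ∃ s, Nat.card (E0 m M) = 2 ^ s := by
  have hc := charTwo F m
  have h1 : Nat.card (E0 m M) ∣ Nat.card F := AddSubgroup.card_addSubgroup_dvd_card _
  rw [Nat.card_eq_fintype_card (α := F), hS.card, Nat.dvd_prime_pow Nat.prime_two] at h1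
  obtain ⟨s, -, hs⟩ := h1
  exact ⟨s, hs⟩

theorem E0_dvd {M : Subgroup (Sg F m)} (hM : Cfg m M) {s : ℕ} (hs : Nat.card (E0 m M) = 2 ^ s) :
    s ∣ 2 * m + 1 := by
  have h1 := Module.natCard_eq_pow_finrank (K := FS m hM) (V := F)
  rw [card_FS, hs, Nat.card_eq_fintype_card, hS.card, ← pow_mul] at h1
  exact ⟨_, Nat.pow_right_injective le_rfl h1⟩

theorem three_dvd_E0 {M : Subgroup (Sg F m)} (hM : Cfg m M) : 3 ∣ Nat.card (E0 m M) + 1 := by
  obtain ⟨s, hs⟩ := card_E0_pow m M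
  have h1 := E0_dvd m hM hs
  have h2 : Odd s := by
    rw [← Nat.not_even_iff_odd]
    intro h
    have h3 : Even (2 * m + 1) := by
      rw [even_iff_two_dvd] at h ⊢; exact h.trans h1
    rw [Nat.even_add_one] at h3
    exact h3 (even_two_mul m)
  obtain ⟨j, rfl⟩ := h2
  rw [hs]
  have h3 : 2 ^ (2 * j + 1) % 3 = 2 := by
    rw [pow_succ, pow_mul, Nat.mul_mod, Nat.pow_mod]; norm_num
  generalize 2 ^ (2 * j + 1) = q at *
  omega

theorem Dl_card_dvd {M : Subgroup (Sg F m)} (hM : Cfg m M) :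
    Nat.card (Dl m M) ∣ Nat.card (Sg F m) := by
  have h1 : Dl m M = MulAction.orbit M (oinf F m) := by
    ext p
    constructor
    · intro hp
      obtain ⟨c, hc, hc2⟩ := Dl_trans m hM hp
      exact ⟨⟨c, hc⟩, hc2⟩
    · rintro ⟨c, rfl⟩
      exact smul_mem_Dl m c.2 (oinf_mem_Dl m hM)
  rw [h1]
  have h2 : Nat.card (MulAction.orbit M (oinf F m)) ∣ Nat.card M := by
    rw [Nat.card_congr (MulAction.orbitEquivQuotientStabilizer M (oinf F m))]
    exact Subgroup.card_quotient_dvd_card _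
  exact h2.trans (Subgroup.card_subgroup_dvd_card M)

theorem A0_ne_bot {M : Subgroup (Sg F m)} (hM : Cfg m M) (hk : ∃ k ∈ K0 m M, k ≠ 1) :
    ∃ a ∈ A0 m M, a ≠ 0 := by
  by_contra hc
  push Not at hc
  obtain ⟨v, hv, hv1, hv2, hv3⟩ := hM.inv1
  have hp0 : v • oinf F m ∈ Dl m M := smul_mem_Dl m hv (oinf_mem_Dl m hM)
  have hcard : Nat.card (Dl m M) = Nat.card (E0 m M) + 1 := by
    have h1 : Nat.card (Dl m M) = Nat.card (Option (E0 m M)) := by
      refine (Nat.card_congr (Equiv.ofBijective (fun x : Option (E0 m M) =>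
        x.elim (⟨oinf F m, oinf_mem_Dl m hM⟩ : Dl m M)
          (fun e => ⟨t m 0 (e : F) • (v • oinf F m), smul_mem_Dl m e.2 hp0⟩)) ⟨?_, ?_⟩)).symm
      · have key : ∀ e : E0 m M, t m 0 (e : F) • (v • oinf F m) ≠ oinf F m := by
          intro e h
          apply hv3
          have h1 : t m 0 (e : F) • (v • oinf F m) = t m 0 (e : F) • oinf F m := by
            rw [h, t_oinf]
          exact MulAction.injective _ h1
        rintro (_ | a) (_ | b) h
        · rfl
        · exact absurd (congrArg Subtype.val h).symm (key b)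
        · exact absurd (congrArg Subtype.val h) (key a)
        · have h1 : t m 0 (a : F) • (v • oinf F m) = t m 0 (b : F) • (v • oinf F m) :=
            congrArg Subtype.val h
          have h2 : (t m 0 (b : F))⁻¹ * t m 0 (a : F) = 1 := by
            by_contra hne
            have h3 : ((t m 0 (b : F))⁻¹ * t m 0 (a : F)) • (v • oinf F m) = v • oinf F m := by
              rw [mul_smul, h1, inv_smul_smul]
            rw [t_inv, t_mul] at h3 hne
            exact hv3 (fix_t m hne h3)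
          have h4 := (t_inj m (inv_mul_eq_one.mp h2)).2
          congr 1
          exact Subtype.ext h4.symm
      · rintro ⟨p, hp⟩
        by_cases hpi : p = oinf F m
        · exact ⟨none, Subtype.ext hpi.symm⟩
        · obtain ⟨u, hu, ⟨a, b, hab⟩, hup⟩ := Q_trans m hM hk hp0 hv3 hp hpi
          have ha : a = 0 := by
            by_contra ha
            exact ha (hc a ⟨b, by rw [← hab]; exact hu⟩)
          subst ha
          refine ⟨some ⟨b, by rw [mem_E0, ← hab]; exact hu⟩, Subtype.ext ?_⟩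
          show t m 0 b • (v • oinf F m) = p
          rw [← hab, hup]
    rw [h1, Finite.card_option]
  have h3 := three_dvd_E0 m hM
  rw [← hcard] at h3
  exact three_not_dvd (F := F) m (h3.trans (Dl_card_dvd m hM))

/-- normal position -/
structure Nrm (M : Subgroup (Sg F m)) : Prop extends Cfg m M where
  oneA : (1 : F) ∈ A0 m M
  swap : ∃ j : Fˣ, dd m j * w F m ∈ M
  nt : ∃ k ∈ K0 m M, k ≠ 1

theorem swap_form {v : Sg F m} (h1 : v • oinf F m = op m (0 : F) 0) (hv2 : v * v = 1) :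
    ∃ j : Fˣ, v = dd m j * w F m := by
  have h2 : (v * w F m) • oinf F m = oinf F m := by
    rw [mul_smul, w_oinf, ← h1, ← mul_smul, hv2, one_smul]
  have h3 : (v * w F m) • op m (0 : F) 0 = op m (0 : F) 0 := by
    rw [mul_smul, w_op0, h1]
  obtain ⟨j, hj⟩ := exists_dd m h2 h3
  exact ⟨j, by rw [← hj, mul_assoc, w_sq, mul_one]⟩

theorem exists_nrm {M : Subgroup (Sg F m)} (hM : Cfg m M) (hk : ∃ k ∈ K0 m M, k ≠ 1) :
    ∃ x : Sg F m, Nrm m (M.map (MulAut.conj x).toMonoidHom) := by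
  obtain ⟨a0, ⟨b0, hab0⟩, ha0⟩ := A0_ne_bot m hM hk
  obtain ⟨v, hv, hv1, hv2, hv3⟩ := hM.inv1
  obtain ⟨c, d, hcd⟩ : ∃ c d : F, v • oinf F m = op m c d := by
    rcases Om_cases m (v • oinf F m) with h | h
    · exact absurd h hv3
    · exact h
  obtain ⟨b, hb0, hb⟩ := hM.inv0
  obtain ⟨k, hkM, hk1⟩ := hk
  obtain ⟨e, f, hef⟩ := (mem_K0 m).mp hkM
  let l : Fˣ := (Units.mk0 a0 ha0)⁻¹
  let x : Sg F m := dd m l * (t m c d)⁻¹
  have hxB : x • oinf F m = oinf F m := by
    show (dd m l * (t m c d)⁻¹) • oinf F m = _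
    rw [mul_smul, t_inv, t_oinf, dd_oinf]
  have hmem : ∀ g, g ∈ M → x * g * x⁻¹ ∈ M.map (MulAut.conj x).toMonoidHom := by
    intro g hg
    exact ⟨g, hg, rfl⟩
  have hconj : ∀ a b : F, ∃ b', x * t m a b * x⁻¹ = t m (l * a) b' := by
    intro a b
    show ∃ b', (dd m l * (t m c d)⁻¹) * t m a b * (dd m l * (t m c d)⁻¹)⁻¹ = t m (l * a) b'
    rw [show (dd m l * (t m c d)⁻¹) * t m a b * (dd m l * (t m c d)⁻¹)⁻¹ =
      dd m l * ((t m c d)⁻¹ * t m a b * (t m c d)⁻¹⁻¹) * (dd m l)⁻¹ by group, t_inv, t_conj,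
      dd_t_conj]
    exact ⟨_, rfl⟩
  have hv' : (x * v * x⁻¹) • oinf F m = op m (0 : F) 0 := by
    have h1 : x⁻¹ • oinf F m = oinf F m := by rw [inv_smul_eq_iff, hxB]
    rw [mul_smul, mul_smul, h1, hcd]
    show (dd m l * (t m c d)⁻¹) • op m c d = _
    rw [mul_smul, show (t m c d)⁻¹ • op m c d = op m (0 : F) 0 by
      rw [inv_smul_eq_iff, t_op]; simp, dd_op]
    simp
  have hv2' : (x * v * x⁻¹) * (x * v * x⁻¹) = 1 := by
    rw [show (x * v * x⁻¹) * (x * v * x⁻¹) = x * (v * v) * x⁻¹ by group, hv2]; group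
  refine ⟨x, { inv0 := ?_, inv1 := ?_, oneA := ?_, swap := ?_, nt := ?_ }⟩
  · obtain ⟨b', hb'⟩ := hconj 0 b
    rw [mul_zero] at hb'
    refine ⟨b', ?_, by rw [← hb']; exact hmem _ hb⟩
    rintro rfl
    rw [t_zero] at hb'
    apply t0_ne m hb0
    rw [show t m 0 b = x⁻¹ * (x * t m 0 b * x⁻¹) * x by group, hb']; group
  · refine ⟨x * v * x⁻¹, hmem _ hv, ?_, hv2', ?_⟩
    · intro h; apply hv1
      rw [show v = x⁻¹ * (x * v * x⁻¹) * x by group, h]; group
    · rw [hv']; exact op_ne_oinf m _ _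
  · obtain ⟨b', hb'⟩ := hconj a0 b0
    have h1 : (l : F) * a0 = 1 := by
      show (((Units.mk0 a0 ha0)⁻¹ : Fˣ) : F) * a0 = 1
      rw [Units.val_inv_eq_inv_val, Units.val_mk0, inv_mul_cancel₀ ha0]
    rw [h1] at hb'
    exact ⟨b', by rw [← hb']; exact hmem _ hab0⟩
  · obtain ⟨j, hj⟩ := swap_form m hv' hv2'
    exact ⟨j, by rw [← hj]; exact hmem _ hv⟩
  · refine ⟨k, ?_, hk1⟩
    have h1 := hmem _ hef
    have h2 : (x * (t m e f * dd m k) * x⁻¹) • oinf F m = oinf F m := by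
      have h1 : x⁻¹ • oinf F m = oinf F m := by rw [inv_smul_eq_iff, hxB]
      rw [mul_smul, mul_smul, h1, mul_smul (t m e f), dd_oinf, t_oinf, hxB]
    obtain ⟨e', f', k', hk'⟩ := exists_td m h2
    rw [mem_K0]
    refine ⟨e', f', ?_⟩
    have hkk : k' = k := by
      have hx' : x ∈ BB F m := hxB
      have h3 : (t m e f * dd m k) ∈ BB F m := (mem_BB_iff m).mpr ⟨_, _, _, rfl⟩
      have h4 : piB F m (⟨x, hx'⟩ * ⟨_, h3⟩ * (⟨x, hx'⟩)⁻¹) = k' := piB_eq m hk'
      rw [map_mul, map_mul, map_inv, mul_inv_cancel_comm] at h4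
      rw [← h4]
      exact (piB_eq m (g := ⟨_, h3⟩) rfl)
    rw [← hkk, ← hk']
    exact h1

end

end Cfsg.Agent.H15.Suz
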