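import Mathlib
import Cfsg.Agent.H15.SzSub4

/-! # Suzuki groups: subgroups, part 5: subfield subgroups -/

set_option autoImplicit false

open scoped Pointwise commutatorElement

namespace Cfsg.Agent.H15.Suz

open Cfsg.Agent.H15.IrrLin

section emb

variable {K F : Type*} [Field K] [Fintype K] [Field F] [Fintype F] (k m : ℕ) [hK : SzF K k]
  [hS : SzF F m] (f : K →+* F)

include f hK hS in
theorem exp_dvd : 2 * k + 1 ∣ 2 * m + 1 := by
  let := f.toAlgebra
  have h1 := Module.natCard_eq_pow_finrank (K := K) (V := F)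
  rw [Nat.card_eq_fintype_card, Nat.card_eq_fintype_card, hK.card, hS.card, ← pow_mul] at h1
  exact ⟨_, Nat.pow_right_injective le_rfl h1⟩

include hS in
theorem map_th' (x : K) : f (th K k x) = th F m (f x) := by
  rw [th_apply, th_apply, map_pow]
  -- `(f x)^(2^(2k+1)) = f x`
  have h1 : (f x) ^ 2 ^ (2 * k + 1) = f x := by
    rw [← map_pow, ← hK.card, FiniteField.pow_card]
  have h2 : ∀ j : ℕ, (f x) ^ 2 ^ ((2 * k + 1) * j) = f x := by
    intro j
    induction j with
    | zero => simp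
    | succ j ih => rw [Nat.mul_succ, pow_add, pow_mul, ih, h1]
  obtain ⟨n, hn⟩ := exp_dvd k m f
  have hodd : Odd n := by
    rw [← Nat.not_even_iff_odd]
    intro h
    have h3 : Even (2 * m + 1) := by rw [hn]; exact h.mul_left _
    rw [Nat.even_add_one] at h3
    exact h3 (even_two_mul m)
  obtain ⟨j, rfl⟩ := hodd
  have h3 : m + 1 = (2 * k + 1) * j + (k + 1) := by
    have : 2 * (m + 1) = 2 * ((2 * k + 1) * j + (k + 1)) := by
      have h4 : (2 * k + 1) * (2 * j + 1) = 2 * ((2 * k + 1) * j) + (2 * k + 1) := by ring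
      rw [h4] at hn; omega
    omega
  rw [h3, pow_add 2 ((2 * k + 1) * j) (k + 1), pow_mul, h2]

include hS in
theorem map_ta' (x : K) : f (ta K k x) = ta F m (f x) := by
  apply th_inj m
  rw [← map_th' k m f, th_ta, th_ta]

include hS in
theorem map_fo' (x y : K) : f (fo k x y) = fo m (f x) (f y) := by
  rw [fo, fo, map_add, map_add, map_mul, map_mul, map_pow, map_th' k m, map_th' k m]

theorem emb_T (a b : K) :
    Matrix.SpecialLinearGroup.map f (t k a b).1 = (t m (f a) (f b)).1 := by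
  apply Subtype.ext
  show ((t k a b).1 : Matrix (Fin 4) (Fin 4) K).map f =
    ((t m (f a) (f b)).1 : Matrix (Fin 4) (Fin 4) F)
  rw [t_mat, t_mat]
  ext i j
  fin_cases i <;> fin_cases j <;> simp [map_fo' k m, map_th' k m]

theorem emb_D (u : Kˣ) :
    Matrix.SpecialLinearGroup.map f (dd k u).1 = (dd m (Units.map f.toMonoidHom u)).1 := by
  apply Subtype.ext
  show ((dd k u).1 : Matrix (Fin 4) (Fin 4) K).map f =
    ((dd m (Units.map f.toMonoidHom u)).1 : Matrix (Fin 4) (Fin 4) F)
  rw [dd_mat, dd_mat]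
  ext i j
  fin_cases i <;> fin_cases j <;> simp [map_ta' k m]

theorem emb_W : Matrix.SpecialLinearGroup.map f (w K k).1 = (w F m).1 := by
  apply Subtype.ext
  show ((w K k).1 : Matrix (Fin 4) (Fin 4) K).map f = ((w F m).1 : Matrix (Fin 4) (Fin 4) F)
  rw [w_mat, w_mat]
  ext i j
  fin_cases i <;> fin_cases j <;> simp

theorem emb_mem (g : Sg K k) : Matrix.SpecialLinearGroup.map f g.1 ∈ Cfsg.Sz F m := by
  refine Sg_induction k (P := fun g => Matrix.SpecialLinearGroup.map f g.1 ∈
    Cfsg.Sz F m) ?_ ?_ ?_ ?_ g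
  · intro a b; rw [emb_T k m]; exact (t m _ _).2
  · intro u; rw [emb_D k m]; exact (dd m _).2
  · rw [emb_W k m]; exact (w F m).2
  · intro x y hx hy
    have : (x * y).1 = x.1 * y.1 := rfl
    rw [this, map_mul]
    exact mul_mem hx hy

/-- the embedding of a subfield Suzuki group -/
noncomputable def emb : Sg K k →* Sg F m where
  toFun g := ⟨Matrix.SpecialLinearGroup.map f g.1, emb_mem k m f g⟩
  map_one' := Subtype.ext (map_one _)
  map_mul' := fun x y => Subtype.ext (map_mul _ x.1 y.1)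

theorem emb_t (a b : K) : emb k m f (t k a b) = t m (f a) (f b) := Subtype.ext (emb_T k m f a b)

theorem emb_dd (u : Kˣ) : emb k m f (dd k u) = dd m (Units.map f.toMonoidHom u) :=
  Subtype.ext (emb_D k m f u)

theorem emb_w : emb k m f (w K k) = w F m := Subtype.ext (emb_W k m f)

theorem emb_inj : Function.Injective (emb k m f) := by
  intro a b h
  apply Subtype.ext
  apply Subtype.ext
  have h1 : ((a.1 : Matrix (Fin 4) (Fin 4) K)).map f = ((b.1 : Matrix (Fin 4) (Fin 4) K)).map f :=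
    congrArg (fun x : Sg F m => (x.1 : Matrix (Fin 4) (Fin 4) F)) h
  ext i j
  exact f.injective (congrFun (congrFun h1 i) j)

end emb

section

variable {F : Type*} [Field F] [Fintype F] (m : ℕ) [hS : SzF F m]

theorem Nrm.e0 {M : Subgroup (Sg F m)} (hM : Nrm m M) : (1 : F) ∈ E0 m M := by
  have h1 := A0_norm m hM.oneA
  rwa [map_one, mul_one] at h1

theorem Nrm.fs_iff {M : Subgroup (Sg F m)} (hM : Nrm m M) {x : F} :
    x ∈ FS m hM.toCfg ↔ x ∈ E0 m M := by
  rw [mem_FS_iff m hM.toCfg hM.e0 one_ne_zero, mul_one]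

theorem Nrm.a0_iff {M : Subgroup (Sg F m)} (hM : Nrm m M) {x : F} :
    x ∈ A0 m M ↔ x ∈ FS m hM.toCfg := by
  have h1 : ∀ x, x ∈ FS m hM.toCfg → x ∈ A0 m M := by
    rintro x (rfl | ⟨k, hk, rfl⟩)
    · exact (A0 m M).zero_mem
    · have := A0_smul m hk hM.oneA
      rwa [mul_one] at this
  refine ⟨?_, h1 x⟩
  have h2 : Nat.card (A0 m M) ≤ Nat.card (E0 m M) := by
    apply Nat.card_le_card_of_injective (fun a : A0 m M => (⟨(a : F) * th F m a, A0_norm m a.2⟩ :
      E0 m M))
    intro a b h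
    exact Subtype.ext (norm_inj m (congrArg Subtype.val h))
  rw [← card_FS m hM.toCfg] at h2
  have h3 : ((FS m hM.toCfg : Subfield F) : Set F) ⊆ ((A0 m M : AddSubgroup F) : Set F) := h1
  have h4 : ((FS m hM.toCfg : Subfield F) : Set F) = ((A0 m M : AddSubgroup F) : Set F) := by
    apply Set.eq_of_subset_of_ncard_le h3
    exact h2
  intro hx
  have h5 : x ∈ ((A0 m M : AddSubgroup F) : Set F) := hx
  rw [← h4] at h5
  exact h5

theorem Nrm.zero_mem_Dl {M : Subgroup (Sg F m)} (hM : Nrm m M) : op m (0 : F) 0 ∈ Dl m M := by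
  obtain ⟨j, hj⟩ := hM.swap
  have h1 := smul_mem_Dl m hj (oinf_mem_Dl m hM.toCfg)
  rw [mul_smul, w_oinf, dd_op] at h1
  simpa using h1

theorem Nrm.op_iff {M : Subgroup (Sg F m)} (hM : Nrm m M) {x y : F} :
    op m x y ∈ Dl m M ↔ t m x y ∈ M := by
  constructor
  · intro h
    obtain ⟨u, hu, ⟨a, b, hab⟩, hup⟩ := Q_trans m hM.toCfg hM.nt hM.zero_mem_Dl
      (op_ne_oinf m _ _) h (op_ne_oinf m _ _)
    rw [hab, t_op] at hup
    obtain ⟨h1, h2⟩ := op_inj m hup
    rw [zero_add] at h1
    rw [zero_add, mul_zero, add_zero] at h2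
    rw [← h1, ← h2, ← hab]; exact hu
  · intro h
    have h1 := smul_mem_Dl m h hM.zero_mem_Dl
    rw [t_op] at h1
    simpa using h1

theorem Nrm.dd_mem {M : Subgroup (Sg F m)} (hM : Nrm m M) {k : Fˣ} (hk : k ∈ K0 m M) :
    dd m k ∈ M := by
  obtain ⟨g, hg, -, hg2, a, b, hab⟩ := (exists_two_fix m hM.toCfg hM.zero_mem_Dl
    (op_ne_oinf m _ _)).2 k hk
  rw [hab, mul_smul, dd_op, t_op] at hg2
  obtain ⟨h1, h2⟩ := op_inj m hg2
  simp only [mul_zero, zero_add, add_zero] at h1 h2
  rw [h1, h2, t_zero, one_mul] at hab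
  rw [← hab]; exact hg

theorem fo_zero_left (b : F) : fo m 0 b = th F m b := by rw [fo]; simp

theorem Nrm.w_mem {M : Subgroup (Sg F m)} (hM : Nrm m M) : w F m ∈ M := by
  obtain ⟨j, hj⟩ := hM.swap
  have h1 : op m (0 : F) 1 ∈ Dl m M := hM.op_iff.mpr hM.e0
  have h2 := smul_mem_Dl m hj h1
  rw [mul_smul, w_op m (by rw [fo_zero_left, map_one]; exact one_ne_zero), fo_zero_left, map_one,
    dd_op] at h2
  simp only [div_one, mul_one, mul_zero] at h2
  have h3 : (j : F) ∈ A0 m M := ⟨0, hM.op_iff.mp h2⟩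
  rw [hM.a0_iff] at h3
  rcases h3 with h3 | ⟨k, hk, h3⟩
  · exact absurd h3 j.ne_zero
  · have h4 : k = j := Units.ext h3
    rw [h4] at hk
    have h5 := M.mul_mem (M.inv_mem (hM.dd_mem m hk)) hj
    rwa [inv_mul_cancel_left] at h5

theorem th_fix_unit {z : F} (hz : z ≠ 0) (h : th F m z = z) : z = 1 := by
  have h1 := th_th m z
  rw [h, h] at h1
  have h2 : z * 1 = z * z := by rw [mul_one, ← sq]; exact h1
  exact (mul_left_cancel₀ hz h2).symm

theorem Nrm.t0_mem {M : Subgroup (Sg F m)} (hM : Nrm m M) {a : F} (ha : a ∈ FS m hM.toCfg) :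
    t m a 0 ∈ M := by
  rcases ha with rfl | ⟨k, hk, rfl⟩
  · rw [t_zero]; exact M.one_mem
  · -- b / θ b = k
    obtain ⟨l, hl, hlk⟩ : ∃ l ∈ K0 m M, (l : F) / th F m l = k := by
      let f : K0 m M → K0 m M := fun l =>
        ⟨(l : Fˣ) * ((l : Fˣ) ^ 2 ^ (m + 1))⁻¹, (K0 m M).mul_mem l.2
          ((K0 m M).inv_mem ((K0 m M).pow_mem l.2 _))⟩
      have hf : ∀ l : K0 m M, ((f l : Fˣ) : F) = ((l : Fˣ) : F) / th F m ((l : Fˣ) : F) := by
        intro l
        show (((l : Fˣ) * ((l : Fˣ) ^ 2 ^ (m + 1))⁻¹ : Fˣ) : F) = _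
        rw [Units.val_mul, Units.val_inv_eq_inv_val, Units.val_pow_eq_pow_val, th_apply,
          div_eq_mul_inv]
      have hinj : Function.Injective f := by
        intro x y hxy
        have h1 : ((f x : Fˣ) : F) = ((f y : Fˣ) : F) := by rw [hxy]
        rw [hf, hf] at h1
        have hx0 : ((x : Fˣ) : F) ≠ 0 := Units.ne_zero _
        have hy0 : ((y : Fˣ) : F) ≠ 0 := Units.ne_zero _
        have hx1 := th_ne_zero m hx0
        have hy1 := th_ne_zero m hy0
        rw [div_eq_div_iff hx1 hy1] at h1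
        have h2 : ((x : Fˣ) : F) / ((y : Fˣ) : F) = th F m (((x : Fˣ) : F) / ((y : Fˣ) : F)) := by
          rw [map_div₀, div_eq_div_iff hy0 hy1]
          linear_combination h1
        have h3 := th_fix_unit m (div_ne_zero hx0 hy0) h2.symm
        exact Subtype.ext (Units.ext (by rwa [div_eq_one_iff_eq hy0] at h3))
      obtain ⟨l, hl⟩ := (Finite.injective_iff_surjective.mp hinj) ⟨k, hk⟩
      refine ⟨l, l.2, ?_⟩
      rw [← hf, hl]
    have h1 : op m (0 : F) l ∈ Dl m M := by
      rw [hM.op_iff, ← mem_E0, ← hM.fs_iff]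
      exact Or.inr ⟨l, hl, rfl⟩
    have h2 := smul_mem_Dl m hM.w_mem h1
    rw [w_op m (by rw [fo_zero_left]; exact th_ne_zero m l.ne_zero), fo_zero_left, zero_div,
      hlk] at h2
    exact hM.op_iff.mp h2

/-- subgroups in normal position are subfield subgroups -/
theorem Nrm.eq_range {M : Subgroup (Sg F m)} (hM : Nrm m M) {K : Type*} [Field K] [Fintype K]
    (k : ℕ) [hK : SzF K k] (f : K →+* F) (hf : ∀ x : F, x ∈ FS m hM.toCfg ↔ ∃ a, f a = x) :
    M = (emb k m f).range := by
  apply le_antisymm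
  · -- elements of the Borel subgroup
    have hB : ∀ g ∈ M, g ∈ BB F m → g ∈ (emb k m f).range := by
      intro g hg hgB
      obtain ⟨a, b, u, rfl⟩ := (mem_BB_iff m).mp hgB
      have hu : u ∈ K0 m M := (mem_K0 m).mpr ⟨a, b, hg⟩
      have h1 := hM.dd_mem m hu
      have h2 := M.mul_mem hg (M.inv_mem h1)
      rw [mul_inv_cancel_right] at h2
      have ha : a ∈ FS m hM.toCfg := (hM.a0_iff m).mp ⟨b, h2⟩
      have h3 := M.mul_mem (M.inv_mem (hM.t0_mem m ha)) h2
      have h4 : t m a b = t m a 0 * t m 0 b := by rw [t_mul]; simp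
      rw [h4, inv_mul_cancel_left] at h3
      have hb : b ∈ FS m hM.toCfg := (hM.fs_iff m).mpr h3
      obtain ⟨a', rfl⟩ := (hf a).mp ha
      obtain ⟨b', rfl⟩ := (hf b).mp hb
      obtain ⟨u', hu'⟩ := (hf u).mp (Or.inr ⟨u, hu, rfl⟩)
      have hu0 : u' ≠ 0 := by
        rintro rfl
        rw [map_zero] at hu'
        exact u.ne_zero hu'.symm
      refine ⟨t k a' b' * dd k (Units.mk0 u' hu0), ?_⟩
      rw [map_mul, emb_t, emb_dd]
      congr 2
      exact Units.ext hu'
    intro g hg
    by_cases hgB : g ∈ BB F m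
    · exact hB g hg hgB
    · have h1 := smul_mem_Dl m hg (oinf_mem_Dl m hM.toCfg)
      rcases Om_cases m (g • oinf F m) with h | ⟨x, y, h⟩
      · exact absurd h hgB
      · rw [h, hM.op_iff] at h1
        have hx : t m x y ∈ (emb k m f).range := hB _ h1 (UU_le_BB m (t_mem_UU m x y))
        have hw : w F m ∈ (emb k m f).range := ⟨w K k, emb_w k m f⟩
        have h2 : (w F m)⁻¹ * ((t m x y)⁻¹ * g) ∈ BB F m := by
          rw [mem_BB, mul_smul, mul_smul, h, inv_smul_eq_iff, w_oinf, inv_smul_eq_iff, t_op]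
          simp
        have h3 := hB _ (M.mul_mem (M.inv_mem hM.w_mem) (M.mul_mem (M.inv_mem h1) hg)) h2
        have h4 : g = t m x y * (w F m * ((w F m)⁻¹ * ((t m x y)⁻¹ * g))) := by group
        rw [h4]
        exact mul_mem hx (mul_mem hw h3)
  · rintro _ ⟨g, rfl⟩
    have hfm : ∀ a, f a ∈ FS m hM.toCfg := fun a => (hf _).mpr ⟨a, rfl⟩
    refine Sg_induction k (P := fun g => emb k m f g ∈ M) ?_ ?_ ?_ ?_ g
    · intro a b
      rw [emb_t]
      have h4 : t m (f a) (f b) = t m (f a) 0 * t m 0 (f b) := by rw [t_mul]; simp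
      rw [h4]
      exact M.mul_mem (hM.t0_mem m (hfm a)) ((hM.fs_iff m).mp (hfm b))
    · intro u
      rw [emb_dd]
      apply hM.dd_mem
      rcases hfm (u : K) with h | ⟨l, hl, h⟩
      · exfalso
        exact u.ne_zero (f.injective (h.trans (map_zero f).symm))
      · have : l = Units.map f.toMonoidHom u := Units.ext h
        rw [← this]; exact hl
    · rw [emb_w]; exact hM.w_mem m
    · intro x y hx hy
      rw [map_mul]
      exact M.mul_mem hx hy

/-- finite subfields of the same order coincide -/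
theorem mem_range_iff {K : Type*} [Field K] [Fintype K] (f : K →+* F) (L : Subfield F)
    (h : Nat.card L = Nat.card K) (x : F) : x ∈ L ↔ ∃ a, f a = x := by
  classical
  -- both are the roots of X^n - X
  set n := Nat.card K with hn
  have hn1 : 1 < n := by rw [hn, Nat.card_eq_fintype_card]; exact Fintype.one_lt_card
  let P : Polynomial F := Polynomial.X ^ n - Polynomial.X
  have hP : P ≠ 0 := FiniteField.X_pow_card_sub_X_ne_zero F hn1
  have hroots : P.roots.toFinset.card ≤ n := by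
    refine (Multiset.toFinset_card_le _).trans ((Polynomial.card_roots' P).trans ?_)
    rw [FiniteField.X_pow_card_sub_X_natDegree_eq F hn1]
  have hmem : ∀ y : F, y ^ n = y → y ∈ P.roots.toFinset := by
    intro y hy
    rw [Multiset.mem_toFinset, Polynomial.mem_roots hP]
    simp [P, Polynomial.IsRoot, hy]
  have hK : ∀ a : K, (f a) ^ n = f a := by
    intro a
    rw [← map_pow, hn, Nat.card_eq_fintype_card, FiniteField.pow_card]
  have hL : ∀ y : L, (y : F) ^ n = y := by
    intro y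
    let : Fintype L := Fintype.ofFinite L
    have h1 : y ^ n = y := by
      rw [← h, Nat.card_eq_fintype_card, FiniteField.pow_card]
    exact congrArg Subtype.val h1
  let R1 : Finset F := Finset.univ.image f
  have hR1 : R1 = P.roots.toFinset := by
    apply Finset.eq_of_subset_of_card_le
    · intro y hy
      obtain ⟨a, -, rfl⟩ := Finset.mem_image.mp hy
      exact hmem _ (hK a)
    · rw [Finset.card_image_of_injective _ f.injective, Finset.card_univ, ← Nat.card_eq_fintype_card]
      exact hroots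
  let : Fintype L := Fintype.ofFinite L
  let R2 : Finset F := Finset.univ.image (fun y : L => (y : F))
  have hR2 : R2 = P.roots.toFinset := by
    apply Finset.eq_of_subset_of_card_le
    · intro y hy
      obtain ⟨a, -, rfl⟩ := Finset.mem_image.mp hy
      exact hmem _ (hL a)
    · rw [Finset.card_image_of_injective _ Subtype.val_injective, Finset.card_univ,
        ← Nat.card_eq_fintype_card, h]
      exact hroots
  constructor
  · intro hx
    have h1 : x ∈ R2 := Finset.mem_image.mpr ⟨⟨x, hx⟩, Finset.mem_univ _, rfl⟩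
    rw [hR2, ← hR1] at h1
    obtain ⟨a, -, ha⟩ := Finset.mem_image.mp h1
    exact ⟨a, ha⟩
  · rintro ⟨a, rfl⟩
    have h1 : f a ∈ R1 := Finset.mem_image.mpr ⟨a, Finset.mem_univ _, rfl⟩
    rw [hR1, ← hR2] at h1
    obtain ⟨y, -, hy⟩ := Finset.mem_image.mp h1
    rw [← hy]; exact y.2

end

end Cfsg.Agent.H15.Suz
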