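import Mathlib
import Cfsg.Agent.H15.SzSub5

/-! # Suzuki groups: subgroups, part 6: the classification of subgroups -/

set_option autoImplicit false

open scoped Pointwise commutatorElement

namespace Cfsg.Agent.H15.Suz

open Cfsg.Agent.H15.IrrLin

theorem isPGroup_zpowers_invol {G : Type*} [Group G] {u : G} (hu : u * u = 1) :
    IsPGroup 2 (Subgroup.zpowers u) := by
  intro y
  obtain ⟨n, hn⟩ := Subgroup.mem_zpowers_iff.mp y.2
  refine ⟨1, Subtype.ext ?_⟩
  show (y : G) ^ 2 ^ 1 = 1
  rw [← hn, pow_one, ← zpow_natCast, ← zpow_mul, mul_comm, zpow_mul]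
  norm_num
  rw [sq, hu, one_zpow]

section

variable {F : Type*} [Field F] [Fintype F] (m : ℕ) [hS : SzF F m]

theorem solvable_conj {M : Subgroup (Sg F m)} (x : Sg F m)
    (h : Group.IsSolvable (M.map (MulAut.conj x).toMonoidHom)) : Group.IsSolvable M :=
  Group.isSolvable_of_isSolvable_injective (f := (M.equivMapOfInjective
    (MulAut.conj x).toMonoidHom (MulAut.conj x).injective).toMonoidHom)
    (M.equivMapOfInjective (MulAut.conj x).toMonoidHom (MulAut.conj x).injective).injective

theorem solvable_of_le_BB {M : Subgroup (Sg F m)} (h : M ≤ BB F m) : Group.IsSolvable M := by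
  have := solvable_BB (F := F) m
  exact Group.isSolvable_of_isSolvable_injective (f := Subgroup.inclusion h)
    (Subgroup.inclusion_injective h)

theorem solvable_of_cyclic_two (M : Subgroup (Sg F m)) (h : ∀ P : Sylow 2 M, IsCyclic P) :
    Group.IsSolvable M := by
  have := isZGroup_of_two m M h
  infer_instance

/-- a 2-subgroup containing a central involution of `U` is in `U` -/
theorem le_UU_of_mem {S : Subgroup (Sg F m)} (hS2 : IsPGroup 2 S) {b : F} (hb0 : b ≠ 0)
    (hb : t m 0 b ∈ S) : S ≤ UU F m := by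
  have hfact : Fact (Nat.Prime 2) := ⟨Nat.prime_two⟩
  obtain ⟨P, hP⟩ := hS2.exists_le_sylow
  obtain ⟨x, hx⟩ := sylow_eq m P
  obtain ⟨c, d, hcd⟩ := (hx _).mp (hP hb)
  have h1 : x • oinf F m = oinf F m := by
    apply fix_t m (t0_ne m hb0)
    rw [show t m 0 b = x * (x⁻¹ * t m 0 b * x) * x⁻¹ by group, hcd, mul_smul, mul_smul,
      inv_smul_smul, t_oinf]
  intro g hg
  have h2 := BB_normal_UU m (g := x) h1 ((hx g).mp (hP hg))
  rwa [show x * (x⁻¹ * g * x) * x⁻¹ = g by group] at h2

theorem cyclic_of_K0 {M : Subgroup (Sg F m)} (hM : Cfg m M) (hk : ∀ k ∈ K0 m M, k = 1) :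
    ∀ P : Sylow 2 M, IsCyclic P := by
  have hfact : Fact (Nat.Prime 2) := ⟨Nat.prime_two⟩
  obtain ⟨b, hb0, hb⟩ := hM.inv0
  have hE : ∀ e ∈ E0 m M, e = 0 ∨ e = b := by
    intro e he
    have h1 := (E0_iff m hM hb hb0 (e / b)).mp (by rw [div_mul_cancel₀ _ hb0]; exact he)
    rcases h1 with h1 | ⟨k, hk1, h1⟩
    · left; exact (div_eq_zero_iff.mp h1).resolve_right hb0
    · right
      rw [hk k hk1, Units.val_one] at h1
      exact (div_eq_one_iff_eq hb0).mp h1.symm
  -- the unipotent part is cyclic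
  have hQ : ∃ g0 ∈ M, ∀ g ∈ M, g ∈ UU F m → g ∈ Subgroup.zpowers g0 := by
    by_cases hA : ∃ a c : F, a ≠ 0 ∧ t m a c ∈ M
    · obtain ⟨a, c, ha, hac⟩ := hA
      have hsq : t m a c * t m a c = t m 0 b := by
        rw [t_sq]
        have h1 := hE _ (A0_norm m (M := M) ⟨c, hac⟩)
        rcases h1 with h1 | h1
        · exact absurd h1 (mul_ne_zero ha (th_ne_zero m ha))
        · rw [mul_comm, h1]
      refine ⟨t m a c, hac, ?_⟩
      have hz : ∀ e, e ∈ E0 m M → t m 0 e ∈ Subgroup.zpowers (t m a c) := by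
        intro e he
        rcases hE e he with rfl | rfl
        · rw [t_zero]; exact Subgroup.one_mem _
        · rw [← hsq]; exact Subgroup.mul_mem _ (Subgroup.mem_zpowers _) (Subgroup.mem_zpowers _)
      rintro g hg ⟨x, y, rfl⟩
      by_cases hx : x = 0
      · subst hx; exact hz y hg
      · have h1 := hE _ (A0_norm m (M := M) ⟨y, hg⟩)
        have h2 : x * th F m x = b := h1.resolve_left (mul_ne_zero hx (th_ne_zero m hx))
        have h3 : a * th F m a = b :=
          (hE _ (A0_norm m (M := M) ⟨c, hac⟩)).resolve_left (mul_ne_zero ha (th_ne_zero m ha))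
        have h4 : x = a := norm_inj m (h2.trans h3.symm)
        subst h4
        have h5 := M.mul_mem (M.inv_mem hac) hg
        have h6 : (t m x c)⁻¹ * t m x y = t m 0 (c + y) := by
          rw [t_inv, t_mul, add_self' m x]
          congr 1
          have := add_self' m (th F m x * x)
          linear_combination this
        rw [h6] at h5
        have h7 : t m x y = t m x c * t m 0 (c + y) := by rw [← h6]; group
        rw [h7]
        exact Subgroup.mul_mem _ (Subgroup.mem_zpowers _) (hz _ h5)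
    · push Not at hA
      refine ⟨t m 0 b, hb, ?_⟩
      rintro g hg ⟨x, y, rfl⟩
      by_cases hx : x = 0
      · subst hx
        rcases hE y hg with rfl | rfl
        · rw [t_zero]; exact Subgroup.one_mem _
        · exact Subgroup.mem_zpowers _
      · exact absurd hg (hA x y hx)
  obtain ⟨g0, hg0, hg02⟩ := hQ
  -- a Sylow subgroup containing the involution
  have hu : IsPGroup 2 (Subgroup.zpowers (⟨t m 0 b, hb⟩ : M)) :=
    isPGroup_zpowers_invol (Subtype.ext (t0_sq m b))
  obtain ⟨S, hSu⟩ := hu.exists_le_sylow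
  have hS1 : (S : Subgroup M).map M.subtype ≤ UU F m := by
    apply le_UU_of_mem m (S.isPGroup'.map _) hb0
    exact ⟨⟨t m 0 b, hb⟩, hSu (Subgroup.mem_zpowers _), rfl⟩
  have hScyc : IsCyclic S := by
    have h1 : (S : Subgroup M).map M.subtype ≤ Subgroup.zpowers g0 := by
      rintro _ ⟨g, hg, rfl⟩
      exact hg02 _ g.2 (hS1 ⟨g, hg, rfl⟩)
    have h2 : IsCyclic ((S : Subgroup M).map M.subtype) :=
      isCyclic_of_injective (Subgroup.inclusion h1) (Subgroup.inclusion_injective h1)
    exact isCyclic_of_injective ((S : Subgroup M).equivMapOfInjective M.subtype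
      M.subtype_injective).toMonoidHom ((S : Subgroup M).equivMapOfInjective M.subtype
      M.subtype_injective).injective
  intro P
  exact isCyclic_of_injective (Sylow.equiv P S).toMonoidHom (Sylow.equiv P S).injective

theorem map_conj_conj (M : Subgroup (Sg F m)) (x y : Sg F m) :
    (M.map (MulAut.conj x).toMonoidHom).map (MulAut.conj y).toMonoidHom =
      M.map (MulAut.conj (y * x)).toMonoidHom := by
  ext g
  rw [mem_map_conj, mem_map_conj, mem_map_conj]
  rw [show x⁻¹ * (y⁻¹ * g * y) * x = (y * x)⁻¹ * g * (y * x) by group]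

/-- nonsolvable subfield type -/
def SubT (M : Subgroup (Sg F m)) : Prop :=
  ∃ (k : ℕ) (K : Type) (_ : Field K) (_ : Fintype K) (_ : SzF K k) (f : K →+* F) (x : Sg F m),
      M.map (MulAut.conj x).toMonoidHom = (emb k m f).range

theorem subT_conj {M : Subgroup (Sg F m)} {y : Sg F m}
    (h : SubT m (M.map (MulAut.conj y).toMonoidHom)) : SubT m M := by
  obtain ⟨k, K, i1, i2, i3, f, x, h⟩ := h
  rw [map_conj_conj] at h
  exact ⟨k, K, i1, i2, i3, f, x * y, h⟩

theorem subT_of_nrm {M : Subgroup (Sg F m)} (hN : Nrm m M) : SubT m M := by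
  have hfact : Fact (Nat.Prime 2) := ⟨Nat.prime_two⟩
  obtain ⟨s, hs⟩ := card_E0_pow m M
  have hsd := E0_dvd m hN.toCfg hs
  have hodd : Odd s := by
    rw [← Nat.not_even_iff_odd]
    intro h
    have h3 : Even (2 * m + 1) := by
      rw [even_iff_two_dvd] at h ⊢; exact h.trans hsd
    rw [Nat.even_add_one] at h3
    exact h3 (even_two_mul m)
  obtain ⟨k, rfl⟩ := hodd
  have hk1 : 1 ≤ k := by
    by_contra hk0
    have hk0' : k = 0 := by omega
    rw [hk0'] at hs
    have h3 := card_FS' m hN.toCfg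
    rw [card_FS, hs] at h3
    have h4 : Nat.card (K0 m M) = 1 := by omega
    obtain ⟨k', hk', hk1'⟩ := hN.nt
    rw [Subgroup.card_eq_one] at h4
    rw [h4, Subgroup.mem_bot] at hk'
    exact hk1' hk'
  let : Fintype (GaloisField 2 (2 * k + 1)) := Fintype.ofFinite _
  have hG : Fintype.card (GaloisField 2 (2 * k + 1)) = 2 ^ (2 * k + 1) := by
    rw [← Nat.card_eq_fintype_card, GaloisField.card 2 _ (by omega)]
  obtain ⟨f⟩ := exists_embedding hG hS.card hsd
  have hSK : SzF (GaloisField 2 (2 * k + 1)) k := ⟨hk1, hG⟩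
  refine ⟨k, GaloisField 2 (2 * k + 1), inferInstance, inferInstance, hSK, f, 1, ?_⟩
  have h1 : M.map (MulAut.conj (1 : Sg F m)).toMonoidHom = M := by
    ext g
    rw [mem_map_conj]
    simp
  rw [h1]
  exact hN.eq_range m k f (fun z => mem_range_iff f (FS m hN.toCfg) (by
    rw [card_FS, hs, Nat.card_eq_fintype_card, hG]) z)

theorem sub_class_cfg {M : Subgroup (Sg F m)} (hC : Cfg m M) : Group.IsSolvable M ∨ SubT m M := by
  by_cases hk : ∃ k ∈ K0 m M, k ≠ 1
  · right
    obtain ⟨y, hN⟩ := exists_nrm m hC hk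
    exact subT_conj m (subT_of_nrm m hN)
  · left
    push Not at hk
    exact solvable_of_cyclic_two m M (cyclic_of_K0 m hC hk)

theorem sub_class_t {M : Subgroup (Sg F m)} {b : F} (hb0 : b ≠ 0) (hbM : t m 0 b ∈ M) :
    Group.IsSolvable M ∨ SubT m M := by
  by_cases hall : ∀ v ∈ M, v ≠ 1 → v * v = 1 → v • oinf F m = oinf F m
  · left
    apply solvable_of_le_BB
    intro y hy
    rw [mem_BB]
    have h3 : (y * t m 0 b * y⁻¹) • oinf F m = oinf F m := by
      apply hall _ (M.mul_mem (M.mul_mem hy hbM) (M.inv_mem hy))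
      · intro h; apply t0_ne m hb0
        rw [show t m 0 b = y⁻¹ * (y * t m 0 b * y⁻¹) * y by group, h]; group
      · rw [show y * t m 0 b * y⁻¹ * (y * t m 0 b * y⁻¹) = y * (t m 0 b * t m 0 b) * y⁻¹ by group,
          t0_sq]; group
    exact ((conj_t_fix m y (t0_ne m hb0)).mp h3).symm
  · push Not at hall
    obtain ⟨v, h1, h2, h3, h4⟩ := hall
    exact sub_class_cfg m ⟨⟨b, hb0, hbM⟩, ⟨v, h1, h2, h3, h4⟩⟩

theorem sub_class_invol {M : Subgroup (Sg F m)} {u : Sg F m} (hu : u ∈ M) (hu1 : u ≠ 1)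
    (hu2 : u * u = 1) : Group.IsSolvable M ∨ SubT m M := by
  obtain ⟨p, hp, -⟩ := invol_fix m hu1 hu2
  obtain ⟨x, rfl⟩ := exists_to_inf m p
  obtain ⟨b, hb⟩ := sq_eq_one_of_BB m (g := x⁻¹ * u * x) (by
    rw [mem_BB, mul_smul, mul_smul, hp, inv_smul_smul]) (by
    rw [show x⁻¹ * u * x * (x⁻¹ * u * x) = x⁻¹ * (u * u) * x by group, hu2]; group)
  have hb0 : b ≠ 0 := by
    rintro rfl
    rw [t_zero] at hb
    apply hu1
    rw [show u = x * (x⁻¹ * u * x) * x⁻¹ by group, hb]; group
  have hbM : t m 0 b ∈ M.map (MulAut.conj x⁻¹).toMonoidHom := by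
    rw [mem_map_conj, inv_inv, ← hb, show x * (x⁻¹ * u * x) * x⁻¹ = u by group]
    exact hu
  rcases sub_class_t m hb0 hbM with h | h
  · left; exact solvable_conj m x⁻¹ h
  · right; exact subT_conj m h

/-- the classification of the subgroups of the Suzuki groups -/
theorem sub_class (M : Subgroup (Sg F m)) : Group.IsSolvable M ∨ SubT m M := by
  have hfact : Fact (Nat.Prime 2) := ⟨Nat.prime_two⟩
  by_cases h2 : 2 ∣ Nat.card M
  · obtain ⟨u, hu⟩ := exists_prime_orderOf_dvd_card' 2 h2
    rw [← Subgroup.orderOf_coe] at hu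
    have hu1 : (u : Sg F m) ≠ 1 := by
      intro h
      rw [h, orderOf_one] at hu
      norm_num at hu
    have hu2 : (u : Sg F m) * u = 1 := by rw [← sq, ← hu, pow_orderOf_eq_one]
    exact sub_class_invol m u.2 hu1 hu2
  · left
    apply solvable_of_cyclic_two
    intro P
    have h1 : Nat.card P = 1 := by
      rw [P.card_eq_multiplicity, Nat.factorization_eq_zero_of_not_dvd h2, pow_zero]
    have : Subsingleton P := (Nat.card_eq_one_iff_unique.mp h1).1
    infer_instance

end

end Cfsg.Agent.H15.Suz
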