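import Mathlib
import Cfsg.Agent.H15.SzSol4
import Cfsg.Agent.H15.SzSub6
import Cfsg.Agent.H15.SzLie

/-! # Suzuki groups: solubilizers -/

set_option autoImplicit false

open scoped Pointwise

namespace Cfsg.Agent.H15.Suz

open Cfsg Cfsg.Agent.H3 Cfsg.Agent.H15.IrrLin Cfsg.Agent.H15.TorI

variable {F : Type*} [Field F] [Fintype F] {m : ℕ} [hS : SzF F m]

variable {A : Subgroup (Sg F m)} {w : ℕ}

theorem Tw.solvable (h : Tw m A w) : Group.IsSolvable (NN A) := by
  have : Fact (Nat.Prime 2) := ⟨Nat.prime_two⟩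
  have hnorm : (A.subgroupOf (NN A)).Normal := by
    constructor
    intro a ha g
    rw [Subgroup.mem_subgroupOf] at ha ⊢
    exact NN_conj' g.2 ha
  have hidx : (A.subgroupOf (NN A)).index = w := by
    have h1 := (A.subgroupOf (NN A)).card_mul_index
    rw [Nat.card_congr (Subgroup.subgroupOfEquivOfLe (le_NN (A := A))).toEquiv, h.norm,
      mul_comm w] at h1
    exact Nat.eq_of_mul_eq_mul_left Nat.card_pos h1
  have h2 : IsPGroup 2 (NN A ⧸ A.subgroupOf (NN A)) := by
    rcases h.w24 with rfl | rfl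
    · exact IsPGroup.of_card (n := 1) (by rw [← Subgroup.index_eq_card, hidx, pow_one])
    · exact IsPGroup.of_card (n := 2) (by rw [← Subgroup.index_eq_card, hidx]; norm_num)
  have h3 := h2.isNilpotent
  have h4 : Group.IsSolvable (NN A ⧸ A.subgroupOf (NN A)) := inferInstance
  have h5 : Group.IsSolvable A := Group.isSolvable_of_comm fun a b =>
    Subtype.ext (h.tor.comm a a.2 b b.2)
  refine Group.isSolvable_of_ker_le_range (Subgroup.inclusion (le_NN (A := A)))
    (QuotientGroup.mk' (A.subgroupOf (NN A))) ?_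
  rw [QuotientGroup.ker_mk']
  intro g hg
  exact ⟨⟨g, hg⟩, rfl⟩

theorem solvable_of_le' {M N : Subgroup (Sg F m)} (h : M ≤ N) (hN : Group.IsSolvable N) :
    Group.IsSolvable M :=
  Group.isSolvable_of_isSolvable_injective (f := Subgroup.inclusion h)
    (Subgroup.inclusion_injective h)

theorem closure_pair_le {x y : Sg F m} {N : Subgroup (Sg F m)} (hx : x ∈ N) (hy : y ∈ N) :
    Subgroup.closure ({x, y} : Set (Sg F m)) ≤ N := by
  rw [Subgroup.closure_le]
  rintro z (rfl | hz)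
  · exact hx
  · rw [Set.mem_singleton_iff] at hz; rw [hz]; exact hy

/-- common membership in the normalizer of a conjugate of `A` -/
def CN (A : Subgroup (Sg F m)) (x y : Sg F m) : Prop :=
  ∃ g, g⁻¹ * x * g ∈ NN A ∧ g⁻¹ * y * g ∈ NN A

theorem sol_of_fix {x y : Sg F m} {p : Om F m} (hx : x • p = p) (hy : y • p = p) :
    Group.IsSolvable (Subgroup.closure ({x, y} : Set (Sg F m))) := by
  obtain ⟨g, rfl⟩ := exists_to_inf m p
  apply solvable_of_le' (N := MulAction.stabilizer (Sg F m) (g • oinf F m))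
    (closure_pair_le hx hy)
  apply solvable_conj m g⁻¹
  apply solvable_of_le_BB
  intro z hz
  rw [mem_map_conj, inv_inv, MulAction.mem_stabilizer_iff] at hz
  rw [mem_BB]
  have h1 : (g * z * g⁻¹) • (g • oinf F m) = g • (z • oinf F m) := by
    rw [mul_smul, mul_smul, inv_smul_smul]
  rw [h1] at hz
  exact (smul_left_cancel_iff g).mp hz

theorem Tw.sol_of_CN (h : Tw m A w) {x y : Sg F m} (hc : CN A x y) :
    Group.IsSolvable (Subgroup.closure ({x, y} : Set (Sg F m))) := by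
  obtain ⟨g, h1, h2⟩ := hc
  exact solvable_of_le' (closure_pair_le (mem_NN_cA.mpr h1) (mem_NN_cA.mpr h2)) (h.conj g).solvable

variable {U₁ U₂ : Subgroup (Sg F m)} {s : ℤ}

theorem Tw.cA_eq (h : Tw m A w) {g u : Sg F m} (hu1 : u ≠ 1) (hu : g⁻¹ * u * g ∈ A) :
    Cg m u = cA g A := (h.conj g).cent_eq (by rw [mem_map_conj]; exact hu) hu1

theorem sol_iff (hN : NT2 m U₁ U₂ s) {x y : Sg F m} :
    Group.IsSolvable (Subgroup.closure ({x, y} : Set (Sg F m))) ↔
      (∃ p : Om F m, x • p = p ∧ y • p = p) ∨ CN (DD F m) x y ∨ CN U₁ x y ∨ CN U₂ x y := by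
  constructor
  · intro h
    have hxm : x ∈ Subgroup.closure ({x, y} : Set (Sg F m)) := Subgroup.subset_closure (by simp)
    have hym : y ∈ Subgroup.closure ({x, y} : Set (Sg F m)) := Subgroup.subset_closure (by simp)
    rcases local_of_solvable m _ h with ⟨P, hP⟩ | ⟨U, hU1, hU2, hU3⟩
    · left
      obtain ⟨z, hz⟩ := sylow_eq m P
      have h1 := (sylow_normalizer m hz x).mp (hP hxm)
      have h2 := (sylow_normalizer m hz y).mp (hP hym)
      rw [mem_BB, mul_smul, mul_smul, inv_smul_eq_iff] at h1 h2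
      exact ⟨_, h1, h2⟩
    · right
      have hne : ∃ u ∈ U, u ≠ 1 := by
        by_contra hcon
        push Not at hcon
        have h1 : U = ⊥ := (Subgroup.eq_bot_iff_forall U).mpr hcon
        have h2 := tor_odd m hU2
        have h8 := eight_le_q (F := F) m
        have hr := r_le (F := F) m
        have hr2 := r_sq (F := F) m
        rw [h1, Subgroup.card_bot] at hU2
        unfold TorOrd at hU2
        generalize 2 ^ (m + 1) = r at *
        rcases hU2 with h | h | h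
        · omega
        · omega
        · have : Fintype.card F = r := by omega
          rw [← this] at hr2
          nlinarith
      obtain ⟨u, hu, hu1⟩ := hne
      have hUu := eq_cent_of_tor m hu1 hU1 hU2 hu
      have hu4 := not_pow_four_of_tor m hu1 hU2 hu
      have key : ∀ {B : Subgroup (Sg F m)} {v : ℕ}, Tw m B v → ConjIn B u → CN B x y := by
        intro B v hB hc
        obtain ⟨-, g, hg⟩ := hc
        refine ⟨g, ?_, ?_⟩
        · rw [← mem_NN_cA, ← hB.cA_eq hu1 hg, ← hUu]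
          exact hU3 hxm
        · rw [← mem_NN_cA, ← hB.cA_eq hu1 hg, ← hUu]
          exact hU3 hym
      rcases types hN hu1 with ⟨z, b, -, h⟩ | ⟨z, a, b, -, h⟩ | h | h | h
      · exact absurd (pow_four' m h) hu4
      · exact absurd (pow_four' m h) hu4
      · exact Or.inl (key tw_DD h)
      · exact Or.inr (Or.inl (key hN.one.tw h))
      · exact Or.inr (Or.inr (key hN.two.tw h))
  · rintro (⟨p, h1, h2⟩ | h | h | h)
    · exact sol_of_fix h1 h2
    · exact tw_DD.sol_of_CN h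
    · exact hN.one.tw.sol_of_CN h
    · exact hN.two.tw.sol_of_CN h

theorem card_stabP (p : Om F m) : Nat.card {y : Sg F m // y • p = p} =
    Fintype.card F ^ 2 * (Fintype.card F - 1) := by
  obtain ⟨g, rfl⟩ := exists_to_inf m p
  rw [← card_BB m]
  refine (Nat.card_congr (Equiv.subtypeEquiv (MulAut.conj g).toEquiv fun y => ?_)).symm
  show y ∈ BB F m ↔ (g * y * g⁻¹) • (g • oinf F m) = g • oinf F m
  rw [mem_BB, mul_smul, mul_smul, inv_smul_smul, smul_left_cancel_iff]

theorem cn_disj {A B : Subgroup (Sg F m)} {w v : ℕ} (hA : Tw m A w) (hB : Tw m B v)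
    (hne : Nat.card A ≠ Nat.card B) {x y : Sg F m} (hx1 : x ≠ 1) (hx4 : x ^ 4 = 1) {p : Om F m}
    (hp : x • p = p) (hy : y • p ≠ p) (h1 : CN A x y) (h2 : CN B x y) : False := by
  obtain ⟨g, h3, h4⟩ := h1
  obtain ⟨k, h5, h6⟩ := h2
  have h7 := (hA.conj g).unique (hB.conj k) hx1 hx4 hp hy (mem_NN_cA.mpr h3) (mem_NN_cA.mpr h5)
    (mem_NN_cA.mpr h4) (mem_NN_cA.mpr h6)
  apply hne
  rw [← card_map_conj m A g, ← card_map_conj m B k]
  exact congrArg (fun H : Subgroup (Sg F m) => Nat.card H) h7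

theorem nSol_two (hN : NT2 m U₁ U₂ s) {x : Sg F m} (hx1 : x ≠ 1) (hx4 : x ^ 4 = 1) {p : Om F m}
    (hp : ∀ p' : Om F m, x • p' = p' ↔ p' = p) :
    nSol x = Fintype.card F ^ 2 * (Fintype.card F - 1) +
      (Nat.card {y : Sg F m // y • p ≠ p ∧ CN (DD F m) x y} +
        (Nat.card {y : Sg F m // y • p ≠ p ∧ CN U₁ x y} +
          Nat.card {y : Sg F m // y • p ≠ p ∧ CN U₂ x y})) := by
  have hpp : x • p = p := (hp p).mpr rfl
  rw [← card_stabP p, ← card_or, ← card_or, ← card_or]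
  · refine Nat.card_congr (Equiv.subtypeEquivRight fun y => ?_)
    rw [sol_iff hN]
    have h1 : (∃ p' : Om F m, x • p' = p' ∧ y • p' = p') ↔ y • p = p := by
      constructor
      · rintro ⟨p', h1, h2⟩
        rw [(hp p').mp h1] at h2
        exact h2
      · intro h; exact ⟨p, hpp, h⟩
    rw [h1]
    tauto
  · rintro y h1 (h2 | h2 | h2) <;> exact h2.1 h1
  · rintro y ⟨h1, h2⟩ (⟨-, h3⟩ | ⟨-, h3⟩)
    · exact cn_disj tw_DD hN.one.tw (ne_DD hN.one) hx1 hx4 hpp h1 h2 h3
    · exact cn_disj tw_DD hN.two.tw (ne_DD hN.two) hx1 hx4 hpp h1 h2 h3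
  · rintro y ⟨h1, h2⟩ ⟨-, h3⟩
    exact cn_disj hN.one.tw hN.two.tw (ne_of_NT2 hN) hx1 hx4 hpp h1 h2 h3

theorem card_pred_sum (hN : NT2 m U₁ U₂ s) :
    (Nat.card U₁ - 1) + (Nat.card U₂ - 1) = 2 * Fintype.card F := by
  have h1 := hN.one.card
  have h2 := hN.two.card
  have h3 := hN.one.five_le
  have h4 := hN.two.five_le
  omega

theorem nSol_invol (hN : NT2 m U₁ U₂ s) {x : Sg F m} (hx1 : x ≠ 1) (hx2 : x * x = 1) :
    nSol x = Fintype.card F ^ 2 * (4 * Fintype.card F - 3) := by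
  have hx4 := four_of_sq hx2
  obtain ⟨p, hp⟩ := unique_fix m hx1 hx4
  have hpp : x • p = p := (hp p).mpr rfl
  have hC : Nat.card (Cg m x) = Fintype.card F ^ 2 := by
    obtain ⟨z, a, b, hab, h⟩ := two_elt m hx1 hx4
    have h2 : t m a b * t m a b = 1 := by
      rw [show t m a b = z⁻¹ * x * z by rw [h]; group]
      calc z⁻¹ * x * z * (z⁻¹ * x * z) = z⁻¹ * (x * x) * z := by group
        _ = 1 := by rw [hx2]; group
    obtain ⟨c, hc⟩ := sq_eq_one_of_BB m (g := t m a b) ((mem_BB m).mpr (t_oinf m a b)) h2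
    rw [h, hc, card_Cg_conj, card_Cg_t0]
    rintro rfl
    rw [t_zero] at hc
    exact hab hc
  rw [nSol_two hN hx1 hx4 hp]
  have e0 := (tw_DD (F := F) (m := m)).card_Y hx1 hx4 hpp (tw_DD.card_conj_invol hx1 hx2)
  have e1 := hN.one.tw.card_Y hx1 hx4 hpp (hN.one.tw.card_conj_invol hx1 hx2)
  have e2 := hN.two.tw.card_Y hx1 hx4 hpp (hN.two.tw.card_conj_invol hx1 hx2)
  rw [hC] at e0 e1 e2
  unfold CN
  rw [e0, e1, e2, ← mul_add, card_pred_sum hN, card_DD, ← mul_add, ← mul_add]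
  congr 1
  have h8 := eight_le_q (F := F) m
  omega

theorem nSol_four (hN : NT2 m U₁ U₂ s) {x : Sg F m} (hx4 : x ^ 4 = 1) (hx2 : x * x ≠ 1) :
    nSol x = Fintype.card F ^ 2 * (Fintype.card F + 3) := by
  have hx1 : x ≠ 1 := by rintro rfl; exact hx2 (one_mul _)
  obtain ⟨p, hp⟩ := unique_fix m hx1 hx4
  have hpp : x • p = p := (hp p).mpr rfl
  have hC : Nat.card (Cg m x) = 2 * Fintype.card F := by
    obtain ⟨g, a, b, ha, rfl⟩ := four_form hx4 hx2
    rw [card_Cg_conj, card_Cg_ta ha]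
  rw [nSol_two hN hx1 hx4 hp]
  have h1 := hN.one.tw.card_conj_four hx4 hx2
  have h2 := hN.two.tw.card_conj_four hx4 hx2
  have h0 := (tw_DD (F := F) (m := m)).card_conj_four hx4 hx2
  have e1 := hN.one.tw.card_Y hx1 hx4 hpp (by omega)
  have e2 := hN.two.tw.card_Y hx1 hx4 hpp (by omega)
  have e0 : Nat.card {y : Sg F m // y • p ≠ p ∧ CN (DD F m) x y} = 0 := by
    have h3 : Nat.card {z : Sg F m // z ∈ NN (DD F m) ∧ IsConj x z} = 0 := by omega
    rw [Nat.card_eq_zero] at h3 ⊢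
    left
    rcases h3 with h3 | h3
    · constructor
      rintro ⟨y, -, g, hg, -⟩
      exact h3.elim ⟨_, hg, isConj_iff.mpr ⟨g⁻¹, by group⟩⟩
    · exact absurd (inferInstance : Finite {z : Sg F m // z ∈ NN (DD F m) ∧ IsConj x z})
        (not_finite_iff_infinite.mpr h3)
  rw [hC] at e1 e2
  rw [e0]
  unfold CN
  rw [e1, e2, ← mul_add, card_pred_sum hN]
  have h8 := eight_le_q (F := F) m
  obtain ⟨k, hk⟩ := Nat.exists_eq_add_of_le h8
  rw [hk, show 8 + k - 1 = 7 + k by omega]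
  ring

/-- elements of tori only normalize their own torus -/
theorem Tw.mem_cA_of_tor {A B : Subgroup (Sg F m)} {w v : ℕ} (hA : Tw m A w) (hB : Tw m B v)
    {x : Sg F m} (hx : x ∈ A) (hx1 : x ≠ 1) {g : Sg F m} (hg : g⁻¹ * x * g ∈ NN B) :
    cA g B = A := by
  have h4 := hA.not_four hx hx1
  have h1 : x ∈ cA g B := by
    by_contra hcon
    exact h4 ((hB.conj g).pow_four (mem_NN_cA.mpr hg) hcon)
  rw [← (hB.conj g).cent_eq h1 hx1, hA.cent_eq hx hx1]

theorem Tw.CN_iff (hN : NT2 m U₁ U₂ s) {A : Subgroup (Sg F m)} {w : ℕ} (hA : Tw m A w)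
    (hA3 : A = DD F m ∨ A = U₁ ∨ A = U₂) {x : Sg F m}
    (hx : x ∈ A) (hx1 : x ≠ 1) (y : Sg F m) :
    (CN (DD F m) x y ∨ CN U₁ x y ∨ CN U₂ x y) ↔ y ∈ NN A := by
  have key : ∀ {B : Subgroup (Sg F m)} {v : ℕ}, Tw m B v → CN B x y → y ∈ NN A := by
    rintro B v hB ⟨g, h1, h2⟩
    rw [← hA.mem_cA_of_tor hB hx hx1 h1]
    exact mem_NN_cA.mpr h2
  constructor
  · rintro (h | h | h)
    · exact key tw_DD h
    · exact key hN.one.tw h
    · exact key hN.two.tw h
  · intro hy
    have : CN A x y := ⟨1, by rw [inv_one, one_mul, mul_one]; exact le_NN hx,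
      by rw [inv_one, one_mul, mul_one]; exact hy⟩
    rcases hA3 with rfl | rfl | rfl
    · exact Or.inl this
    · exact Or.inr (Or.inl this)
    · exact Or.inr (Or.inr this)

theorem nSol_U (hN : NT2 m U₁ U₂ s) {U : Subgroup (Sg F m)} {s' : ℤ} (hU : IsNT m U s')
    (h12 : U = U₁ ∨ U = U₂) {x : Sg F m}
    (hx : x ∈ U) (hx1 : x ≠ 1) : nSol x = 4 * Nat.card U := by
  rw [← hU.norm]
  refine Nat.card_congr (Equiv.subtypeEquivRight fun y => ?_)
  rw [sol_iff hN, hU.tw.CN_iff hN (Or.inr h12) hx hx1]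
  constructor
  · rintro (⟨p, h1, -⟩ | h)
    · exact absurd h1 ((Suz.mem_R0 m).mp (hU.mem_R0 hx hx1) p)
    · exact h
  · exact Or.inr

theorem fix_DD_iff {x : Sg F m} (hx : x ∈ DD F m) (hx1 : x ≠ 1) (p : Om F m) :
    x • p = p ↔ p = oinf F m ∨ p = op m (0 : F) 0 := by
  obtain ⟨k, rfl⟩ := (mem_DD m).mp hx
  constructor
  · intro h
    exact fix_dd m (fun h0 => hx1 (by rw [h0, dd_one])) h
  · rintro (rfl | rfl)
    · exact dd_oinf m k
    · rw [dd_op]; simp

theorem nSol_DD (hN : NT2 m U₁ U₂ s) {x : Sg F m}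
    (hx : x ∈ DD F m) (hx1 : x ≠ 1) :
    nSol x = 2 * Fintype.card F ^ 2 * (Fintype.card F - 1) := by
  have h8 := eight_le_q (F := F) m
  have hw : ∀ d ∈ DD F m, d • oinf F m = oinf F m := by
    intro d hd
    obtain ⟨l, rfl⟩ := (mem_DD m).mp hd
    exact dd_oinf m l
  have hw0 : ∀ d ∈ DD F m, d • op m (0 : F) 0 = op m (0 : F) 0 := by
    intro d hd
    obtain ⟨l, rfl⟩ := (mem_DD m).mp hd
    rw [dd_op]; simp
  have hwinv : (w F m)⁻¹ • oinf F m = op m (0 : F) 0 := by
    rw [inv_smul_eq_iff, w_op0]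
  have e1 : nSol x = Nat.card {y : Sg F m // (y • oinf F m = oinf F m) ∨
      ((y • op m (0 : F) 0 = op m (0 : F) 0 ∧ y ∉ DD F m) ∨ (w F m * y ∈ DD F m))} := by
    refine Nat.card_congr (Equiv.subtypeEquivRight fun y => ?_)
    rw [sol_iff hN, tw_DD.CN_iff hN (Or.inl rfl) hx hx1]
    constructor
    · rintro (⟨p, h1, h2⟩ | h)
      · rcases (fix_DD_iff hx hx1 p).mp h1 with rfl | rfl
        · exact Or.inl h2
        · by_cases hy : y ∈ DD F m
          · exact Or.inl (hw y hy)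
          · exact Or.inr (Or.inl ⟨h2, hy⟩)
      · rcases mem_NN_DD m h with h1 | h1
        · exact Or.inl (hw y h1)
        · exact Or.inr (Or.inr h1)
    · rintro (h | ⟨h, -⟩ | h)
      · exact Or.inl ⟨_, hw x hx, h⟩
      · exact Or.inl ⟨_, hw0 x hx, h⟩
      · right
        have h1 : y = (w F m)⁻¹ * (w F m * y) := by group
        rw [h1]
        exact (NN _).mul_mem ((NN _).inv_mem (w_mem_NN m)) (le_NN h)
  have e2 : Nat.card {y : Sg F m // y • op m (0 : F) 0 = op m (0 : F) 0 ∧ y ∉ DD F m} +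
      Nat.card (DD F m) = Fintype.card F ^ 2 * (Fintype.card F - 1) := by
    rw [← card_stabP (op m (0 : F) 0)]
    have : Nat.card (DD F m) = Nat.card {y : Sg F m // y ∈ DD F m} := rfl
    rw [this, ← card_or]
    · refine Nat.card_congr (Equiv.subtypeEquivRight fun y => ?_)
      constructor
      · rintro (h | h)
        · exact h.1
        · exact hw0 y h
      · intro h
        by_cases hy : y ∈ DD F m
        · exact Or.inr hy
        · exact Or.inl ⟨h, hy⟩
    · rintro y h1 h2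
      exact h1.2 h2
  have e3 : Nat.card {y : Sg F m // w F m * y ∈ DD F m} = Nat.card (DD F m) :=
    Nat.card_congr (Equiv.subtypeEquiv (Equiv.mulLeft (w F m)) fun y => Iff.rfl)
  rw [e1, card_or, card_or, card_stabP, e3, e2]
  · ring
  · rintro y ⟨h1, -⟩ h2
    have h3 : y • op m (0 : F) 0 = oinf F m := by
      have h4 := hw0 _ h2
      rw [mul_smul] at h4
      rw [← inv_smul_smul (w F m) (y • op m (0 : F) 0), h4, inv_smul_eq_iff, w_oinf]
    rw [h1] at h3
    exact op_ne_oinf m _ _ h3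
  · rintro y h1 (⟨h2, h3⟩ | h2)
    · obtain ⟨k, hk⟩ := exists_dd m h1 h2
      exact h3 ((mem_DD m).mpr ⟨k, hk⟩)
    · have h3 := hw _ h2
      rw [mul_smul, h1, w_oinf] at h3
      exact op_ne_oinf m _ _ h3

end Cfsg.Agent.H15.Suz
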