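import Mathlib
import Cfsg.Agent.H15.SzSol5

/-! # Suzuki groups: solubilizers -/

set_option autoImplicit false

open scoped Pointwise

namespace Cfsg.Agent.H15.Suz

open Cfsg Cfsg.Agent.H3 Cfsg.Agent.H15.IrrLin Cfsg.Agent.H15.TorI

variable {F : Type*} [Field F] [Fintype F] {m : ℕ} [hS : SzF F m]

variable {U₁ U₂ : Subgroup (Sg F m)} {s : ℤ}

theorem nSol_conj (g x : Sg F m) : nSol (g⁻¹ * x * g) = nSol x := by
  have h := nSol_equiv (MulAut.conj g⁻¹) x
  rw [MulAut.conj_apply, inv_inv] at h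
  exact h

/-- the torus orders are pairwise coprime -/
theorem order_dvd_one {d k l : ℕ} (hk : TorOrd F m k) (hl : TorOrd F m l) (hkl : k ≠ l)
    (h1 : d ∣ k) (h2 : d ∣ l) : d = 1 := by
  by_contra hd
  obtain ⟨p, hp, hpd⟩ := Nat.exists_prime_and_dvd hd
  exact hkl (tor_eq m hk hl hp (hpd.trans h1) (hpd.trans h2))

theorem conj_of_order (hN : NT2 m U₁ U₂ s) {x : Sg F m} (hx1 : x ≠ 1) {A : Subgroup (Sg F m)}
    (hA : TorOrd F m (Nat.card A)) (hA3 : A = DD F m ∨ A = U₁ ∨ A = U₂)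
    (hd : orderOf x ∣ Nat.card A) : ConjIn A x := by
  have h4 : x ^ 4 ≠ 1 := by
    intro h
    have h1 : orderOf x ∣ 4 := orderOf_dvd_of_pow_eq_one h
    have h3 : Nat.Coprime 4 (Nat.card A) := by
      have : Nat.Coprime (2 ^ 2) (Nat.card A) :=
        Nat.Coprime.pow_left 2 (Nat.coprime_two_left.mpr (tor_odd m hA))
      simpa using this
    have h4 := Nat.dvd_gcd h1 hd
    rw [Nat.coprime_iff_gcd_eq_one.mp h3] at h4
    exact hx1 (orderOf_eq_one_iff.mp (Nat.dvd_one.mp h4))
  have key : ∀ {B : Subgroup (Sg F m)}, TorOrd F m (Nat.card B) → ConjIn B x →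
      Nat.card A = Nat.card B := by
    rintro B hB ⟨-, g, hg⟩
    by_contra hne
    apply hx1
    rw [← orderOf_eq_one_iff]
    apply order_dvd_one hA hB hne hd
    have h1 : orderOf x = orderOf (g⁻¹ * x * g) := by
      have := MulEquiv.orderOf_eq (MulAut.conj g⁻¹) x
      rw [MulAut.conj_apply, inv_inv] at this
      exact this.symm
    rw [h1, ← Subgroup.orderOf_mk _ hg]
    exact orderOf_dvd_natCard _
  have hDD : TorOrd F m (Nat.card (DD F m)) := Or.inl (card_DD m)
  have n1 := ne_DD hN.one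
  have n2 := ne_DD hN.two
  have n3 := ne_of_NT2 hN
  rcases types hN hx1 with ⟨z, b, -, h⟩ | ⟨z, a, b, -, h⟩ | h | h | h
  · exact absurd (pow_four' m h) h4
  · exact absurd (pow_four' m h) h4
  · have h1 := key hDD h
    rcases hA3 with rfl | rfl | rfl
    · exact h
    · exact absurd h1 n1.symm
    · exact absurd h1 n2.symm
  · have h1 := key hN.one.torOrd h
    rcases hA3 with rfl | rfl | rfl
    · exact absurd h1 n1
    · exact h
    · exact absurd h1 n3.symm
  · have h1 := key hN.two.torOrd h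
    rcases hA3 with rfl | rfl | rfl
    · exact absurd h1 n2
    · exact absurd h1 n3
    · exact h

variable (F m) in
theorem nSol_main (x : Sg F m) :
    (orderOf x = 2 → nSol x = Fintype.card F ^ 2 * (4 * Fintype.card F - 3)) ∧
    (orderOf x = 4 → nSol x = Fintype.card F ^ 2 * (Fintype.card F + 3)) ∧
    (x ≠ 1 → orderOf x ∣ Fintype.card F - 1 →
      nSol x = 2 * Fintype.card F ^ 2 * (Fintype.card F - 1)) ∧
    (x ≠ 1 → orderOf x ∣ Fintype.card F + 2 ^ (m + 1) + 1 →
      nSol x = 4 * (Fintype.card F + 2 ^ (m + 1) + 1)) ∧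
    (x ≠ 1 → orderOf x ∣ Fintype.card F - 2 ^ (m + 1) + 1 →
      nSol x = 4 * (Fintype.card F - 2 ^ (m + 1) + 1)) := by
  have := Fintype.ofFinite (Sg F m)
  have := Fintype.ofFinite (IrrCharacter (Sg F m))
  obtain ⟨U₁, U₂, hN⟩ := exists_NT2 F m
  have hr := r_le (F := F) m
  have c1 : Nat.card U₁ = Fintype.card F + 2 ^ (m + 1) + 1 := by
    have h1 := hN.one.card
    have : (Nat.card U₁ : ℤ) = ((Fintype.card F + 2 ^ (m + 1) + 1 : ℕ) : ℤ) := by
      rw [h1]; push_cast; ring
    exact_mod_cast this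
  have c2 : Nat.card U₂ = Fintype.card F - 2 ^ (m + 1) + 1 := by
    have h1 := hN.two.card
    have : (Nat.card U₂ : ℤ) = ((Fintype.card F - 2 ^ (m + 1) + 1 : ℕ) : ℤ) := by
      rw [h1]; push_cast [Nat.cast_sub hr]; ring
    exact_mod_cast this
  refine ⟨fun h => ?_, fun h => ?_, fun h1 h => ?_, fun h1 h => ?_, fun h1 h => ?_⟩
  · apply nSol_invol hN
    · rintro rfl
      rw [orderOf_one] at h
      omega
    · rw [← sq, ← h, pow_orderOf_eq_one]
  · apply nSol_four hN
    · exact orderOf_dvd_iff_pow_eq_one.mp h.dvd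
    · intro h0
      have := orderOf_dvd_of_pow_eq_one (x := x) (n := 2) (by rw [sq]; exact h0)
      rw [h] at this
      exact absurd (Nat.le_of_dvd (by norm_num) this) (by norm_num)
  · have hDD : TorOrd F m (Nat.card (DD F m)) := Or.inl (card_DD m)
    obtain ⟨-, g, hg⟩ := conj_of_order hN h1 hDD (Or.inl rfl) (by rw [card_DD]; exact h)
    rw [← nSol_conj g x]
    apply nSol_DD hN hg
    intro h0
    apply h1
    rw [show x = g * (g⁻¹ * x * g) * g⁻¹ by group, h0]; group
  · obtain ⟨-, g, hg⟩ := conj_of_order hN h1 hN.one.torOrd (Or.inr (Or.inl rfl))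
      (by rw [c1]; exact h)
    rw [← nSol_conj g x, ← c1]
    apply nSol_U hN hN.one (Or.inl rfl) hg
    intro h0
    apply h1
    rw [show x = g * (g⁻¹ * x * g) * g⁻¹ by group, h0]; group
  · obtain ⟨-, g, hg⟩ := conj_of_order hN h1 hN.two.torOrd (Or.inr (Or.inr rfl))
      (by rw [c2]; exact h)
    rw [← nSol_conj g x, ← c2]
    apply nSol_U hN hN.two (Or.inr rfl) hg
    intro h0
    apply h1
    rw [show x = g * (g⁻¹ * x * g) * g⁻¹ by group, h0]; group

end Cfsg.Agent.H15.Suz
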