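import Mathlib
import Cfsg.Agent.H15.SzSub6

/-! # Suzuki groups: maximal subgroups and subfield subgroups -/

set_option autoImplicit false

open scoped Pointwise commutatorElement

namespace Cfsg.Agent.H15.Suz

open Cfsg.Agent.H15.IrrLin

section

variable {F : Type*} [Field F] [Fintype F] (m : ℕ) [hS : SzF F m]

theorem not_solvable_Sg : ¬ Group.IsSolvable (Sg F m) := by
  intro h
  have hs := simple_Sg (F := F) m
  have : Nontrivial (Sg F m) := hs.toNontrivial
  have h1 := Group.IsSolvable.commutator_lt_top_of_nontrivial (Sg F m)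
  exact h1.ne (perfect m)

theorem q_lt_of_lt {k l : ℕ} (h : k < l) :
    (2 ^ (2 * k + 1)) ^ 2 * ((2 ^ (2 * k + 1)) ^ 2 + 1) * (2 ^ (2 * k + 1) - 1) <
    (2 ^ (2 * l + 1)) ^ 2 * ((2 ^ (2 * l + 1)) ^ 2 + 1) * (2 ^ (2 * l + 1) - 1) := by
  have h1 : 2 ^ (2 * k + 1) < 2 ^ (2 * l + 1) := Nat.pow_lt_pow_right (by norm_num) (by omega)
  have h2 : 1 < 2 ^ (2 * l + 1) := Nat.one_lt_two_pow (by omega)
  generalize 2 ^ (2 * k + 1) = a at *
  generalize 2 ^ (2 * l + 1) = b at *
  have h3 : a ^ 2 ≤ b ^ 2 := Nat.pow_le_pow_left h1.le 2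
  have h4 : a ^ 2 * (a ^ 2 + 1) ≤ b ^ 2 * (b ^ 2 + 1) := Nat.mul_le_mul h3 (by omega)
  calc a ^ 2 * (a ^ 2 + 1) * (a - 1) ≤ b ^ 2 * (b ^ 2 + 1) * (a - 1) := Nat.mul_le_mul_right _ h4
    _ < b ^ 2 * (b ^ 2 + 1) * (b - 1) := by
        apply Nat.mul_lt_mul_of_pos_left
        · omega
        · have : 0 < b := by omega
          positivity

theorem card_Sg' : Nat.card (Sg F m) = (2 ^ (2 * m + 1)) ^ 2 * ((2 ^ (2 * m + 1)) ^ 2 + 1) *
    (2 ^ (2 * m + 1) - 1) := by rw [card_Sg, hS.card]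

theorem k_eq_of_card {K : Type*} [Field K] [Fintype K] {k : ℕ} [SzF K k]
    (h : Nat.card (Sg K k) = Nat.card (Sg F m)) : k = m := by
  rw [card_Sg', card_Sg'] at h
  rcases lt_trichotomy k m with h1 | h1 | h1
  · have := q_lt_of_lt h1; omega
  · exact h1
  · have := q_lt_of_lt h1; omega

/-- the group `M` is isomorphic to the subfield group -/
theorem equiv_of_subT {M : Subgroup (Sg F m)} {k : ℕ} {K : Type*} [Field K] [Fintype K]
    [SzF K k] {f : K →+* F} {x : Sg F m}
    (h : M.map (MulAut.conj x).toMonoidHom = (emb k m f).range) : Nonempty (M ≃* Sg K k) := by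
  have e1 := M.equivMapOfInjective (MulAut.conj x).toMonoidHom (MulAut.conj x).injective
  have e2 := MonoidHom.ofInjective (emb_inj k m f)
  exact ⟨(e1.trans (MulEquiv.subgroupCongr h)).trans e2.symm⟩

theorem max_class (M : Subgroup (Sg F m)) (hM : M ≠ ⊤) :
    (∃ P : Sylow 2 (Sg F m), M ≤ Subgroup.normalizer ((P : Subgroup (Sg F m)) : Set (Sg F m))) ∨
    (∃ U : Subgroup (Sg F m), IsCyclic U ∧ TorOrd F m (Nat.card U) ∧
      M ≤ Subgroup.normalizer (U : Set (Sg F m))) ∨
    (∃ (K : Type) (_ : Field K) (_ : Fintype K) (k : ℕ), 1 ≤ k ∧ k < m ∧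
      Fintype.card K = 2 ^ (2 * k + 1) ∧ 2 * k + 1 ∣ 2 * m + 1 ∧
      ∃ S : Subgroup (Sg F m), Nonempty (S ≃* Sg K k) ∧ M ≤ S) := by
  rcases sub_class m M with h | ⟨k, K, i1, i2, i3, f, x, h⟩
  · rcases local_of_solvable m M h with h | h
    · exact Or.inl h
    · exact Or.inr (Or.inl h)
  · right; right
    obtain ⟨e⟩ := equiv_of_subT m h
    have hd := exp_dvd k m f
    refine ⟨K, i1, i2, k, i3.one_le, ?_, i3.card, hd, M, ⟨e⟩, le_rfl⟩
    have hle : k ≤ m := by
      have := Nat.le_of_dvd (by omega) hd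
      omega
    rcases hle.lt_or_eq with h1 | h1
    · exact h1
    · exfalso
      apply hM
      subst h1
      apply Subgroup.eq_top_of_card_eq
      rw [Nat.card_congr e.toEquiv, card_Sg', card_Sg']

omit [Fintype F] in
theorem card_fieldRange {K : Type*} [Field K] (f : K →+* F) :
    Nat.card f.fieldRange = Nat.card K :=
  (Nat.card_congr (Equiv.ofBijective (fun a : K => (⟨f a, a, rfl⟩ : f.fieldRange))
    ⟨fun _ _ h => f.injective (congrArg Subtype.val h), by
      rintro ⟨_, ⟨a, rfl⟩⟩; exact ⟨a, rfl⟩⟩)).symm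

theorem exists_same {K K' : Type*} [Field K] [Fintype K] [Field K'] [Fintype K']
    (f : K →+* F) (f' : K' →+* F) (h : Nat.card K = Nat.card K') (a : K) : ∃ a', f' a' = f a :=
  (mem_range_iff f' f.fieldRange ((card_fieldRange f).trans h) (f a)).mp ⟨a, rfl⟩

theorem range_emb_le {K K' : Type*} [Field K] [Fintype K] [Field K'] [Fintype K'] (k : ℕ)
    [hK : SzF K k] [hK' : SzF K' k] (f : K →+* F) (f' : K' →+* F) :
    (emb k m f).range ≤ (emb k m f').range := by
  have hc : Nat.card K = Nat.card K' := by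
    rw [Nat.card_eq_fintype_card, Nat.card_eq_fintype_card, hK.card, hK'.card]
  have key := exists_same f f' hc
  rintro _ ⟨g, rfl⟩
  refine Sg_induction k (P := fun g => emb k m f g ∈ (emb k m f').range) ?_ ?_ ?_ ?_ g
  · intro a b
    obtain ⟨a', ha'⟩ := key a
    obtain ⟨b', hb'⟩ := key b
    exact ⟨t k a' b', by rw [emb_t, emb_t, ha', hb']⟩
  · intro u
    obtain ⟨u', hu'⟩ := key u
    have hu0 : u' ≠ 0 := by
      rintro rfl
      rw [map_zero] at hu'
      exact u.ne_zero (f.injective (by rw [← hu', map_zero]))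
    refine ⟨dd k (Units.mk0 u' hu0), ?_⟩
    rw [emb_dd, emb_dd]
    congr 1
    exact Units.ext hu'
  · exact ⟨w K' k, by rw [emb_w, emb_w]⟩
  · intro x y hx hy
    rw [map_mul]
    exact mul_mem hx hy

theorem subfield_unique {K : Type*} [Field K] [Fintype K] (k : ℕ) [hK : SzF K k]
    (hdiv : 2 * k + 1 ∣ 2 * m + 1) :
    (∃ S : Subgroup (Sg F m), Nonempty (S ≃* Sg K k)) ∧
    ∀ S₁ S₂ : Subgroup (Sg F m), Nonempty (S₁ ≃* Sg K k) → Nonempty (S₂ ≃* Sg K k) →
      ∃ g : Sg F m, S₂ = S₁.map (MulAut.conj g).toMonoidHom := by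
  obtain ⟨f⟩ := exists_embedding hK.card hS.card hdiv
  constructor
  · exact ⟨(emb k m f).range, ⟨(MonoidHom.ofInjective (emb_inj k m f)).symm⟩⟩
  · have key : ∀ S : Subgroup (Sg F m), Nonempty (S ≃* Sg K k) →
        ∃ x : Sg F m, S.map (MulAut.conj x).toMonoidHom = (emb k m f).range := by
      rintro S ⟨e⟩
      rcases sub_class m S with h | ⟨k', K', i1, i2, i3, f', x, h⟩
      · exfalso
        apply not_solvable_Sg (F := K) k
        exact Group.isSolvable_of_surjective (f := e.toMonoidHom) e.surjective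
      · obtain ⟨e'⟩ := equiv_of_subT m h
        have h1 : Nat.card (Sg K' k') = Nat.card (Sg K k) := by
          rw [← Nat.card_congr e'.toEquiv, Nat.card_congr e.toEquiv]
        have h2 := k_eq_of_card k h1
        subst h2
        refine ⟨x, ?_⟩
        rw [h]
        exact le_antisymm (range_emb_le m k' f' f) (range_emb_le m k' f f')
    intro S₁ S₂ h1 h2
    obtain ⟨x, hx⟩ := key S₁ h1
    obtain ⟨y, hy⟩ := key S₂ h2
    refine ⟨y⁻¹ * x, ?_⟩
    rw [← map_conj_conj, hx, ← hy, map_conj_conj, inv_mul_cancel]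
    ext g
    rw [mem_map_conj]; simp

end

end Cfsg.Agent.H15.Suz
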