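import Cfsg.Agent.H15.TwInv7
import Cfsg.Agent.H6.TabD4
import Cfsg.Agent.H6.ChevExtTab
import Cfsg.Agent.H6.TwOrder2

/-!
# Involution classes of `3D4(q)`, `q` even
-/

set_option autoImplicit false
set_option linter.unusedSectionVars false
set_option maxRecDepth 100000

namespace Cfsg.Agent.H15.Chev.I3D4

open Cfsg.Agent.H6 Cfsg.Lie Cfsg.Agent.H22 Cfsg.Agent.H15.Chev
open scoped Matrix

def EE : ℕ → List (ℕ × ℕ) := entF chevD4 (caF 4 24 TD4.CA) (coF 4 24 TD4.CO) (ngF 24)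

theorem EE_eq : EE = ent chevD4 :=
  entF_eq _ _ _ _ (chkCartan_spec TD4.c_cartan) (chkCoroot_spec TD4.c_coroot) (chkNeg_spec TD4.c_neg)

def RC : List (List ℕ × List (ℕ × List ℕ)) :=
  [([23], [(1, [27]), (4, [0]), (5, [18]), (6, [19]), (7, [20]), (8, [21]), (10, [23]), (11, [24]), (12, [25]), (13, [26])]),
   ([23, 18, 13, 12], [(1, [16]), (9, [0]), (13, [26]), (12, [13]), (8, [21]), (7, [8]), (11, [24]), (10, [11]), (6, [19]), (5, [6]), (14, [2]), (4, [3])])]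

def C0 : List (ℕ × ℕ × ℕ) := [(22, 0, 23), (14, 1, 22), (17, 11, 22), (20, 21, 22), (21, 31, 22), (9, 0, 14), (19, 1, 17), (16, 1, 20), (15, 1, 21), (1, 1, 9), (4, 11, 9), (7, 21, 9), (8, 31, 9), (18, 0, 19), (13, 0, 16), (12, 0, 15), (0, 0, 1), (5, 0, 4), (6, 1, 4), (10, 0, 7), (3, 1, 7), (11, 0, 8), (2, 1, 8)]

theorem hEv : tabEv chevD4 = true := by decide +kernel
theorem hSym : tabSym chevD4 = true := by decide +kernel
theorem tbf : tabBf chevD4 = true := by decide +kernel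

def okD (js : List (Fin 2)) (n ru s : ℕ) : Bool :=
  Nat.ble (s + 1) 24 && js.any fun j =>
    (Nat.beq ru (j : ℕ) && Nat.beq n (rfw chevD4 (WD4a.LL j) s)) ||
    (Nat.beq (j : ℕ) 1 && ((Nat.beq ru 11 && Nat.beq n (nxt chevD4 d4m1 s)) || ((Nat.beq ru 21 && Nat.beq n (nxt chevD4 d4m3 s)) ||
        (Nat.beq ru 31 && Nat.beq n (nxt chevD4 d4m4 s)))) &&
      (okOne chevD4 d4m1 s (nxt chevD4 d4m1 s) && (okOne chevD4 d4m3 s (nxt chevD4 d4m3 s) && (okOne chevD4 d4m4 s (nxt chevD4 d4m4 s) &&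
        (Nat.ble (nxt chevD4 d4m3 s + 1) 24 && (Nat.ble (nxt chevD4 d4m4 s + 1) 24 && (Nat.ble (nxt chevD4 d4m3 (nxt chevD4 d4m4 s) + 1) 24 &&
        (okOne chevD4 d4m1 (nxt chevD4 d4m3 s) (nxt chevD4 d4m1 (nxt chevD4 d4m3 s)) &&
        (okOne chevD4 d4m1 (nxt chevD4 d4m4 s) (nxt chevD4 d4m1 (nxt chevD4 d4m4 s)) &&
        (okOne chevD4 d4m3 (nxt chevD4 d4m4 s) (nxt chevD4 d4m3 (nxt chevD4 d4m4 s)) &&
        okOne chevD4 d4m1 (nxt chevD4 d4m3 (nxt chevD4 d4m4 s)) (nxt chevD4 d4m1 (nxt chevD4 d4m3 (nxt chevD4 d4m4 s)))))))))))))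

def J0 : List ℕ := [0, 1, 2, 3]
def J1 : List ℕ := [0, 2, 3]

theorem st0 : chkSt chevD4 4 24 12 (cO TD4.MO) (sP WD4a.RT) J0 23 = true := by decide +kernel
theorem re0 : ((List.range 24).all fun s => !(inP 4 (cO TD4.MO) J0 s) ||
  (reachL (okD [0, 1]) C0 [23]).any fun k => Nat.beq k s) = true := by decide +kernel
theorem hC : RC.all (okR EE 32 24 28) = true := by decide +kernel
theorem hnd : (RC.map fun e => e.2.length).Nodup := by decide +kernel
/-- the stabiliser list -/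
def JJ (JL : List ℕ) (r : ℕ) : List ℕ := JL.filter fun j => decide (chevD4.cartan j r = 0)
theorem js1 : JJ J0 23 = J1 := by decide +kernel
theorem rk1 : ((List.range 24).all fun r => inP 4 (cO TD4.MO) J1 (sP WD4a.RT r) == inP 4 (cO TD4.MO) J1 r) = true := by decide +kernel
theorem rkA : ((List.range 24).all fun r => inP 4 (cO TD4.MO) J0 (sP WD4a.RT r) == inP 4 (cO TD4.MO) J0 r) = true := by decide +kernel
theorem inJ1 : inP 4 (cO TD4.MO) J1 12 = true ∧ inP 4 (cO TD4.MO) J1 13 = true ∧ inP 4 (cO TD4.MO) J1 18 = true := by decide +kernel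
theorem fixes : Nat.ble (23 + 1) 24 = true ∧ sP WD4a.RT 23 = 23 := by decide +kernel

end Cfsg.Agent.H15.Chev.I3D4
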