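import Cfsg.Agent.H15.TwInv7
import Cfsg.Agent.H15.ChevInvE6
import Cfsg.Agent.H6.TwOrder2

/-!
# Involution classes of `2E6(q)`, `q` even
-/

set_option autoImplicit false
set_option linter.unusedSectionVars false
set_option maxRecDepth 100000

namespace Cfsg.Agent.H15.Chev.I2E6

open Cfsg.Agent.H6 Cfsg.Lie Cfsg.Agent.H22 Cfsg.Agent.H15.Chev
open scoped Matrix

def RC : List (List ℕ × List (ℕ × List ℕ)) :=
  [([71], [(1, [77]), (6, [0]), (7, [52]), (8, [53]), (9, [54]), (10, [55]), (11, [56]), (12, [57]), (13, [58]), (14, [59]), (15, [60]), (16, [61]), (22, [67]), (23, [68]), (24, [69]), (25, [70]), (26, [71]), (27, [72]), (28, [73]), (29, [74]), (30, [75]), (31, [76])]),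
   ([71, 60], [(0, [66]), (1, [77]), (6, [0]), (10, [55]), (13, [58]), (15, [60]), (16, [61]), (17, [2]), (18, [42]), (19, [44]), (20, [47]), (21, [51]), (22, [67]), (23, [68]), (24, [69]), (7, [24]), (25, [70]), (26, [71]), (8, [26]), (27, [72]), (9, [27]), (28, [73]), (29, [74]), (11, [29]), (30, [75]), (12, [30]), (31, [76]), (14, [31]), (32, [62]), (36, [63]), (39, [64]), (41, [65])]),
   ([71, 60, 44], [(2, [50]), (0, [66]), (1, [77]), (13, [58]), (15, [60]), (16, [61]), (10, [16]), (19, [44]), (20, [47]), (21, [51]), (18, [21]), (23, [68]), (25, [70]), (27, [72]), (9, [27]), (28, [73]), (22, [28]), (29, [74]), (11, [29]), (30, [75]), (24, [30]), (12, [57]), (7, [12]), (31, [76]), (26, [31]), (14, [59]), (8, [14]), (34, [43]), (35, [46]), (36, [63]), (37, [48]), (39, [64]), (40, [49]), (41, [65]), (32, [41]), (6, [0]), (17, [2]), (33, [0, 3])])]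

def C0 : List (ℕ × ℕ × ℕ) := [(70, 0, 71), (69, 1, 70), (65, 2, 69), (66, 12, 69), (68, 22, 69), (63, 1, 65), (53, 3, 65), (54, 13, 65), (64, 23, 65), (55, 3, 66), (67, 3, 68), (60, 0, 63), (51, 3, 63), (52, 13, 63), (62, 23, 63), (44, 3, 60), (45, 13, 60), (59, 23, 60), (47, 2, 51), (48, 12, 51), (50, 22, 51), (49, 2, 52), (61, 2, 62), (39, 2, 44), (40, 12, 44), (43, 22, 44), (41, 2, 45), (58, 2, 59), (46, 1, 47), (32, 1, 39), (37, 1, 40), (42, 1, 43), (38, 1, 41), (57, 1, 58), (25, 0, 46), (24, 0, 32), (27, 2, 32), (28, 12, 32), (31, 22, 32), (34, 2, 37), (29, 2, 42), (36, 2, 38), (56, 2, 57), (20, 2, 24), (21, 12, 24), (23, 22, 24), (11, 3, 27), (12, 13, 27), (26, 23, 27), (13, 3, 28), (30, 3, 31), (33, 3, 34), (14, 3, 29), (35, 3, 36), (15, 3, 56), (18, 1, 20), (8, 3, 20), (9, 13, 20), (19, 23, 20), (10, 3, 21), (22, 3, 23), (6, 3, 18), (7, 13, 18), (17, 23, 18), (2, 2, 6), (3, 12, 6), (5, 22, 6), (4, 2, 7), (16, 2, 17), (1, 1,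 2), (0, 0, 1)]
def C1 : List (ℕ × ℕ × ℕ) := [(44, 3, 60), (45, 13, 60), (59, 23, 60), (39, 2, 44), (40, 12, 44), (43, 22, 44), (41, 2, 45), (58, 2, 59), (32, 1, 39), (37, 1, 40), (42, 1, 43), (38, 1, 41), (57, 1, 58), (27, 2, 32), (28, 12, 32), (31, 22, 32), (34, 2, 37), (29, 2, 42), (36, 2, 38), (56, 2, 57), (11, 3, 27), (12, 13, 27), (26, 23, 27), (13, 3, 28), (30, 3, 31), (33, 3, 34), (14, 3, 29), (35, 3, 36), (15, 3, 56)]
def C2 : List (ℕ × ℕ × ℕ) := [(39, 2, 44), (40, 12, 44), (43, 22, 44), (32, 1, 39), (37, 1, 40), (42, 1, 43), (27, 2, 32), (28, 12, 32), (31, 22, 32), (34, 2, 37), (29, 2, 42)]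
def C3 : List (ℕ × ℕ × ℕ) := [(32, 1, 39)]

theorem tbf : tabBf chevE6 = true := by decide +kernel

/-- root pairs of the orbits -/
def pa (j : ℕ) : ℕ := bif Nat.beq j 2 then e6m3 else e6m1
def pb (j : ℕ) : ℕ := bif Nat.beq j 2 then e6m5 else e6m6

def okE (js : List (Fin 4)) (n ru s : ℕ) : Bool :=
  Nat.ble (s + 1) 72 && js.any fun j =>
    (Nat.beq ru (j : ℕ) && Nat.beq n (rfw chevE6 (WE6.LL j) s)) ||
    (Nat.ble 2 (j : ℕ) && ((Nat.beq ru (10 + j) && Nat.beq n (nxt chevE6 (pa j) s)) || (Nat.beq ru (20 + j) && Nat.beq n (nxt chevE6 (pb j) s))) &&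
      (okOne chevE6 (pa j) s (nxt chevE6 (pa j) s) && (okOne chevE6 (pb j) s (nxt chevE6 (pb j) s) &&
        (Nat.ble (nxt chevE6 (pb j) s + 1) 72 && okOne chevE6 (pa j) (nxt chevE6 (pb j) s) (nxt chevE6 (pa j) (nxt chevE6 (pb j) s))))))

def J0 : List ℕ := [0, 1, 2, 3, 4, 5]
def J1 : List ℕ := [0, 2, 3, 4, 5]
def J2 : List ℕ := [2, 3, 4]
def J3 : List ℕ := [3]
def J4 : List ℕ := []

theorem st0 : chkSt chevE6 6 72 36 (cO TE6.MO) (sP WE6.RT) J0 71 = true := by decide +kernel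
theorem st1 : chkSt chevE6 6 72 36 (cO TE6.MO) (sP WE6.RT) J1 60 = true := by decide +kernel
theorem st2 : chkSt chevE6 6 72 36 (cO TE6.MO) (sP WE6.RT) J2 44 = true := by decide +kernel
theorem st3 : chkSt chevE6 6 72 36 (cO TE6.MO) (sP WE6.RT) J3 39 = true := by decide +kernel
theorem re0 : ((List.range 72).all fun s => !(inP 6 (cO TE6.MO) J0 s) ||
  (reachL (okE [0, 1, 2, 3]) C0 [71]).any fun k => Nat.beq k s) = true := by decide +kernel
theorem re1 : ((List.range 72).all fun s => !(inP 6 (cO TE6.MO) J1 s) ||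
  (reachL (okE [1, 2, 3]) C1 [60]).any fun k => Nat.beq k s) = true := by decide +kernel
theorem re2 : ((List.range 72).all fun s => !(inP 6 (cO TE6.MO) J2 s) ||
  (reachL (okE [1, 2]) C2 [44]).any fun k => Nat.beq k s) = true := by decide +kernel
theorem re3 : ((List.range 72).all fun s => !(inP 6 (cO TE6.MO) J3 s) ||
  (reachL (okE [1]) C3 [39]).any fun k => Nat.beq k s) = true := by decide +kernel
theorem hC : RC.all (okR IE6.EE 128 72 78) = true := by decide +kernel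
theorem hnd : (RC.map fun e => e.2.length).Nodup := by decide +kernel
/-- the four-term product is conjugate to the three-term product -/
theorem rel4 : ([25, 20, 8, 47, 71, 60, 44, 39].all (okEnt IE6.EE 72 78) && [71, 60, 44, 25, 20, 8, 47].all (okEnt IE6.EE 72 78) &&
    Nat.beq (wordM IE6.EE 78 128 [25, 20, 8, 47, 71, 60, 44, 39]) (wordM IE6.EE 78 128 [71, 60, 44, 25, 20, 8, 47])) = true := by
  decide +kernel
theorem fixes : [71, 60, 44, 39, 25, 20, 8, 47].all (fun r => Nat.ble (r + 1) 72 && Nat.beq (sP WE6.RT r) r) = true := by decide +kernel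
theorem em4 : (List.range 72).all (fun s => !(inP 6 (cO TE6.MO) J4 s)) = true := by decide +kernel
/-- the stabiliser lists -/
def JJ (JL : List ℕ) (r : ℕ) : List ℕ := JL.filter fun j => decide (chevE6.cartan j r = 0)
theorem js1 : (JJ J0 71, JJ J1 60, JJ J2 44, JJ J3 39) = (J1, J2, J3, J4) := by decide +kernel

end Cfsg.Agent.H15.Chev.I2E6
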