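import Cfsg.Agent.H15.ChevReg

/-!
# `B`-invariant subgroups of `U` in Chevalley groups
-/

set_option autoImplicit false
set_option linter.unusedSectionVars false

namespace Cfsg.Agent.H15.WCl

open Cfsg.Agent.H6 Cfsg.Lie Cfsg.Agent.H22 Cfsg.Agent.H15.Chev
open scoped Matrix

theorem two_squares {F : Type*} [Field F] [Fintype F] (x : F) : ∃ a b : F, a ^ 2 + b ^ 2 = x := by
  by_cases h : ringChar F = 2
  · obtain ⟨a, ha⟩ := FiniteField.isSquare_of_char_two h x
    exact ⟨a, 0, by rw [ha]; ring⟩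
  · have hodd := FiniteField.odd_card_of_char_ne_two h
    obtain ⟨a, b, hab⟩ := FiniteField.exists_root_sum_quadratic (R := F) (f := Polynomial.X ^ 2)
      (g := Polynomial.X ^ 2 - Polynomial.C x) (by simp) (by
        rw [Polynomial.degree_X_pow_sub_C (by norm_num)]; rfl) hodd
    refine ⟨a, b, ?_⟩
    simp at hab
    linear_combination hab

variable {D : ChevalleyDatum} {N : ℕ} {η : ℕ → ℕ → ℤ} {rc : ℕ → ℕ → ℤ} {F : Type*} [Field F]
variable (hG : Good D N η rc) (hE : Ext D rc)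

include hG in
/-- induction from dominant roots -/
theorem dom_induction {p : ℕ → Prop} (h1 : ∀ r < D.nroots, (∀ i < D.rank, 0 ≤ D.cartan i r) → p r)
    (h2 : ∀ i < D.rank, ∀ r < D.nroots, p (D.reflectRoot i r) → p r) : ∀ r < D.nroots, p r := by
  have key : ∀ k, ∀ r < D.nroots, D.nroots - r = k → p r := by
    intro k
    induction k using Nat.strong_induction_on with
    | _ k ih =>
      intro r hr hk
      by_cases h : ∀ i < D.rank, 0 ≤ D.cartan i r
      · exact h1 r hr h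
      · push Not at h
        obtain ⟨i, hi, hc⟩ := h
        have h3 := hG.lt_w hi hr hc
        have h4 := hG.w_lt i hi r hr
        exact h2 i hi r hr (ih _ (by omega) _ h4 rfl)
  intro r hr
  exact key _ r hr rfl

/-- elements of level at least `m` -/
noncomputable abbrev UG (D : ChevalleyDatum) (N : ℕ) (F : Type*) [Field F] (m : ℕ) : Subgroup (GL D.Idx F) :=
  US (xg D F) ({r | N ≤ r ∧ r < D.nroots} ∩ {k | m ≤ k})

/-- `t` is a leading coefficient modulo level `m` -/
def LT (N : ℕ) (X : Subgroup (GL D.Idx F)) (r m : ℕ) (t : F) : Prop := ∃ u ∈ UG D N F m, xg D F r t * u ∈ X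

/-- separation of two roots -/
def Sep (N : ℕ) (X : Subgroup (GL D.Idx F)) (r k : ℕ) : Prop :=
  ∀ t s : F, t ≠ 0 → s ≠ 0 → ∀ u ∈ UG D N F (k + 1), xg D F r t * (xg D F k s * u) ∈ X → LT N X r (k + 1) t

include hG hE

theorem UG_conj {m r : ℕ} (hN : N ≤ r) (hr : r < D.nroots) (t : F) {u : GL D.Idx F} (hu : u ∈ UG D N F m) :
    xg D F r t * u * (xg D F r t)⁻¹ ∈ UG D N F m :=
  hG.conj_mem_US' (hG.rd hE) hG.pClo_all (mem_US (S := {r | N ≤ r ∧ r < D.nroots}) ⟨hN, hr⟩ t) m hu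

theorem UG_conj' {m r : ℕ} (hN : N ≤ r) (hr : r < D.nroots) (t : F) {u : GL D.Idx F} (hu : u ∈ UG D N F m) :
    (xg D F r t)⁻¹ * u * xg D F r t ∈ UG D N F m := by
  have := UG_conj hG hE hN hr (-t) hu
  rwa [hG.xg_neg, inv_inv] at this

theorem UG_diag {m : ℕ} {h : GL D.Idx F} (hh : h ∈ D.diagonalSubgroup F) {u : GL D.Idx F} (hu : u ∈ UG D N F m) :
    h * u * h⁻¹ ∈ UG D N F m := by
  have h1 := diag_norm_US hG hE (F := F) (S := {r | N ≤ r ∧ r < D.nroots} ∩ {k | m ≤ k}) (fun s hs => hs.1.2) hh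
  exact (Subgroup.mem_normalizer_iff.1 h1 u).1 hu

theorem tor_pairing_mem {γ : ℕ} (hγ : γ < D.nroots) (c : Fˣ) :
    tor D F (fun s => c ^ D.pairing γ s) ∈ D.diagonalSubgroup F := by
  rw [← hG.hgr_eq_tor γ hγ c]
  exact Subgroup.subset_closure ⟨γ, c, hγ, Units.ne_zero c, hG.coe_hgr _ _⟩

variable {X : Subgroup (GL D.Idx F)}

theorem LT_add {r m : ℕ} (hN : N ≤ r) (hr : r < D.nroots) {t t' : F} (h : LT N X r m t) (h' : LT N X r m t') :
    LT N X r m (t + t') := by
  obtain ⟨u, hu, h1⟩ := h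
  obtain ⟨u', hu', h1'⟩ := h'
  refine ⟨(xg D F r t')⁻¹ * u * xg D F r t' * u', mul_mem (UG_conj' hG hE hN hr t' hu) hu', ?_⟩
  have e : xg D F r (t + t') * ((xg D F r t')⁻¹ * u * xg D F r t' * u') = (xg D F r t * u) * (xg D F r t' * u') := by
    rw [hG.xg_add]; group
  rw [e]
  exact mul_mem h1 h1'

theorem LT_smul (hX : ∀ b ∈ D.diagonalSubgroup F, ∀ x ∈ X, b * x * b⁻¹ ∈ X) {r m : ℕ} (hr : r < D.nroots) {t : F}
    {γ : ℕ} (hγ : γ < D.nroots) (c : Fˣ) (h : LT N X r m t) : LT N X r m (((c ^ D.pairing γ r : Fˣ) : F) * t) := by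
  obtain ⟨u, hu, h1⟩ := h
  have hh := tor_pairing_mem hG hE hγ c
  refine ⟨_, UG_diag hG hE hh hu, ?_⟩
  have h2 := hX _ hh _ h1
  have h3 := hG.tor_conj_xg (hG.isChr_pairing γ c) hr t
  have e : tor D F (fun s => c ^ D.pairing γ s) * (xg D F r t * u) * (tor D F (fun s => c ^ D.pairing γ s))⁻¹ =
      (tor D F (fun s => c ^ D.pairing γ s) * xg D F r t * (tor D F (fun s => c ^ D.pairing γ s))⁻¹) *
      (tor D F (fun s => c ^ D.pairing γ s) * u * (tor D F (fun s => c ^ D.pairing γ s))⁻¹) := by group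
  rw [e, h3] at h2
  exact h2

theorem LT_all [Fintype F] (hX : ∀ b ∈ D.diagonalSubgroup F, ∀ x ∈ X, b * x * b⁻¹ ∈ X) {r m : ℕ} (hN : N ≤ r)
    (hr : r < D.nroots) {t : F} (ht : t ≠ 0) (h : LT N X r m t) (s : F) : LT N X r m s := by
  have h0 : LT N X r m 0 := ⟨1, one_mem _, by rw [hG.xg_zero, one_mul]; exact one_mem _⟩
  have hsq : ∀ a : F, LT N X r m (a ^ 2 * t) := by
    intro a
    by_cases ha : a = 0
    · rw [ha, zero_pow two_ne_zero, zero_mul]; exact h0
    · have h1 := LT_smul hG hE hX hr hr (Units.mk0 a ha) h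
      rw [hG.pairing_self hr] at h1
      have e : (((Units.mk0 a ha) ^ (2 : ℤ) : Fˣ) : F) = a ^ 2 := by
        rw [Units.val_zpow_eq_zpow_val]; exact zpow_ofNat a 2
      rwa [e] at h1
  obtain ⟨a, b, hab⟩ := two_squares (s / t)
  have h1 := LT_add hG hE hN hr (hsq a) (hsq b)
  rwa [← add_mul, hab, div_mul_cancel₀ s ht] at h1

/-- separation by a torus element trivial on the first root -/
theorem sep_of_torus [Fintype F] (hX : ∀ b ∈ D.diagonalSubgroup F, ∀ x ∈ X, b * x * b⁻¹ ∈ X) {r k γ : ℕ} (hN : N ≤ r)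
    (hrk : r < k) (hk : k < D.nroots) (hγ : γ < D.nroots) (h0 : D.pairing γ r = 0) (c : Fˣ)
    (hc : c ^ D.pairing γ k ≠ 1) : Sep N X r k := by
  intro t s ht hs u hu hy
  have hr : r < D.nroots := by omega
  have hNk : N ≤ k := by omega
  set h := tor D F (fun s => c ^ D.pairing γ s) with hh
  have hhm := tor_pairing_mem hG hE hγ c
  rw [← hh] at hhm
  have h1 := hX _ hhm _ hy
  have h2 := hG.tor_conj_xg (hG.isChr_pairing γ c) hr t
  have h3 := hG.tor_conj_xg (hG.isChr_pairing γ c) hk s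
  rw [← hh] at h2 h3
  simp only [h0, zpow_zero, Units.val_one, one_mul] at h2
  set lam : F := ((c ^ D.pairing γ k : Fˣ) : F) with hlam
  have hlam1 : lam ≠ 1 := fun h => hc (Units.ext h)
  have e1 : h * (xg D F r t * (xg D F k s * u)) * h⁻¹ = xg D F r t * (xg D F k (lam * s) * (h * u * h⁻¹)) := by
    have : h * (xg D F r t * (xg D F k s * u)) * h⁻¹ = (h * xg D F r t * h⁻¹) * ((h * xg D F k s * h⁻¹) * (h * u * h⁻¹)) := by
      group
    rw [this, h2, h3]
  rw [e1] at h1
  have hu' := UG_diag hG hE hhm hu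
  have h4 : LT N X k (k + 1) ((lam - 1) * s) := by
    refine ⟨(xg D F k ((lam - 1) * s))⁻¹ * u⁻¹ * xg D F k ((lam - 1) * s) * (h * u * h⁻¹),
      mul_mem (UG_conj' hG hE hNk hk _ (inv_mem hu)) hu', ?_⟩
    have h5 := mul_mem (inv_mem hy) h1
    have e : (xg D F r t * (xg D F k s * u))⁻¹ * (xg D F r t * (xg D F k (lam * s) * (h * u * h⁻¹))) =
        xg D F k ((lam - 1) * s) * ((xg D F k ((lam - 1) * s))⁻¹ * u⁻¹ * xg D F k ((lam - 1) * s) * (h * u * h⁻¹)) := by
      have e2 : xg D F k (lam * s) = xg D F k s * xg D F k ((lam - 1) * s) := by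
        rw [← hG.xg_add]; congr 1; ring
      rw [e2]; group
    rwa [e] at h5
  have h5 := LT_all hG hE hX hNk hk (mul_ne_zero (sub_ne_zero.2 hlam1) hs) h4 s
  obtain ⟨v, hv, h6⟩ := h5
  refine ⟨xg D F k s * (u * v⁻¹) * (xg D F k s)⁻¹, UG_conj hG hE hNk hk s (mul_mem hu (inv_mem hv)), ?_⟩
  have e : xg D F r t * (xg D F k s * (u * v⁻¹) * (xg D F k s)⁻¹) = (xg D F r t * (xg D F k s * u)) * (xg D F k s * v)⁻¹ := by
    group
  rw [e]
  exact mul_mem hy (inv_mem h6)

/-- a level-`k` element splits off its `k`-component -/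
theorem UG_split {k : ℕ} (hN : N ≤ k) (hk : k < D.nroots) {u : GL D.Idx F} (hu : u ∈ UG D N F k) :
    ∃ s : F, ∃ v ∈ UG D N F (k + 1), u = xg D F k s * v := by
  obtain ⟨τ, -, h⟩ := hG.exists_op (hG.rd hE) hG.pClo_all (D.nroots - k) k (by omega) _ hu
  have e : D.nroots - k = (D.nroots - (k + 1)) + 1 := by omega
  rw [e, op_succ] at h
  refine ⟨τ k, _, ?_, h⟩
  have key : ∀ j m : ℕ, k + 1 ≤ m → m + j ≤ D.nroots → op (xg D F) τ m j ∈ UG D N F (k + 1) := by
    intro j
    induction j with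
    | zero => intro m _ _; rw [op_zero]; exact one_mem _
    | succ j ih =>
      intro m h1 h2
      rw [op_succ]
      exact mul_mem (mem_US (S := {r | N ≤ r ∧ r < D.nroots} ∩ {j | k + 1 ≤ j}) ⟨⟨by omega, by omega⟩, h1⟩ _) (ih _ (by omega) (by omega))
  exact key _ _ le_rfl (by omega)

theorem UG_top : UG D N F D.nroots = ⊥ := by
  have : ({r | N ≤ r ∧ r < D.nroots} ∩ {k | D.nroots ≤ k} : Set ℕ) = ∅ := by
    ext r
    simp only [Set.mem_inter_iff, Set.mem_ofPred_eq, Set.mem_empty_iff_false, iff_false, not_and]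
    intro h1; omega
  unfold UG
  rw [this, US_empty]

theorem UG_top' {m : ℕ} (hm : D.nroots ≤ m) : UG D N F m = ⊥ := by
  have : ({r | N ≤ r ∧ r < D.nroots} ∩ {k | m ≤ k} : Set ℕ) = ∅ := by
    ext r
    simp only [Set.mem_inter_iff, Set.mem_ofPred_eq, Set.mem_empty_iff_false, iff_false, not_and]
    intro h1; omega
  unfold UG
  rw [this, US_empty]

/-- the leading component of an element of `X` is in `X` -/
theorem lead_mem {r : ℕ} (hS : ∀ k, r < k → k < D.nroots → Sep N X r k) (hN : N ≤ r) (hr : r < D.nroots)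
    {t : F} {u : GL D.Idx F} (hu : u ∈ UG D N F (r + 1)) (hx : xg D F r t * u ∈ X) : xg D F r t ∈ X := by
  by_cases ht : t = 0
  · rw [ht, hG.xg_zero]; exact one_mem _
  have key : ∀ k, r + 1 ≤ k → k ≤ D.nroots → LT N X r k t := by
    intro k hk
    induction k, hk using Nat.le_induction with
    | base => intro _; exact ⟨u, hu, hx⟩
    | succ k hk ih =>
      intro hk'
      obtain ⟨v, hv, h1⟩ := ih (by omega)
      obtain ⟨s, w, hw, rfl⟩ := UG_split hG hE (show N ≤ k by omega) (by omega) hv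
      by_cases hs : s = 0
      · refine ⟨w, hw, ?_⟩
        rwa [hs, hG.xg_zero, one_mul] at h1
      · exact hS k (by omega) (by omega) t s ht hs w hw h1
  obtain ⟨v, hv, h1⟩ := key _ hr le_rfl
  rw [UG_top hG hE, Subgroup.mem_bot] at hv
  rwa [hv, mul_one] at h1

/-- all components of an element of `X` are in `X` -/
theorem comp_mem (hS : ∀ r k, N ≤ r → r < k → k < D.nroots → Sep N X r k) (τ : ℕ → F) :
    ∀ j m : ℕ, N ≤ m → m + j = D.nroots → op (xg D F) τ m j ∈ X → ∀ r, m ≤ r → r < D.nroots → xg D F r (τ r) ∈ X := by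
  intro j
  induction j with
  | zero => intro m _ h1 _ r h2 h3; omega
  | succ j ih =>
    intro m hm h1 h2 r h3 h4
    have h6 : op (xg D F) τ (m + 1) j ∈ UG D N F (m + 1) := by
      have key : ∀ j' m' : ℕ, m + 1 ≤ m' → m' + j' ≤ D.nroots → op (xg D F) τ m' j' ∈ UG D N F (m + 1) := by
        intro j'
        induction j' with
        | zero => intro m' _ _; rw [op_zero]; exact one_mem _
        | succ j' ih' =>
          intro m' h1' h2'
          rw [op_succ]
          exact mul_mem (mem_US (S := {r | N ≤ r ∧ r < D.nroots} ∩ {j | m + 1 ≤ j}) ⟨⟨by omega, by omega⟩, h1'⟩ _) (ih' _ (by omega) (by omega))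
      exact key _ _ le_rfl (by omega)
    rw [op_succ] at h2
    have h5 := lead_mem hG hE (fun k h1 h2 => hS m k hm h1 h2) hm (by omega) h6 h2
    rcases Nat.eq_or_lt_of_le h3 with rfl | h7
    · exact h5
    · refine ih (m + 1) (by omega) (by omega) ?_ r h7 h4
      have := mul_mem (inv_mem h5) h2
      rwa [inv_mul_cancel_left] at this

/-- components of a word with increasing roots -/
theorem word_mem :
    ∀ L : List (ℕ × F), (∀ e ∈ L, ∀ k, e.1 < k → k < D.nroots → Sep N X e.1 k) → (L.map Prod.fst).Pairwise (· < ·) → (∀ e ∈ L, N ≤ e.1 ∧ e.1 < D.nroots) → xw (xg D F) L ∈ X →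
      ∀ e ∈ L, xg D F e.1 e.2 ∈ X := by
  intro L
  induction L with
  | nil => intro _ _ _ _ e he; exact absurd he (List.not_mem_nil)
  | cons a L ih =>
    intro hS h1 h2 h3 e he
    rw [List.map_cons, List.pairwise_cons] at h1
    have e1 : xw (xg D F) (a :: L) = xg D F a.1 a.2 * xw (xg D F) L := by
      unfold xw; rw [List.map_cons, List.prod_cons]
    rw [e1] at h3
    have h4 : xw (xg D F) L ∈ UG D N F (a.1 + 1) := by
      apply xw_mem
      intro b hb
      have h5 := h2 b (List.mem_cons_of_mem _ hb)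
      exact mem_US (S := {r | N ≤ r ∧ r < D.nroots} ∩ {j | a.1 + 1 ≤ j}) ⟨h5, h1.1 b.1 (List.mem_map_of_mem hb)⟩ _
    have h5 := lead_mem hG hE (hS a List.mem_cons_self) (h2 a List.mem_cons_self).1 (h2 a List.mem_cons_self).2 h4 h3
    rcases List.mem_cons.1 he with rfl | he
    · exact h5
    · refine ih (fun e he => hS e (List.mem_cons_of_mem _ he)) h1.2 (fun e he => h2 e (List.mem_cons_of_mem _ he)) ?_ e he
      have := mul_mem (inv_mem h5) h3
      rwa [inv_mul_cancel_left] at this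

end Cfsg.Agent.H15.WCl
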