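import Cfsg.Agent.H15.WCl1

/-!
# Weakly closed subgroups of `U` in Chevalley groups
-/

set_option autoImplicit false
set_option linter.unusedSectionVars false

namespace Cfsg.Agent.H15.WCl

open Cfsg.Agent.H6 Cfsg.Lie Cfsg.Agent.H22 Cfsg.Agent.H15.Chev
open scoped Matrix

/-- one closure step -/
def okStep (D : ChevalleyDatum) (N j s c : ℕ) : Bool :=
  decide (N ≤ s) && decide (s < c) && decide (j < D.rank) && decide (s ≠ D.simple j) &&
  decide (((D.commTerms (D.simple j) s).map Prod.fst).Pairwise (· < ·)) &&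
  (D.commTerms (D.simple j) s).any (fun e => e.1 == c && (e.2.1 == 1 || e.2.1 == -1))

structure Cert (D : ChevalleyDatum) (N : ℕ) (cert : ℕ → List (ℕ × ℕ)) : Prop where
  step : ∀ c < D.nroots, N ≤ c → ∀ p ∈ cert c, okStep D N p.1 p.2 c = true
  cov : ∀ c < D.nroots, N ≤ c → ∀ i < D.rank, cor D c i ≠ 0 → c = D.simple i ∨ ∃ p ∈ cert c, cor D p.2 i ≠ 0

variable {D : ChevalleyDatum} {N : ℕ} {η : ℕ → ℕ → ℤ} {rc : ℕ → ℕ → ℤ} {F : Type*} [Field F]
variable (hG : Good D N η rc) (hE : Ext D rc)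

/-- the roots of `X` -/
def Psi (D : ChevalleyDatum) (N : ℕ) (X : Subgroup (GL D.Idx F)) : Set ℕ :=
  {r | (N ≤ r ∧ r < D.nroots) ∧ ∀ t : F, xg D F r t ∈ X}

include hG hE
variable {X : Subgroup (GL D.Idx F)}

theorem full [Fintype F] (hX : ∀ b ∈ D.diagonalSubgroup F, ∀ x ∈ X, b * x * b⁻¹ ∈ X) {r : ℕ} (hN : N ≤ r)
    (hr : r < D.nroots) {t : F} (ht : t ≠ 0) (h : xg D F r t ∈ X) : r ∈ Psi D N X := by
  refine ⟨⟨hN, hr⟩, fun s => ?_⟩
  have h1 : LT N X r D.nroots t := ⟨1, one_mem _, by rwa [mul_one]⟩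
  obtain ⟨u, hu, h2⟩ := LT_all hG hE hX hN hr ht h1 s
  rw [UG_top hG hE, Subgroup.mem_bot] at hu
  rwa [hu, mul_one] at h2

theorem eq_US_Psi [Fintype F] (hX : ∀ b ∈ D.diagonalSubgroup F, ∀ x ∈ X, b * x * b⁻¹ ∈ X) (hXU : X ≤ D.posUnipotent F)
    (hS : ∀ r k, N ≤ r → r < k → k < D.nroots → Sep N X r k) : X = US (xg D F) (Psi D N X) := by
  apply le_antisymm
  · intro x hx
    have h1 := hXU hx
    rw [hG.posUnipotent_eq_US] at h1
    obtain ⟨τ, -, h2⟩ := hG.exists_op' (hG.rd hE) hG.pClo_all h1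
    have hn := hG.nroots_eq
    rw [h2] at hx
    have h3 := comp_mem hG hE hS τ N N le_rfl (by omega) hx
    rw [h2]
    have key : ∀ j m : ℕ, N ≤ m → m + j ≤ D.nroots → op (xg D F) τ m j ∈ US (xg D F) (Psi D N X) := by
      intro j
      induction j with
      | zero => intro m _ _; rw [op_zero]; exact one_mem _
      | succ j ih =>
        intro m h4 h5
        rw [op_succ]
        refine mul_mem ?_ (ih _ (by omega) (by omega))
        by_cases h0 : τ m = 0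
        · rw [h0, hG.xg_zero]; exact one_mem _
        · exact mem_US (full hG hE hX h4 (by omega) h0 (h3 m h4 (by omega))) _
    exact key _ _ le_rfl (by omega)
  · rw [US_le]
    intro r hr t
    exact hr.2 t

theorem step_mem [Fintype F] (hX : ∀ b ∈ D.diagonalSubgroup F, ∀ x ∈ X, b * x * b⁻¹ ∈ X)
    (hXu : ∀ b ∈ D.posUnipotent F, ∀ x ∈ X, b * x * b⁻¹ ∈ X)
    (hS : ∀ r k, N ≤ r → r < k → k < D.nroots → Sep N X r k) {j s c : ℕ} (h : okStep D N j s c = true)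
    (hs : s ∈ Psi D N X) : c ∈ Psi D N X := by
  unfold okStep at h
  simp only [Bool.and_eq_true, decide_eq_true_eq, List.any_eq_true, Bool.or_eq_true, beq_iff_eq] at h
  obtain ⟨⟨⟨⟨⟨h1, h2⟩, h3⟩, h4⟩, h5⟩, e, he, h6, h7⟩ := h
  have hp := hG.simple_lt j h3
  have hpN := hG.simple_pos j h3
  have hsl := hs.1.2
  have hc := (hG.rd (F := F) hE).comm (D.simple j) hp s hsl h4 (hG.ne_neg_of_pos hp hpN h1) 1 1
  have h8 : xw (xg D F) (D.commWord F (D.simple j) s 1 1) ∈ X := by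
    have e1 : xw (xg D F) (D.commWord F (D.simple j) s 1 1) =
        (xg D F s 1)⁻¹ * ((xg D F (D.simple j) 1)⁻¹ * xg D F s 1 * (xg D F (D.simple j) 1)⁻¹⁻¹) := by
      rw [inv_inv, mul_assoc ((xg D F (D.simple j) 1)⁻¹), hc]; group
    rw [e1]
    exact mul_mem (inv_mem (hs.2 1)) (hXu _ (inv_mem (hG.xg_mem_pos hpN hp 1)) _ (hs.2 1))
  have hspec : ∀ d ∈ D.commTerms (D.simple j) s, N ≤ d.1 ∧ d.1 < D.nroots := by
    intro d hd
    have := hG.commTerms_gt hp hsl hpN h1 hd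
    omega
  have hcw : ∀ e ∈ D.commWord F (D.simple j) s 1 1, N ≤ e.1 ∧ e.1 < D.nroots := by
    intro e he
    unfold ChevalleyDatum.commWord at he
    rw [List.mem_map] at he
    obtain ⟨d, hd, rfl⟩ := he
    exact hspec d hd
  have h9 := word_mem hG hE (D.commWord F (D.simple j) s 1 1) (fun e he k h1 h2 => hS e.1 k (hcw e he).1 h1 h2) (by
      unfold ChevalleyDatum.commWord
      rw [List.map_map]
      exact h5) hcw h8 (e.1, (e.2.1 : F) * (-1) ^ e.2.2.1 * 1 ^ e.2.2.2) (by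
      unfold ChevalleyDatum.commWord
      exact List.mem_map_of_mem (f := fun c : ℕ × ℤ × ℕ × ℕ => (c.1, (c.2.1 : F) * (-1) ^ c.2.2.1 * 1 ^ c.2.2.2)) he)
  have hne : (e.2.1 : F) * (-1) ^ e.2.2.1 * 1 ^ e.2.2.2 ≠ 0 := by
    refine mul_ne_zero (mul_ne_zero ?_ (pow_ne_zero _ (neg_ne_zero.2 one_ne_zero))) (pow_ne_zero _ one_ne_zero)
    rcases h7 with h | h <;> rw [h] <;> simp
  have h10 := hspec e he
  rw [h6] at h10 h9
  exact full hG hE hX h10.1 h10.2 hne h9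

/-- the main theorem -/
theorem weakly_closed [Fintype F] (hXU : X ≤ D.posUnipotent F)
    (hwc : ∀ g ∈ D.group F, X.map (MulAut.conj g).toMonoidHom ≤ D.posUnipotent F → X.map (MulAut.conj g).toMonoidHom = X)
    (hS : ∀ r k, N ≤ r → r < k → k < D.nroots → Sep N X r k)
    {cert : ℕ → List (ℕ × ℕ)} (hC : Cert D N cert) : ∃ J : Set ℕ, (∀ j ∈ J, j < D.rank) ∧ X = D.unipotentRadical F J := by
  have hwc' : ∀ g ∈ D.group F, (∀ x ∈ X, g * x * g⁻¹ ∈ D.posUnipotent F) → ∀ x ∈ X, g * x * g⁻¹ ∈ X := by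
    intro g hg h x hx
    have h1 := hwc g hg (by
      rintro _ ⟨y, hy, rfl⟩
      exact h y hy)
    rw [← h1]
    exact ⟨x, hx, rfl⟩
  have hB : ∀ b ∈ D.borelSubgroup F, ∀ x ∈ X, b * x * b⁻¹ ∈ X := fun b hb =>
    hwc' b (hG.borel_le hb) fun x hx => hG.borel_conj_pos hb (hXU hx)
  have hXd : ∀ b ∈ D.diagonalSubgroup F, ∀ x ∈ X, b * x * b⁻¹ ∈ X := fun b hb => hB b (Subgroup.mem_sup_right hb)
  have hXu : ∀ b ∈ D.posUnipotent F, ∀ x ∈ X, b * x * b⁻¹ ∈ X := fun b hb => hB b (Subgroup.mem_sup_left hb)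
  have hXe := eq_US_Psi hG hE hXd hXU hS
  set J : Set ℕ := {j | j < D.rank ∧ D.simple j ∉ Psi D N X} with hJ
  -- stability under `n_j`
  have hst : ∀ j ∈ J, ∀ r ∈ Psi D N X, D.reflectRoot j r ∈ Psi D N X := by
    intro j hj r hr
    have hne : ∀ s ∈ Psi D N X, s ≠ D.simple j := by rintro s hs rfl; exact hj.2 hs
    have h1 : ∀ x ∈ X, ng D F j * x * (ng D F j)⁻¹ ∈ D.posUnipotent F := by
      intro x hx
      rw [hXe] at hx
      obtain ⟨χ, hm⟩ := hG.mon_ng (F := F) hE ⟨j, hj.1⟩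
      have := hm.mem_US (S := Psi D N X) (T := {r | N ≤ r ∧ r < D.nroots}) (fun s hs => hs.1.2) (by
        intro s hs
        exact ⟨hG.w_pos j hj.1 s hs.1.2 hs.1.1 (hne s hs), hG.w_lt j hj.1 s hs.1.2⟩) hx
      rwa [hG.posUnipotent_eq_US]
    have h2 := hwc' _ (hG.ng_mem_group j) h1
    have h3 := h2 _ (hr.2 1)
    rw [hG.ng_conj hj.1 hr.1.2, mul_one] at h3
    refine full hG hE hXd (hG.w_pos j hj.1 r hr.1.2 hr.1.1 (hne r hr)) (hG.w_lt j hj.1 r hr.1.2) ?_ h3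
    have := hG.etaF_sq (F := F) hj.1 hr.1.2
    intro h0
    rw [h0, mul_zero] at this
    exact zero_ne_one this
  -- no roots of `Φ_J`
  have hno : ∀ r, r ∈ Psi D N X → r ∉ Phi D rc J := by
    intro r
    induction r using Nat.strong_induction_on with
    | _ r ih =>
      intro hr hJr
      obtain ⟨j, hj, hjr, hc⟩ := exists_desc hG hJr hr.1.1 hE
      exact ih _ (hG.w_lt_self hjr hr.1.2 hc) (hst j hj r hr) (phi_w hG hj hjr hJr)
  -- all roots outside `Φ_J`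
  have hall : ∀ i < D.rank, D.simple i ∈ Psi D N X → ∀ r, N ≤ r → r < D.nroots → cor D r i ≠ 0 → r ∈ Psi D N X := by
    intro i hi hiP r
    induction r using Nat.strong_induction_on with
    | _ r ih =>
      intro hN hr hc
      rcases hC.cov r hr hN i hi hc with rfl | ⟨p, hp, h1⟩
      · exact hiP
      · have h2 := hC.step r hr hN p hp
        have h3 := h2
        unfold okStep at h3
        simp only [Bool.and_eq_true, decide_eq_true_eq] at h3
        exact step_mem hG hE hXd hXu hS h2 (ih p.2 h3.1.1.1.1.2 h3.1.1.1.1.1 (by omega) h1)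
  refine ⟨J, fun j hj => hj.1, ?_⟩
  rw [radical_eq hG hE]
  nth_rewrite 1 [hXe]
  congr 1
  ext r
  constructor
  · intro hr
    exact ⟨hr.1, hno r hr⟩
  · intro hr
    obtain ⟨i, hi, hiJ, hpos⟩ := exists_coef hG hr
    have hiP : D.simple i ∈ Psi D N X := by
      by_contra hcon
      exact hiJ ⟨hi, hcon⟩
    refine hall i hi hiP r hr.1.1 hr.1.2 fun h => ?_
    have := (hE.cor_zero r hr.1.2 i hi).1 h
    omega

/-- torus separation from dominant roots -/
theorem sep_dom [Fintype F] (hX : ∀ b ∈ D.diagonalSubgroup F, ∀ x ∈ X, b * x * b⁻¹ ∈ X)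
    (h : ∀ r < D.nroots, (∀ i < D.rank, 0 ≤ D.cartan i r) → ∀ k < D.nroots, k ≠ r → k ≠ D.neg r →
      ∃ j < D.rank, D.cartan j r = 0 ∧ ∃ c : Fˣ, c ^ D.cartan j k ≠ 1) :
    ∀ r k, N ≤ r → r < k → k < D.nroots → Sep N X r k := by
  have key : ∀ r < D.nroots, ∀ k < D.nroots, k ≠ r → k ≠ D.neg r →
      ∃ γ < D.nroots, D.pairing γ r = 0 ∧ ∃ c : Fˣ, c ^ D.pairing γ k ≠ 1 := by
    refine dom_induction hG (p := fun r => ∀ k < D.nroots, k ≠ r → k ≠ D.neg r →
      ∃ γ < D.nroots, D.pairing γ r = 0 ∧ ∃ c : Fˣ, c ^ D.pairing γ k ≠ 1) ?_ ?_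
    · intro r hr hd k hk h1 h2
      obtain ⟨j, hj, h3, c, h4⟩ := h r hr hd k hk h1 h2
      refine ⟨D.simple j, hG.simple_lt j hj, ?_, c, ?_⟩
      · rw [hG.pairing_simple hj hr, h3]
      · rwa [hG.pairing_simple hj hk]
    · intro i hi r hr ih k hk h1 h2
      have hwr := hG.w_lt i hi r hr
      have hwk := hG.w_lt i hi k hk
      obtain ⟨γ, hγ, h3, c, h4⟩ := ih (D.reflectRoot i k) hwk (fun he => h1 ((hG.w_eq_iff hi hk hr).1 he)) (by
        rw [← hG.w_neg i hi r hr]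
        exact fun he => h2 ((hG.w_eq_iff hi hk (hG.neg_lt' hr)).1 he))
      refine ⟨D.reflectRoot i γ, hG.w_lt i hi γ hγ, ?_, c, ?_⟩
      · have := hG.pairing_w (i := i) (r := γ) (s := D.reflectRoot i r) hi hγ hwr
        rw [hG.w_w i hi r hr] at this
        rw [this, h3]
      · have := hG.pairing_w (i := i) (r := γ) (s := D.reflectRoot i k) hi hγ hwk
        rw [hG.w_w i hi k hk] at this
        rwa [this]
  intro r k hN hrk hk
  obtain ⟨γ, hγ, h1, c, h2⟩ := key r (by omega) k hk (by omega) (hG.ne_neg_of_pos (by omega) hN (by omega))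
  exact sep_of_torus hG hE hX hN hrk hk hγ h1 c h2

end Cfsg.Agent.H15.WCl
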