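import Cfsg.Agent.H15.WCl2
import Cfsg.Agent.H6.ChevExtTab
import Cfsg.Agent.H6.ChevAll

/-!
# Weakly closed subgroups of `U`: certificates for the seven types
-/

set_option autoImplicit false
set_option linter.unusedSectionVars false
set_option maxRecDepth 100000

namespace Cfsg.Agent.H15.WCl

open Cfsg.Agent.H6 Cfsg.Lie Cfsg.Agent.H22 Cfsg.Agent.H15.Chev

/-- dominant roots are separated from all others by simple coroots -/
def ChkDom (D : ChevalleyDatum) (B : ℕ) : Prop := ∀ r < D.nroots, (∀ i < D.rank, 0 ≤ D.cartan i r) →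
  ∀ k < D.nroots, k ≠ r → k ≠ D.neg r → ∃ j < D.rank, D.cartan j r = 0 ∧ D.cartan j k ≠ 0 ∧ (D.cartan j k).natAbs ≤ B

def chkDomB (D : ChevalleyDatum) (B : ℕ) : Bool :=
  (List.range D.nroots).all fun r => !((List.range D.rank).all fun i => decide (0 ≤ D.cartan i r)) ||
    ((List.range D.nroots).all fun k => k == r || k == D.neg r ||
      (List.range D.rank).any fun j => D.cartan j r == 0 && D.cartan j k != 0 && decide ((D.cartan j k).natAbs ≤ B))

theorem chkDom_of {D : ChevalleyDatum} {B : ℕ} (h : chkDomB D B = true) : ChkDom D B := by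
  intro r hr hd k hk h1 h2
  unfold chkDomB at h
  rw [List.all_eq_true] at h
  have h3 := h r (List.mem_range.2 hr)
  rw [Bool.or_eq_true] at h3
  rcases h3 with h3 | h3
  · exfalso
    rw [Bool.not_eq_true', ← Bool.not_eq_true, List.all_eq_true] at h3
    exact h3 fun i hi => decide_eq_true (hd i (List.mem_range.1 hi))
  · rw [List.all_eq_true] at h3
    have h4 := h3 k (List.mem_range.2 hk)
    simp only [Bool.or_eq_true, beq_iff_eq, List.any_eq_true, List.mem_range, Bool.and_eq_true, bne_iff_ne,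
      decide_eq_true_eq] at h4
    rcases h4 with (h4 | h4) | ⟨j, hj, h5⟩
    · exact absurd h4 h1
    · exact absurd h4 h2
    · exact ⟨j, hj, h5.1.1, h5.1.2, h5.2⟩

def chkCertB (D : ChevalleyDatum) (N : ℕ) (L : List (List (ℕ × ℕ))) : Bool :=
  (List.range N).all fun c => (L.getD c []).all (fun p => okStep D N p.1 p.2 (N + c)) &&
    (List.range D.rank).all fun i => cor D (N + c) i == 0 || N + c == D.simple i ||
      (L.getD c []).any fun p => cor D p.2 i != 0

theorem cert_of {D : ChevalleyDatum} {N : ℕ} (hn : D.nroots = N + N) {L : List (List (ℕ × ℕ))}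
    (h : chkCertB D N L = true) : Cert D N (fun c => L.getD (c - N) []) := by
  unfold chkCertB at h
  rw [List.all_eq_true] at h
  constructor
  · intro c hc hN p hp
    have h1 := h (c - N) (List.mem_range.2 (by omega))
    rw [Bool.and_eq_true, List.all_eq_true] at h1
    have h2 := h1.1 p hp
    rwa [Nat.add_sub_cancel' hN] at h2
  · intro c hc hN i hi h0
    have h1 := h (c - N) (List.mem_range.2 (by omega))
    rw [Bool.and_eq_true, List.all_eq_true, List.all_eq_true] at h1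
    have h2 := h1.2 i (List.mem_range.2 hi)
    rw [Nat.add_sub_cancel' hN] at h2
    simp only [Bool.or_eq_true, beq_iff_eq, List.any_eq_true, bne_iff_ne] at h2
    rcases h2 with (h2 | h2) | h2
    · exact absurd h2 h0
    · exact Or.inl h2
    · exact Or.inr h2

theorem exists_zpow {F : Type*} [Field F] [Fintype F] {m : ℤ} (h0 : m ≠ 0) (h : m.natAbs + 1 < Fintype.card F) :
    ∃ c : Fˣ, c ^ m ≠ 1 := by
  classical
  obtain ⟨g, hg⟩ := IsCyclic.exists_generator (α := Fˣ)
  refine ⟨g, fun h1 => ?_⟩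
  have h2 := orderOf_dvd_iff_zpow_eq_one.2 h1
  have h3 : orderOf g = Fintype.card F - 1 := by
    rw [orderOf_eq_card_of_forall_mem_zpowers hg, Nat.card_eq_fintype_card, Fintype.card_units]
  rw [h3] at h2
  have h4 := Int.natAbs_dvd_natAbs.2 h2
  rw [Int.natAbs_natCast] at h4
  have h5 := Nat.le_of_dvd (Int.natAbs_pos.2 h0) h4
  omega

variable {D : ChevalleyDatum} {N : ℕ} {η : ℕ → ℕ → ℤ} {rc : ℕ → ℕ → ℤ} {F : Type*} [Field F] [Fintype F]

theorem sep_chk (hG : Good D N η rc) (hE : Ext D rc) {X : Subgroup (GL D.Idx F)}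
    (hX : ∀ b ∈ D.diagonalSubgroup F, ∀ x ∈ X, b * x * b⁻¹ ∈ X) {B : ℕ} (h : chkDomB D B = true)
    (hF : B + 1 < Fintype.card F) : ∀ r k, N ≤ r → r < k → k < D.nroots → Sep N X r k := by
  apply sep_dom hG hE hX
  intro r hr hd k hk h1 h2
  obtain ⟨j, hj, h3, h4, h5⟩ := chkDom_of h r hr hd k hk h1 h2
  exact ⟨j, hj, h3, exists_zpow h4 (by omega)⟩

/-- the generic case -/
theorem generic (hG : Good D N η rc) (hE : Ext D rc) {X : Subgroup (GL D.Idx F)} (hXU : X ≤ D.posUnipotent F)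
    (hwc : ∀ g ∈ D.group F, X.map (MulAut.conj g).toMonoidHom ≤ D.posUnipotent F → X.map (MulAut.conj g).toMonoidHom = X)
    {B : ℕ} (h : chkDomB D B = true) (hF : B + 1 < Fintype.card F) {L : List (List (ℕ × ℕ))}
    (hL : chkCertB D N L = true) : ∃ J : Set ℕ, (∀ j ∈ J, j < D.rank) ∧ X = D.unipotentRadical F J := by
  refine weakly_closed hG hE hXU hwc (sep_chk hG hE ?_ h hF) (cert_of (by have := hG.nroots_eq; omega) hL)
  intro b hb x hx
  have h1 := hwc b (hG.borel_le (Subgroup.mem_sup_right hb)) (by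
    rintro _ ⟨y, hy, rfl⟩
    exact hG.borel_conj_pos (Subgroup.mem_sup_right hb) (hXU hy))
  rw [← h1]
  exact ⟨x, hx, rfl⟩

def LG2 : List (List (ℕ × ℕ)) := [[], [], [(0, 6), (1, 7)], [(0, 6), (1, 7)], [(0, 6), (1, 7)], [(1, 10)]]

theorem domG2 : chkDomB chevG2 3 = true := by decide +kernel
theorem certG2 : chkCertB chevG2 6 LG2 = true := by decide +kernel

def LB2 : List (List (ℕ × ℕ)) := [[], [], [(0, 4), (1, 5)], [(0, 4), (1, 5)]]

theorem domB2 : chkDomB chevB2 2 = true := by decide +kernel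
theorem certB2 : chkCertB chevB2 4 LB2 = true := by decide +kernel

def LD4 : List (List (ℕ × ℕ)) := [[], [], [], [(1, 12), (3, 14)], [(1, 13), (2, 14)], [(2, 15), (3, 16)], [], [(0, 14), (1, 18)], [(0, 15), (3, 19)], [(0, 16), (2, 19)], [(0, 17), (2, 20)], [(1, 22)]]

theorem domD4 : chkDomB chevD4 2 = true := by decide +kernel
theorem certD4 : chkCertB chevD4 12 LD4 = true := by decide +kernel

def LF4 : List (List (ℕ × ℕ)) := [[], [], [(2, 24), (3, 25)], [], [(1, 25), (2, 27)], [(1, 26), (3, 28)], [(1, 25), (2, 27)], [(1, 26), (3, 30)], [(2, 31)], [], [(0, 27), (1, 33)], [(0, 28), (2, 34)], [(0, 29), (3, 35)], [(1, 35)], [(1, 36)], [(2, 38)], [(1, 39)], [(0, 30), (2, 34)], [(0, 31), (3, 41)], [(2, 42)], [(0, 40)], [(1, 43)], [(2, 45)], [(2, 38)]]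

theorem domF4 : chkDomB chevF4 2 = true := by decide +kernel
theorem certF4 : chkCertB chevF4 24 LF4 = true := by decide +kernel

def LE6 : List (List (ℕ × ℕ)) := [[], [], [(4, 36), (5, 37)], [], [(3, 37), (4, 39)], [(3, 38), (5, 40)], [], [(2, 39), (3, 42)], [(2, 40), (4, 43)], [(2, 41), (5, 44)], [], [(1, 39), (3, 46)], [(1, 40), (4, 47)], [(1, 41), (5, 48)], [(1, 43), (2, 47)], [(1, 44), (2, 48)], [(1, 45), (2, 49)], [(3, 51)], [(3, 52)], [(4, 54)], [], [(0, 42), (2, 56)], [(0, 43), (3, 57)], [(0, 44), (4, 58)], [(0, 45), (5, 59)], [(0, 50), (1, 58)], [(0, 51), (1, 59)], [(0, 52), (1, 60)], [(3, 62)], [(3, 63)], [(4, 65)], [(2, 64)], [(2, 65)], [(2, 66)], [(3, 69)], [(1, 70)]]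

theorem domE6 : chkDomB chevE6 1 = true := by decide +kernel
theorem certE6 : chkCertB chevE6 36 LE6 = true := by decide +kernel

def LE7 : List (List (ℕ × ℕ)) := [[], [], [(5, 63), (6, 64)], [], [(4, 64), (5, 66)], [(4, 65), (6, 67)], [], [(3, 66), (4, 69)], [(3, 67), (5, 70)], [(3, 68), (6, 71)], [], [(2, 69), (3, 73)], [(2, 70), (4, 74)], [(2, 71), (5, 75)], [(2, 72), (6, 76)], [], [(1, 69), (3, 78)], [(1, 70), (4, 79)], [(1, 71), (5, 80)], [(1, 72), (6, 81)], [(1, 74), (2, 79)], [(1, 75), (2, 80)], [(1, 76), (2, 81)], [(1, 77), (2, 82)], [(3, 84)], [(3, 85)], [(3, 86)], [(4, 88)], [(4, 89)], [(5, 91)], [], [(0, 73), (2, 93)], [(0, 74), (3, 94)], [(0, 75), (4, 95)], [(0, 76), (5, 96)], [(0, 77), (6, 97)], [(0, 83), (1, 95)], [(0, 84), (1, 96)], [(0, 85), (1, 97)], [(0, 86), (1, 98)], [(3, 100)], [(3, 101)], [(3, 102)], [(4, 104)], [(4, 105)], [(5, 107)], [(2, 103)], [(2, 104)], [(2, 105)], [(2, 106)], [(2, 107)], [(2, 108)], [(3, 112)], [(3,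 113)], [(3, 114)], [(4, 117)], [(1, 115)], [(1, 116)], [(1, 117)], [(1, 118)], [(3, 122)], [(2, 123)], [(0, 124)]]

theorem domE7 : chkDomB chevE7 1 = true := by decide +kernel
theorem certE7 : chkCertB chevE7 63 LE7 = true := by decide +kernel

def LE8 : List (List (ℕ × ℕ)) := [[], [], [(6, 120), (7, 121)], [], [(5, 121), (6, 123)], [(5, 122), (7, 124)], [], [(4, 123), (5, 126)], [(4, 124), (6, 127)], [(4, 125), (7, 128)], [], [(3, 126), (4, 130)], [(3, 127), (5, 131)], [(3, 128), (6, 132)], [(3, 129), (7, 133)], [], [(2, 130), (3, 135)], [(2, 131), (4, 136)], [(2, 132), (5, 137)], [(2, 133), (6, 138)], [(2, 134), (7, 139)], [], [(1, 130), (3, 141)], [(1, 131), (4, 142)], [(1, 132), (5, 143)], [(1, 133), (6, 144)], [(1, 134), (7, 145)], [(1, 136), (2, 142)], [(1, 137), (2, 143)], [(1, 138), (2, 144)], [(1, 139), (2, 145)], [(1, 140), (2, 146)], [(3, 148)], [(3, 149)], [(3, 150)], [(3, 151)], [(4, 153)], [(4, 154)], [(4, 155)], [(5, 157)], [(5,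 158)], [(6, 160)], [], [(0, 135), (2, 162)], [(0, 136), (3, 163)], [(0, 137), (4, 164)], [(0, 138), (5, 165)], [(0, 139), (6, 166)], [(0, 140), (7, 167)], [(0, 147), (1, 164)], [(0, 148), (1, 165)], [(0, 149), (1, 166)], [(0, 150), (1, 167)], [(0, 151), (1, 168)], [(3, 170)], [(3, 171)], [(3, 172)], [(3, 173)], [(4, 175)], [(4, 176)], [(4, 177)], [(5, 179)], [(5, 180)], [(6, 182)], [(2, 174)], [(2, 175)], [(2, 176)], [(2, 177)], [(2, 178)], [(2, 179)], [(2, 180)], [(2, 181)], [(2, 182)], [(2, 183)], [(3, 188)], [(3, 189)], [(3, 190)], [(3, 191)], [(3, 192)], [(3, 193)], [(4, 197)], [(4, 198)], [(4, 199)], [(5, 202)], [(1, 194)], [(1, 195)], [(1, 196)], [(1, 197)], [(1, 198)], [(1, 199)], [(1, 200)], [(1, 201)], [(1, 202)], [(1, 203)], [(3, 210)], [(3, 211)], [(3, 212)], [(3, 213)], [(4, 217)], [(2, 214)], [(2, 215)], [(2, 216)], [(2, 217)], [(2, 218)], [(3, 223)], [(1, 224)], [(0, 219)], [(0, 220)], [(0, 221)], [(0, 222)], [(0, 223)], [(0, 224)],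 [(2, 231)], [(0, 225)], [(1, 232)], [(3, 234)], [(4, 235)], [(5, 236)], [(6, 237)], [(7, 238)]]

theorem domE8 : chkDomB chevE8 1 = true := by decide +kernel
theorem certE8 : chkCertB chevE8 120 LE8 = true := by decide +kernel

end Cfsg.Agent.H15.WCl
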