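import Cfsg.Agent.H15.WCl3

/-!
# Weakly closed subgroups of `U`: type `G₂`
-/

set_option autoImplicit false
set_option linter.unusedSectionVars false
set_option maxRecDepth 100000

namespace Cfsg.Agent.H15.WCl

open Cfsg.Agent.H6 Cfsg.Lie Cfsg.Agent.H22 Cfsg.Agent.H15.Chev

theorem chkG2' : ∀ r k : Fin 12, 6 ≤ (r : ℕ) → (r : ℕ) < k →
    ((r : ℕ) = 6 ∧ (k : ℕ) = 10) ∨ ((r : ℕ) = 6 ∧ (k : ℕ) = 11) ∨ ((r : ℕ) = 10 ∧ (k : ℕ) = 11) ∨
    ∃ γ : Fin 12, chevG2.pairing γ r = 0 ∧ chevG2.pairing γ k ≠ 0 ∧ (chevG2.pairing γ k).natAbs ≤ 2 := by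
  decide +kernel

theorem chkG2 (r : ℕ) (hr : r < 12) (k : ℕ) (hk : k < 12) (h1 : 6 ≤ r) (h2 : r < k)
    (h : ¬ ((r = 6 ∧ k = 10) ∨ (r = 6 ∧ k = 11) ∨ (r = 10 ∧ k = 11))) :
    ∃ γ < 12, chevG2.pairing γ r = 0 ∧ chevG2.pairing γ k ≠ 0 ∧ (chevG2.pairing γ k).natAbs ≤ 2 := by
  rcases chkG2' ⟨r, hr⟩ ⟨k, hk⟩ h1 h2 with h3 | h3 | h3 | ⟨γ, h3⟩
  · exact absurd (Or.inl h3) h
  · exact absurd (Or.inr (Or.inl h3)) h
  · exact absurd (Or.inr (Or.inr h3)) h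
  · exact ⟨γ, γ.2, h3⟩

theorem ct6_10 : chevG2.commTerms 6 10 = [(11, 1, 1, 1)] := by decide +kernel
theorem ct7_10 : chevG2.commTerms 7 10 = [] := by decide +kernel
theorem ct7_6 : chevG2.commTerms 7 6 = [(8, -1, 1, 1), (9, 1, 2, 1), (10, 1, 3, 1), (11, 1, 3, 2)] := by decide +kernel
theorem nrG2 : chevG2.nroots = 12 := by decide +kernel

variable {η : ℕ → ℕ → ℤ} {rc : ℕ → ℕ → ℤ} {F : Type*} [Field F]
variable (hG : Good chevG2 6 η rc) (hE : Ext chevG2 rc) {X : Subgroup (GL chevG2.Idx F)}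
include hG hE

theorem lt12 {r : ℕ} (h : r < 12) : r < chevG2.nroots := by rw [nrG2]; exact h

theorem x11_central {u : GL chevG2.Idx F} (hu : u ∈ chevG2.posUnipotent F) (v : F) :
    u * xg chevG2 F 11 v = xg chevG2 F 11 v * u := by
  have hu' : u ∈ US (xg chevG2 F) {r | 6 ≤ r ∧ r < chevG2.nroots} := by rwa [← hG.posUnipotent_eq_US]
  have h1 := hG.comm_level (hG.rd hE) hG.pClo_all hu' 11 (g := xg chevG2 F 11 v)
    (mem_US (S := {r | 6 ≤ r ∧ r < chevG2.nroots} ∩ {k | 11 ≤ k}) ⟨⟨by norm_num, lt12 hG hE (by norm_num)⟩, le_refl 11⟩ v)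
  have h2 := UG_top' hG hE (F := F) (m := 12) (by rw [nrG2])
  have h3 : u * xg chevG2 F 11 v * u⁻¹ * (xg chevG2 F 11 v)⁻¹ ∈ UG chevG2 6 F 12 := h1
  rw [h2, Subgroup.mem_bot] at h3
  rw [mul_inv_eq_one, mul_inv_eq_iff_eq_mul] at h3
  exact h3

theorem c610 (s t : F) : xg chevG2 F 10 s * xg chevG2 F 6 t = xg chevG2 F 6 t * xg chevG2 F 10 s * xg chevG2 F 11 (-t * s) := by
  have h := (hG.rd (F := F) hE).comm 6 (lt12 hG hE (by norm_num)) 10 (lt12 hG hE (by norm_num)) (by norm_num)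
    (hG.ne_neg_of_pos (lt12 hG hE (by norm_num)) (by norm_num) (by norm_num)) t s
  rw [h]
  congr 1
  unfold ChevalleyDatum.commWord xw
  rw [ct6_10]
  simp

theorem c710 (s t : F) : xg chevG2 F 10 s * xg chevG2 F 7 t = xg chevG2 F 7 t * xg chevG2 F 10 s := by
  have h := (hG.rd (F := F) hE).comm 7 (lt12 hG hE (by norm_num)) 10 (lt12 hG hE (by norm_num)) (by norm_num)
    (hG.ne_neg_of_pos (lt12 hG hE (by norm_num)) (by norm_num) (by norm_num)) t s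
  rw [h]
  unfold ChevalleyDatum.commWord xw
  rw [ct7_10]
  simp

theorem c76 (s t : F) : xg chevG2 F 6 s * xg chevG2 F 7 t = xg chevG2 F 7 t * xg chevG2 F 6 s *
    xw (xg chevG2 F) (chevG2.commWord F 7 6 t s) :=
  (hG.rd (F := F) hE).comm 7 (lt12 hG hE (by norm_num)) 6 (lt12 hG hE (by norm_num)) (by norm_num)
    (hG.ne_neg_of_pos (lt12 hG hE (by norm_num)) (by norm_num) (by norm_num)) t s

theorem xmem {r : ℕ} (h : 6 ≤ r) (h' : r < 12) (t : F) : xg chevG2 F r t ∈ chevG2.posUnipotent F :=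
  hG.xg_mem_pos h (lt12 hG hE h') t

theorem ug12 {u : GL chevG2.Idx F} (hu : u ∈ UG chevG2 6 F 12) : u = 1 := by
  have h2 := UG_top' hG hE (F := F) (m := 12) (by rw [nrG2])
  rwa [h2, Subgroup.mem_bot] at hu

theorem sep10_11 [Fintype F] (hXd : ∀ b ∈ chevG2.diagonalSubgroup F, ∀ x ∈ X, b * x * b⁻¹ ∈ X)
    (hXu : ∀ b ∈ chevG2.posUnipotent F, ∀ x ∈ X, b * x * b⁻¹ ∈ X) : Sep 6 X 10 11 := by
  intro t s ht hs u hu hy
  rw [ug12 hG hE hu, mul_one] at hy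
  have h1 := hXu _ (inv_mem (xmem hG hE (r := 6) (by norm_num) (by norm_num) (1 : F))) _ hy
  have h2 := c610 hG hE t (1 : F)
  have h3 := x11_central hG hE (xmem hG hE (r := 6) (by norm_num) (by norm_num) (1 : F)) s
  have h4 := x11_central hG hE (xmem hG hE (r := 11) (by norm_num) (by norm_num) s) (-1 * t)
  have h5 : xg chevG2 F 11 (-1 * t) ∈ X := by
    have h6 := mul_mem (inv_mem hy) h1
    have e : (xg chevG2 F 10 t * xg chevG2 F 11 s)⁻¹ * ((xg chevG2 F 6 1)⁻¹ * (xg chevG2 F 10 t * xg chevG2 F 11 s) *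
        (xg chevG2 F 6 1)⁻¹⁻¹) = xg chevG2 F 11 (-1 * t) := by
      have e1 : (xg chevG2 F 6 1)⁻¹ * (xg chevG2 F 10 t * xg chevG2 F 11 s) * (xg chevG2 F 6 1)⁻¹⁻¹ =
          xg chevG2 F 10 t * (xg chevG2 F 11 (-1 * t) * xg chevG2 F 11 s) := by
        rw [inv_inv, mul_assoc (xg chevG2 F 6 1)⁻¹, mul_assoc (xg chevG2 F 10 t), ← h3, ← mul_assoc (xg chevG2 F 10 t), h2]
        group
      rw [e1, ← h4]; group
    rwa [e] at h6
  have h6 := full hG hE hXd (r := 11) (by norm_num) (lt12 hG hE (by norm_num)) (by simpa using ht) h5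
  refine ⟨1, one_mem _, ?_⟩
  rw [mul_one]
  have := mul_mem hy (inv_mem (h6.2 s))
  rwa [mul_inv_cancel_right] at this

theorem sep6_11 [Fintype F] (hXd : ∀ b ∈ chevG2.diagonalSubgroup F, ∀ x ∈ X, b * x * b⁻¹ ∈ X)
    (hXu : ∀ b ∈ chevG2.posUnipotent F, ∀ x ∈ X, b * x * b⁻¹ ∈ X) : Sep 6 X 6 11 := by
  intro t s ht hs u hu hy
  rw [ug12 hG hE hu, mul_one] at hy
  have h1 := hXu _ (xmem hG hE (r := 10) (by norm_num) (by norm_num) (1 : F)) _ hy
  have h2 := c610 hG hE (1 : F) t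
  have h3 := x11_central hG hE (xmem hG hE (r := 10) (by norm_num) (by norm_num) (1 : F)) s
  have h3' := x11_central hG hE (xmem hG hE (r := 10) (by norm_num) (by norm_num) (1 : F)) (-t * 1)
  have h4 := x11_central hG hE (xmem hG hE (r := 11) (by norm_num) (by norm_num) s) (-t * 1)
  have h5 : xg chevG2 F 11 (-t * 1) ∈ X := by
    have h6 := mul_mem (inv_mem hy) h1
    have e : (xg chevG2 F 6 t * xg chevG2 F 11 s)⁻¹ * (xg chevG2 F 10 1 * (xg chevG2 F 6 t * xg chevG2 F 11 s) *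
        (xg chevG2 F 10 1)⁻¹) = xg chevG2 F 11 (-t * 1) := by
      have e1 : xg chevG2 F 10 1 * (xg chevG2 F 6 t * xg chevG2 F 11 s) * (xg chevG2 F 10 1)⁻¹ =
          xg chevG2 F 6 t * (xg chevG2 F 11 (-t * 1) * xg chevG2 F 11 s) := by
        rw [← mul_assoc (xg chevG2 F 10 1), h2, mul_assoc (xg chevG2 F 6 t), h3']
        rw [mul_assoc, mul_assoc, mul_assoc (xg chevG2 F 11 (-t * 1)), ← mul_assoc (xg chevG2 F 10 1), h3]
        group
      rw [e1, ← h4]; group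
    rwa [e] at h6
  have h6 := full hG hE hXd (r := 11) (by norm_num) (lt12 hG hE (by norm_num)) (by simpa using ht) h5
  refine ⟨1, one_mem _, ?_⟩
  rw [mul_one]
  have := mul_mem hy (inv_mem (h6.2 s))
  rwa [mul_inv_cancel_right] at this

theorem sep6_10 [Fintype F] (hXd : ∀ b ∈ chevG2.diagonalSubgroup F, ∀ x ∈ X, b * x * b⁻¹ ∈ X)
    (hXu : ∀ b ∈ chevG2.posUnipotent F, ∀ x ∈ X, b * x * b⁻¹ ∈ X)
    (hS : ∀ r k, (r = 8 ∨ r = 9) → r < k → k < chevG2.nroots → Sep 6 X r k) : Sep 6 X 6 10 := by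
  intro t s ht hs u hu hy
  obtain ⟨v, w, hw, rfl⟩ := UG_split hG hE (k := 11) (by norm_num) (lt12 hG hE (by norm_num)) hu
  rw [ug12 hG hE hw, mul_one] at hy hu
  have h1 := hXu _ (xmem hG hE (r := 10) (by norm_num) (by norm_num) (1 : F)) _ hy
  have h2 := c610 hG hE (1 : F) t
  have hz : ∀ z ∈ chevG2.posUnipotent F, ∀ v : F, z * xg chevG2 F 11 v = xg chevG2 F 11 v * z :=
    fun z hz v => x11_central hG hE hz v
  have hx10 : ∀ a : F, xg chevG2 F 10 a ∈ chevG2.posUnipotent F := fun a => xmem hG hE (r := 10) (by norm_num) (by norm_num) a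
  have hx11 : ∀ a : F, xg chevG2 F 11 a ∈ chevG2.posUnipotent F := fun a => xmem hG hE (r := 11) (by norm_num) (by norm_num) a
  set Q := xg chevG2 F 10 s * xg chevG2 F 11 v with hQ
  have hQU : Q ∈ chevG2.posUnipotent F := mul_mem (hx10 _) (hx11 _)
  have hcQ : xg chevG2 F 10 1 * Q = Q * xg chevG2 F 10 1 := by
    have e1 : xg chevG2 F 10 1 * xg chevG2 F 10 s = xg chevG2 F 10 s * xg chevG2 F 10 1 := by
      rw [← hG.xg_add, ← hG.xg_add, add_comm]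
    rw [hQ, ← mul_assoc, e1, mul_assoc, hz _ (hx10 1) v, mul_assoc]
  have h5 : xg chevG2 F 11 (-t * 1) ∈ X := by
    have h6 := mul_mem (inv_mem hy) h1
    have e : (xg chevG2 F 6 t * Q)⁻¹ * (xg chevG2 F 10 1 * (xg chevG2 F 6 t * Q) * (xg chevG2 F 10 1)⁻¹) =
        xg chevG2 F 11 (-t * 1) := by
      have e1 : xg chevG2 F 10 1 * (xg chevG2 F 6 t * Q) * (xg chevG2 F 10 1)⁻¹ = xg chevG2 F 6 t * (Q * xg chevG2 F 11 (-t * 1)) := by
        rw [← mul_assoc (xg chevG2 F 10 1), h2]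
        have e2 : xg chevG2 F 6 t * xg chevG2 F 10 1 * xg chevG2 F 11 (-t * 1) * Q =
            xg chevG2 F 6 t * (xg chevG2 F 10 1 * Q) * xg chevG2 F 11 (-t * 1) := by
          rw [mul_assoc _ (xg chevG2 F 11 (-t * 1)) Q, ← hz _ hQU]; group
        rw [e2, hcQ]
        have e3 := hz _ (hx10 1) (-t * 1)
        calc xg chevG2 F 6 t * (Q * xg chevG2 F 10 1) * xg chevG2 F 11 (-t * 1) * (xg chevG2 F 10 1)⁻¹ =
            xg chevG2 F 6 t * (Q * (xg chevG2 F 10 1 * xg chevG2 F 11 (-t * 1))) * (xg chevG2 F 10 1)⁻¹ := by group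
          _ = _ := by rw [e3]; group
      rw [e1]; group
    rwa [e] at h6
  have h6 := full hG hE hXd (r := 11) (by norm_num) (lt12 hG hE (by norm_num)) (by simpa using ht) h5
  -- the second commutator
  have hx7 : xg chevG2 F 7 1 ∈ chevG2.posUnipotent F := xmem hG hE (r := 7) (by norm_num) (by norm_num) (1 : F)
  have h7 := hXu _ (inv_mem hx7) _ hy
  have h8 := c76 hG hE t (1 : F)
  set W := xw (xg chevG2 F) (chevG2.commWord F 7 6 1 t) with hW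
  have hcQ7 : Q * xg chevG2 F 7 1 = xg chevG2 F 7 1 * Q := by
    rw [hQ, mul_assoc, ← hz _ hx7 v, ← mul_assoc, c710 hG hE s 1, mul_assoc]
  have h9 : W ∈ X := by
    have h10 := mul_mem (inv_mem hy) h7
    have e : (xg chevG2 F 6 t * Q)⁻¹ * ((xg chevG2 F 7 1)⁻¹ * (xg chevG2 F 6 t * Q) * (xg chevG2 F 7 1)⁻¹⁻¹) = Q⁻¹ * W * Q := by
      rw [inv_inv]
      have e1 : (xg chevG2 F 7 1)⁻¹ * (xg chevG2 F 6 t * Q) * xg chevG2 F 7 1 = xg chevG2 F 6 t * W * Q := by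
        calc (xg chevG2 F 7 1)⁻¹ * (xg chevG2 F 6 t * Q) * xg chevG2 F 7 1 =
            (xg chevG2 F 7 1)⁻¹ * xg chevG2 F 6 t * (Q * xg chevG2 F 7 1) := by group
          _ = (xg chevG2 F 7 1)⁻¹ * (xg chevG2 F 6 t * xg chevG2 F 7 1) * Q := by rw [hcQ7]; group
          _ = _ := by rw [h8]; group
      rw [e1]; group
    rw [e] at h10
    have h11 := hXu _ hQU _ h10
    have e2 : Q * (Q⁻¹ * W * Q) * Q⁻¹ = W := by group
    rwa [e2] at h11
  have hcw : chevG2.commWord F 7 6 1 t = [(8, ((-1 : ℤ) : F) * (-1) ^ 1 * t ^ 1), (9, ((1 : ℤ) : F) * (-1) ^ 2 * t ^ 1),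
      (10, ((1 : ℤ) : F) * (-1) ^ 3 * t ^ 1), (11, ((1 : ℤ) : F) * (-1) ^ 3 * t ^ 2)] := by
    unfold ChevalleyDatum.commWord
    rw [ct7_6]
    rfl
  rw [hW, hcw] at h9
  have h12 := word_mem hG hE _ (by
      intro e he k hk hk'
      simp only [List.mem_cons, List.not_mem_nil, or_false] at he
      rcases he with rfl | rfl | rfl | rfl
      · exact hS 8 k (Or.inl rfl) hk hk'
      · exact hS 9 k (Or.inr rfl) hk hk'
      · have : k = 11 := by rw [nrG2] at hk'; simp only at hk; omega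
        subst this
        exact sep10_11 hG hE hXd hXu
      · rw [nrG2] at hk'; simp only at hk; omega) (by
      simp) (by
      intro e he
      simp only [List.mem_cons, List.not_mem_nil, or_false] at he
      rcases he with rfl | rfl | rfl | rfl <;> exact ⟨by norm_num, lt12 hG hE (by norm_num)⟩) h9
    (10, ((1 : ℤ) : F) * (-1) ^ 3 * t ^ 1) (by simp)
  have h13 := full hG hE hXd (r := 10) (by norm_num) (lt12 hG hE (by norm_num)) (by
    refine mul_ne_zero (mul_ne_zero (by simp) (pow_ne_zero _ (neg_ne_zero.2 one_ne_zero))) (pow_ne_zero _ ht)) h12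
  refine ⟨1, one_mem _, ?_⟩
  rw [mul_one]
  have := mul_mem hy (inv_mem (mul_mem (h13.2 s) (h6.2 v)))
  rwa [← hQ, mul_inv_cancel_right] at this

theorem sepG2 [Fintype F] (hF : 4 ≤ Fintype.card F) (hXd : ∀ b ∈ chevG2.diagonalSubgroup F, ∀ x ∈ X, b * x * b⁻¹ ∈ X)
    (hXu : ∀ b ∈ chevG2.posUnipotent F, ∀ x ∈ X, b * x * b⁻¹ ∈ X) :
    ∀ r k, 6 ≤ r → r < k → k < chevG2.nroots → Sep 6 X r k := by
  have key : ∀ r k, 6 ≤ r → r < k → k < chevG2.nroots →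
      ¬ ((r = 6 ∧ k = 10) ∨ (r = 6 ∧ k = 11) ∨ (r = 10 ∧ k = 11)) → Sep 6 X r k := by
    intro r k h1 h2 h3 h4
    rw [nrG2] at h3
    obtain ⟨γ, hγ, h5, h6, h7⟩ := chkG2 r (by omega) k h3 h1 h2 h4
    obtain ⟨c, hc⟩ := exists_zpow (F := F) h6 (by omega)
    exact sep_of_torus hG hE hXd h1 h2 (lt12 hG hE h3) (lt12 hG hE hγ) h5 c hc
  intro r k h1 h2 h3
  by_cases h : (r = 6 ∧ k = 10) ∨ (r = 6 ∧ k = 11) ∨ (r = 10 ∧ k = 11)
  · rcases h with ⟨rfl, rfl⟩ | ⟨rfl, rfl⟩ | ⟨rfl, rfl⟩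
    · apply sep6_10 hG hE hXd hXu
      intro r k hr h4 h5
      exact key r k (by omega) h4 h5 (by omega)
    · exact sep6_11 hG hE hXd hXu
    · exact sep10_11 hG hE hXd hXu
  · exact key r k h1 h2 h3 h

end Cfsg.Agent.H15.WCl
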